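import Groth.Agent.H86.FrobSL
import Mathlib.RingTheory.Artinian.Module
import Mathlib.RingTheory.Noetherian.Basic
import Mathlib.LinearAlgebra.Projection
import Mathlib.LinearAlgebra.Basis.VectorSpace
import Mathlib.Order.OrderIsoNat
import Mathlib.Tactic.Abel

/-!
# Frobenius-semilinear maps, part 2: Fitting decomposition, span of fixed vectors, `φ - 1` onto.
-/

namespace Groth.Agent.H86.FrobSL

open Polynomial

universe u v

variable {k : Type u} [Field k] [IsAlgClosed k] {V : Type v} [AddCommGroup V] [Module k V]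

lemma exists_AS {q : ℕ} (hq : 2 ≤ q) (c : k) : ∃ b : k, b ^ q - b = c := by
  have hdeg : (X ^ q - (X + C c) : k[X]).degree = q := by
    rw [degree_sub_eq_left_of_degree_lt, degree_X_pow]
    rw [degree_X_add_C, degree_X_pow]
    exact_mod_cast (by omega : 1 < q)
  obtain ⟨b, hb⟩ := IsAlgClosed.exists_root (X ^ q - (X + C c) : k[X]) (by
    rw [hdeg]; exact_mod_cast (by omega : q ≠ 0))
  refine ⟨b, ?_⟩
  rw [IsRoot, eval_sub, eval_pow, eval_X, eval_add, eval_X, eval_C] at hb
  linear_combination hb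

lemma exists_root_q {q : ℕ} (hq : 0 < q) (c : k) : ∃ b : k, b ^ q = c :=
  IsAlgClosed.exists_pow_nat_eq c hq

section Iter

variable {q : ℕ} (φ : V →+ V) (hφ : ∀ (a : k) (v : V), φ (a • v) = a ^ q • φ v)

/-- kernel of the `n`-th iterate, a `k`-subspace. -/
def kerIter (n : ℕ) : Submodule k V where
  carrier := {v | (⇑φ)^[n] v = 0}
  add_mem' := by
    intro a b ha hb
    simp only [Set.mem_setOf_eq] at *
    rw [iterate_add, ha, hb, add_zero]
  zero_mem' := iterate_zero φ n
  smul_mem' := by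
    intro c x hx
    simp only [Set.mem_setOf_eq] at *
    rw [iterate_smul φ hφ, hx, smul_zero]

/-- range of the `n`-th iterate, a `k`-subspace (uses `q^n`-th roots). -/
def rangeIter (hq : 0 < q) (n : ℕ) : Submodule k V where
  carrier := Set.range (⇑φ)^[n]
  add_mem' := by
    rintro _ _ ⟨x, rfl⟩ ⟨y, rfl⟩
    exact ⟨x + y, iterate_add φ n x y⟩
  zero_mem' := ⟨0, iterate_zero φ n⟩
  smul_mem' := by
    rintro c _ ⟨x, rfl⟩
    obtain ⟨b, hb⟩ := exists_root_q (pow_pos hq n) c
    exact ⟨b • x, by rw [iterate_smul φ hφ, hb]⟩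

lemma mem_kerIter {n : ℕ} {v : V} : v ∈ kerIter φ hφ n ↔ (⇑φ)^[n] v = 0 := Iff.rfl

lemma mem_rangeIter (hq : 0 < q) {n : ℕ} {v : V} :
    v ∈ rangeIter φ hφ hq n ↔ ∃ x, (⇑φ)^[n] x = v := Iff.rfl

lemma kerIter_mono : Monotone (kerIter φ hφ) := by
  apply monotone_nat_of_le_succ
  intro n v hv
  rw [mem_kerIter] at *
  rw [Function.iterate_succ_apply', hv, map_zero]

lemma rangeIter_anti (hq : 0 < q) : Antitone (rangeIter φ hφ hq) := by
  apply antitone_nat_of_succ_le
  rintro n _ ⟨x, rfl⟩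
  exact ⟨φ x, (Function.iterate_succ_apply φ n x).symm⟩

/-- A common stabilisation index. -/
lemma exists_stable [FiniteDimensional k V] (hq : 0 < q) :
    ∃ M : ℕ, (∀ m, M ≤ m → kerIter φ hφ M = kerIter φ hφ m) ∧
      (∀ m, M ≤ m → rangeIter φ hφ hq M = rangeIter φ hφ hq m) := by
  obtain ⟨M₁, h₁⟩ := monotone_stabilizes_iff_noetherian.mpr (inferInstance : IsNoetherian k V)
    ⟨kerIter φ hφ, kerIter_mono φ hφ⟩
  obtain ⟨M₂, h₂⟩ := IsArtinian.monotone_stabilizes (R := k) (M := V)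
    ⟨fun n => OrderDual.toDual (rangeIter φ hφ hq n), fun a b hab => rangeIter_anti φ hφ hq hab⟩
  refine ⟨max M₁ M₂, fun m hm => ?_, fun m hm => ?_⟩
  · have e1 := h₁ (max M₁ M₂) (le_max_left _ _)
    have e2 := h₁ m (le_trans (le_max_left _ _) hm)
    exact e1.symm.trans e2
  · have e1 := h₂ (max M₁ M₂) (le_max_right _ _)
    have e2 := h₂ m (le_trans (le_max_right _ _) hm)
    exact OrderDual.toDual.injective (e1.symm.trans e2)

lemma isCompl_of_stable (hq : 0 < q) {M : ℕ}
    (hk : ∀ m, M ≤ m → kerIter φ hφ M = kerIter φ hφ m)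
    (hr : ∀ m, M ≤ m → rangeIter φ hφ hq M = rangeIter φ hφ hq m) :
    IsCompl (rangeIter φ hφ hq M) (kerIter φ hφ M) := by
  constructor
  · rw [Submodule.disjoint_def]
    rintro x ⟨y, rfl⟩ hx
    rw [mem_kerIter, ← Function.iterate_add_apply] at hx
    have hy : y ∈ kerIter φ hφ (M + M) := hx
    rw [← hk (M + M) (by omega)] at hy
    exact hy
  · rw [codisjoint_iff, eq_top_iff]
    intro v _
    have h1 : (⇑φ)^[M] v ∈ rangeIter φ hφ hq (M + M) := by
      rw [← hr (M + M) (by omega)]; exact ⟨v, rfl⟩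
    obtain ⟨y, hy⟩ := h1
    rw [Function.iterate_add_apply] at hy
    have h2 : v - (⇑φ)^[M] y ∈ kerIter φ hφ M := by
      rw [mem_kerIter, iterate_sub, hy, sub_self]
    have h3 : (⇑φ)^[M] y ∈ rangeIter φ hφ hq M := ⟨y, rfl⟩
    have : v = (⇑φ)^[M] y + (v - (⇑φ)^[M] y) := by abel
    rw [this]
    exact Submodule.add_mem_sup h3 h2

end Iter

section Span

variable {q : ℕ} (φ : V →+ V) (hφ : ∀ (a : k) (v : V), φ (a • v) = a ^ q • φ v)

include hφ in
lemma span_fixed_AS (hq : 2 ≤ q) :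
    ∀ c ∈ Submodule.span k {v : V | φ v = v}, ∀ a : k,
      ∃ u ∈ Submodule.span k {v : V | φ v = v}, φ u - u = a • c := by
  intro c hc
  induction hc using Submodule.span_induction with
  | mem w hw =>
    intro a
    obtain ⟨b, hb⟩ := exists_AS hq a
    refine ⟨b • w, Submodule.smul_mem _ b (Submodule.subset_span hw), ?_⟩
    have hw' : φ w = w := hw
    rw [hφ, hw', ← sub_smul, hb]
  | zero => intro a; exact ⟨0, Submodule.zero_mem _, by simp⟩
  | add x y _ _ hx hy =>
    intro a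
    obtain ⟨u, hu, hu'⟩ := hx a
    obtain ⟨u2, hu2, hu2'⟩ := hy a
    refine ⟨u + u2, Submodule.add_mem _ hu hu2, ?_⟩
    rw [map_add, smul_add, ← hu', ← hu2']; abel
  | smul r x _ hx =>
    intro a
    obtain ⟨u, hu, hu'⟩ := hx (a * r)
    exact ⟨u, hu, by rw [hu', mul_smul]⟩

include hφ in
lemma span_fixed_surj (hq : 0 < q) :
    ∀ c ∈ Submodule.span k {v : V | φ v = v}, ∀ a : k,
      ∃ u ∈ Submodule.span k {v : V | φ v = v}, φ u = a • c := by
  intro c hc
  induction hc using Submodule.span_induction with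
  | mem w hw =>
    intro a
    obtain ⟨b, hb⟩ := exists_root_q hq a
    refine ⟨b • w, Submodule.smul_mem _ b (Submodule.subset_span hw), ?_⟩
    have hw' : φ w = w := hw
    rw [hφ, hw', hb]
  | zero => intro a; exact ⟨0, Submodule.zero_mem _, by simp⟩
  | add x y _ _ hx hy =>
    intro a
    obtain ⟨u, hu, hu'⟩ := hx a
    obtain ⟨u2, hu2, hu2'⟩ := hy a
    refine ⟨u + u2, Submodule.add_mem _ hu hu2, ?_⟩
    rw [map_add, smul_add, ← hu', ← hu2']
  | smul r x _ hx =>
    intro a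
    obtain ⟨u, hu, hu'⟩ := hx (a * r)
    exact ⟨u, hu, by rw [hu', mul_smul]⟩

include hφ in
/-- **L3**: if `φ` is injective, the fixed vectors span `V`. -/
theorem span_fixed_eq_top [FiniteDimensional k V] (hq : 2 ≤ q) (hqk : (q : k) = 0)
    (hinj : Function.Injective φ) : Submodule.span k {v : V | φ v = v} = ⊤ := by
  classical
  set U := Submodule.span k {v : V | φ v = v} with hU
  have U1 := span_fixed_AS φ hφ hq
  have U2 := span_fixed_surj φ hφ (by omega : 0 < q)
  by_contra hne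
  obtain ⟨U', hc⟩ := Submodule.exists_isCompl U
  have hU'ne : U' ≠ ⊥ := by
    intro h
    rw [h] at hc
    exact hne (eq_top_of_isCompl_bot hc)
  let π : V →ₗ[k] U' := Submodule.projectionOnto U' U hc.symm
  have hπker : ∀ y : V, π y = 0 → y ∈ U := by
    intro y hy
    exact (Submodule.projectionOnto_apply_eq_zero_iff hc.symm).mp hy
  let ψ : U' →+ U' := π.toAddMonoidHom.comp (φ.comp U'.subtype.toAddMonoidHom)
  have hψapp : ∀ x : U', ψ x = π (φ (x : V)) := fun x => rfl
  have hψ : ∀ (a : k) (x : U'), ψ (a • x) = a ^ q • ψ x := by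
    intro a x
    rw [hψapp, hψapp, Submodule.coe_smul, hφ, map_smul]
  have hdisj : ∀ y : V, y ∈ U → y ∈ U' → y = 0 := by
    intro y h1 h2
    have : y ∈ U ⊓ U' := ⟨h1, h2⟩
    rw [hc.inf_eq_bot] at this
    exact (Submodule.mem_bot k).mp this
  have hψinj : Function.Injective ψ := by
    rw [injective_iff_map_eq_zero]
    intro x hx
    have h1 : φ (x : V) ∈ U := hπker _ (by rw [← hψapp]; exact hx)
    obtain ⟨u, hu, hu'⟩ := U2 _ h1 1
    rw [one_smul] at hu'
    have hxu : (x : V) = u := (hinj hu').symm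
    exact Subtype.ext (hdisj _ (hxu ▸ hu) x.2)
  obtain ⟨x0, hx0mem, hx0⟩ := Submodule.exists_mem_ne_zero_of_ne_bot hU'ne
  have hx0' : (⟨x0, hx0mem⟩ : U') ≠ 0 := fun h => hx0 (congrArg Subtype.val h)
  obtain ⟨x, hxne, hxfix⟩ := exists_fixed_ne_zero hq hqk ψ hψ hψinj _ hx0'
  have h2 : φ (x : V) - x ∈ U := by
    apply hπker
    rw [map_sub, Submodule.projectionOnto_apply_left, ← hψapp, hxfix, sub_self]
  obtain ⟨u, hu, hu'⟩ := U1 _ h2 (-1)
  have h3 : φ ((x : V) + u) = (x : V) + u := by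
    have e : φ u = u + -(φ (x : V) - x) := by
      rw [← neg_one_smul k (φ (x : V) - x), ← hu']; abel
    rw [map_add, e]; abel
  have h4 : (x : V) + u ∈ U := Submodule.subset_span h3
  have h5 : (x : V) ∈ U := by
    have := Submodule.sub_mem _ h4 hu
    simpa using this
  exact hxne (Subtype.ext (hdisj _ h5 x.2))

include hφ in
/-- Existence of a basis of fixed vectors for an injective `φ`. -/
theorem exists_basis_fixed [FiniteDimensional k V] (hq : 2 ≤ q) (hqk : (q : k) = 0)
    (hinj : Function.Injective φ) :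
    ∃ (b : Set V) (B : Module.Basis b k V), (∀ i : b, B i = (i : V)) ∧ ∀ i : b, φ (i : V) = i := by
  obtain ⟨b, hbs, hspan, hli⟩ := exists_linearIndependent k {v : V | φ v = v}
  have htop : ⊤ ≤ Submodule.span k (Set.range ((↑) : b → V)) := by
    rw [Subtype.range_coe, hspan, span_fixed_eq_top φ hφ hq hqk hinj]
  refine ⟨b, Module.Basis.mk hli htop, fun i => by simp, fun i => hbs i.2⟩

end Span

end Groth.Agent.H86.FrobSL
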