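import Groth.Agent.H86.TameKummer
import Groth.Agent.S0499
import Groth.Agent.S0505

set_option autoImplicit false
open Polynomial

namespace Groth.Agent.H86.TameKummer

universe u

/-- a domain finite over a henselian local ring is local -/
theorem isLocalRing_of_finite_domain (R : Type u) [CommRing R] [HenselianLocalRing R]
    (S : Type u) [CommRing S] [IsDomain S] [Algebra R S] [Module.Finite R S] : IsLocalRing S := by
  classical
  obtain ⟨ι, _, A, _, hA, ⟨φ⟩⟩ := Groth.Agent.S0499.result R S
  have hne : Nonempty ι := by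
    by_contra hι
    rw [not_nonempty_iff] at hι
    have h1 : φ (1 : S) = φ 0 := Subsingleton.elim _ _
    exact one_ne_zero (φ.injective h1)
  have hsub : Subsingleton ι := by
    constructor
    intro i j
    by_contra hij
    have hz : (Pi.single i (1 : A i) : ∀ k, A k) * Pi.single j 1 = 0 := by
      funext k
      rw [Pi.mul_apply, Pi.zero_apply]
      by_cases hk : k = i
      · subst hk; rw [Pi.single_eq_of_ne hij, mul_zero]
      · rw [Pi.single_eq_of_ne hk, zero_mul]
    have h1 : φ.symm (Pi.single i 1) * φ.symm (Pi.single j 1) = 0 := by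
      rw [← map_mul, hz, map_zero]
    haveI := hA i
    haveI := hA j
    rcases mul_eq_zero.mp h1 with h2 | h2
    · have h3 : (Pi.single i (1 : A i) : ∀ k, A k) = 0 := by
        have := congrArg φ h2
        rwa [RingEquiv.apply_symm_apply, map_zero] at this
      have h4 := congrFun h3 i
      rw [Pi.single_eq_same, Pi.zero_apply] at h4
      exact one_ne_zero h4
    · have h3 : (Pi.single j (1 : A j) : ∀ k, A k) = 0 := by
        have := congrArg φ h2
        rwa [RingEquiv.apply_symm_apply, map_zero] at this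
      have h4 := congrFun h3 j
      rw [Pi.single_eq_same, Pi.zero_apply] at h4
      exact one_ne_zero h4
  haveI : Inhabited ι := ⟨hne.some⟩
  haveI : Unique ι := Unique.mk' ι
  haveI := hA default
  exact RingEquiv.isLocalRing (φ.trans (RingEquiv.piUnique A)).symm

theorem irreducible_of_mem_not_mem_sq (O : Type u) [CommRing O] [IsDomain O]
    [IsDiscreteValuationRing O] {x : O} (h1 : x ∈ IsLocalRing.maximalIdeal O)
    (h2 : x ∉ IsLocalRing.maximalIdeal O ^ 2) : Irreducible x := by
  obtain ⟨ϖ, hϖ⟩ := IsDiscreteValuationRing.exists_irreducible O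
  rw [hϖ.maximalIdeal_eq] at h1 h2
  obtain ⟨u, hu⟩ := Ideal.mem_span_singleton'.mp h1
  have huu : IsUnit u := by
    by_contra hnu
    have h3 : u ∈ IsLocalRing.maximalIdeal O := (IsLocalRing.mem_maximalIdeal u).mpr hnu
    rw [hϖ.maximalIdeal_eq] at h3
    obtain ⟨w, hw⟩ := Ideal.mem_span_singleton'.mp h3
    apply h2
    rw [Ideal.span_singleton_pow, Ideal.mem_span_singleton]
    exact ⟨w, by rw [← hu, ← hw]; ring⟩
  have hass : Associated ϖ x := ⟨huu.unit, by rw [IsUnit.unit_spec, mul_comm]; exact hu⟩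
  exact hass.irreducible hϖ

theorem irreducible_neg_coeff_zero (O : Type u) [CommRing O] [IsDomain O]
    [IsDiscreteValuationRing O] (f : O[X]) (hdeg : 0 < f.natDegree)
    (hf : f.IsEisensteinAt (IsLocalRing.maximalIdeal O)) : Irreducible (-f.coeff 0) := by
  apply irreducible_of_mem_not_mem_sq
  · exact neg_mem (hf.mem hdeg)
  · rw [neg_mem_iff]; exact hf.notMem

theorem eval_one_mem {B : Type*} [CommRing B] (m : Ideal B) (d : ℕ) (b : ℕ → B) (hb0 : b 0 = -1)
    (hb : ∀ i, 1 ≤ i → b i ∈ m) :
    eval 1 (X ^ (d + 1) + ∑ i ∈ Finset.range (d + 1), C (b i) * X ^ i : B[X]) ∈ m := by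
  rw [eval_add, eval_pow, eval_X, one_pow, eval_finset_sum, Finset.sum_range_succ']
  simp only [eval_mul, eval_C, eval_pow, eval_X, one_pow, mul_one]
  rw [hb0]
  have h1 : (1 : B) + (∑ i ∈ Finset.range d, b (i + 1) + -1) = ∑ i ∈ Finset.range d, b (i + 1) := by
    ring
  rw [h1]
  exact Ideal.sum_mem _ (fun i _ => hb (i + 1) (by omega))

theorem eval_one_derivative_sub_mem {B : Type*} [CommRing B] (m : Ideal B) (d : ℕ) (b : ℕ → B)
    (hb : ∀ i, 1 ≤ i → b i ∈ m) :
    eval 1 (derivative (X ^ (d + 1) + ∑ i ∈ Finset.range (d + 1), C (b i) * X ^ i : B[X])) -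
      ((d + 1 : ℕ) : B) ∈ m := by
  rw [derivative_add, derivative_X_pow, derivative_sum, eval_add, eval_finset_sum]
  simp only [derivative_mul, derivative_C, zero_mul, zero_add, derivative_X_pow, eval_mul, eval_C,
    eval_pow, eval_X, one_pow, mul_one]
  rw [add_sub_cancel_left]
  refine Ideal.sum_mem _ (fun i _ => ?_)
  rcases Nat.eq_zero_or_pos i with rfl | hi
  · simp
  · exact Ideal.mul_mem_right _ _ (hb i hi)

theorem exists_root_eisenstein_aux (O : Type u) [CommRing O] [IsDomain O]
    [IsDiscreteValuationRing O]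
    (f : O[X]) (hmon : f.Monic) (d : ℕ) (hdeg : f.natDegree = d + 1)
    (hf : f.IsEisensteinAt (IsLocalRing.maximalIdeal O))
    (hunit : IsUnit ((d + 1 : ℕ) : O))
    (B : Type*) [CommRing B] [HenselianLocalRing B] [Algebra O B] [Algebra.IsIntegral O B]
    (πB : B) (hπB : πB ^ (d + 1) = algebraMap O B (-f.coeff 0)) :
    ∃ y : B, aeval y f = 0 := by
  classical
  have hϖ : Irreducible (-f.coeff 0) :=
    irreducible_neg_coeff_zero O f (by rw [hdeg]; exact Nat.succ_pos d) hf
  have hϖmem : -f.coeff 0 ∈ IsLocalRing.maximalIdeal O := by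
    rw [hϖ.maximalIdeal_eq]; exact Ideal.mem_span_singleton_self _
  have hex : ∀ i : ℕ, ∃ c : O, i < d + 1 → f.coeff i = -f.coeff 0 * c := by
    intro i
    by_cases hi : i < d + 1
    · have h1 : f.coeff i ∈ IsLocalRing.maximalIdeal O := hf.mem (by rw [hdeg]; exact hi)
      rw [hϖ.maximalIdeal_eq] at h1
      obtain ⟨c, hc⟩ := Ideal.mem_span_singleton'.mp h1
      exact ⟨c, fun _ => by rw [← hc, mul_comm]⟩
    · exact ⟨0, fun h => absurd h hi⟩
  choose c hc using hex
  have hc0 : c 0 = -1 := by
    have h1 := hc 0 (Nat.succ_pos d)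
    have h2 : -f.coeff 0 * c 0 = -f.coeff 0 * (-1) := by rw [← h1]; ring
    exact mul_left_cancel₀ hϖ.ne_zero h2
  have hcomap : (IsLocalRing.maximalIdeal B).comap (algebraMap O B) =
      IsLocalRing.maximalIdeal O := by
    haveI := Ideal.isMaximal_comap_of_isIntegral_of_isMaximal (R := O) (IsLocalRing.maximalIdeal B)
    exact IsLocalRing.eq_maximalIdeal this
  have hϖB : algebraMap O B (-f.coeff 0) ∈ IsLocalRing.maximalIdeal B := by
    have h1 : -f.coeff 0 ∈ (IsLocalRing.maximalIdeal B).comap (algebraMap O B) := by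
      rw [hcomap]; exact hϖmem
    exact h1
  have hπBmem : πB ∈ IsLocalRing.maximalIdeal B := by
    apply (IsLocalRing.maximalIdeal.isMaximal B).isPrime.mem_of_pow_mem (d + 1)
    rw [hπB]; exact hϖB
  obtain ⟨b, hb_def⟩ : ∃ b : ℕ → B, ∀ i, b i = algebraMap O B (c i) * πB ^ i := ⟨_, fun _ => rfl⟩
  have hb0 : b 0 = -1 := by rw [hb_def, hc0, pow_zero, mul_one, map_neg, map_one]
  have hb : ∀ i, 1 ≤ i → b i ∈ IsLocalRing.maximalIdeal B := by
    intro i hi
    rw [hb_def]
    exact Ideal.mul_mem_left _ _ (Ideal.pow_mem_of_mem _ hπBmem i hi)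
  have hhmon : (X ^ (d + 1) + ∑ i ∈ Finset.range (d + 1), C (b i) * X ^ i : B[X]).Monic := by
    apply monic_X_pow_add
    rw [Finset.sum_range]
    exact degree_sum_fin_lt (fun i : Fin (d + 1) => b i)
  have h1mem := eval_one_mem (IsLocalRing.maximalIdeal B) d b hb0 hb
  have hder : IsUnit (eval 1 (derivative
      (X ^ (d + 1) + ∑ i ∈ Finset.range (d + 1), C (b i) * X ^ i : B[X]))) := by
    by_contra hnu
    have h3 : eval 1 (derivative
        (X ^ (d + 1) + ∑ i ∈ Finset.range (d + 1), C (b i) * X ^ i : B[X])) ∈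
        IsLocalRing.maximalIdeal B := (IsLocalRing.mem_maximalIdeal _).mpr hnu
    have h4 := eval_one_derivative_sub_mem (IsLocalRing.maximalIdeal B) d b hb
    have h5 : ((d + 1 : ℕ) : B) ∈ IsLocalRing.maximalIdeal B := by
      have h6 := Ideal.sub_mem _ h3 h4
      rwa [sub_sub_cancel] at h6
    have h6 : IsUnit ((d + 1 : ℕ) : B) := by
      have h7 := hunit.map (algebraMap O B)
      rwa [map_natCast] at h7
    exact (IsLocalRing.mem_maximalIdeal _).mp h5 h6
  obtain ⟨t, ht, -⟩ := HenselianLocalRing.is_henselian _ hhmon (1 : B) h1mem hder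
  have ht' : eval t (X ^ (d + 1) + ∑ i ∈ Finset.range (d + 1), C (b i) * X ^ i : B[X]) = 0 := ht
  refine ⟨πB * t, ?_⟩
  have hfs := hmon.as_sum
  rw [hdeg] at hfs
  have hev : aeval (πB * t) f = (πB * t) ^ (d + 1) +
      ∑ i ∈ Finset.range (d + 1), algebraMap O B (f.coeff i) * (πB * t) ^ i := by
    conv_lhs => rw [hfs]
    simp only [map_add, map_pow, aeval_X, map_sum, map_mul, aeval_C]
  have hid : aeval (πB * t) f = algebraMap O B (-f.coeff 0) *
      eval t (X ^ (d + 1) + ∑ i ∈ Finset.range (d + 1), C (b i) * X ^ i : B[X]) := by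
    rw [hev, eval_add, eval_pow, eval_X, eval_finset_sum, mul_add, Finset.mul_sum, mul_pow, hπB]
    congr 1
    apply Finset.sum_congr rfl
    intro i hi
    rw [eval_mul, eval_C, eval_pow, eval_X, hc i (Finset.mem_range.mp hi), map_mul, mul_pow,
      hb_def]
    ring
  rw [hid, ht', mul_zero]

theorem exists_root_eisenstein (O : Type u) [CommRing O] [IsDomain O]
    [IsDiscreteValuationRing O] [HenselianLocalRing O]
    (f : O[X]) (hmon : f.Monic) (d : ℕ) (hdeg : f.natDegree = d + 1)
    (hf : f.IsEisensteinAt (IsLocalRing.maximalIdeal O))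
    (hunit : IsUnit ((d + 1 : ℕ) : O))
    (M : Type u) [Field M] [Algebra O M]
    (π : M) (hπ : π ^ (d + 1) = algebraMap O M (-f.coeff 0)) :
    ∃ y : M, aeval y f = 0 := by
  have hπint : IsIntegral O π := by
    refine ⟨X ^ (d + 1) - C (-f.coeff 0), monic_X_pow_sub_C _ (Nat.succ_ne_zero d), ?_⟩
    rw [eval₂_sub, eval₂_pow, eval₂_X, eval₂_C, hπ, sub_self]
  haveI hfin : Module.Finite O (Algebra.adjoin O ({π} : Set M)) :=
    Algebra.finite_adjoin_simple_of_isIntegral hπint
  haveI : IsLocalRing (Algebra.adjoin O ({π} : Set M)) :=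
    isLocalRing_of_finite_domain O (Algebra.adjoin O ({π} : Set M))
  haveI : HenselianLocalRing (Algebra.adjoin O ({π} : Set M)) :=
    Groth.Agent.S0505.result O (Algebra.adjoin O ({π} : Set M))
  obtain ⟨y, hy⟩ := exists_root_eisenstein_aux O f hmon d hdeg hf hunit
    (Algebra.adjoin O ({π} : Set M))
    ⟨π, Algebra.self_mem_adjoin_singleton O π⟩ (Subtype.ext (by
      rw [SubmonoidClass.coe_pow, Subalgebra.coe_algebraMap]; exact hπ))
  refine ⟨(Algebra.adjoin O ({π} : Set M)).val y, ?_⟩
  rw [aeval_algHom_apply, hy, map_zero]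

theorem isSplittingField_of_root {K : Type*} [Field K] {M : Type*} [Field M] [Algebra K M]
    [FiniteDimensional K M] [Normal K M] (g : K[X]) (hg : Irreducible g) (hgm : g.Monic)
    (hfin : Module.finrank K M = g.natDegree) (y : M) (hy : aeval y g = 0) :
    IsSplittingField K M g := by
  have hmin : minpoly K y = g := (minpoly.eq_of_irreducible_of_monic hg hy hgm).symm
  refine ⟨?_, ?_⟩
  · rw [← hmin]
    exact Normal.splits inferInstance y
  · have hprim : IntermediateField.adjoin K ({y} : Set M) = ⊤ :=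
      (Field.primitive_element_iff_minpoly_natDegree_eq K y).mpr (by rw [hmin, hfin])
    have halg : ∀ x ∈ ({y} : Set M), IsAlgebraic K x :=
      fun x _ => Algebra.IsAlgebraic.isAlgebraic x
    have h1 := IntermediateField.adjoin_toSubalgebra_of_isAlgebraic halg
    rw [hprim, IntermediateField.top_toSubalgebra] at h1
    apply top_le_iff.mp
    rw [h1]
    exact Algebra.adjoin_mono
      (Set.singleton_subset_iff.mpr (mem_rootSet.mpr ⟨hgm.ne_zero, hy⟩))

theorem main_eisenstein_aux (O : Type u) [CommRing O] [IsDomain O] [IsDiscreteValuationRing O]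
    [HenselianLocalRing O] (f : O[X]) (hmon : f.Monic) (d : ℕ) (hdeg : f.natDegree = d + 1)
    (hf : f.IsEisensteinAt (IsLocalRing.maximalIdeal O))
    (hunit : IsUnit ((d + 1 : ℕ) : O))
    (M : Type u) [Field M] [Algebra (FractionRing O) M] [FiniteDimensional (FractionRing O) M]
    [IsGalois (FractionRing O) M] (hcyc : IsCyclic (M ≃ₐ[FractionRing O] M))
    (hfin : Module.finrank (FractionRing O) M = d + 1)
    (π : M) (hπ : π ^ (d + 1) =
      algebraMap (FractionRing O) M (algebraMap O (FractionRing O) (-f.coeff 0))) :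
    Module.finrank (FractionRing O) (f.map (algebraMap O (FractionRing O))).SplittingField = d + 1 ∧
      IsCyclic (f.map (algebraMap O (FractionRing O))).Gal := by
  letI : Algebra O M :=
    ((algebraMap (FractionRing O) M).comp (algebraMap O (FractionRing O))).toAlgebra
  haveI : IsScalarTower O (FractionRing O) M := IsScalarTower.of_algebraMap_eq (fun _ => rfl)
  obtain ⟨y, hy⟩ := exists_root_eisenstein O f hmon d hdeg hf hunit M π hπ
  have hfK_irr : Irreducible (f.map (algebraMap O (FractionRing O))) := by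
    have hirr : Irreducible f :=
      hf.irreducible (IsLocalRing.maximalIdeal.isMaximal O).isPrime hmon.isPrimitive
        (by rw [hdeg]; exact Nat.succ_pos d)
    exact (hmon.irreducible_iff_irreducible_map_fraction_map (K := FractionRing O)).mp hirr
  have hyK : aeval y (f.map (algebraMap O (FractionRing O))) = 0 := by
    rw [aeval_map_algebraMap]; exact hy
  haveI : IsSplittingField (FractionRing O) M (f.map (algebraMap O (FractionRing O))) :=
    isSplittingField_of_root _ hfK_irr (hmon.map _)
      (by rw [hfin, hmon.natDegree_map, hdeg]) y hyK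
  constructor
  · rw [← (IsSplittingField.algEquiv M
      (f.map (algebraMap O (FractionRing O)))).toLinearEquiv.finrank_eq, hfin]
  · haveI := hcyc
    show IsCyclic ((f.map (algebraMap O (FractionRing O))).SplittingField ≃ₐ[FractionRing O]
      (f.map (algebraMap O (FractionRing O))).SplittingField)
    exact isCyclic_of_surjective
      (AlgEquiv.autCongr (IsSplittingField.algEquiv M (f.map (algebraMap O (FractionRing O)))))
      (AlgEquiv.autCongr
        (IsSplittingField.algEquiv M (f.map (algebraMap O (FractionRing O))))).surjective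

theorem main_eisenstein (O : Type u) [CommRing O] [IsDomain O] [IsDiscreteValuationRing O]
    [HenselianLocalRing O] (f : O[X]) (hmon : f.Monic) (d : ℕ) (hdeg : f.natDegree = d + 1)
    (hf : f.IsEisensteinAt (IsLocalRing.maximalIdeal O))
    (hunit : IsUnit ((d + 1 : ℕ) : O)) (ζ : O) (hζ : IsPrimitiveRoot ζ (d + 1)) :
    Module.finrank (FractionRing O) (f.map (algebraMap O (FractionRing O))).SplittingField = d + 1 ∧
      IsCyclic (f.map (algebraMap O (FractionRing O))).Gal := by
  have hϖ : Irreducible (-f.coeff 0) :=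
    irreducible_neg_coeff_zero O f (by rw [hdeg]; exact Nat.succ_pos d) hf
  have hinj : Function.Injective (algebraMap O (FractionRing O)) :=
    IsFractionRing.injective O (FractionRing O)
  have hζK : (primitiveRoots (d + 1) (FractionRing O)).Nonempty :=
    ⟨_, (mem_primitiveRoots (Nat.succ_pos d)).mpr (hζ.map_of_injective hinj)⟩
  have H := irreducible_X_pow_sub_C_uniformizer O (-f.coeff 0) hϖ (Nat.succ_pos d)
  haveI : Fact (Irreducible (X ^ (d + 1) - C (algebraMap O (FractionRing O) (-f.coeff 0)) :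
      (FractionRing O)[X])) := ⟨H⟩
  haveI : FiniteDimensional (FractionRing O) (AdjoinRoot (X ^ (d + 1) -
      C (algebraMap O (FractionRing O) (-f.coeff 0)) : (FractionRing O)[X])) :=
    (AdjoinRoot.powerBasis H.ne_zero).finite
  haveI : IsSplittingField (FractionRing O) (AdjoinRoot (X ^ (d + 1) -
      C (algebraMap O (FractionRing O) (-f.coeff 0)) : (FractionRing O)[X]))
      (X ^ (d + 1) - C (algebraMap O (FractionRing O) (-f.coeff 0))) :=
    isSplittingField_AdjoinRoot_X_pow_sub_C hζK H
  haveI : IsGalois (FractionRing O) (AdjoinRoot (X ^ (d + 1) -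
      C (algebraMap O (FractionRing O) (-f.coeff 0)) : (FractionRing O)[X])) :=
    isGalois_of_isSplittingField_X_pow_sub_C hζK H _
  haveI : NeZero (d + 1) := ⟨Nat.succ_ne_zero d⟩
  refine main_eisenstein_aux O f hmon d hdeg hf hunit (AdjoinRoot (X ^ (d + 1) -
      C (algebraMap O (FractionRing O) (-f.coeff 0)) : (FractionRing O)[X]))
    (isCyclic_of_isSplittingField_X_pow_sub_C hζK H _)
    (finrank_of_isSplittingField_X_pow_sub_C hζK H _) (AdjoinRoot.root _) ?_
  have h1 := AdjoinRoot.eval₂_root (X ^ (d + 1) -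
    C (algebraMap O (FractionRing O) (-f.coeff 0)) : (FractionRing O)[X])
  rw [eval₂_sub, eval₂_pow, eval₂_X, eval₂_C, sub_eq_zero] at h1
  rw [h1, AdjoinRoot.algebraMap_eq]

end Groth.Agent.H86.TameKummer
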