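import Groth.Statements.S13901
import Groth.Agent.H18.ProjBaseChange
import Groth.Agent.S3557
import Groth.Agent.S9705
import Mathlib

set_option autoImplicit false
universe u
open CategoryTheory CategoryTheory.Limits AlgebraicGeometry

namespace Groth.Agent.H86.P1Conn

/-- Topological core: an open and closed continuous map to a preconnected space, one of whose
fibres is finite, maps every connected component of the source onto the target. -/
theorem exists_mem_connectedComponent {X P : Type*} [TopologicalSpace X] [TopologicalSpace P]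
    [PreconnectedSpace P] (f : X → P) (hopen : IsOpenMap f)
    (hclosed : IsClosedMap f) (p₀ : P) (hfin : (f ⁻¹' {p₀}).Finite) (x : X) (p : P) :
    ∃ y ∈ connectedComponent x, f y = p := by
  classical
  have key : ∀ V : Set X, IsClopen V → V.Nonempty → ∀ q : P, ∃ y ∈ V, f y = q := by
    intro V hV hne q
    have hcl : IsClopen (f '' V) := ⟨hclosed V hV.1, hopen V hV.2⟩
    have huniv : f '' V = Set.univ := hcl.eq_univ (hne.image f)
    have hq : q ∈ f '' V := huniv ▸ Set.mem_univ q
    obtain ⟨y, hy, rfl⟩ := hq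
    exact ⟨y, hy, rfl⟩
  set F := f ⁻¹' {p₀} with hF
  let S : Set ℕ := {n | ∃ V : Set X, IsClopen V ∧ x ∈ V ∧ (V ∩ F).ncard = n}
  have hS : S.Nonempty := ⟨_, Set.univ, isClopen_univ, Set.mem_univ x, rfl⟩
  obtain ⟨V₀, hV₀, hxV₀, hmin⟩ : ∃ V₀ : Set X, IsClopen V₀ ∧ x ∈ V₀ ∧
      ∀ V : Set X, IsClopen V → x ∈ V → (V₀ ∩ F).ncard ≤ (V ∩ F).ncard := by
    obtain ⟨V₀, hV₀, hxV₀, hn⟩ := Nat.sInf_mem hS
    refine ⟨V₀, hV₀, hxV₀, fun V hV hxV => ?_⟩
    rw [hn]
    exact Nat.sInf_le ⟨V, hV, hxV, rfl⟩
  have hclaim : ∀ W W' : Set X, IsClopen W → IsClopen W' → W ⊆ V₀ → W' ⊆ V₀ → Disjoint W W' →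
      x ∈ W → W' = ∅ := by
    intro W W' hW hW' hWV hW'V hWW' hxW
    by_contra hne
    have hne' : W'.Nonempty := Set.nonempty_iff_ne_empty.mpr hne
    obtain ⟨y, hyW', hy⟩ := key W' hW' hne' p₀
    have hyF : y ∈ F := hy
    have hsub : W ∩ F ⊆ V₀ ∩ F := Set.inter_subset_inter_left _ hWV
    have hfinV : (V₀ ∩ F).Finite := hfin.subset Set.inter_subset_right
    have hss : W ∩ F ⊂ V₀ ∩ F := by
      refine ⟨hsub, fun h => ?_⟩
      have hyW : y ∈ W ∩ F := h ⟨hW'V hyW', hyF⟩
      exact Set.disjoint_left.mp hWW' hyW.1 hyW'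
    have hlt := Set.ncard_lt_ncard hss hfinV
    exact absurd (hmin W hW hxW) (not_le.mpr hlt)
  have hpre : IsPreconnected V₀ := by
    rw [isPreconnected_iff_subset_of_fully_disjoint_closed hV₀.1]
    intro u v hu hv huv hdisj
    have hA : IsClopen (V₀ ∩ u) := by
      refine ⟨hV₀.1.inter hu, ?_⟩
      have hAeq : V₀ ∩ u = V₀ ∩ vᶜ := by
        ext z
        constructor
        · rintro ⟨hz, hzu⟩
          exact ⟨hz, fun hzv => Set.disjoint_left.mp hdisj hzu hzv⟩
        · rintro ⟨hz, hzv⟩
          rcases huv hz with h | h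
          · exact ⟨hz, h⟩
          · exact absurd h hzv
      rw [hAeq]
      exact hV₀.2.inter hv.isOpen_compl
    have hB : IsClopen (V₀ ∩ v) := by
      refine ⟨hV₀.1.inter hv, ?_⟩
      have hBeq : V₀ ∩ v = V₀ ∩ uᶜ := by
        ext z
        constructor
        · rintro ⟨hz, hzv⟩
          exact ⟨hz, fun hzu => Set.disjoint_left.mp hdisj hzu hzv⟩
        · rintro ⟨hz, hzu⟩
          rcases huv hz with h | h
          · exact absurd h hzu
          · exact ⟨hz, h⟩
      rw [hBeq]
      exact hV₀.2.inter hu.isOpen_compl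
    have hdisj' : Disjoint (V₀ ∩ u) (V₀ ∩ v) :=
      hdisj.mono Set.inter_subset_right Set.inter_subset_right
    rcases huv hxV₀ with hxu | hxv
    · left
      have hempty := hclaim _ _ hA hB Set.inter_subset_left Set.inter_subset_left hdisj'
        ⟨hxV₀, hxu⟩
      intro z hz
      rcases huv hz with h | h
      · exact h
      · have hzB : z ∈ V₀ ∩ v := ⟨hz, h⟩
        rw [hempty] at hzB
        exact absurd hzB (Set.notMem_empty z)
    · right
      have hempty := hclaim _ _ hB hA Set.inter_subset_left Set.inter_subset_left hdisj'.symm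
        ⟨hxV₀, hxv⟩
      intro z hz
      rcases huv hz with h | h
      · have hzA : z ∈ V₀ ∩ u := ⟨hz, h⟩
        rw [hempty] at hzA
        exact absurd hzA (Set.notMem_empty z)
      · exact h
  have hsubset : V₀ ⊆ connectedComponent x := hpre.subset_connectedComponent hxV₀
  obtain ⟨y, hy, hyp⟩ := key V₀ hV₀ ⟨x, hxV₀⟩ p
  exact ⟨y, hsubset hy, hyp⟩

section BaseChange

attribute [local instance] MvPolynomial.algebraMvPolynomial

variable (n : ℕ) (R K : Type u) [CommRing R] [CommRing K] [Algebra R K]

/-- `MvPolynomial.map` as a graded ring homomorphism. -/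
noncomputable def polyMap : CohB1.polyGrading n R →+*ᵍ CohB1.polyGrading n K where
  toRingHom := MvPolynomial.map (algebraMap R K)
  map_mem {i x} hx := by
    have hx' : x.IsHomogeneous i := hx
    exact hx'.map (algebraMap R K)

theorem irrelevant_le_map :
    HomogeneousIdeal.irrelevant (CohB1.polyGrading n K) ≤
      (HomogeneousIdeal.irrelevant (CohB1.polyGrading n R)).map (polyMap n R K) := by
  rw [HomogeneousIdeal.irrelevant_le]
  intro i hi p hp
  have hp' : p.IsHomogeneous i := hp
  show p ∈ Ideal.map (polyMap n R K) (HomogeneousIdeal.irrelevant (CohB1.polyGrading n R)).toIdeal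
  rw [MvPolynomial.as_sum p]
  refine Ideal.sum_mem _ fun m hm => ?_
  have hw := hp' (MvPolynomial.mem_support_iff.mp hm)
  have hdeg : m.degree = i := by
    rw [Finsupp.degree_eq_weight_one]
    exact hw
  have hmono : MvPolynomial.monomial m (p.coeff m) =
      MvPolynomial.C (p.coeff m) * (polyMap n R K) (MvPolynomial.monomial m 1) := by
    show _ = _ * MvPolynomial.map (algebraMap R K) (MvPolynomial.monomial m 1)
    rw [MvPolynomial.map_monomial, map_one, MvPolynomial.C_mul_monomial, mul_one]
  rw [hmono]
  refine Ideal.mul_mem_left _ _ (Ideal.mem_map_of_mem _ ?_)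
  exact HomogeneousIdeal.mem_irrelevant_of_mem _ hi
    (MvPolynomial.isHomogeneous_monomial (1 : R) hdeg)

theorem isPullback_projSpace :
    IsPullback (Proj.map (polyMap n R K) (irrelevant_le_map n R K))
      (CohB1.ProjSpace.toSpec n K) (CohB1.ProjSpace.toSpec n R)
      (Spec.map (CommRingCat.ofHom (algebraMap R K))) :=
  Groth.Agent.H18.proj_baseChange_isPullback (CohB1.polyGrading n R) (CohB1.polyGrading n K)
    (polyMap n R K) (fun _ => rfl) (irrelevant_le_map n R K)

end BaseChange

/-- Projective space over a field is irreducible, hence connected. -/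
theorem connectedSpace_projSpace (n : ℕ) (K : Type u) [Field K] :
    ConnectedSpace (CohB1.ProjSpace n K) := by
  have hint : AlgebraicGeometry.IsIntegral (Proj (CohB1.polyGrading n K)) := by
    refine (Groth.Agent.S3557.result (CohB1.polyGrading n K) ?_).mpr ⟨?_, ?_⟩
    · intro f _ hf
      exact hf.eq_zero
    · refine ⟨MvPolynomial.X 0, ?_, MvPolynomial.X_ne_zero 0⟩
      exact HomogeneousIdeal.mem_irrelevant_of_mem _ one_pos (MvPolynomial.isHomogeneous_X K 0)
    · intro f _ g _ hfg
      exact mul_eq_zero.mp hfg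
  haveI : IrreducibleSpace (Proj (CohB1.polyGrading n K)) := inferInstance
  exact (inferInstance : ConnectedSpace (Proj (CohB1.polyGrading n K)))

set_option backward.isDefEq.respectTransparency.types false in
instance geometricallyConnected_toSpec (n : ℕ) (R : Type u) [CommRing R] :
    GeometricallyConnected (CohB1.ProjSpace.toSpec n R) := by
  refine ⟨geometrically_iff_of_commRing.mpr fun K _ _ Y fst snd h => ?_⟩
  have h' := isPullback_projSpace n R K
  let e : Y ≅ CohB1.ProjSpace n K := h.isoIsPullback _ _ h'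
  haveI : ConnectedSpace (CohB1.ProjSpace n K) := connectedSpace_projSpace n K
  exact e.hom.homeomorph.connectedSpace_iff.mpr inferInstance

instance geometricallyConnected_toBase (n : ℕ) (S : Scheme.{u}) :
    GeometricallyConnected (CohB1.ProjSpaceOver.toBase n S) :=
  inferInstanceAs (GeometricallyConnected
    (pullback.snd (CohB1.ProjSpace.toSpec n (ULift.{u} ℤ)) (specULiftZIsTerminal.from S)))

/-- Projective space over a preconnected base is preconnected. -/
theorem preconnectedSpace_projSpaceOver (n : ℕ) (S : Scheme.{u}) [PreconnectedSpace S] :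
    PreconnectedSpace (CohB1.ProjSpaceOver n S) := by
  let π := CohB1.ProjSpaceOver.toBase n S
  haveI : IsProper π := Groth.Agent.S9705.isProper_toBase n S
  have hquot : Topology.IsQuotientMap π :=
    (π.isClosedMap).isQuotientMap π.continuous π.surjective
  refine ⟨?_⟩
  rcases isEmpty_or_nonempty (CohB1.ProjSpaceOver n S) with he | ⟨⟨p⟩⟩
  · rw [Set.univ_eq_empty_iff.mpr he]
    exact isPreconnected_empty
  · have hcc := hquot.isCoinducing.preimage_connectedComponent
      (fun y => π.isConnected_preimage_singleton y) p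
    have h1 : connectedComponent p = Set.univ := by
      rw [← hcc, PreconnectedSpace.connectedComponent_eq_univ, Set.preimage_univ]
    rw [← h1]
    exact isPreconnected_connectedComponent

theorem main (S X : Scheme.{u}) [PreconnectedSpace S]
    (f : X ⟶ CohB1.ProjSpaceOver 1 S) [IsFinite f] [Flat f] [LocallyOfFinitePresentation f]
    (x : X) (p : CohB1.ProjSpaceOver 1 S) : ∃ y ∈ connectedComponent x, f y = p := by
  haveI : PreconnectedSpace (CohB1.ProjSpaceOver 1 S) := preconnectedSpace_projSpaceOver 1 S
  exact exists_mem_connectedComponent f f.isOpenMap f.isClosedMap p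
    (f.finite_preimage_singleton p) x p

end Groth.Agent.H86.P1Conn
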