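import Mathlib
import Groth.Agent.S1496
import Groth.Agent.H86.P1Conn
import Groth.Agent.H18.AmpleIso

/-!
# (F1) a proper `k`-scheme with an ample module is a closed subscheme of some `ℙᴺ_k`

Squad piece for helper21's S7679.
-/

set_option autoImplicit false
universe u
open CategoryTheory CategoryTheory.Limits AlgebraicGeometry TopologicalSpace Opposite

namespace Groth.Agent.H86.Hyp_F1

theorem exists_closedImmersion_projSpace (k : Type u) [Field k] (X : Scheme.{u})
    [X.Over (Spec (CommRingCat.of k))] [IsProper (X ↘ (Spec (CommRingCat.of k)))]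
    (L : X.Modules) (hL : CohB1.IsAmple L) :
    ∃ (N : ℕ) (i : X ⟶ CohB1.ProjSpace N k), IsClosedImmersion i ∧
      i ≫ CohB1.ProjSpace.toSpec N k = X ↘ (Spec (CommRingCat.of k)) := by
  have hS : ∃ N : (Spec (CommRingCat.of k)).Modules, CohB1.IsAmple N :=
    ⟨_, Groth.Agent.H18.AmpleIso.isQuasiAffine_iff_isAmple_structureModule.mp inferInstance⟩
  obtain ⟨n, i, hi, hif⟩ :=
    ((Groth.Agent.S1496.result hS (X ↘ (Spec (CommRingCat.of k)))).1).2 ⟨inferInstance, L, hL⟩
  letI : Algebra (ULift.{u} ℤ) k :=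
    ((Int.castRingHom k).comp (ULift.ringEquiv (R := ℤ)).toRingHom).toAlgebra
  have h' := Groth.Agent.H86.P1Conn.isPullback_projSpace n (ULift.{u} ℤ) k
  rw [show Spec.map (CommRingCat.ofHom (algebraMap (ULift.{u} ℤ) k)) =
    specULiftZIsTerminal.from _ from specULiftZIsTerminal.hom_ext _ _] at h'
  let e : CohB1.ProjSpace n k ≅ CohB1.ProjSpaceOver n (Spec (CommRingCat.of k)) := h'.isoPullback
  have he : e.inv ≫ CohB1.ProjSpace.toSpec n k =
      pullback.snd (CohB1.ProjSpace.toSpec n (ULift.{u} ℤ))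
        (specULiftZIsTerminal.from (Spec (CommRingCat.of k))) := h'.isoPullback_inv_snd
  haveI := hi
  refine ⟨n, i ≫ e.inv, inferInstance, ?_⟩
  rw [Category.assoc, he, hif]

end Groth.Agent.H86.Hyp_F1
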