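import Mathlib
import Groth.Prelude.Def_PBC
import Groth.Prelude.Def_EtCore
import Groth.Agent.S6642
import Groth.Agent.H24.EtCons.Defs
import Groth.Agent.H24.EtCons.E

/-!
# (P6) for helper24's S0127–S0130: adapted strata push forward along an open immersion.
-/

set_option autoImplicit false
universe u
open CategoryTheory CategoryTheory.Limits AlgebraicGeometry Topology
open Groth.Agent.H24.EtCons

namespace Groth.Agent.H86.EtCons_P6

theorem range_comp' {T W X : Scheme.{u}} (g : T ⟶ W) (j : W ⟶ X) :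
    Set.range (g ≫ j) = j '' Set.range g := by
  ext x
  constructor
  · rintro ⟨t, rfl⟩
    exact ⟨g t, ⟨t, rfl⟩, (Scheme.Hom.comp_apply g j t).symm⟩
  · rintro ⟨_, ⟨t, rfl⟩, rfl⟩
    exact ⟨t, Scheme.Hom.comp_apply g j t⟩

theorem adapted_of_openImmersion {W X : Scheme.{u}} (j : W ⟶ X) [IsOpenImmersion j]
    (F : EtCoh.Ab X) (U' : W.Opens)
    (h : EtPBC.AdaptedStrata ((EtCoh.pull j).obj F) (U' : Set W)) :
    EtPBC.AdaptedStrata F ((j ''ᵁ U' : X.Opens) : Set X) := by
  obtain ⟨n, T, g, himm, hcons, hdisj, hunion, hflc⟩ := h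
  have hcoe : ((j ''ᵁ U' : X.Opens) : Set X) = j '' (U' : Set W) := rfl
  refine ⟨n, T, fun i => g i ≫ j, ?_, ?_, ?_, ?_, ?_⟩
  · intro i
    haveI := himm i
    infer_instance
  · intro i
    rw [range_comp']
    let φ : ↥(U' : Set W) → ↥((j ''ᵁ U' : X.Opens) : Set X) :=
      fun w => ⟨j w.1, ⟨w.1, w.2, rfl⟩⟩
    have hval : IsOpenEmbedding (Subtype.val : ↥((j ''ᵁ U' : X.Opens) : Set X) → X) :=
      (j ''ᵁ U' : X.Opens).isOpen.isOpenEmbedding_subtypeVal
    have hcomp : IsOpenEmbedding ((Subtype.val : ↥((j ''ᵁ U' : X.Opens) : Set X) → X) ∘ φ) :=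
      j.isOpenEmbedding.comp U'.isOpen.isOpenEmbedding_subtypeVal
    have hφ : IsOpenEmbedding φ := (Topology.IsOpenEmbedding.of_comp_iff φ hval).mp hcomp
    have hsurj : Function.Surjective φ := by
      rintro ⟨x, w, hw, rfl⟩
      exact ⟨⟨w, hw⟩, rfl⟩
    have e : ((Subtype.val : ↥((j ''ᵁ U' : X.Opens) : Set X) → X) ⁻¹' (j '' Set.range (g i))) =
        φ '' ((Subtype.val : ↥(U' : Set W) → W) ⁻¹' Set.range (g i)) := by
      ext ⟨x, hx⟩
      constructor
      · rintro ⟨w, hwr, hwx⟩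
        have hw : w ∈ (U' : Set W) := by
          rw [← hunion]; exact Set.mem_iUnion.mpr ⟨i, hwr⟩
        exact ⟨⟨w, hw⟩, hwr, Subtype.ext hwx⟩
      · rintro ⟨⟨w, hw⟩, hwr, hwx⟩
        exact ⟨w, hwr, congrArg Subtype.val hwx⟩
    rw [e]
    apply Topology.IsConstructible.image_of_isOpenEmbedding hφ _ (hcons i)
    rw [hsurj.range_eq]
    exact IsRetrocompact.univ
  · intro i k hik
    have hd : Disjoint (Set.range (g i)) (Set.range (g k)) := hdisj hik
    show Disjoint (Set.range (g i ≫ j)) (Set.range (g k ≫ j))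
    rw [range_comp', range_comp']
    exact (Set.disjoint_image_iff j.isOpenEmbedding.injective).mpr hd
  · have hr : ∀ i, Set.range (g i ≫ j) = j '' Set.range (g i) := fun i => range_comp' _ _
    rw [Set.iUnion_congr hr, ← Set.image_iUnion, hunion]
    rfl
  · intro i _
    exact flc_of_pull_pull F j (g i) (hflc i)

end Groth.Agent.H86.EtCons_P6
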