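import Groth.Prelude
import Groth.Agent.H31.KFlatCycles
import Groth.Agent.H31.TotFunctor

/-!
# (Q1-b) homology of the total complex `Tot(P ⊗ S)` when `S` is concentrated in one degree

Squad piece for helper31's S6498.
-/

set_option autoImplicit false
set_option backward.isDefEq.respectTransparency false
universe u
open CategoryTheory CategoryTheory.Limits AlgebraicGeometry HomologicalComplex

namespace Groth.Agent.H86.Q1b

section Abstract

variable {C₁ C₂ D : Type*} [Category C₁] [Category C₂] [Category D]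
  [Abelian C₁] [Abelian C₂] [Abelian D]
  (F : C₁ ⥤ C₂ ⥤ D) [F.Additive] [∀ X, (F.obj X).Additive]
  [∀ (K₁ : CochainComplex C₁ ℤ) (K₂ : CochainComplex C₂ ℤ),
    HasMapBifunctor K₁ K₂ F (ComplexShape.up ℤ)]

theorem isIso_ιMapBifunctor_of_isZero_right (K : CochainComplex C₁ ℤ) (S : CochainComplex C₂ ℤ)
    (j : ℤ) (hS : ∀ q, q ≠ j → IsZero (S.X q)) (p n : ℤ)
    (h : ComplexShape.π (ComplexShape.up ℤ) (ComplexShape.up ℤ) (ComplexShape.up ℤ) (p, j) = n) :
    IsIso (ιMapBifunctor K S F (ComplexShape.up ℤ) p j n h) := by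
  refine Groth.Agent.H31.KFlat.isIso_inj_of_isZero
    ((Groth.Agent.H31.KFlat.gr F K S).cofanMapObj Groth.Agent.H31.KFlat.pp n)
    ((Groth.Agent.H31.KFlat.gr F K S).isColimitCofanMapObj Groth.Agent.H31.KFlat.pp n)
    ⟨(p, j), h⟩ ?_
  rintro ⟨⟨p', q'⟩, hpq'⟩ hne
  have hq : q' ≠ j := by
    rintro rfl
    apply hne
    have h1 : p' + q' = n := hpq'
    have h2 : p + q' = n := h
    have h3 : p' = p := by omega
    subst h3
    rfl
  exact (F.obj (K.X p')).map_isZero (hS q' hq)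

theorem ι_d_right (K : CochainComplex C₁ ℤ) (S : CochainComplex C₂ ℤ) (j : ℤ)
    (hS : ∀ q, q ≠ j → IsZero (S.X q)) (p p' : ℤ) (hp : p + 1 = p') :
    ιMapBifunctor K S F (ComplexShape.up ℤ) p j (p + j) rfl ≫
        (mapBifunctor K S F (ComplexShape.up ℤ)).d (p + j) (p' + j) =
      (F.map (K.d p p')).app (S.X j) ≫
        ιMapBifunctor K S F (ComplexShape.up ℤ) p' j (p' + j) rfl := by
  subst hp
  have h := Groth.Agent.H31.KFlat.ι_d F K S p j (p + j) (p + 1 + j) rfl rfl
    (by show p + (j + 1) = p + 1 + j; omega)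
  have hε : ComplexShape.ε₁ (ComplexShape.up ℤ) (ComplexShape.up ℤ) (ComplexShape.up ℤ)
      (p, j) = 1 := rfl
  have hd : S.d j (j + 1) = 0 := (hS (j + 1) (by omega)).eq_of_tgt _ _
  rw [hε, one_smul, hd, Functor.map_zero, zero_comp, smul_zero, add_zero] at h
  exact h

theorem nonempty_homology_iso_right (K : CochainComplex C₁ ℤ) (S : CochainComplex C₂ ℤ) (b : ℤ)
    (hS : ∀ q, q ≠ b → IsZero (S.X q)) (p : ℤ) :
    Nonempty ((mapBifunctor K S F (ComplexShape.up ℤ)).homology (p + b) ≅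
      (((F.flip.obj (S.X b)).mapHomologicalComplex (ComplexShape.up ℤ)).obj K).homology p) := by
  have hiso : ∀ i : ℤ, IsIso (ιMapBifunctor K S F (ComplexShape.up ℤ) i b (i + b) rfl) :=
    fun i => isIso_ιMapBifunctor_of_isZero_right F K S b hS i (i + b) rfl
  let eX : ∀ i : ℤ, (((F.flip.obj (S.X b)).mapHomologicalComplex (ComplexShape.up ℤ)).obj K).X i ≅
      (mapBifunctor K S F (ComplexShape.up ℤ)).X (i + b) := fun i =>
    haveI := hiso i
    asIso (ιMapBifunctor K S F (ComplexShape.up ℤ) i b (i + b) rfl)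
  have hcomm : ∀ i j : ℤ, i + 1 = j →
      (eX i).hom ≫ (mapBifunctor K S F (ComplexShape.up ℤ)).d (i + b) (j + b) =
        (((F.flip.obj (S.X b)).mapHomologicalComplex (ComplexShape.up ℤ)).obj K).d i j ≫
          (eX j).hom :=
    fun i j hij => ι_d_right F K S b hS i j hij
  let e : (((F.flip.obj (S.X b)).mapHomologicalComplex (ComplexShape.up ℤ)).obj K).sc'
        (p - 1) p (p + 1) ≅
      (mapBifunctor K S F (ComplexShape.up ℤ)).sc' (p - 1 + b) (p + b) (p + 1 + b) :=
    ShortComplex.isoMk (eX (p - 1)) (eX p) (eX (p + 1))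
      (hcomm (p - 1) p (by omega)) (hcomm p (p + 1) rfl)
  have hprevT : (ComplexShape.up ℤ).prev (p + b) = p - 1 + b :=
    (ComplexShape.up ℤ).prev_eq' (show p - 1 + b + 1 = p + b by omega)
  have hnextT : (ComplexShape.up ℤ).next (p + b) = p + 1 + b :=
    (ComplexShape.up ℤ).next_eq' (show p + b + 1 = p + 1 + b by omega)
  have hprevQ : (ComplexShape.up ℤ).prev p = p - 1 :=
    (ComplexShape.up ℤ).prev_eq' (show p - 1 + 1 = p by omega)
  have hnextQ : (ComplexShape.up ℤ).next p = p + 1 :=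
    (ComplexShape.up ℤ).next_eq' (show p + 1 = p + 1 from rfl)
  exact ⟨(mapBifunctor K S F (ComplexShape.up ℤ)).homologyIsoSc' _ _ _ hprevT hnextT ≪≫
    (ShortComplex.homologyMapIso e).symm ≪≫
    ((((F.flip.obj (S.X b)).mapHomologicalComplex (ComplexShape.up ℤ)).obj K).homologyIsoSc'
      _ _ _ hprevQ hnextQ).symm⟩

end Abstract

theorem nonempty_homology_tot_single_iso {Z : Scheme.{u}} (P S : CochainComplex Z.Modules ℤ) (b : ℤ)
    (hS : ∀ q : ℤ, q ≠ b → IsZero (S.X q)) (p : ℤ) :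
    Nonempty (((DCoh.tensorCx.obj P).obj S).homology (p + b) ≅
      ((((DCoh.tensorBi (X := Z)).flip.obj (S.X b)).mapHomologicalComplex
        (ComplexShape.up ℤ)).obj P).homology p) :=
  nonempty_homology_iso_right (DCoh.tensorBi (X := Z)) P S b hS p

end Groth.Agent.H86.Q1b
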