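import Mathlib
import Groth.Prelude.Def_Rees
import Groth.Prelude.Def_BlowUp2
import Groth.Prelude.Def_ega3
import Groth.Agent.H95.ReesProjDefs

/-!
# (U1) for helper95's S16054: ring maps out of the chart `(R(I)_{aX})_0` are determined by `A`
as soon as the image of `a` is a nonzerodivisor.  Also shared computations for (ECA).
-/

set_option autoImplicit false
universe u
open CategoryTheory AlgebraicGeometry
open Groth.Agent.H95.ReesProj

namespace Groth.Agent.H86.RP_U1

variable (A : Type u) [CommRing A] (I : Ideal A)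

theorem val_toAway (a : A) (ha : a ∈ I) (c : A) :
    (toAway A I a ha c).val =
      algebraMap (reesAlgebra I) (Localization.Away (gen A I a ha))
        (algebraMap A (reesAlgebra I) c) := rfl

theorem coe_eq_monomial (n : ℕ) (r : reesAlgebra I)
    (hr : r ∈ Rees.deg (reesAlgebra I) (n • 1)) :
    (r : Polynomial A) = Polynomial.monomial n ((r : Polynomial A).coeff n) := by
  have hr' := (Rees.mem_deg_iff (reesAlgebra I) (n • 1) r).mp hr
  ext m
  rw [Polynomial.coeff_monomial]
  split_ifs with h
  · rw [h]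
  · exact hr' m (by rw [smul_eq_mul, mul_one]; exact fun e => h e.symm)

theorem poly_id (a : A) (ha : a ∈ I) (n : ℕ) (r : reesAlgebra I)
    (hr : r ∈ Rees.deg (reesAlgebra I) (n • 1)) :
    algebraMap A (reesAlgebra I) a ^ n * r =
      gen A I a ha ^ n * algebraMap A (reesAlgebra I) ((r : Polynomial A).coeff n) := by
  apply Subtype.ext
  rw [Subalgebra.coe_mul, Subalgebra.coe_mul, Subalgebra.coe_pow, Subalgebra.coe_pow,
    Subalgebra.coe_algebraMap, Subalgebra.coe_algebraMap, ← Polynomial.C_eq_algebraMap,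
    ← Polynomial.C_eq_algebraMap]
  have hr' := coe_eq_monomial A I n r hr
  obtain ⟨ρ, hρ⟩ : ∃ ρ, ρ = (r : Polynomial A).coeff n := ⟨_, rfl⟩
  rw [← hρ] at hr' ⊢
  rw [hr']
  show Polynomial.C a ^ n * Polynomial.monomial n ρ =
    Polynomial.monomial 1 a ^ n * Polynomial.C ρ
  rw [← Polynomial.C_pow, Polynomial.C_mul_monomial, Polynomial.monomial_pow,
    Polynomial.monomial_mul_C, one_mul]

/-- `a^n · (r / (aX)^n) = coefficient of r` in the chart ring. -/
theorem key (a : A) (ha : a ∈ I) (n : ℕ) (r : reesAlgebra I)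
    (hr : r ∈ Rees.deg (reesAlgebra I) (n • 1)) :
    toAway A I a ha a ^ n *
        HomogeneousLocalization.Away.mk (Rees.deg (reesAlgebra I)) (gen_mem A I a ha) n r hr =
      toAway A I a ha ((r : Polynomial A).coeff n) := by
  apply HomogeneousLocalization.val_injective
  rw [HomogeneousLocalization.val_mul, HomogeneousLocalization.val_pow, val_toAway, val_toAway,
    HomogeneousLocalization.Away.val_mk, Localization.mk_eq_mk'_apply]
  have hu : IsUnit (algebraMap (reesAlgebra I) (Localization.Away (gen A I a ha))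
      (gen A I a ha ^ n)) :=
    IsLocalization.map_units (Localization.Away (gen A I a ha))
      (⟨gen A I a ha ^ n, n, rfl⟩ : Submonoid.powers (gen A I a ha))
  apply hu.mul_left_cancel
  have h1 : algebraMap (reesAlgebra I) (Localization.Away (gen A I a ha)) (gen A I a ha ^ n) *
      IsLocalization.mk' (Localization.Away (gen A I a ha)) r
        (⟨gen A I a ha ^ n, by use n⟩ : Submonoid.powers (gen A I a ha)) =
      algebraMap (reesAlgebra I) (Localization.Away (gen A I a ha)) r :=
    IsLocalization.mk'_spec' (Localization.Away (gen A I a ha)) r _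
  rw [mul_left_comm, h1, ← map_pow, ← map_mul, ← map_mul, poly_id A I a ha n r hr]

theorem U1 (a : A) (ha : a ∈ I) {B : Type u} [CommRing B]
    (ψ₁ ψ₂ : HomogeneousLocalization.Away (Rees.deg (reesAlgebra I)) (gen A I a ha) →+* B)
    (h : ψ₁.comp (toAway A I a ha) = ψ₂.comp (toAway A I a ha))
    (hnzd : ψ₁ (toAway A I a ha a) ∈ nonZeroDivisors B) : ψ₁ = ψ₂ := by
  ext x
  obtain ⟨n, r, hr, rfl⟩ := HomogeneousLocalization.Away.mk_surjective
    (Rees.deg (reesAlgebra I)) (gen_mem A I a ha) x
  have hk := key A I a ha n r hr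
  have h1 : ∀ c, ψ₁ (toAway A I a ha c) = ψ₂ (toAway A I a ha c) := fun c => by
    have := congrArg (fun φ => φ c) h
    simpa only [RingHom.comp_apply] using this
  have e1 : ψ₁ (toAway A I a ha a) ^ n *
      ψ₁ (HomogeneousLocalization.Away.mk (Rees.deg (reesAlgebra I)) (gen_mem A I a ha) n r hr) =
      ψ₁ (toAway A I a ha ((r : Polynomial A).coeff n)) := by
    rw [← map_pow, ← map_mul, hk]
  have e2 : ψ₁ (toAway A I a ha a) ^ n *
      ψ₂ (HomogeneousLocalization.Away.mk (Rees.deg (reesAlgebra I)) (gen_mem A I a ha) n r hr) =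
      ψ₁ (toAway A I a ha ((r : Polynomial A).coeff n)) := by
    rw [h1 a, h1 ((r : Polynomial A).coeff n), ← map_pow, ← map_mul, hk]
  have hn : ψ₁ (toAway A I a ha a) ^ n ∈ nonZeroDivisors B := pow_mem hnzd n
  have h0 : ψ₁ (toAway A I a ha a) ^ n *
      (ψ₁ (HomogeneousLocalization.Away.mk (Rees.deg (reesAlgebra I)) (gen_mem A I a ha) n r hr) -
       ψ₂ (HomogeneousLocalization.Away.mk (Rees.deg (reesAlgebra I)) (gen_mem A I a ha) n r hr))
      = 0 := by
    rw [mul_sub, e1, e2, sub_self]
  exact sub_eq_zero.mp ((mul_left_mem_nonZeroDivisors_eq_zero_iff hn).mp h0)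

end Groth.Agent.H86.RP_U1
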