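import Mathlib
import Groth.Prelude.Def_NonAbH2
import Groth.Prelude.Def_Red2
import Groth.Prelude.Def_TwC
import Groth.Agent.H43.GaGmFn
import Groth.Agent.H91.GaDict
import Groth.Agent.H91.GaPt
import Groth.Agent.H40.ConstSmall

/-!
# Artin–Schreier: solutions of `z^p = z` come from the constant group `(ℤ/p)_S` (helper86, piece (KE) for S6008)
-/

set_option autoImplicit false
set_option linter.style.haveILetI false
universe u
open CategoryTheory CategoryTheory.Limits MonoidalCategory CartesianMonoidalCategory MonObj GrpObj AlgebraicGeometry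

namespace Groth.Agent.H86.AS_KE

section Algebra

open Polynomial

/-- the ring map `ℤ/p → R` when `p = 0` in `R`. -/
noncomputable def cHom (p : ℕ) (R : Type*) [CommRing R] (h : (p : R) = 0) : ZMod p →+* R :=
  (Ideal.Quotient.lift (Ideal.span {(p : ℤ)}) (Int.castRingHom R) (by
      intro a ha
      rw [Ideal.mem_span_singleton] at ha
      obtain ⟨b, rfl⟩ := ha
      rw [map_mul, eq_intCast, Int.cast_natCast, h, zero_mul])).comp
    (Int.quotientSpanNatEquivZMod p).symm.toRingHom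

theorem cHom_apply (p : ℕ) [NeZero p] (R : Type*) [CommRing R] (h : (p : R) = 0) (m : ZMod p) :
    cHom p R h m = ((m.val : ℕ) : R) := by
  conv_lhs => rw [← ZMod.natCast_zmod_val m]
  exact map_natCast (cHom p R h) _

theorem prod_X_sub_C_zmod (p : ℕ) [Fact p.Prime] :
    (∏ n : ZMod p, (X - C n) : (ZMod p)[X]) = X ^ p - X := by
  have hp1 : 1 < p := (Fact.out : p.Prime).one_lt
  have hmonic : (X ^ p - X : (ZMod p)[X]).Monic :=
    monic_X_pow_sub (by rw [degree_X]; exact_mod_cast hp1)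
  have hroots : (X ^ p - X : (ZMod p)[X]).roots = Finset.univ.val := by
    have := FiniteField.roots_X_pow_card_sub_X (ZMod p)
    rwa [ZMod.card] at this
  have hcard : Multiset.card (X ^ p - X : (ZMod p)[X]).roots =
      (X ^ p - X : (ZMod p)[X]).natDegree := by
    rw [hroots, FiniteField.X_pow_card_sub_X_natDegree_eq (ZMod p) hp1]
    show Finset.card (Finset.univ : Finset (ZMod p)) = p
    rw [Finset.card_univ, ZMod.card]
  have := prod_multiset_X_sub_C_of_monic_of_roots_card_eq hmonic hcard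
  rw [hroots] at this
  exact this

theorem prod_sub_eq (p : ℕ) [Fact p.Prime] {R : Type*} [CommRing R] (c : ZMod p →+* R) (z : R) :
    ∏ n : ZMod p, (z - c n) = z ^ p - z := by
  have h2 : (∏ n : ZMod p, (X - C n) : (ZMod p)[X]).eval₂ c z = (X ^ p - X : (ZMod p)[X]).eval₂ c z :=
    congrArg _ (prod_X_sub_C_zmod p)
  rw [eval₂_finset_prod] at h2
  simp only [eval₂_sub, eval₂_X, eval₂_C, eval₂_pow] at h2
  exact h2

theorem isUnit_sub (p : ℕ) [Fact p.Prime] {R : Type*} [CommRing R] (c : ZMod p →+* R)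
    {m n : ZMod p} (h : m ≠ n) : IsUnit (c m - c n) := by
  rw [← map_sub]
  exact (isUnit_iff_ne_zero.mpr (sub_ne_zero.mpr h)).map c

end Algebra

section Geometry

theorem isUnit_appTop_of_le {X : Scheme.{u}} (V : X.Opens) (f : Γ(X, ⊤)) (h : V ≤ X.basicOpen f) :
    IsUnit (V.ι.appTop f) := by
  refine (V : Scheme.{u}).toLocallyRingedSpace.toRingedSpace.isUnit_of_isUnit_germ ⊤
    (V.ι.appTop f) (fun y _ => ?_)
  have hy1 : V.ι.base y ∈ (V : Set X) := by
    rw [← Scheme.Opens.range_ι]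
    exact ⟨y, rfl⟩
  have hy' : y ∈ (V : Scheme.{u}).basicOpen (V.ι.appTop f) := by
    rw [← Scheme.preimage_basicOpen_top]
    exact h hy1
  exact ((V : Scheme.{u}).mem_basicOpen_top _ y).mp hy'

variable {X : Scheme.{u}} {I : Type} [Fintype I] [DecidableEq I] (a : I → Γ(X, ⊤))

/-- not all of the `a n` can be units at a point when their product vanishes. -/
theorem not_forall_mem (hprod : ∏ n, a n = 0) (t : X) : ¬ ∀ n, t ∈ X.basicOpen (a n) := by
  intro h
  have h1 : ∀ n, IsUnit ((X.presheaf.germ ⊤ t trivial).hom (a n)) :=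
    fun n => (X.mem_basicOpen_top (a n) t).mp (h n)
  have h2 : IsUnit (∏ n, (X.presheaf.germ ⊤ t trivial).hom (a n)) :=
    Finset.prod_induction _ IsUnit (fun _ _ => IsUnit.mul) isUnit_one (fun n _ => h1 n)
  rw [← map_prod, hprod, map_zero] at h2
  exact not_isUnit_zero h2

/-- the open where all `a n`, `n ≠ m`, are invertible. -/
def Um (m : I) : X.Opens :=
  ⟨⋂ n ∈ {n : I | n ≠ m}, (X.basicOpen (a n) : Set X),
    (Set.toFinite {n : I | n ≠ m}).isOpen_biInter (fun n _ => (X.basicOpen (a n)).2)⟩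

theorem mem_Um {m : I} {t : X} : t ∈ Um a m ↔ ∀ n, n ≠ m → t ∈ X.basicOpen (a n) := by
  show t ∈ ⋂ n ∈ {n : I | n ≠ m}, (X.basicOpen (a n) : Set X) ↔ _
  simp only [Set.mem_iInter, Set.mem_setOf_eq]
  rfl

theorem Um_le {m n : I} (h : n ≠ m) : Um a m ≤ X.basicOpen (a n) :=
  fun _ ht => (mem_Um a).mp ht n h

theorem Um_disjoint (hprod : ∏ n, a n = 0) {m m' : I} (h : m ≠ m') (t : X)
    (h1 : t ∈ Um a m) (h2 : t ∈ Um a m') : False := by
  refine not_forall_mem a hprod t (fun n => ?_)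
  by_cases hn : n = m
  · subst hn
    exact (mem_Um a).mp h2 n h
  · exact (mem_Um a).mp h1 n hn

theorem Um_cover (hprod : ∏ n, a n = 0) (hunit : ∀ m n, m ≠ n → IsUnit (a m - a n)) :
    TopologicalSpace.IsOpenCover (Um a) := by
  refine eq_top_iff.mpr (fun t _ => ?_)
  rw [TopologicalSpace.Opens.mem_iSup]
  have h0 := not_forall_mem a hprod t
  push_neg at h0
  obtain ⟨m, hm⟩ := h0
  refine ⟨m, (mem_Um a).mpr (fun n hn => ?_)⟩
  by_contra hcon
  have e1 : ¬ IsUnit ((X.presheaf.germ ⊤ t trivial).hom (a m)) :=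
    fun h => hm ((X.mem_basicOpen_top (a m) t).mpr h)
  have e2 : ¬ IsUnit ((X.presheaf.germ ⊤ t trivial).hom (a n)) :=
    fun h => hcon ((X.mem_basicOpen_top (a n) t).mpr h)
  have e3 : IsUnit ((X.presheaf.germ ⊤ t trivial).hom (a m - a n)) :=
    (hunit m n (Ne.symm hn)).map _
  rw [map_sub, sub_eq_add_neg] at e3
  have e4 : -((X.presheaf.germ ⊤ t trivial).hom (a n)) ∈ nonunits _ := by
    show ¬ IsUnit _
    rwa [IsUnit.neg_iff]
  exact IsLocalRing.nonunits_add (show _ ∈ nonunits _ from e1) e4 e3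

/-- on `Um a m` the section `a m` vanishes. -/
theorem appTop_eq_zero (hprod : ∏ n, a n = 0) (m : I) : (Um a m).ι.appTop (a m) = 0 := by
  have h1 : ∏ n, (Um a m).ι.appTop.hom (a n) = 0 := by
    rw [← map_prod, hprod, map_zero]
  rw [← Finset.mul_prod_erase Finset.univ _ (Finset.mem_univ m)] at h1
  have h2 : IsUnit (∏ n ∈ Finset.univ.erase m, (Um a m).ι.appTop.hom (a n)) :=
    Finset.prod_induction _ IsUnit (fun _ _ => IsUnit.mul) isUnit_one (fun n hn =>
      isUnit_appTop_of_le (Um a m) (a n) (Um_le a (Finset.ne_of_mem_erase hn)))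
  exact (h2.mul_left_eq_zero).mp h1

end Geometry

section Main

variable {S : Scheme.{u}}

/-- the open subscheme `V` of `T` as an object over `S`. -/
noncomputable abbrev sub (T : Over S) (V : T.left.Opens) : Over S := Over.mk (V.ι ≫ T.hom)

/-- its inclusion. -/
noncomputable abbrev subι (T : Over S) (V : T.left.Opens) : sub T V ⟶ T := Over.homMk V.ι rfl

set_option linter.dupNamespace false in
theorem AS_KE (p : ℕ) [Fact p.Prime] {S : Scheme.{u}} (hp : (p : Γ(S, ⊤)) = 0)
    (j : TwC.const S (Multiplicative (ZMod p)) ⟶ Red.Ga S)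
    (hj : ∀ m : ZMod p, Red.gaFn (TwC.pt S (Multiplicative (ZMod p)) (Multiplicative.ofAdd m) ≫ j) =
      ((m.val : ℕ) : Γ((𝟙_ (Over S)).left, ⊤)))
    (T : Over S) (x : T ⟶ Red.Ga S) (hx : Red.gaFn x ^ p = Red.gaFn x) :
    ∃ g : T ⟶ TwC.const S (Multiplicative (ZMod p)), g ≫ j = x := by
  classical
  haveI : NeZero p := ⟨(Fact.out : p.Prime).ne_zero⟩
  have hpR : (p : Γ(T.left, ⊤)) = 0 := by
    have := congrArg T.hom.appTop.hom hp
    rwa [map_natCast, map_zero] at this
  obtain ⟨c, hc⟩ : ∃ c : ZMod p →+* Γ(T.left, ⊤), c = cHom p Γ(T.left, ⊤) hpR := ⟨_, rfl⟩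
  have hcv : ∀ m : ZMod p, c m = ((m.val : ℕ) : Γ(T.left, ⊤)) := fun m => by
    rw [hc]; exact cHom_apply p _ hpR m
  obtain ⟨z, hz⟩ : ∃ z : Γ(T.left, ⊤), z = Red.gaFn x := ⟨_, rfl⟩
  let a : ZMod p → Γ(T.left, ⊤) := fun n => z - c n
  have hprod : ∏ n, a n = 0 := by
    rw [prod_sub_eq p c z, hz, hx, sub_self]
  have hunit : ∀ m n, m ≠ n → IsUnit (a m - a n) := by
    intro m n hmn
    have : a m - a n = c n - c m := by simp only [a]; ring
    rw [this]
    exact isUnit_sub p c (Ne.symm hmn)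
  have hcov := Um_cover a hprod hunit
  let 𝒰 := T.left.openCoverOfIsOpenCover (Um a) hcov
  let f : ∀ m : ZMod p, (Um a m : Scheme.{u}) ⟶ (TwC.const S (Multiplicative (ZMod p))).left :=
    fun m => (Um a m).ι ≫ T.hom ≫
      Sigma.ι (fun _ : Multiplicative (ZMod p) => S) (Multiplicative.ofAdd m)
  have hf : ∀ m m' : ZMod p, pullback.fst (𝒰.f m) (𝒰.f m') ≫ f m = pullback.snd _ _ ≫ f m' := by
    intro m m'
    by_cases hmm : m = m'
    · subst hmm
      exact pullback.condition_assoc _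
    · haveI : IsEmpty ↥(pullback (𝒰.f m) (𝒰.f m')) := by
        refine ⟨fun w => Um_disjoint a hprod hmm ((pullback.fst (𝒰.f m) (𝒰.f m') ≫ 𝒰.f m).base w) ?_ ?_⟩
        · rw [Scheme.Hom.comp_base]
          show (Um a m).ι.base _ ∈ ((Um a m : T.left.Opens) : Set T.left)
          rw [← Scheme.Opens.range_ι]
          exact ⟨_, rfl⟩
        · rw [pullback.condition, Scheme.Hom.comp_base]
          show (Um a m').ι.base _ ∈ ((Um a m' : T.left.Opens) : Set T.left)
          rw [← Scheme.Opens.range_ι]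
          exact ⟨_, rfl⟩
      exact (isInitialOfIsEmpty (X := pullback (𝒰.f m) (𝒰.f m'))).hom_ext _ _
  obtain ⟨g₀, hg₀⟩ : ∃ g₀ : T.left ⟶ (TwC.const S (Multiplicative (ZMod p))).left,
      ∀ m, (Um a m).ι ≫ g₀ = f m :=
    ⟨𝒰.glueMorphisms f hf, fun m => 𝒰.ι_glueMorphisms f hf m⟩
  have hw : g₀ ≫ (TwC.const S (Multiplicative (ZMod p))).hom = T.hom := by
    refine 𝒰.hom_ext _ _ (fun (m : ZMod p) => ?_)
    show (Um a m).ι ≫ g₀ ≫ _ = (Um a m).ι ≫ T.hom
    rw [← Category.assoc, hg₀ m]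
    simp only [f, Category.assoc]
    show (Um a m).ι ≫ T.hom ≫ Sigma.ι (fun _ : Multiplicative (ZMod p) => S) (Multiplicative.ofAdd m) ≫
      Sigma.desc (fun _ : Multiplicative (ZMod p) => 𝟙 S) = _
    rw [Sigma.ι_desc, Category.comp_id]
  refine ⟨Over.homMk g₀ hw, ?_⟩
  apply Over.OverMorphism.ext
  refine 𝒰.hom_ext _ _ (fun (m : ZMod p) => ?_)
  have key : subι T (Um a m) ≫ (Over.homMk g₀ hw ≫ j) = subι T (Um a m) ≫ x := by
    apply Groth.Agent.H91.GaDict.gaFn_injective
    have e1 : subι T (Um a m) ≫ Over.homMk g₀ hw =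
        toUnit (sub T (Um a m)) ≫ TwC.pt S (Multiplicative (ZMod p)) (Multiplicative.ofAdd m) := by
      apply Over.OverMorphism.ext
      show (Um a m).ι ≫ g₀ = ((Um a m).ι ≫ T.hom) ≫
        Sigma.ι (fun _ : Multiplicative (ZMod p) => S) (Multiplicative.ofAdd m)
      rw [hg₀ m, Category.assoc]
    have eL : Red.gaFn (subι T (Um a m) ≫ (Over.homMk g₀ hw ≫ j)) =
        ((m.val : ℕ) : Γ((sub T (Um a m)).left, ⊤)) := by
      rw [← Category.assoc, e1, Category.assoc]
      refine (Groth.Agent.H91.GaDict.gaFn_comp (toUnit (sub T (Um a m)))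
        (TwC.pt S (Multiplicative (ZMod p)) (Multiplicative.ofAdd m) ≫ j)).trans ?_
      rw [hj m, map_natCast]
    have eR : Red.gaFn (subι T (Um a m) ≫ x) = (Um a m).ι.appTop (Red.gaFn x) :=
      Groth.Agent.H91.GaDict.gaFn_comp (subι T (Um a m)) x
    have e2 : (Um a m).ι.appTop (z - c m) = 0 := appTop_eq_zero a hprod m
    rw [map_sub, sub_eq_zero, hcv m, map_natCast] at e2
    rw [eL, eR, ← hz]
    exact e2.symm
  exact congrArg (fun φ => φ.left) key

end Main

end Groth.Agent.H86.AS_KE
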