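import Mathlib
import Groth.Agent.H17.NoethConstr

/-!
# (TOP) Noetherian criterion of local constructibility via generic points

Squad piece for helper57's S4832.
-/

set_option autoImplicit false
universe u
open AlgebraicGeometry CategoryTheory Limits TopologicalSpace Topology

namespace Groth.Agent.H86.TF_TOP

/-- topological core: in a Noetherian quasi-sober space, a set which near each point `t` contains
(resp. avoids) all nearby specialisations of `t` as soon as it contains (resp. avoids) `t` is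
constructible. -/
theorem isConstructible_of_forall_generic {X : Type u} [TopologicalSpace X] [NoetherianSpace X]
    [QuasiSober X] (E : Set X)
    (h1 : ∀ t ∈ E, ∃ U : Set X, IsOpen U ∧ t ∈ U ∧ ∀ s ∈ U, t ⤳ s → s ∈ E)
    (h2 : ∀ t ∉ E, ∃ U : Set X, IsOpen U ∧ t ∈ U ∧ ∀ s ∈ U, t ⤳ s → s ∉ E) :
    IsConstructible E := by
  apply Groth.Agent.H17.NoethConstr.isConstructible_of_forall_irreducible
  intro Y hY hirr
  obtain ⟨t, ht⟩ := QuasiSober.sober hirr hY
  have htY : t ∈ Y := ht.mem
  have hspec : ∀ y ∈ Y, t ⤳ y := fun y hy => by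
    rw [specializes_iff_mem_closure, ht.def]; exact hy
  by_cases htE : t ∈ E
  · right
    obtain ⟨U, hUo, htU, hU⟩ := h1 t htE
    exact ⟨U, hUo, ⟨t, htU, htY⟩, fun y hy => hU y hy.1 (hspec y hy.2)⟩
  · left
    obtain ⟨U, hUo, htU, hU⟩ := h2 t htE
    haveI : PreirreducibleSpace Y := Subtype.preirreducibleSpace hirr.isPreirreducible
    have hU'o : IsOpen (Subtype.val ⁻¹' U : Set Y) := hUo.preimage continuous_subtype_val
    have hU'ne : (Subtype.val ⁻¹' U : Set Y).Nonempty := ⟨⟨t, htY⟩, htU⟩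
    have hdense : Dense (Subtype.val ⁻¹' U : Set Y) := hU'o.dense hU'ne
    have hnd : IsNowhereDense ((Subtype.val ⁻¹' U : Set Y)ᶜ) := by
      rw [IsClosed.isNowhereDense_iff hU'o.isClosed_compl, interior_compl, hdense.closure_eq,
        Set.compl_univ]
    refine IsNowhereDense.mono ?_ hnd
    intro y hy hyU
    exact hU y.1 hyU (hspec y.1 y.2) hy

/-- (TOP) Noetherian criterion of local constructibility via generic points. -/
theorem isLocallyConstructible_of_forall_generic {S : Scheme.{u}} [IsLocallyNoetherian S]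
    (E : Set S)
    (h1 : ∀ t ∈ E, ∃ U : S.Opens, t ∈ U ∧ ∀ s ∈ U, t ⤳ s → s ∈ E)
    (h2 : ∀ t ∉ E, ∃ U : S.Opens, t ∈ U ∧ ∀ s ∈ U, t ⤳ s → s ∉ E) :
    Topology.IsLocallyConstructible E := by
  intro x
  obtain ⟨V, hV, hxV, -⟩ := exists_isAffineOpen_mem_and_subset (x := x) (U := ⊤) trivial
  haveI : IsNoetherianRing Γ(S, V) := IsLocallyNoetherian.component_noetherian ⟨V, hV⟩
  haveI : NoetherianSpace (V : Set S) := noetherianSpace_of_isAffineOpen V hV
  haveI : QuasiSober (V : Set S) := V.isOpenEmbedding'.quasiSober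
  refine ⟨(V : Set S), V.2.mem_nhds hxV, V.2, ?_⟩
  apply isConstructible_of_forall_generic
  · intro t ht
    obtain ⟨U, htU, hU⟩ := h1 t.1 ht
    exact ⟨Subtype.val ⁻¹' (U : Set S), U.2.preimage continuous_subtype_val, htU,
      fun s hs hts => hU s.1 hs ((subtype_specializes_iff t s).1 hts)⟩
  · intro t ht
    obtain ⟨U, htU, hU⟩ := h2 t.1 ht
    exact ⟨Subtype.val ⁻¹' (U : Set S), U.2.preimage continuous_subtype_val, htU,
      fun s hs hts => hU s.1 hs ((subtype_specializes_iff t s).1 hts)⟩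

end Groth.Agent.H86.TF_TOP
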