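import Mathlib
import Groth.Agent.H60.FibreDimBC
import Groth.Agent.H9.FibDimTarget

/-!
# (FB) for helper74's S14485: the dimension of fibres is invariant under base change
-/

set_option autoImplicit false
universe u
open CategoryTheory CategoryTheory.Limits AlgebraicGeometry

namespace Groth.Agent.H86.WK_FB

/-- The `pullback.snd` form. -/
theorem dim_fiber_snd {X Y Y' : Scheme.{u}} (f : X ⟶ Y) [LocallyOfFiniteType f] (g : Y' ⟶ Y)
    (y' : Y') :
    topologicalKrullDim ↥((pullback.snd f g).fiber y') =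
      topologicalKrullDim ↥(f.fiber (g.base y')) := by
  apply eq_of_forall_ge_iff
  intro c
  rw [Groth.Agent.H9.FibDim.dim_fiber_le_iff, Groth.Agent.H9.FibDim.dim_fiber_le_iff]
  constructor
  · intro h x hx
    obtain ⟨z, hz1, hz2⟩ := Scheme.Pullback.exists_preimage_pullback (f := f) (g := g) x y' hx
    have hz1' : (pullback.fst f g).base z = x := hz1
    have hz2' : (pullback.snd f g).base z = y' := hz2
    have h3 := h z hz2'
    rw [Groth.Agent.H60.FibreDimBC.fibreDimAt_baseChange, hz1'] at h3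
    exact h3
  · intro h z hz
    rw [Groth.Agent.H60.FibreDimBC.fibreDimAt_baseChange]
    apply h
    have h4 : (pullback.fst f g ≫ f) z = (pullback.snd f g ≫ g) z := by
      rw [pullback.condition]
    have h5 : f.base ((pullback.fst f g).base z) = g.base ((pullback.snd f g).base z) := h4
    rw [h5, hz]

theorem dim_fiber_of_isPullback {X Y X' Y' : Scheme.{u}} {f : X ⟶ Y} [LocallyOfFiniteType f]
    {g : Y' ⟶ Y} {g' : X' ⟶ X} {f' : X' ⟶ Y'} (sq : IsPullback g' f' f g) (y' : Y') :
    topologicalKrullDim ↥(f'.fiber y') = topologicalKrullDim ↥(f.fiber (g.base y')) := by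
  rw [← dim_fiber_snd f g y']
  have hsnd : sq.isoPullback.hom ≫ pullback.snd f g = f' := sq.isoPullback_hom_snd
  let h0 : ↥X' ≃ₜ ↥(pullback f g) := Scheme.homeoOfIso sq.isoPullback
  have hiff : ∀ x : ↥X', x ∈ (f' ⁻¹' {y'} : Set ↥X') ↔
      h0 x ∈ ((pullback.snd f g) ⁻¹' {y'} : Set ↥(pullback f g)) := by
    intro x
    show f' x = y' ↔ (pullback.snd f g) (sq.isoPullback.hom x) = y'
    rw [← Scheme.Hom.comp_apply, hsnd]
  let h1 : ↥(f' ⁻¹' {y'} : Set ↥X') ≃ₜ
      ↥((pullback.snd f g) ⁻¹' {y'} : Set ↥(pullback f g)) := h0.subtype hiff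
  let h2 := (f'.fiberHomeo y').trans (h1.trans ((pullback.snd f g).fiberHomeo y').symm)
  exact IsHomeomorph.topologicalKrullDim_eq _ h2.isHomeomorph

end Groth.Agent.H86.WK_FB
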