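import Mathlib
import Groth.Prelude.Def_Rees
import Groth.Prelude.Def_BlowUp2
import Groth.Prelude.Def_ega3
import Groth.Agent.H95.ReesProjDefs
import Groth.Agent.H86.RP_U1

/-!
# (ECA) for helper95's S16054: on the chart `D₊(aX)` of the Rees algebra the ideal `I` becomes
principal, generated by the nonzerodivisor `a`.
-/

set_option autoImplicit false
universe u
open CategoryTheory AlgebraicGeometry
open Groth.Agent.H95.ReesProj
open Groth.Agent.H86.RP_U1

namespace Groth.Agent.H86.RP_ECA

variable (A : Type u) [CommRing A] (I : Ideal A)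

theorem gen_mem' (b : A) (hb : b ∈ I) : gen A I b hb ∈ Rees.deg (reesAlgebra I) (1 • 1) := by
  rw [smul_eq_mul, mul_one]; exact gen_mem A I b hb

theorem toAway_eq_mul (a : A) (ha : a ∈ I) (b : A) (hb : b ∈ I) :
    toAway A I a ha b =
      toAway A I a ha a *
        HomogeneousLocalization.Away.mk (Rees.deg (reesAlgebra I)) (gen_mem A I a ha) 1
          (gen A I b hb) (gen_mem' A I b hb) := by
  have h := key A I a ha 1 (gen A I b hb) (gen_mem' A I b hb)
  have e : toAway A I a ha a ^ 1 = toAway A I a ha a := pow_one _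
  rw [e] at h
  rw [h]
  congr 1
  show b = (Polynomial.monomial 1 b).coeff 1
  rw [Polynomial.coeff_monomial, if_pos rfl]

theorem ECA (a : A) (ha : a ∈ I) :
    I.map (toAway A I a ha) = Ideal.span {toAway A I a ha a} ∧
      toAway A I a ha a ∈
        nonZeroDivisors (HomogeneousLocalization.Away (Rees.deg (reesAlgebra I)) (gen A I a ha)) := by
  refine ⟨le_antisymm ?_ ?_, ?_⟩
  · rw [Ideal.map_le_iff_le_comap]
    intro b hb
    rw [Ideal.mem_comap, toAway_eq_mul A I a ha b hb]
    exact Ideal.mul_mem_right _ _ (Ideal.subset_span (Set.mem_singleton _))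
  · rw [Ideal.span_le, Set.singleton_subset_iff]
    exact Ideal.mem_map_of_mem _ ha
  · suffices main : ∀ x : HomogeneousLocalization.Away (Rees.deg (reesAlgebra I)) (gen A I a ha),
        x * toAway A I a ha a = 0 → x = 0 from
      mem_nonZeroDivisors_iff.mpr ⟨fun x hx => main x ((mul_comm x (toAway A I a ha a)).trans hx), main⟩
    intro x hx
    obtain ⟨n, r, hr, rfl⟩ := HomogeneousLocalization.Away.mk_surjective
      (Rees.deg (reesAlgebra I)) (gen_mem A I a ha) x
    apply HomogeneousLocalization.val_injective
    rw [HomogeneousLocalization.val_zero, HomogeneousLocalization.Away.val_mk,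
      Localization.mk_eq_mk'_apply]
    have hx' := congrArg HomogeneousLocalization.val hx
    rw [HomogeneousLocalization.val_mul, HomogeneousLocalization.val_zero, val_toAway,
      HomogeneousLocalization.Away.val_mk, Localization.mk_eq_mk'_apply] at hx'
    -- multiply by the unit `(aX)^n`
    have h1 : algebraMap (reesAlgebra I) (Localization.Away (gen A I a ha)) (gen A I a ha ^ n) *
        IsLocalization.mk' (Localization.Away (gen A I a ha)) r
          (⟨gen A I a ha ^ n, by use n⟩ : Submonoid.powers (gen A I a ha)) =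
        algebraMap (reesAlgebra I) (Localization.Away (gen A I a ha)) r :=
      IsLocalization.mk'_spec' (Localization.Away (gen A I a ha)) r _
    have h2 : algebraMap (reesAlgebra I) (Localization.Away (gen A I a ha))
        (r * algebraMap A (reesAlgebra I) a) = 0 := by
      rw [map_mul, ← h1, mul_assoc, hx', mul_zero]
    obtain ⟨⟨_, k, rfl⟩, hk⟩ := (IsLocalization.map_eq_zero_iff
      (Submonoid.powers (gen A I a ha)) (Localization.Away (gen A I a ha)) _).mp h2
    -- coefficients
    have hr' := coe_eq_monomial A I n r hr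
    obtain ⟨ρ, hρ⟩ : ∃ ρ, ρ = (r : Polynomial A).coeff n := ⟨_, rfl⟩
    rw [← hρ] at hr'
    have hk' : (Polynomial.monomial 1 a) ^ k * (Polynomial.monomial n ρ * Polynomial.C a) = 0 := by
      have := congrArg (Subtype.val) hk
      rw [Subalgebra.coe_mul, Subalgebra.coe_mul, Subalgebra.coe_pow, Subalgebra.coe_algebraMap,
        ← Polynomial.C_eq_algebraMap, hr'] at this
      exact this
    rw [Polynomial.monomial_pow, Polynomial.monomial_mul_C, Polynomial.monomial_mul_monomial,
      Polynomial.monomial_eq_zero_iff] at hk'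
    rw [IsLocalization.mk'_eq_zero_iff]
    refine ⟨⟨gen A I a ha ^ (k + 1), k + 1, rfl⟩, ?_⟩
    apply Subtype.ext
    rw [Subalgebra.coe_mul, Subalgebra.coe_pow, hr']
    show Polynomial.monomial 1 a ^ (k + 1) * Polynomial.monomial n ρ = 0
    rw [Polynomial.monomial_pow, Polynomial.monomial_mul_monomial, Polynomial.monomial_eq_zero_iff]
    rw [← hk']
    ring

end Groth.Agent.H86.RP_ECA
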