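import Mathlib

/-!
# `Ext¹` from a projective presentation, as a length statement
-/

namespace Groth.Agent.H86.ExtPres

open CategoryTheory Abelian

universe u w

variable {A : Type u} [CommRing A] [HasExt.{w} (ModuleCat.{u} A)]
variable {K F M N : Type u} [AddCommGroup K] [AddCommGroup F] [AddCommGroup M] [AddCommGroup N]
  [Module A K] [Module A F] [Module A M] [Module A N]

theorem length_ext_one (f : K →ₗ[A] F) (g : F →ₗ[A] M) (hf : Function.Injective f)
    (hg : Function.Surjective g) (hfg : Function.Exact f g) [Module.Projective A F] :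
    Module.length A (Ext (ModuleCat.of A M) (ModuleCat.of A N) 1) =
      Module.length A ((K →ₗ[A] N) ⧸ LinearMap.range (LinearMap.lcomp A N f)) := by
  let S : ShortComplex (ModuleCat.{u} A) :=
    ShortComplex.mk (ModuleCat.ofHom f) (ModuleCat.ofHom g)
      (by ext x; exact hfg.apply_apply_eq_zero x)
  have hS : S.ShortExact := ModuleCat.shortComplex_shortExact S hfg hf hg
  haveI : Projective S.X₂ :=
    ModuleCat.projective_of_categoryTheory_projective (ModuleCat.of A F)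
  let Y : ModuleCat.{u} A := ModuleCat.of A N
  let D : Ext S.X₁ Y 0 →ₗ[A] Ext S.X₃ Y 1 :=
    Ext.bilinearCompOfLinear A S.X₃ S.X₁ Y 1 0 1 (add_zero 1) hS.extClass
  have hD : ∀ x, D x = hS.extClass.comp x (add_zero 1) := fun x => rfl
  let e₁ : (K →ₗ[A] N) ≃ₗ[A] Ext S.X₁ Y 0 :=
    (ModuleCat.homLinearEquiv (S := A) (M := S.X₁) (N := Y)).symm.trans
      (Ext.linearEquiv₀ (R := A) (X := S.X₁) (Y := Y)).symm
  have he₁ : ∀ φ, e₁ φ = Ext.mk₀ (ModuleCat.ofHom φ) := fun φ => rfl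
  let Θ : (K →ₗ[A] N) →ₗ[A] Ext S.X₃ Y 1 := D.comp e₁.toLinearMap
  have hΘ : ∀ φ, Θ φ = hS.extClass.comp (Ext.mk₀ (ModuleCat.ofHom φ)) (add_zero 1) :=
    fun φ => rfl
  have hΘsurj : Function.Surjective Θ := by
    intro x₃
    have h0 : (Ext.mk₀ S.g).comp x₃ (zero_add 1) = 0 := Ext.eq_zero_of_projective _
    obtain ⟨x₁, hx₁⟩ := Ext.contravariant_sequence_exact₃ hS Y x₃ h0 (add_zero 1)
    refine ⟨e₁.symm x₁, ?_⟩
    show D (e₁ (e₁.symm x₁)) = x₃
    rw [LinearEquiv.apply_symm_apply, hD]; exact hx₁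
  have hker : LinearMap.ker Θ = LinearMap.range (LinearMap.lcomp A N f) := by
    ext φ
    rw [LinearMap.mem_ker, LinearMap.mem_range, hΘ]
    constructor
    · intro h
      obtain ⟨x₂, hx₂⟩ := Ext.contravariant_sequence_exact₁ hS Y _ (add_zero 1) h
      obtain ⟨ψ', rfl⟩ := (Ext.mk₀_bijective S.X₂ Y).2 x₂
      rw [Ext.mk₀_comp_mk₀] at hx₂
      have h2 := (Ext.mk₀_bijective S.X₁ Y).1 hx₂
      exact ⟨ψ'.hom, congrArg ModuleCat.Hom.hom h2⟩
    · rintro ⟨ψ, rfl⟩
      have h1 : ModuleCat.ofHom (LinearMap.lcomp A N f ψ) = S.f ≫ ModuleCat.ofHom ψ := rfl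
      rw [h1, ← Ext.mk₀_comp_mk₀]
      exact hS.extClass_comp_assoc _
  have e := LinearMap.quotKerEquivOfSurjective Θ hΘsurj
  rw [← e.length_eq]
  exact (Submodule.quotEquivOfEq _ _ hker).length_eq

theorem length_ext_one' (f : K →ₗ[A] F) (g : F →ₗ[A] M) (hf : Function.Injective f)
    (hg : Function.Surjective g) (hfg : Function.Exact f g) [Module.Projective A F]
    {Q : Type u} [AddCommGroup Q] [Module A Q] (Θ' : (K →ₗ[A] N) →ₗ[A] Q)
    (hsurj : Function.Surjective Θ')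
    (hker : ∀ φ : K →ₗ[A] N, Θ' φ = 0 ↔ ∃ ψ : F →ₗ[A] N, ψ.comp f = φ) :
    Module.length A (Ext (ModuleCat.of A M) (ModuleCat.of A N) 1) = Module.length A Q := by
  rw [length_ext_one f g hf hg hfg]
  have hk : LinearMap.ker Θ' = LinearMap.range (LinearMap.lcomp A N f) := by
    ext φ
    rw [LinearMap.mem_ker, hker, LinearMap.mem_range]
    rfl
  rw [← (LinearMap.quotKerEquivOfSurjective Θ' hsurj).length_eq]
  exact (Submodule.quotEquivOfEq _ _ hk).symm.length_eq

end Groth.Agent.H86.ExtPres
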