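import Mathlib

/-!
# Length over a `k`-algebra with residue field `k` equals `k`-dimension
-/

namespace Groth.Agent.H86.LenDim

universe v

variable {k : Type*} [Field k] {A : Type*} [CommRing A] [Algebra k A]

theorem finrank_le_length (𝔪 : Ideal A) (h𝔪 : ∀ a : A, ∃ c : k, a - algebraMap k A c ∈ 𝔪) :
    ∀ (d : ℕ) (Q : Type v) [AddCommGroup Q] [Module A Q] [Module k Q] [IsScalarTower k A Q]
      [Module.Finite k Q], (∃ n : ℕ, ∀ a ∈ 𝔪 ^ n, ∀ q : Q, a • q = 0) → Module.finrank k Q = d →
      (d : ℕ∞) ≤ Module.length A Q := by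
  intro d
  induction d using Nat.strong_induction_on with
  | _ d ih =>
    intro Q _ _ _ _ _ hnil hd
    rcases Nat.eq_zero_or_pos d with rfl | hdpos
    · simp
    haveI : Nontrivial Q := Module.nontrivial_of_finrank_pos (R := k) (by omega)
    obtain ⟨z, hz0, hz⟩ : ∃ z : Q, z ≠ 0 ∧ ∀ a ∈ 𝔪, a • z = 0 := by
      classical
      have hn0 : Nat.find hnil ≠ 0 := by
        intro h0
        have hsp := Nat.find_spec hnil
        rw [h0, pow_zero] at hsp
        obtain ⟨q, hq⟩ := exists_ne (0 : Q)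
        have := hsp 1 (by simp) q
        rw [one_smul] at this
        exact hq this
      obtain ⟨n', hn'⟩ := Nat.exists_eq_succ_of_ne_zero hn0
      have hmin := Nat.find_min hnil (m := n') (by omega)
      push_neg at hmin
      obtain ⟨b, hb, q, hbq⟩ := hmin
      refine ⟨b • q, hbq, fun a ha => ?_⟩
      rw [smul_smul]
      have hspec := Nat.find_spec hnil
      rw [hn', pow_succ] at hspec
      exact hspec (a * b) (by rw [mul_comm a b]; exact Ideal.mul_mem_mul hb ha) q
    let L : Submodule A Q := Submodule.span A {z}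
    have hzL : z ∈ L := Submodule.mem_span_singleton_self z
    have hL : ∀ w ∈ L, ∃ c : k, c • z = w := by
      intro w hw
      obtain ⟨a, rfl⟩ := Submodule.mem_span_singleton.mp hw
      obtain ⟨c, hc⟩ := h𝔪 a
      refine ⟨c, ?_⟩
      have := hz _ hc
      rw [sub_smul, sub_eq_zero, algebraMap_smul] at this
      exact this.symm
    have hadd := Module.length_eq_add_of_exact L.subtype L.mkQ (Submodule.injective_subtype L)
      (Submodule.mkQ_surjective L) (LinearMap.exact_subtype_mkQ L)
    haveI : Nontrivial L := ⟨⟨⟨z, hzL⟩, 0, fun h => hz0 (congrArg Subtype.val h)⟩⟩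
    have hL1 : (1 : ℕ∞) ≤ Module.length A L := Order.one_le_iff_pos.mpr Module.length_pos
    let π : Q →ₗ[k] (Q ⧸ L) := L.mkQ.restrictScalars k
    have hπsurj : Function.Surjective π := Submodule.mkQ_surjective L
    haveI : Module.Finite k (Q ⧸ L) := Module.Finite.of_surjective π hπsurj
    have hrn := LinearMap.finrank_range_add_finrank_ker π
    have hrange : Module.finrank k (LinearMap.range π) = Module.finrank k (Q ⧸ L) := by
      rw [LinearMap.range_eq_top.mpr hπsurj, finrank_top]
    have hzker : z ∈ LinearMap.ker π := by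
      rw [LinearMap.mem_ker]; exact (Submodule.Quotient.mk_eq_zero L).mpr hzL
    have hkerle : Module.finrank k (LinearMap.ker π) ≤ 1 := by
      refine finrank_le_one (⟨z, hzker⟩ : LinearMap.ker π) (fun w => ?_)
      have hwL : (w : Q) ∈ L := (Submodule.Quotient.mk_eq_zero L).mp (LinearMap.mem_ker.mp w.2)
      obtain ⟨c, hc⟩ := hL _ hwL
      exact ⟨c, Subtype.ext hc⟩
    have hkerpos : 0 < Module.finrank k (LinearMap.ker π) := by
      haveI : Nontrivial (LinearMap.ker π) :=
        ⟨⟨⟨z, hzker⟩, 0, fun h => hz0 (congrArg Subtype.val h)⟩⟩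
      exact Module.finrank_pos
    have hd' : Module.finrank k (Q ⧸ L) < d := by omega
    have hnilQ : ∃ n : ℕ, ∀ a ∈ 𝔪 ^ n, ∀ q : Q ⧸ L, a • q = 0 := by
      obtain ⟨n, hn⟩ := hnil
      refine ⟨n, fun a ha q => ?_⟩
      obtain ⟨q, rfl⟩ := Submodule.mkQ_surjective L q
      rw [← map_smul, hn a ha q, map_zero]
    have hIH := ih _ hd' (Q ⧸ L) hnilQ rfl
    have hle : d ≤ 1 + Module.finrank k (Q ⧸ L) := by omega
    calc (d : ℕ∞) ≤ ((1 + Module.finrank k (Q ⧸ L) : ℕ) : ℕ∞) := by exact_mod_cast hle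
      _ = 1 + (Module.finrank k (Q ⧸ L) : ℕ∞) := by push_cast; rfl
      _ ≤ Module.length A L + Module.length A (Q ⧸ L) := add_le_add hL1 hIH
      _ = Module.length A Q := hadd.symm

theorem length_eq_finrank (𝔪 : Ideal A) (h𝔪 : ∀ a : A, ∃ c : k, a - algebraMap k A c ∈ 𝔪)
    (Q : Type v) [AddCommGroup Q] [Module A Q] [Module k Q] [IsScalarTower k A Q]
    [Module.Finite k Q] (hnil : ∃ n : ℕ, ∀ a ∈ 𝔪 ^ n, ∀ q : Q, a • q = 0) :
    Module.length A Q = (Module.finrank k Q : ℕ∞) := by
  apply le_antisymm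
  · have h1 := Submodule.length_le_length_restrictScalars k (⊤ : Submodule A Q)
    rw [(Submodule.topEquiv (R := A) (M := Q)).length_eq] at h1
    refine h1.trans ?_
    rw [Submodule.restrictScalars_top, (Submodule.topEquiv (R := k) (M := Q)).length_eq,
      Module.length_eq_finrank]
  · exact finrank_le_length 𝔪 h𝔪 _ Q hnil rfl

end Groth.Agent.H86.LenDim
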