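import Mathlib
import Groth.Agent.H86.LenDim

/-!
# Monomial calculus in `k⟦X⟧` and lengths of monomial subquotients
-/

namespace Groth.Agent.H86.MonoPS

open PowerSeries

universe u

variable {k : Type u} [Field k]

/-- power series supported in `S` -/
def E (S : Set ℕ) : Set (PowerSeries k) := {f | ∀ n, coeff n f ≠ 0 → n ∈ S}

lemma mem_E {S : Set ℕ} {f : PowerSeries k} : f ∈ E S ↔ ∀ n, coeff n f ≠ 0 → n ∈ S := Iff.rfl

lemma E_mono {S T : Set ℕ} (h : ∀ n, n ∈ S → n ∈ T) {f : PowerSeries k} (hf : f ∈ E S) :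
    f ∈ E T := fun n hn => h n (hf n hn)

lemma zero_mem_E (S : Set ℕ) : (0 : PowerSeries k) ∈ E S :=
  fun n hn => absurd (map_zero _) hn

lemma add_mem_E {S : Set ℕ} {f g : PowerSeries k} (hf : f ∈ E S) (hg : g ∈ E S) :
    f + g ∈ E S := by
  intro n hn
  rw [map_add] at hn
  by_contra hnS
  have h1 : coeff n f = 0 := by by_contra h; exact hnS (hf n h)
  have h2 : coeff n g = 0 := by by_contra h; exact hnS (hg n h)
  exact hn (by rw [h1, h2, add_zero])

lemma neg_mem_E {S : Set ℕ} {f : PowerSeries k} (hf : f ∈ E S) : -f ∈ E S := by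
  intro n hn
  rw [map_neg, neg_ne_zero] at hn
  exact hf n hn

lemma sub_mem_E {S : Set ℕ} {f g : PowerSeries k} (hf : f ∈ E S) (hg : g ∈ E S) :
    f - g ∈ E S := by
  rw [sub_eq_add_neg]; exact add_mem_E hf (neg_mem_E hg)

lemma X_pow_mem_E {S : Set ℕ} {s : ℕ} : (X : PowerSeries k) ^ s ∈ E S ↔ s ∈ S := by
  constructor
  · intro h; exact h s (by rw [coeff_X_pow_self]; exact one_ne_zero)
  · intro hs n hn
    rw [coeff_X_pow] at hn
    split_ifs at hn with h
    · exact h ▸ hs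
    · exact absurd rfl hn

lemma one_mem_E {S : Set ℕ} : (1 : PowerSeries k) ∈ E S ↔ 0 ∈ S := by
  rw [← pow_zero (X : PowerSeries k)]; exact X_pow_mem_E

lemma mul_mem_E {S T U : Set ℕ} {f g : PowerSeries k} (hf : f ∈ E S) (hg : g ∈ E T)
    (h : ∀ a ∈ S, ∀ b ∈ T, a + b ∈ U) : f * g ∈ E U := by
  intro n hn
  rw [coeff_mul] at hn
  obtain ⟨⟨i, j⟩, hij, hne⟩ := Finset.exists_ne_zero_of_sum_ne_zero hn
  have hi : coeff i f ≠ 0 := left_ne_zero_of_mul hne
  have hj : coeff j g ≠ 0 := right_ne_zero_of_mul hne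
  have hij' : i + j = n := Finset.HasAntidiagonal.mem_antidiagonal.mp hij
  have := h i (hf i hi) j (hg j hj)
  rwa [hij'] at this

lemma mem_E_colon {S T : Set ℕ} {f : PowerSeries k} (h : ∀ s ∈ S, f * X ^ s ∈ E T) :
    f ∈ E {a | ∀ s ∈ S, a + s ∈ T} := by
  intro a ha s hs
  exact h s hs (a + s) (by rw [coeff_mul_X_pow]; exact ha)

lemma exists_eq_X_pow_mul {T : Set ℕ} {m : ℕ} {g : PowerSeries k}
    (hg : g ∈ E {n | m ≤ n ∧ n - m ∈ T}) : ∃ ν ∈ E T, g = X ^ m * ν := by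
  have hdvd : (X : PowerSeries k) ^ m ∣ g := by
    rw [X_pow_dvd_iff]
    intro i hi
    by_contra h
    have := (hg i h).1
    omega
  obtain ⟨ν, rfl⟩ := hdvd
  refine ⟨ν, fun n hn => ?_, rfl⟩
  have := hg (n + m) (by rw [coeff_X_pow_mul]; exact hn)
  simpa using this.2

lemma X_pow_mul_mem_E {T : Set ℕ} {m : ℕ} {ν : PowerSeries k} (hν : ν ∈ E T) :
    X ^ m * ν ∈ E {n | m ≤ n ∧ n - m ∈ T} := by
  refine mul_mem_E (S := {m}) (X_pow_mem_E.mpr rfl) hν ?_
  rintro a rfl b hb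
  exact ⟨Nat.le_add_right _ _, by simpa using hb⟩

lemma exists_split {S T : Set ℕ} {c : ℕ} {f : PowerSeries k}
    (hf : f ∈ E {n | n ∈ S ∨ (c ≤ n ∧ n - c ∈ T)}) :
    ∃ f₁ ∈ E S, ∃ f₂ ∈ E T, f = f₁ + X ^ c * f₂ := by
  classical
  let f₁ : PowerSeries k := PowerSeries.mk fun n => if n ∈ S then coeff n f else 0
  have hf₁ : f₁ ∈ E S := by
    intro n hn
    rw [coeff_mk] at hn
    by_contra h
    exact hn (if_neg h)
  have hr : f - f₁ ∈ E {n | c ≤ n ∧ n - c ∈ T} := by
    intro n hn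
    rw [map_sub, coeff_mk] at hn
    by_cases hS : n ∈ S
    · rw [if_pos hS, sub_self] at hn; exact absurd rfl hn
    · rw [if_neg hS, sub_zero] at hn
      exact (hf n hn).resolve_left hS
  obtain ⟨f₂, hf₂, h⟩ := exists_eq_X_pow_mul hr
  exact ⟨f₁, hf₁, f₂, hf₂, by rw [← h]; ring⟩

section Subalg

variable {R : Type u} [CommRing R] [Algebra k R] [Module R (PowerSeries k)]
  [IsScalarTower k R (PowerSeries k)]
  (ι : R →ₐ[k] PowerSeries k) (hι : ∀ (r : R) (f : PowerSeries k), r • f = ι r * f)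

/-- The augmentation ideal of `R`. -/
noncomputable def aug : Ideal R := RingHom.ker ((constantCoeff (R := k)).comp ι.toRingHom)

lemma mem_aug {a : R} : a ∈ aug ι ↔ constantCoeff (ι a) = 0 := by
  rw [aug, RingHom.mem_ker]; rfl

lemma aug_spec (a : R) : ∃ c : k, a - algebraMap k R c ∈ aug ι := by
  refine ⟨constantCoeff (ι a), ?_⟩
  rw [mem_aug, map_sub, AlgHom.commutes, map_sub]
  simp

lemma aug_pow_dvd (e : ℕ) : ∀ a ∈ (aug ι) ^ e, (X : PowerSeries k) ^ e ∣ ι a := by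
  induction e with
  | zero => intro a _; rw [pow_zero]; exact one_dvd _
  | succ e ih =>
    intro a ha
    rw [pow_succ] at ha
    refine Submodule.mul_induction_on ha ?_ ?_
    · intro r hr s hs
      have h1 := ih r hr
      have h2 : (X : PowerSeries k) ∣ ι s := X_dvd_iff.mpr ((mem_aug ι).mp hs)
      rw [pow_succ, map_mul]
      exact mul_dvd_mul h1 h2
    · intro x y hx hy
      rw [map_add]
      exact dvd_add hx hy

include hι in
theorem length_quot {H W : Submodule R (PowerSeries k)} {SH SW : Set ℕ}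
    (hH : ∀ f, f ∈ H ↔ f ∈ E SH) (hW : ∀ f, f ∈ W ↔ f ∈ E SW)
    (D : Finset ℕ) (hD : ∀ n, n ∈ D ↔ n ∈ SH ∧ n ∉ SW)
    (e : ℕ) (he : ∀ n, e ≤ n → n ∈ SW) :
    Module.length R (↥H ⧸ W.submoduleOf H) = D.card := by
  classical
  -- the coefficient map
  let cD : ↥H →ₗ[k] (D → k) :=
    { toFun := fun f d => coeff (d : ℕ) (f : PowerSeries k)
      map_add' := fun f g => by ext d; simp
      map_smul' := fun c f => by ext d; simp }
  have hcD : ∀ (f : ↥H) (d : D), cD f d = coeff (d : ℕ) (f : PowerSeries k) := fun f d => rfl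
  let π' : ↥H →ₗ[k] (↥H ⧸ W.submoduleOf H) := (W.submoduleOf H).mkQ.restrictScalars k
  have hπ'surj : Function.Surjective π' := by
    intro q
    obtain ⟨f, hf⟩ := Submodule.mkQ_surjective (W.submoduleOf H) q
    exact ⟨f, hf⟩
  have hcDsurj : Function.Surjective cD := by
    intro v
    have hf : ∑ d : D, v d • (X : PowerSeries k) ^ (d : ℕ) ∈ H :=
      Submodule.sum_mem _ (fun d _ => H.smul_of_tower_mem (v d)
        ((hH _).mpr (X_pow_mem_E.mpr ((hD _).mp d.2).1)))
    refine ⟨⟨_, hf⟩, ?_⟩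
    ext d'
    rw [hcD]
    show coeff (d' : ℕ) (∑ d : D, v d • (X : PowerSeries k) ^ (d : ℕ)) = v d'
    rw [map_sum, Finset.sum_eq_single d']
    · rw [map_smul, coeff_X_pow_self, smul_eq_mul, mul_one]
    · intro d _ hne
      rw [map_smul, coeff_X_pow, if_neg (fun h => hne (Subtype.ext h.symm)), smul_zero]
    · intro h; exact absurd (Finset.mem_univ _) h
  have hker : LinearMap.ker π' = LinearMap.ker cD := by
    ext f
    rw [LinearMap.mem_ker, LinearMap.mem_ker]
    have h1 : π' f = 0 ↔ (f : PowerSeries k) ∈ W := by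
      show (W.submoduleOf H).mkQ f = 0 ↔ _
      rw [Submodule.mkQ_apply, Submodule.Quotient.mk_eq_zero]
      rfl
    rw [h1, hW]
    constructor
    · intro hf
      ext d
      rw [hcD]
      by_contra hne
      exact ((hD _).mp d.2).2 (hf _ hne)
    · intro hf n hn
      by_contra hnW
      have hnH : n ∈ SH := ((hH _).mp f.2) n hn
      have hnD : n ∈ D := (hD n).mpr ⟨hnH, hnW⟩
      have := congrFun hf ⟨n, hnD⟩
      rw [hcD] at this
      exact hn this
  let eQ : (↥H ⧸ W.submoduleOf H) ≃ₗ[k] (D → k) :=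
    ((LinearMap.quotKerEquivOfSurjective π' hπ'surj).symm.trans
      (Submodule.quotEquivOfEq _ _ hker)).trans (LinearMap.quotKerEquivOfSurjective cD hcDsurj)
  haveI : Module.Finite k (↥H ⧸ W.submoduleOf H) := Module.Finite.equiv eQ.symm
  have hfr : Module.finrank k (↥H ⧸ W.submoduleOf H) = D.card := by
    rw [eQ.finrank_eq, Module.finrank_fintype_fun_eq_card, Fintype.card_coe]
  have hnil : ∃ n : ℕ, ∀ a ∈ (aug ι) ^ n, ∀ q : ↥H ⧸ W.submoduleOf H, a • q = 0 := by
    refine ⟨e, fun a ha q => ?_⟩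
    obtain ⟨f, rfl⟩ := Submodule.mkQ_surjective _ q
    rw [← map_smul, Submodule.mkQ_apply, Submodule.Quotient.mk_eq_zero]
    show ((a • f : ↥H) : PowerSeries k) ∈ W
    rw [hW]
    obtain ⟨b, hb⟩ := aug_pow_dvd ι e a ha
    intro n hn
    apply he
    by_contra hlt
    push_neg at hlt
    apply hn
    have : ((a • f : ↥H) : PowerSeries k) = X ^ e * (b * (f : PowerSeries k)) := by
      rw [Submodule.coe_smul, hι, hb, mul_assoc]
    rw [this]
    have hdvd : (X : PowerSeries k) ^ e ∣ X ^ e * (b * (f : PowerSeries k)) := dvd_mul_right _ _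
    exact (X_pow_dvd_iff.mp hdvd) n hlt
  rw [LenDim.length_eq_finrank (k := k) (aug ι) (aug_spec ι) _ hnil, hfr]

end Subalg

end Groth.Agent.H86.MonoPS
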