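import Mathlib
import Groth.Agent.H86.MonoPS
import Groth.Agent.H86.ExtPres

/-!
# `Ext¹` between two-generated monomial modules over a monomial curve singularity
-/

namespace Groth.Agent.H86.TwoGen

open PowerSeries CategoryTheory MonoPS

universe u

variable {k : Type u} [Field k] {R : Type u} [CommRing R] [Algebra k R]
  [Module R (PowerSeries k)] [IsScalarTower k R (PowerSeries k)]

variable (k R) in
/-- the presentation `R² → span {1, X^c}` -/
noncomputable def g (c : ℕ) :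
    R × R →ₗ[R] ↥(Submodule.span R ({1, (X : PowerSeries k) ^ c} : Set (PowerSeries k))) :=
  (LinearMap.toSpanSingleton R _ ⟨1, Submodule.subset_span (Set.mem_insert _ _)⟩).coprod
    (LinearMap.toSpanSingleton R _
      ⟨X ^ c, Submodule.subset_span (Set.mem_insert_of_mem _ (Set.mem_singleton _))⟩)

variable (ι : R →ₐ[k] PowerSeries k) (hι : ∀ (r : R) (f : PowerSeries k), r • f = ι r * f)

include hι in
lemma g_coe (c : ℕ) (x : R × R) :
    ((g k R c x : ↥(Submodule.span R ({1, (X : PowerSeries k) ^ c} : Set (PowerSeries k)))) :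
      PowerSeries k) = ι x.1 + ι x.2 * X ^ c := by
  simp only [g, LinearMap.coprod_apply, LinearMap.toSpanSingleton_apply, Submodule.coe_add,
    Submodule.coe_smul, hι, mul_one]

include hι in
lemma g_surj (c : ℕ) : Function.Surjective (g k R c) := by
  rintro ⟨m, hm⟩
  obtain ⟨r, s, rfl⟩ := Submodule.mem_span_pair.mp hm
  refine ⟨(r, s), Subtype.ext ?_⟩
  rw [g_coe ι hι]
  show ι r + ι s * X ^ c = r • (1 : PowerSeries k) + s • (X : PowerSeries k) ^ c
  rw [hι, hι, mul_one]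

include hι in
lemma K_spec (c : ℕ) (κ : ↥(LinearMap.ker (g k R c))) :
    ι (κ : R × R).1 + ι (κ : R × R).2 * X ^ c = 0 := by
  have h := κ.2
  rw [LinearMap.mem_ker] at h
  have h2 := g_coe ι hι c (κ : R × R)
  rw [h, Submodule.coe_zero] at h2
  exact h2.symm

include hι in
/-- constructor for elements of the syzygy module -/
noncomputable def mkK (c : ℕ) (a b : R) (h : ι a + ι b * X ^ c = 0) : ↥(LinearMap.ker (g k R c)) :=
  ⟨(a, b), by
    rw [LinearMap.mem_ker]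
    exact Subtype.ext (by rw [g_coe ι hι, Submodule.coe_zero]; exact h)⟩

variable {N' : Type u} [AddCommGroup N'] [Module R N'] (jN : N' →ₗ[R] PowerSeries k)

include hι in
lemma cross (hinj : Function.Injective ι) (c : ℕ)
    (φ : ↥(LinearMap.ker (g k R c)) →ₗ[R] N') (κ κ' : ↥(LinearMap.ker (g k R c))) :
    ι (κ : R × R).2 * jN (φ κ') = ι (κ' : R × R).2 * jN (φ κ) := by
  have h : (κ : R × R).2 • κ' = (κ' : R × R).2 • κ := by
    apply Subtype.ext
    apply Prod.ext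
    · show (κ : R × R).2 * (κ' : R × R).1 = (κ' : R × R).2 * (κ : R × R).1
      apply hinj
      rw [map_mul, map_mul]
      have e1 : ι (κ : R × R).1 = -(ι (κ : R × R).2 * X ^ c) :=
        eq_neg_of_add_eq_zero_left (K_spec ι hι c κ)
      have e2 : ι (κ' : R × R).1 = -(ι (κ' : R × R).2 * X ^ c) :=
        eq_neg_of_add_eq_zero_left (K_spec ι hι c κ')
      rw [e1, e2]; ring
    · show (κ : R × R).2 * (κ' : R × R).2 = (κ' : R × R).2 * (κ : R × R).2
      exact mul_comm _ _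
  have h3 := congrArg (fun x => jN (φ x)) h
  simp only [map_smul, hι] at h3
  exact h3

include hι in
theorem length_ext_twoGen (hinj : Function.Injective ι)
    (c m₀ s₂ : ℕ) (r₀ r₁ r₂ r₃ : R)
    (hr₀ : ι r₀ = X ^ m₀) (hr₁ : ι r₁ = X ^ (m₀ + c))
    (hr₂ : ι r₂ = X ^ s₂) (hr₃ : ι r₃ = X ^ (s₂ + c))
    (SA SI SN SH : Set ℕ) (hA : ∀ f : PowerSeries k, f ∈ Set.range ι ↔ f ∈ E SA)
    (hjN : Function.Injective jN) (hN : ∀ f, f ∈ Set.range jN ↔ f ∈ E SN)
    (hI : ∀ s, s ∈ SA → s + c ∈ SA → s ∈ SI)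
    (h1 : ∀ s ∈ SI, ∀ a ∈ SH, m₀ ≤ s + a ∧ s + a - m₀ ∈ SN)
    (h2 : ∀ a, a ∈ SN → (m₀ ≤ a + s₂ ∧ a + s₂ - m₀ ∈ SN) → a ∈ SH)
    (D : Finset ℕ)
    (hD : ∀ n, n ∈ D ↔
      n ∈ SH ∧ ¬ (m₀ ≤ n ∧ (n - m₀ ∈ SN ∨ (c ≤ n - m₀ ∧ n - m₀ - c ∈ SN))))
    (e : ℕ) (he : ∀ n, e ≤ n → (m₀ ≤ n ∧ (n - m₀ ∈ SN ∨ (c ≤ n - m₀ ∧ n - m₀ - c ∈ SN)))) :
    Module.length R (Abelian.Ext
      (ModuleCat.of R ↥(Submodule.span R ({1, (X : PowerSeries k) ^ c} : Set (PowerSeries k))))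
      (ModuleCat.of R N') 1) = D.card := by
  classical
  have hX : (X : PowerSeries k) ^ m₀ ≠ 0 := pow_ne_zero _ X_ne_zero
  -- notation
  let K : Submodule R (R × R) := LinearMap.ker (g k R c)
  let P : Submodule R (↥K →ₗ[R] N') := LinearMap.range (LinearMap.lcomp R N' K.subtype)
  let κ₀ : ↥K := mkK ι hι c (-r₁) r₀ (by rw [map_neg, hr₁, hr₀, pow_add]; ring)
  let κ₂ : ↥K := mkK ι hι c (-r₃) r₂ (by rw [map_neg, hr₃, hr₂, pow_add]; ring)
  have hκ₀ : ((κ₀ : ↥K) : R × R) = (-r₁, r₀) := rfl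
  have hκ₀2 : ι ((κ₀ : ↥K) : R × R).2 = X ^ m₀ := hr₀
  have hκ₂2 : ι ((κ₂ : ↥K) : R × R).2 = X ^ s₂ := hr₂
  have hNmem : ∀ ν : N', jN ν ∈ E SN := fun ν => (hN _).mp ⟨ν, rfl⟩
  let Φ : (↥K →ₗ[R] N') →ₗ[R] PowerSeries k :=
    { toFun := fun φ => jN (φ κ₀)
      map_add' := fun φ ψ => by rw [LinearMap.add_apply, map_add]
      map_smul' := fun r φ => by rw [LinearMap.smul_apply, map_smul, RingHom.id_apply] }
  have hΦ : ∀ φ, Φ φ = jN (φ κ₀) := fun φ => rfl
  have hΦinj : Function.Injective Φ := by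
    intro φ ψ h
    apply LinearMap.ext; intro κ; apply hjN
    have e1 := cross ι hι jN hinj c φ κ₀ κ
    have e2 := cross ι hι jN hinj c ψ κ₀ κ
    rw [hκ₀2] at e1 e2
    have : (X : PowerSeries k) ^ m₀ * jN (φ κ) = X ^ m₀ * jN (ψ κ) := by
      rw [e1, e2, ← hΦ, ← hΦ, h]
    exact mul_left_cancel₀ hX this
  let SW : Set ℕ := {n | m₀ ≤ n ∧ n - m₀ ∈ {n | n ∈ SN ∨ (c ≤ n ∧ n - c ∈ SN)}}
  have hH : ∀ f, f ∈ LinearMap.range Φ ↔ f ∈ E SH := by
    intro f
    constructor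
    · rintro ⟨φ, rfl⟩
      intro n hn
      rw [hΦ] at hn
      apply h2 n
      · exact hNmem (φ κ₀) n hn
      · have hx : (X : PowerSeries k) ^ s₂ * jN (φ κ₀) = X ^ m₀ * jN (φ κ₂) := by
          have := cross ι hι jN hinj c φ κ₂ κ₀
          rw [hκ₂2, hκ₀2] at this
          exact this
        have hmem : (X : PowerSeries k) ^ s₂ * jN (φ κ₀) ∈ E {n | m₀ ≤ n ∧ n - m₀ ∈ SN} := by
          rw [hx]; exact X_pow_mul_mem_E (hNmem (φ κ₂))
        exact hmem (n + s₂) (by rw [coeff_X_pow_mul]; exact hn)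
    · intro hf
      have hex : ∀ κ : ↥K, ∃ ν : N', ι (κ : R × R).2 * f = X ^ m₀ * jN ν := by
        intro κ
        have hy : ι (κ : R × R).2 ∈ E SI := by
          intro n hn
          apply hI n
          · exact (hA _).mp ⟨_, rfl⟩ n hn
          · have hmem : ι (κ : R × R).2 * X ^ c ∈ E SA := by
              have : ι (κ : R × R).2 * X ^ c = ι (-(κ : R × R).1) := by
                rw [map_neg]
                exact (neg_eq_of_add_eq_zero_right (K_spec ι hι c κ)).symm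
              rw [this]
              exact (hA _).mp ⟨_, rfl⟩
            exact hmem (n + c) (by rw [coeff_mul_X_pow]; exact hn)
        have hyf : ι (κ : R × R).2 * f ∈ E {n | m₀ ≤ n ∧ n - m₀ ∈ SN} := mul_mem_E hy hf h1
        obtain ⟨ν, hν, hνe⟩ := exists_eq_X_pow_mul hyf
        obtain ⟨ν', rfl⟩ := (hN _).mpr hν
        exact ⟨ν', hνe⟩
      choose νf hνf using hex
      let φf : ↥K →ₗ[R] N' :=
        { toFun := νf
          map_add' := fun κ κ' => by
            apply hjN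
            apply mul_left_cancel₀ hX
            rw [← hνf, map_add, mul_add, ← hνf, ← hνf]
            show ι ((κ : R × R).2 + (κ' : R × R).2) * f = _
            rw [map_add, add_mul]
          map_smul' := fun r κ => by
            apply hjN
            apply mul_left_cancel₀ hX
            rw [← hνf, RingHom.id_apply, map_smul, hι, mul_left_comm, ← hνf]
            show ι (r * (κ : R × R).2) * f = _
            rw [map_mul, mul_assoc] }
      refine ⟨φf, ?_⟩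
      apply mul_left_cancel₀ hX
      show X ^ m₀ * jN (νf κ₀) = X ^ m₀ * f
      rw [← hνf κ₀, hκ₀2]
  have hW : ∀ f, f ∈ P.map Φ ↔ f ∈ E SW := by
    intro f
    constructor
    · rintro ⟨_, ⟨ψ, rfl⟩, rfl⟩
      have hψ : Φ (LinearMap.lcomp R N' K.subtype ψ) =
          X ^ m₀ * (jN (ψ (0, 1)) + X ^ c * (-(jN (ψ (1, 0))))) := by
        show jN (ψ ((κ₀ : ↥K) : R × R)) = _
        have hdec : ((κ₀ : ↥K) : R × R) = (-r₁) • ((1, 0) : R × R) + r₀ • ((0, 1) : R × R) := by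
          rw [hκ₀]; ext <;> simp
        rw [hdec, map_add, map_smul, map_smul, map_add, map_smul, map_smul, hι, hι, map_neg,
          hr₁, hr₀, pow_add]
        ring
      rw [hψ]
      refine X_pow_mul_mem_E (add_mem_E (E_mono (fun n hn => Or.inl hn) (hNmem (ψ (0, 1))))
        (E_mono (fun n hn => Or.inr hn) (X_pow_mul_mem_E (neg_mem_E (hNmem (ψ (1, 0)))))))
    · intro hf
      obtain ⟨g', hg', rfl⟩ := exists_eq_X_pow_mul hf
      obtain ⟨g₁, hg₁, g₂, hg₂, rfl⟩ := exists_split hg'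
      obtain ⟨n₁, hn₁⟩ := (hN _).mpr hg₁
      obtain ⟨n₀, hn₀⟩ := (hN _).mpr (neg_mem_E hg₂)
      let ψ : R × R →ₗ[R] N' :=
        (LinearMap.toSpanSingleton R N' n₀).coprod (LinearMap.toSpanSingleton R N' n₁)
      refine ⟨LinearMap.lcomp R N' K.subtype ψ, ⟨ψ, rfl⟩, ?_⟩
      show jN (ψ ((κ₀ : ↥K) : R × R)) = _
      rw [hκ₀]
      simp only [ψ, LinearMap.coprod_apply, LinearMap.toSpanSingleton_apply,
        map_add, map_smul, hι, hn₁, hn₀, map_neg, hr₁, hr₀, pow_add]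
      ring
  -- the comparison map
  let Θ' : (↥K →ₗ[R] N') →ₗ[R] (↥(LinearMap.range Φ) ⧸ (P.map Φ).submoduleOf (LinearMap.range Φ)) :=
    ((P.map Φ).submoduleOf (LinearMap.range Φ)).mkQ.comp Φ.rangeRestrict
  have hΘsurj : Function.Surjective Θ' := by
    intro q
    obtain ⟨⟨f, φ, rfl⟩, rfl⟩ := Submodule.mkQ_surjective _ q
    exact ⟨φ, rfl⟩
  have hΘker : ∀ φ : ↥K →ₗ[R] N', Θ' φ = 0 ↔ ∃ ψ : R × R →ₗ[R] N', ψ.comp K.subtype = φ := by
    intro φ
    have h0 : Θ' φ = 0 ↔ Φ φ ∈ P.map Φ := by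
      show ((P.map Φ).submoduleOf (LinearMap.range Φ)).mkQ (Φ.rangeRestrict φ) = 0 ↔ _
      rw [Submodule.mkQ_apply, Submodule.Quotient.mk_eq_zero]
      rfl
    rw [h0]
    constructor
    · rintro ⟨φ', ⟨ψ, rfl⟩, hφ'⟩
      exact ⟨ψ, hΦinj hφ'⟩
    · rintro ⟨ψ, rfl⟩
      exact ⟨_, ⟨ψ, rfl⟩, rfl⟩
  rw [ExtPres.length_ext_one' K.subtype (g k R c) (Submodule.injective_subtype _) (g_surj ι hι c)
    (LinearMap.exact_subtype_ker_map _) Θ' hΘsurj hΘker]
  exact length_quot ι hι hH hW D hD e he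

end Groth.Agent.H86.TwoGen
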