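import Mathlib
import Groth.Agent.H86.TwoGen

/-!
# `Ext¹` between rank one torsion-free modules over the `A_{2δ}` singularity
-/

namespace Groth.Agent.H86.A2delta

open PowerSeries CategoryTheory MonoPS TwoGen

universe u

/-- the semigroup `⟨2, 2δ+1⟩` -/
def Gam (δ : ℕ) : AddSubmonoid ℕ where
  carrier := {n | n % 2 = 0 ∨ 2 * δ + 1 ≤ n}
  zero_mem' := Or.inl rfl
  add_mem' := by
    intro a b ha hb
    simp only [Set.mem_setOf_eq] at ha hb ⊢
    omega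

lemma mem_closure_iff (δ n : ℕ) :
    n ∈ AddSubmonoid.closure ({2, 2 * δ + 1} : Set ℕ) ↔ n % 2 = 0 ∨ 2 * δ + 1 ≤ n := by
  constructor
  · intro hn
    have hle : AddSubmonoid.closure ({2, 2 * δ + 1} : Set ℕ) ≤ Gam δ := by
      rw [AddSubmonoid.closure_le]
      intro x hx
      rcases hx with rfl | hx
      · exact Or.inl rfl
      · rw [Set.mem_singleton_iff] at hx; subst hx; exact Or.inr le_rfl
    exact hle hn
  · intro hn
    have h2 : (2 : ℕ) ∈ AddSubmonoid.closure ({2, 2 * δ + 1} : Set ℕ) :=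
      AddSubmonoid.subset_closure (Set.mem_insert _ _)
    have h3 : (2 * δ + 1 : ℕ) ∈ AddSubmonoid.closure ({2, 2 * δ + 1} : Set ℕ) :=
      AddSubmonoid.subset_closure (Set.mem_insert_of_mem _ (Set.mem_singleton _))
    by_cases hpar : n % 2 = 0
    · have : n = (n / 2) • 2 := by rw [smul_eq_mul]; omega
      rw [this]; exact AddSubmonoid.nsmul_mem _ h2 _
    · have hge : 2 * δ + 1 ≤ n := hn.resolve_left hpar
      have : n = (2 * δ + 1) + ((n - (2 * δ + 1)) / 2) • 2 := by rw [smul_eq_mul]; omega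
      rw [this]; exact add_mem h3 (AddSubmonoid.nsmul_mem _ h2 _)

variable {k : Type u} [Field k] {R : Type u} [CommRing R] [Algebra k R]
  [Module R (PowerSeries k)] [IsScalarTower k R (PowerSeries k)]
  (ι : R →ₐ[k] PowerSeries k) (hι : ∀ (r : R) (f : PowerSeries k), r • f = ι r * f)

include hι in
lemma mem_span_iff (δ : ℕ)
    (hA : ∀ f : PowerSeries k, f ∈ Set.range ι ↔ f ∈ E {n | n % 2 = 0 ∨ 2 * δ + 1 ≤ n})
    (c' : ℕ) (hc'odd : c' % 2 = 1) (hc'le : c' ≤ 2 * δ + 1) (f : PowerSeries k) :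
    f ∈ Submodule.span R ({1, (X : PowerSeries k) ^ c'} : Set (PowerSeries k)) ↔
      f ∈ E {n | n % 2 = 0 ∨ c' ≤ n} := by
  constructor
  · intro hf
    obtain ⟨r, s, rfl⟩ := Submodule.mem_span_pair.mp hf
    rw [hι, hι, mul_one]
    refine add_mem_E (E_mono ?_ ((hA _).mp ⟨r, rfl⟩))
      (mul_mem_E ((hA _).mp ⟨s, rfl⟩) (X_pow_mem_E.mpr (Set.mem_singleton c')) ?_)
    · intro n hn; simp only [Set.mem_setOf_eq] at hn ⊢; omega
    · intro a ha b hb; simp only [Set.mem_setOf_eq, Set.mem_singleton_iff] at ha hb ⊢; omega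
  · intro hf
    have hf' : f ∈ E {n | n ∈ {n | n % 2 = 0 ∨ 2 * δ + 1 ≤ n} ∨
        (c' ≤ n ∧ n - c' ∈ {n | n % 2 = 0 ∨ 2 * δ + 1 ≤ n})} := by
      refine E_mono ?_ hf
      intro n hn; simp only [Set.mem_setOf_eq] at hn ⊢; omega
    obtain ⟨f₁, hf₁, f₂, hf₂, rfl⟩ := exists_split hf'
    obtain ⟨r, hr⟩ := (hA _).mpr hf₁
    obtain ⟨s, hs⟩ := (hA _).mpr hf₂
    rw [Submodule.mem_span_pair]
    refine ⟨r, s, ?_⟩
    rw [hι, hι, mul_one, hr, hs]; ring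

include hι in
theorem main_gen (hinj : Function.Injective ι) (δ : ℕ)
    (hA : ∀ f : PowerSeries k, f ∈ Set.range ι ↔
      ∀ n : ℕ, coeff n f ≠ 0 → n ∈ AddSubmonoid.closure ({2, 2 * δ + 1} : Set ℕ))
    (i j : ℕ) (hi : i ≤ δ) (hj : j ≤ δ) :
    Module.length R (Abelian.Ext
      (ModuleCat.of R ↥(Submodule.span R
        ({1, (X : PowerSeries k) ^ (2 * δ + 1 - 2 * i)} : Set (PowerSeries k))))
      (ModuleCat.of R ↥(Submodule.span R
        ({1, (X : PowerSeries k) ^ (2 * δ + 1 - 2 * j)} : Set (PowerSeries k)))) 1) =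
      ((2 * min i j : ℕ) : ℕ∞) := by
  classical
  have hA' : ∀ f : PowerSeries k, f ∈ Set.range ι ↔ f ∈ E {n | n % 2 = 0 ∨ 2 * δ + 1 ≤ n} := by
    intro f
    rw [hA f]
    constructor
    · intro h n hn; exact (mem_closure_iff δ n).mp (h n hn)
    · intro h n hn; exact (mem_closure_iff δ n).mpr (h n hn)
  have lift : ∀ s : ℕ, (s % 2 = 0 ∨ 2 * δ + 1 ≤ s) → ∃ r : R, ι r = X ^ s :=
    fun s hs => (hA' _).mpr (X_pow_mem_E.mpr hs)
  obtain ⟨r₀, hr₀⟩ := lift (2 * i) (Or.inl (by omega))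
  obtain ⟨r₁, hr₁⟩ := lift (2 * i + (2 * δ + 1 - 2 * i)) (Or.inr (by omega))
  obtain ⟨r₂, hr₂⟩ := lift (2 * δ + 1) (Or.inr le_rfl)
  obtain ⟨r₃, hr₃⟩ := lift (2 * δ + 1 + (2 * δ + 1 - 2 * i)) (Or.inr (by omega))
  have hN : ∀ f, f ∈ Set.range (Submodule.span R
      ({1, (X : PowerSeries k) ^ (2 * δ + 1 - 2 * j)} : Set (PowerSeries k))).subtype ↔
      f ∈ E {n | n % 2 = 0 ∨ 2 * δ + 1 - 2 * j ≤ n} := by
    intro f
    rw [← mem_span_iff ι hι δ hA' (2 * δ + 1 - 2 * j) (by omega) (by omega) f]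
    exact ⟨fun ⟨x, hx⟩ => hx ▸ x.2, fun h => ⟨⟨f, h⟩, rfl⟩⟩
  obtain ⟨μ, hμdef⟩ : ∃ μ, μ = min i j := ⟨_, rfl⟩
  have hμi : μ ≤ i := hμdef ▸ min_le_left _ _
  have hμj : μ ≤ j := hμdef ▸ min_le_right _ _
  have hμ : μ = i ∨ μ = j := hμdef ▸ min_choice i j
  let D₁ : Finset ℕ := (Finset.range μ).image (fun m => 2 * (i - μ) + 2 * m)
  let D₂ : Finset ℕ := (Finset.range μ).image (fun m => (2 * δ + 1 - 2 * j) + 2 * m)
  have hcard : (D₁ ∪ D₂).card = 2 * μ := by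
    have hdisj : Disjoint D₁ D₂ := by
      rw [Finset.disjoint_left]
      intro n h1 h2
      simp only [D₁, D₂, Finset.mem_image, Finset.mem_range] at h1 h2
      obtain ⟨a, _, rfl⟩ := h1
      obtain ⟨b, _, hb⟩ := h2
      omega
    have hc₁ : D₁.card = μ := by
      rw [Finset.card_image_of_injective _ (by intro a b h; simp only at h; omega),
        Finset.card_range]
    have hc₂ : D₂.card = μ := by
      rw [Finset.card_image_of_injective _ (by intro a b h; simp only at h; omega),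
        Finset.card_range]
    rw [Finset.card_union_of_disjoint hdisj, hc₁, hc₂]; ring
  refine (length_ext_twoGen ι hι (Submodule.span R
      ({1, (X : PowerSeries k) ^ (2 * δ + 1 - 2 * j)} : Set (PowerSeries k))).subtype hinj
    (2 * δ + 1 - 2 * i) (2 * i) (2 * δ + 1) r₀ r₁ r₂ r₃ hr₀ hr₁ hr₂ hr₃
    {n | n % 2 = 0 ∨ 2 * δ + 1 ≤ n}
    {s | (s % 2 = 0 ∧ 2 * i ≤ s) ∨ (s % 2 = 1 ∧ 2 * δ + 1 ≤ s)}
    {n | n % 2 = 0 ∨ 2 * δ + 1 - 2 * j ≤ n}
    {a | (a % 2 = 0 ∨ 2 * δ + 1 - 2 * j ≤ a) ∧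
      (a % 2 = 1 ∨ 2 * δ + 1 - 2 * j ≤ a + (2 * δ + 1 - 2 * i))}
    hA' (Submodule.injective_subtype _) hN ?_ ?_ ?_ (D₁ ∪ D₂) ?_ (2 * δ + 1) ?_).trans ?_
  · intro s h1 h2; simp only [Set.mem_setOf_eq] at h1 h2 ⊢; omega
  · intro s hs a ha; simp only [Set.mem_setOf_eq] at hs ha ⊢; omega
  · intro a h1 h2; simp only [Set.mem_setOf_eq] at h1 h2 ⊢; omega
  · intro n
    simp only [D₁, D₂, Finset.mem_union, Finset.mem_image, Finset.mem_range, Set.mem_setOf_eq]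
    constructor
    · rintro (⟨m, hm, rfl⟩ | ⟨m, hm, rfl⟩) <;> omega
    · intro h
      by_cases hpar : n % 2 = 0
      · left; exact ⟨(n - 2 * (i - μ)) / 2, by omega, by omega⟩
      · right; exact ⟨(n - (2 * δ + 1 - 2 * j)) / 2, by omega, by omega⟩
  · intro n hn; simp only [Set.mem_setOf_eq]; omega
  · rw [hcard, hμdef]

end Groth.Agent.H86.A2delta

namespace Groth.Agent.H86.A2delta

open PowerSeries CategoryTheory

universe u

theorem main (k : Type u) [Field k] (δ : ℕ) (A : Subalgebra k (PowerSeries k))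
    (hmono : ∀ f : PowerSeries k, f ∈ A ↔ ∀ n : ℕ, PowerSeries.coeff n f ≠ 0 →
      n ∈ AddSubmonoid.closure ({2, 2 * δ + 1} : Set ℕ)) (i j : ℕ) (hi : i ≤ δ) (hj : j ≤ δ) :
    Module.length ↥A (Abelian.Ext (ModuleCat.of ↥A ↥(Submodule.span ↥A ({1, (PowerSeries.X : PowerSeries k) ^ (2 * δ + 1 - 2 * i)} : Set (PowerSeries k)))) (ModuleCat.of ↥A ↥(Submodule.span ↥A ({1, (PowerSeries.X : PowerSeries k) ^ (2 * δ + 1 - 2 * j)} : Set (PowerSeries k)))) 1) = ((2 * min i j : ℕ) : ℕ∞) := by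
  have hA : ∀ f : PowerSeries k, f ∈ Set.range A.val ↔
      ∀ n : ℕ, coeff n f ≠ 0 → n ∈ AddSubmonoid.closure ({2, 2 * δ + 1} : Set ℕ) := by
    intro f
    rw [← hmono f]
    exact ⟨fun ⟨x, hx⟩ => hx ▸ x.2, fun h => ⟨⟨f, h⟩, rfl⟩⟩
  exact main_gen (R := ↥A) A.val (fun _ _ => rfl) Subtype.val_injective δ hA i j hi hj

end Groth.Agent.H86.A2delta
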