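import Mathlib
import Groth.Prelude.Def_HTop
import Groth.Prelude.Def_HTop3

/-!
# (ALG) for helper95's S8982: elements killed by powers of `I` map to zero when `I B = (c)`, `c` nzd
-/

set_option autoImplicit false
universe u
open CategoryTheory CategoryTheory.Limits AlgebraicGeometry

namespace Groth.Agent.H86.ABU_ALG

theorem ALG {A B : Type u} [CommRing A] [CommRing B] (φ : A →+* B) (I : Ideal A) (c : B)
    (hc : c ∈ nonZeroDivisors B) (hI : I.map φ = Ideal.span {c}) (a : A)
    (ha : ∀ s ∈ I, ∃ n : ℕ, s ^ n * a = 0) : φ a = 0 := by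
  set K : Ideal B := (Submodule.span B {φ a}).annihilator.radical with hK
  have hmemK : ∀ z : B, z ∈ K ↔ ∃ n : ℕ, z ^ n * φ a = 0 := by
    intro z
    rw [hK, Ideal.mem_radical_iff]
    constructor
    · rintro ⟨n, hn⟩
      rw [Submodule.mem_annihilator_span_singleton, smul_eq_mul] at hn
      exact ⟨n, hn⟩
    · rintro ⟨n, hn⟩
      refine ⟨n, ?_⟩
      rw [Submodule.mem_annihilator_span_singleton, smul_eq_mul]
      exact hn
  have hle : I.map φ ≤ K := by
    rw [Ideal.map_le_iff_le_comap]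
    intro s hs
    obtain ⟨n, hn⟩ := ha s hs
    rw [Ideal.mem_comap, hmemK]
    exact ⟨n, by rw [← map_pow, ← map_mul, hn, map_zero]⟩
  have hcmem : c ∈ I.map φ := by
    rw [hI]; exact Ideal.subset_span (Set.mem_singleton c)
  obtain ⟨N, hN⟩ := (hmemK c).mp (hle hcmem)
  have hcN : c ^ N ∈ nonZeroDivisors B := pow_mem hc N
  exact (mul_left_mem_nonZeroDivisors_eq_zero_iff hcN).mp hN

end Groth.Agent.H86.ABU_ALG
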