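import Mathlib
import Groth.Prelude.Def_HTop
import Groth.Prelude.Def_HTop3

/-!
# (TORS) for helper95's S8982: sections supported on `V(𝓙)` are killed by powers of sections of `𝓙`
-/

set_option autoImplicit false
universe u
open CategoryTheory CategoryTheory.Limits AlgebraicGeometry

namespace Groth.Agent.H86.ABU_TORS

theorem TORS {W : Scheme.{u}} (𝓙 : W.IdealSheafData) (U : W.affineOpens) (a : Γ(W, U.1))
    (ha : a ∈ (HTop.supportedOn 𝓙).ideal U) (s : Γ(W, U.1)) (hs : s ∈ 𝓙.ideal U) :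
    ∃ n : ℕ, s ^ n * a = 0 := by
  have h0 : ((HTop.awayFrom 𝓙).ι.app U.1).hom a = 0 :=
    Scheme.Hom.ideal_ker_le (HTop.awayFrom 𝓙).ι U ha
  have hDs : W.basicOpen s ≤ HTop.awayFrom 𝓙 := by
    intro x hx
    have hxU : x ∈ U.1 := W.basicOpen_le s hx
    show x ∉ (𝓙.support : Set W)
    intro hxs
    have hxs' : x ∈ 𝓙.support := hxs
    rw [Scheme.IdealSheafData.mem_support_iff_of_mem hxU, Scheme.mem_zeroLocus_iff] at hxs'
    exact hxs' s hs hx
  have hle : W.basicOpen s ≤ (HTop.awayFrom 𝓙).ι ''ᵁ ((HTop.awayFrom 𝓙).ι ⁻¹ᵁ U.1) := by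
    rw [Scheme.Hom.image_preimage_eq_opensRange_inf, Scheme.Opens.opensRange_ι]
    exact le_inf hDs (W.basicOpen_le s)
  have key : ∀ (M : W.Opens) (h₂ : M ≤ U.1) (h₁ : W.basicOpen s ≤ M),
      (W.presheaf.map (homOfLE h₂).op).hom a = 0 →
      (W.presheaf.map (homOfLE (W.basicOpen_le s)).op).hom a = 0 := by
    intro M h₂ h₁ hz
    have : W.presheaf.map (homOfLE (W.basicOpen_le s)).op =
        W.presheaf.map (homOfLE h₂).op ≫ W.presheaf.map (homOfLE h₁).op := by
      rw [← Functor.map_comp]; rfl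
    rw [this, CommRingCat.hom_comp, RingHom.comp_apply, hz, map_zero]
  rw [Scheme.Opens.ι_app] at h0
  have h1 : (W.presheaf.map (homOfLE (W.basicOpen_le s)).op).hom a = 0 := key _ _ hle h0
  haveI : IsLocalization.Away s Γ(W, W.basicOpen s) := U.2.isLocalization_basicOpen s
  have h2 : algebraMap Γ(W, U.1) Γ(W, W.basicOpen s) a = 0 := h1
  obtain ⟨⟨_, n, rfl⟩, hm⟩ :=
    (IsLocalization.map_eq_zero_iff (Submonoid.powers s) Γ(W, W.basicOpen s) a).mp h2
  exact ⟨n, hm⟩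

end Groth.Agent.H86.ABU_TORS
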