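import Mathlib
import Groth.Prelude.Def_HTop
import Groth.Prelude.Def_HTop3
import Groth.Agent.H9.ComapIdeal
import Groth.Agent.H54.BC_A4
import Groth.Agent.H86.ABU_ALG
import Groth.Agent.H86.ABU_TORS

/-!
# (G2) for helper95's S8982: if `𝓙 O_T` is effective Cartier then sections supported on `V(𝓙)`
pull back to zero on `T`
-/

set_option autoImplicit false
universe u
open CategoryTheory CategoryTheory.Limits AlgebraicGeometry

namespace Groth.Agent.H86.ABU_G2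

theorem G2 {T W : Scheme.{u}} (t : T ⟶ W) (𝓙 : W.IdealSheafData)
    (h : BlowUp.IsEffCartierIdeal (𝓙.comap t)) : HTop.supportedOn 𝓙 ≤ t.ker := by
  refine Scheme.IdealSheafData.le_ofIdeals_iff.mpr ?_
  intro U a ha
  show a ∈ RingHom.ker (t.app U.1).hom
  rw [RingHom.mem_ker]
  -- local vanishing
  have hloc : ∀ x : ↥(t ⁻¹ᵁ U.1), ∃ (V : T.Opens) (hle : V ≤ t ⁻¹ᵁ U.1), x.1 ∈ V ∧
      (T.presheaf.map (homOfLE hle).op).hom ((t.app U.1).hom a) = 0 := by
    intro x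
    obtain ⟨V0, hxV0, c0, hc0, hV0⟩ := h x.1
    obtain ⟨r, hrle, hxr⟩ := V0.2.exists_basicOpen_le x hxV0
    obtain ⟨hspan, hnzd⟩ := Groth.Agent.H54.BC_A4.ideal_basicOpen_eq_span (𝓙.comap t) V0 c0 r
      (r * c0) hc0 hV0 rfl
    have hcomap := Groth.Agent.H9.comap_ideal t 𝓙 U (T.affineBasicOpen r) hrle
    have hI : (𝓙.ideal U).map (t.appLE U.1 (T.affineBasicOpen r).1 hrle).hom =
        Ideal.span {(T.presheaf.map (homOfLE (T.basicOpen_le r)).op).hom (r * c0)} :=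
      hcomap.symm.trans hspan
    have hz := Groth.Agent.H86.ABU_ALG.ALG (t.appLE U.1 (T.affineBasicOpen r).1 hrle).hom
      (𝓙.ideal U) _ hnzd hI a (fun s hs => Groth.Agent.H86.ABU_TORS.TORS 𝓙 U a ha s hs)
    exact ⟨T.basicOpen r, hrle, hxr, hz⟩
  choose Vx hVle hmem hzero using hloc
  refine T.sheaf.eq_of_locally_eq' (fun x : ↥(t ⁻¹ᵁ U.1) => Vx x) (t ⁻¹ᵁ U.1)
    (fun x => homOfLE (hVle x)) ?_ _ _ ?_
  · intro y hy
    exact TopologicalSpace.Opens.mem_iSup.mpr ⟨⟨y, hy⟩, hmem ⟨y, hy⟩⟩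
  · intro x
    change (T.presheaf.map (homOfLE (hVle x)).op).hom ((t.app U.1).hom a) =
      (T.presheaf.map (homOfLE (hVle x)).op).hom 0
    rw [map_zero]
    exact hzero x

end Groth.Agent.H86.ABU_G2
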