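import Mathlib
import Groth.Prelude.Def_HTop
import Groth.Prelude.Def_HTop3
import Groth.Agent.H9.ComapIdeal

/-!
# (LP) for helper95's S8982: the inverse image of a locally principal ideal sheaf is locally principal
-/

set_option autoImplicit false
universe u
open CategoryTheory CategoryTheory.Limits AlgebraicGeometry

namespace Groth.Agent.H86.ABU_LP

theorem LP {X' X₁ : Scheme.{u}} (gX : X₁ ⟶ X') (𝓙 : X'.IdealSheafData)
    (h : HTop.IsLocPrincipal 𝓙) : HTop.IsLocPrincipal (𝓙.comap gX) := by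
  intro x
  obtain ⟨U, hxU, f, hf⟩ := h (gX x)
  have hx : x ∈ gX ⁻¹ᵁ U.1 := hxU
  obtain ⟨V, hV, hxV, hVle⟩ := exists_isAffineOpen_mem_and_subset hx
  have e : V ≤ gX ⁻¹ᵁ U.1 := hVle
  refine ⟨⟨V, hV⟩, hxV, (gX.appLE U.1 V e).hom f, ?_⟩
  rw [Groth.Agent.H9.comap_ideal gX 𝓙 U ⟨V, hV⟩ e, hf, Ideal.map_span, Set.image_singleton]

end Groth.Agent.H86.ABU_LP
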