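import Mathlib
import Groth.Prelude.Def_NonAbH2
import Groth.Prelude.Def_Red2
import Groth.Prelude.Def_TwC
import Groth.Agent.H43.GaGmFn
import Groth.Agent.H91.GaDict
import Groth.Agent.H91.GaPt
import Groth.Agent.H27.OverPullback
import Groth.Agent.S5120

/-!
# Artin–Schreier: `℘ = id - F` on `𝔾_a` is flat, surjective and quasi-compact (helper86, piece (F) for S6008)
-/

set_option autoImplicit false
universe u
open CategoryTheory CategoryTheory.Limits MonoidalCategory CartesianMonoidalCategory MonObj GrpObj AlgebraicGeometry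

namespace Groth.Agent.H86.AS_F

open Polynomial
open Groth.Agent.H91.GaDict (Sym tt symIso)

/-- `ℤ[X]` regarded as an algebra over itself through `X ↦ X - X^p`. -/
def PT (_p : ℕ) : Type u := (ULift.{u} ℤ)[X]

noncomputable instance (p : ℕ) : CommRing (PT.{u} p) := inferInstanceAs (CommRing (ULift.{u} ℤ)[X])

/-- the endomorphism `X ↦ X - X^p` of `ℤ[X]`. -/
noncomputable def phiP (p : ℕ) : (ULift.{u} ℤ)[X] →ₐ[ULift.{u} ℤ] (ULift.{u} ℤ)[X] :=
  aeval (X - X ^ p : (ULift.{u} ℤ)[X])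

noncomputable instance (p : ℕ) : Algebra (ULift.{u} ℤ)[X] (PT.{u} p) :=
  RingHom.toAlgebra (S := PT.{u} p) (phiP.{u} p).toRingHom

theorem ff_PT (p : ℕ) (hp : 1 < p) : Module.FaithfullyFlat (ULift.{u} ℤ)[X] (PT.{u} p) := by
  have hbij := Groth.Agent.S5120.key p hp (ULift.{u} ℤ)
  let v : Fin p → PT.{u} p := fun i => (X ^ (i : ℕ) : (ULift.{u} ℤ)[X])
  let L : (Fin p → (ULift.{u} ℤ)[X]) →ₗ[(ULift.{u} ℤ)[X]] PT.{u} p := Fintype.linearCombination _ v
  have hL : ∀ c, L c = ∑ i : Fin p, aeval (X - X ^ p : (ULift.{u} ℤ)[X]) (c i) * X ^ (i : ℕ) := by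
    intro c
    rw [Fintype.linearCombination_apply]
    rfl
  have hb : Function.Bijective L := by
    have : (L : (Fin p → (ULift.{u} ℤ)[X]) → PT.{u} p) =
        fun c => ∑ i : Fin p, aeval (X - X ^ p : (ULift.{u} ℤ)[X]) (c i) * X ^ (i : ℕ) :=
      funext hL
    rw [this]
    exact hbij
  let E := LinearEquiv.ofBijective L hb
  haveI : Nonempty (Fin p) := ⟨⟨0, by omega⟩⟩
  haveI : Module.FaithfullyFlat (ULift.{u} ℤ)[X] (Fin p → (ULift.{u} ℤ)[X]) := inferInstance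
  exact Module.FaithfullyFlat.of_linearEquiv (R := (ULift.{u} ℤ)[X])
    (M := Fin p → (ULift.{u} ℤ)[X]) E.symm

theorem phiP_ff (p : ℕ) (hp : 1 < p) : (phiP.{u} p).toRingHom.FaithfullyFlat :=
  (RingHom.faithfullyFlat_algebraMap_iff (R := (ULift.{u} ℤ)[X]) (S := PT.{u} p)).mpr (ff_PT p hp)

/-- `Sym → ℤ[X]`, `tt ↦ X`. -/
noncomputable def toP : Sym.{u} →ₐ[ULift.{u} ℤ] (ULift.{u} ℤ)[X] :=
  SymmetricAlgebra.lift (LinearMap.toSpanSingleton (ULift.{u} ℤ) ((ULift.{u} ℤ)[X]) X)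

theorem toP_tt : toP.{u} tt = X := by
  unfold toP
  rw [SymmetricAlgebra.lift_ι_apply, LinearMap.toSpanSingleton_apply]
  exact one_smul _ _

/-- `ℤ[X] → Sym`, `X ↦ tt`. -/
noncomputable def fromP : (ULift.{u} ℤ)[X] →ₐ[ULift.{u} ℤ] Sym.{u} := aeval tt.{u}

theorem fromP_X : fromP.{u} X = tt := aeval_X _

theorem fromP_toP (s : Sym.{u}) : fromP (toP s) = s := by
  have h : (fromP.{u}.toRingHom.comp toP.{u}.toRingHom) = RingHom.id _ :=
    Groth.Agent.H93.GaGmLaw.sym_hom_ext _ _ (by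
      show fromP (toP tt) = tt
      rw [toP_tt, fromP_X])
  exact RingHom.congr_fun h s

theorem toP_fromP (q : (ULift.{u} ℤ)[X]) : toP (fromP q) = q := by
  have h : (toP.{u}.comp fromP.{u}) = AlgHom.id _ _ := by
    apply Polynomial.algHom_ext
    show toP (fromP X) = X
    rw [fromP_X, toP_tt]
  exact AlgHom.congr_fun h q

/-- the Artin–Schreier endomorphism of `Sym`. -/
noncomputable def phi (p : ℕ) : Sym.{u} →ₐ[ULift.{u} ℤ] Sym.{u} := fromP.comp ((phiP p).comp toP)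

theorem phi_tt (p : ℕ) : phi.{u} p tt = tt - tt ^ p := by
  show fromP (phiP p (toP tt)) = _
  rw [toP_tt]
  unfold phiP
  rw [aeval_X, map_sub, map_pow, fromP_X]

theorem phi_ff (p : ℕ) (hp : 1 < p) : (phi.{u} p).toRingHom.FaithfullyFlat := by
  have h1 : (toP.{u}.toRingHom).FaithfullyFlat :=
    RingHom.FaithfullyFlat.of_bijective
      ⟨Function.LeftInverse.injective fromP_toP, Function.RightInverse.surjective toP_fromP⟩
  have h2 : (fromP.{u}.toRingHom).FaithfullyFlat :=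
    RingHom.FaithfullyFlat.of_bijective
      ⟨Function.LeftInverse.injective toP_fromP, Function.RightInverse.surjective fromP_toP⟩
  have h3 := RingHom.FaithfullyFlat.stableUnderComposition _ _ h1 (phiP_ff.{u} p hp)
  exact RingHom.FaithfullyFlat.stableUnderComposition _ _ h3 h2

/-- `℘` over `ℤ`. -/
noncomputable def wpZ (p : ℕ) : Red.GaZ.{u} ⟶ Red.GaZ.{u} :=
  Over.homMk (Spec.map (CommRingCat.ofHom (phi.{u} p).toRingHom)) (specULiftZIsTerminal.hom_ext _ _)

theorem wpZ_left (p : ℕ) : (wpZ.{u} p).left = Spec.map (CommRingCat.ofHom (phi.{u} p).toRingHom) := rfl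

theorem wpZ_props (p : ℕ) (hp : 1 < p) :
    Flat (wpZ.{u} p).left ∧ Surjective (wpZ.{u} p).left ∧ QuasiCompact (wpZ.{u} p).left := by
  rw [wpZ_left]
  have h1 := (flat_and_surjective_SpecMap_iff (CommRingCat.ofHom (phi.{u} p).toRingHom)).mpr (phi_ff p hp)
  have h3 : QuasiCompact (Spec.map (CommRingCat.ofHom (phi.{u} p).toRingHom)) := inferInstance
  exact ⟨h1.1, h1.2, h3⟩

variable {S : Scheme.{u}}

/-- `℘` over `S`. -/
noncomputable abbrev wp (p : ℕ) : Red.Ga S ⟶ Red.Ga S :=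
  (Over.pullback (Limits.IsTerminal.from specULiftZIsTerminal S)).map (wpZ p)

theorem wp_props (p : ℕ) (hp : 1 < p) :
    Flat (wp (S := S) p).left ∧ Surjective (wp (S := S) p).left ∧ QuasiCompact (wp (S := S) p).left := by
  obtain ⟨h1, h2, h3⟩ := wpZ_props.{u} p hp
  exact ⟨Groth.Agent.H27.pullback_map_left_of_stable @Flat _ _ h1,
    Groth.Agent.H27.pullback_map_left_of_stable @Surjective _ _ h2,
    Groth.Agent.H27.pullback_map_left_of_stable @QuasiCompact _ _ h3⟩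

theorem wpZ_appTop_gaCoord (p : ℕ) :
    (wpZ.{u} p).left.appTop Red.gaCoord = Red.gaCoord - Red.gaCoord ^ p := by
  show (Spec.map (CommRingCat.ofHom (phi.{u} p).toRingHom)).appTop (symIso.inv tt) = _
  rw [Groth.Agent.H91.GaDict.specMap_appTop_symIso_inv]
  show symIso.inv (phi.{u} p tt) = _
  rw [phi_tt, map_sub, map_pow]
  rfl

theorem gaFn_comp_wp (p : ℕ) {T : Over S} (x : T ⟶ Red.Ga S) :
    Red.gaFn (x ≫ wp p) = Red.gaFn x - Red.gaFn x ^ p := by
  have h3 := GmPts.pullback_map_left_fst (S := S) (wpZ.{u} p)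
  have e : (x ≫ wp p).left ≫ pullback.fst Red.GaZ.hom (GmPts.toBaseZ S) =
      (x.left ≫ pullback.fst Red.GaZ.hom (GmPts.toBaseZ S)) ≫ (wpZ.{u} p).left := by
    rw [Over.comp_left, Category.assoc, Category.assoc]
    exact _ ≫= h3
  have e2 : Red.gaFn (x ≫ wp p) =
      ((x.left ≫ pullback.fst Red.GaZ.hom (GmPts.toBaseZ S)) ≫ (wpZ.{u} p).left).appTop Red.gaCoord :=
    congrArg (fun f : T.left ⟶ Spec (CommRingCat.of Sym.{u}) => f.appTop Red.gaCoord) e
  rw [e2]
  have e3 := GmPts.appTop_comp_apply (x.left ≫ pullback.fst Red.GaZ.hom (GmPts.toBaseZ S))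
    (wpZ.{u} p).left Red.gaCoord
  have e4 : (Groth.Agent.H91.GaDict.specPt x).appTop.hom ((wpZ.{u} p).left.appTop Red.gaCoord) =
      Red.gaFn x - Red.gaFn x ^ p :=
    (congrArg (Groth.Agent.H91.GaDict.specPt x).appTop.hom (wpZ_appTop_gaCoord p)).trans
      ((map_sub _ _ _).trans (congrArg (fun z => Red.gaFn x - z) (map_pow _ _ _)))
  exact e3.trans e4

set_option linter.dupNamespace false in
theorem AS_F (p : ℕ) [Fact p.Prime] {S : Scheme.{u}} (v : Red.Ga S ⟶ Red.Ga S)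
    (hv : ∀ (T : Over S) (x : T ⟶ Red.Ga S), Red.gaFn (x ≫ v) = Red.gaFn x - Red.gaFn x ^ p) :
    Flat v.left ∧ Surjective v.left ∧ QuasiCompact v.left := by
  have hp : 1 < p := (Fact.out : p.Prime).one_lt
  have hvw : v = wp p := by
    have h := Groth.Agent.H91.GaDict.gaFn_injective
      (x := 𝟙 (Red.Ga S) ≫ v) (y := 𝟙 (Red.Ga S) ≫ wp p)
      ((hv _ (𝟙 _)).trans (gaFn_comp_wp p (𝟙 _)).symm)
    rwa [Category.id_comp, Category.id_comp] at h
  rw [hvw]
  exact wp_props p hp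

end Groth.Agent.H86.AS_F
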