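import Groth.Agent.H18.FinPtsAmple
import Groth.Agent.H22.VeryAmpleConv

/-!
# A quasi-projective scheme of dimension `d` over a Noetherian ring is covered by `d + 1` affines

* `step`, `iterate`, `exists_cover`: the topological induction.  In a Noetherian quasi-sober space
  in which every finite set of points lies in an open with property `P`, if all chains of irreducible
  closed subsets have length `≤ d` then `d + 1` opens with property `P` cover the space.
* `main`: the scheme statement, using ampleness of the pullback of `O(1)` and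
  `H18.FinPtsAmple.exists_affine_of_finite`.
-/

set_option autoImplicit false
universe u

noncomputable section

namespace Groth.Agent.H86.AffineCoverDim

open CategoryTheory AlgebraicGeometry TopologicalSpace Order

section Top

variable {T : Type*} [TopologicalSpace T] [NoetherianSpace T] [QuasiSober T]
  (P : Opens T → Prop)

theorem step (d : ℕ) (hAP : ∀ E : Set T, E.Finite → ∃ U : Opens T, P U ∧ E ⊆ U)
    (Z : Set T) (hZ : IsClosed Z) (i : ℕ)
    (hQ : ∀ p : LTSeries (IrreducibleCloseds T), (p.last : Set T) ⊆ Z → p.length + i ≤ d) :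
    ∃ U : Opens T, P U ∧ ∀ p : LTSeries (IrreducibleCloseds T),
      (p.last : Set T) ⊆ Z \ (U : Set T) → p.length + (i + 1) ≤ d := by
  obtain ⟨S, hSf, hSc, hSi, hSU⟩ := NoetherianSpace.exists_finite_set_isClosed_irreducible hZ
  haveI := hSf.to_subtype
  let g : S → T := fun t => (hSi t.1 t.2).genericPoint
  have hg : ∀ t : S, IsGenericPoint (g t) t.1 := fun t =>
    (hSi t.1 t.2).isGenericPoint_genericPoint (hSc t.1 t.2)
  obtain ⟨U, hPU, hEU⟩ := hAP (Set.range g) (Set.finite_range g)
  refine ⟨U, hPU, fun p hp => ?_⟩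
  have h1 : (p.last : Set T) ⊆ ⋃₀ (hSf.toFinset : Set (Set T)) := by
    rw [hSf.coe_toFinset, ← hSU]
    exact hp.trans Set.diff_subset
  obtain ⟨t, htS, hpt⟩ := (isIrreducible_iff_sUnion_isClosed.mp p.last.isIrreducible')
    hSf.toFinset (fun z hz => hSc z (hSf.mem_toFinset.mp hz)) h1
  rw [hSf.mem_toFinset] at htS
  let t' : IrreducibleCloseds T := ⟨t, hSi t htS, hSc t htS⟩
  have hlt : p.last < t' := by
    refine lt_of_le_of_ne (SetLike.coe_subset_coe.mp hpt) ?_
    intro heq
    have hgt : g ⟨t, htS⟩ ∈ t := (hg ⟨t, htS⟩).mem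
    have hgl : g ⟨t, htS⟩ ∈ (p.last : Set T) := by
      rw [heq]
      exact hgt
    exact (hp hgl).2 (hEU ⟨⟨t, htS⟩, rfl⟩)
  have h2 := hQ (p.snoc t' hlt) (by
    rw [RelSeries.last_snoc]
    intro x hx
    rw [hSU]
    exact ⟨t, htS, hx⟩)
  have hl : (p.snoc t' hlt).length = p.length + 1 := rfl
  omega

theorem iterate (d : ℕ) (hAP : ∀ E : Set T, E.Finite → ∃ U : Opens T, P U ∧ E ⊆ U)
    (hQ0 : ∀ p : LTSeries (IrreducibleCloseds T), p.length ≤ d) (m : ℕ) :
    ∃ U : Fin m → Opens T, (∀ i, P (U i)) ∧ ∀ p : LTSeries (IrreducibleCloseds T),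
      (p.last : Set T) ⊆ {x | ∀ i, x ∉ U i} → p.length + m ≤ d := by
  induction m with
  | zero => exact ⟨fun i => i.elim0, fun i => i.elim0, fun p _ => hQ0 p⟩
  | succ m ih =>
    obtain ⟨U, hU, hQ⟩ := ih
    have hZ : IsClosed {x : T | ∀ i, x ∉ U i} := by
      have : {x : T | ∀ i, x ∉ U i} = ⋂ i, ((U i : Set T))ᶜ := by
        ext x
        simp
      rw [this]
      exact isClosed_iInter fun i => (U i).isOpen.isClosed_compl
    obtain ⟨U', hU', hQ'⟩ := step P d hAP _ hZ m hQ
    refine ⟨Fin.cons U' U, ?_, fun p hp => hQ' p (hp.trans ?_)⟩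
    · intro i
      refine Fin.cases ?_ (fun k => ?_) i
      · simpa using hU'
      · simpa using hU k
    · intro x hx
      refine ⟨fun k => ?_, ?_⟩
      · have := hx k.succ
        simpa using this
      · have := hx 0
        simpa using this

theorem exists_cover (d : ℕ) (hAP : ∀ E : Set T, E.Finite → ∃ U : Opens T, P U ∧ E ⊆ U)
    (hQ0 : ∀ p : LTSeries (IrreducibleCloseds T), p.length ≤ d) :
    ∃ U : Fin (d + 1) → Opens T, (∀ i, P (U i)) ∧ ⨆ i, U i = ⊤ := by
  obtain ⟨U, hU, hQ⟩ := iterate P d hAP hQ0 (d + 1)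
  refine ⟨U, hU, eq_top_iff.mpr fun x _ => ?_⟩
  by_contra hx
  have hx' : ∀ i, x ∉ U i := fun i hi => hx (Opens.mem_iSup.mpr ⟨i, hi⟩)
  have hZ : IsClosed {x : T | ∀ i, x ∉ U i} := by
    have : {x : T | ∀ i, x ∉ U i} = ⋂ i, ((U i : Set T))ᶜ := by
      ext x
      simp
    rw [this]
    exact isClosed_iInter fun i => (U i).isOpen.isClosed_compl
  have h := hQ (RelSeries.singleton _
    ⟨closure {x}, isIrreducible_singleton.closure, isClosed_closure⟩) (by
      rw [RelSeries.last_singleton]
      exact closure_minimal (Set.singleton_subset_iff.mpr hx') hZ)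
  have hl : (RelSeries.singleton {(a, b) : IrreducibleCloseds T × IrreducibleCloseds T | a < b}
    ⟨closure {x}, isIrreducible_singleton.closure, isClosed_closure⟩).length = 0 := rfl
  omega

end Top

theorem main (A : Type u) [CommRing A] [IsNoetherianRing A] (n d : ℕ) {X : Scheme.{u}}
    (j : X ⟶ CohB1.ProjSpaceOver n (Spec (CommRingCat.of A))) [IsImmersion j]
    (hX : topologicalKrullDim ↥X = d) :
    ∃ U : Fin (d + 1) → X.Opens, (∀ i, IsAffineOpen (U i)) ∧ ⨆ i, U i = ⊤ := by
  have : IsNoetherianRing ↑(CommRingCat.of A) := ‹IsNoetherianRing A›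
  haveI : IsProper (CohB1.ProjSpaceOver.toBase n (Spec (CommRingCat.of A))) :=
    Groth.Agent.S9705.isProper_toBase (n := n) (Spec (CommRingCat.of A))
  haveI : IsLocallyNoetherian (CohB1.ProjSpaceOver n (Spec (CommRingCat.of A))) :=
    LocallyOfFiniteType.isLocallyNoetherian
      (CohB1.ProjSpaceOver.toBase n (Spec (CommRingCat.of A)))
  haveI : CompactSpace (CohB1.ProjSpaceOver n (Spec (CommRingCat.of A))) :=
    QuasiCompact.compactSpace_of_compactSpace
      (CohB1.ProjSpaceOver.toBase n (Spec (CommRingCat.of A)))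
  haveI : IsNoetherian (CohB1.ProjSpaceOver n (Spec (CommRingCat.of A))) := {}
  haveI : NoetherianSpace (CohB1.ProjSpaceOver n (Spec (CommRingCat.of A))) := inferInstance
  haveI : NoetherianSpace X := j.isEmbedding.isInducing.noetherianSpace
  haveI : CompactSpace X := inferInstance
  haveI : QuasiCompact (j ≫ CohB1.ProjSpaceOver.toBase n (Spec (CommRingCat.of A))) :=
    quasiCompact_of_noetherianSpace_source _
  have hrel := Groth.Agent.H22.VeryAmpleConv.isRelAmple_of_isRelVeryAmplePn
    (j ≫ CohB1.ProjSpaceOver.toBase n (Spec (CommRingCat.of A)))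
    ((Scheme.Modules.pullback j).obj (Twist.twistOver n (Spec (CommRingCat.of A)) 1))
    ⟨n, j, inferInstance, rfl, ⟨Iso.refl _⟩⟩
  have hamp : CohB1.IsAmple
      ((Scheme.Modules.pullback j).obj (Twist.twistOver n (Spec (CommRingCat.of A)) 1)) :=
    (Groth.Agent.S4381.result _ _).mp hrel
  have hQ0 : ∀ p : LTSeries (IrreducibleCloseds X), p.length ≤ d := by
    intro p
    have h1 := LTSeries.length_le_krullDim p
    rw [show krullDim (IrreducibleCloseds X) = (d : WithBot ℕ∞) from hX] at h1
    exact_mod_cast h1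
  exact exists_cover (fun U : Opens X => IsAffineOpen U) d (fun E hE => by
    obtain ⟨W₀, h1, h2, -⟩ := Groth.Agent.H18.FinPtsAmple.exists_affine_of_finite hamp ⊤ E hE
      (fun _ _ => trivial)
    exact ⟨W₀, h1, h2⟩) hQ0

end Groth.Agent.H86.AffineCoverDim
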