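import Mathlib
import Groth.Agent.S7931

set_option autoImplicit false
universe u
open AlgebraicGeometry CategoryTheory CategoryTheory.Limits

namespace Groth.Agent.H86.ApproxSch

theorem isDVR_of_dim_one (A : Type u) [CommRing A] [IsDomain A] [IsLocalRing A]
    [IsNoetherianRing A] [IsIntegrallyClosed A] (h : ringKrullDim A = 1) :
    IsDiscreteValuationRing A := by
  have hnf : ¬ IsField A := by
    intro hf
    have h0 : ringKrullDim A = 0 := ringKrullDim_eq_zero_of_isField hf
    rw [h] at h0
    exact one_ne_zero h0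
  have hle : Ring.KrullDimLE 1 A := Ring.krullDimLE_iff.mpr (by rw [h]; rfl)
  have tf := (IsDiscreteValuationRing.TFAE A hnf).out 0 3
  refine tf.mpr ⟨inferInstance, ?_⟩
  have hm : IsLocalRing.maximalIdeal A ≠ ⊥ :=
    IsLocalRing.isField_iff_maximalIdeal_eq.not.mp hnf
  refine ⟨IsLocalRing.maximalIdeal A, ⟨hm, inferInstance⟩, ?_⟩
  rintro P ⟨hP0, hPp⟩
  exact IsLocalRing.eq_maximalIdeal (hPp.isMaximal_of_ne_bot hP0)

section vsub
variable (A K : Type u) [CommRing A] [Field K] [Algebra A K]

/-- The valuation subring given by the image of `A` in `K`. -/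
noncomputable def vsub
    (h : ∀ x : K, (∃ a, algebraMap A K a = x) ∨ (∃ a, algebraMap A K a = x⁻¹)) :
    ValuationSubring K :=
  { (algebraMap A K).range with
    mem_or_inv_mem' := by
      intro x
      rcases h x with ⟨a, ha⟩ | ⟨a, ha⟩
      · exact Or.inl ⟨a, ha⟩
      · exact Or.inr ⟨a, ha⟩ }

variable {A K}

theorem mem_vsub (h : ∀ x : K, (∃ a, algebraMap A K a = x) ∨ (∃ a, algebraMap A K a = x⁻¹))
    (x : K) : x ∈ vsub A K h ↔ ∃ a, algebraMap A K a = x := Iff.rfl

variable (A K)

noncomputable def vsubEquiv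
    (h : ∀ x : K, (∃ a, algebraMap A K a = x) ∨ (∃ a, algebraMap A K a = x⁻¹))
    (hinj : Function.Injective (algebraMap A K)) : A ≃+* vsub A K h :=
  RingEquiv.ofBijective
    ((algebraMap A K).codRestrict (vsub A K h) (fun a => (mem_vsub h _).mpr ⟨a, rfl⟩))
    ⟨fun a b hab => hinj (congrArg Subtype.val hab),
      fun z => by
        obtain ⟨a, ha⟩ := (mem_vsub h _).mp z.2
        exact ⟨a, Subtype.ext ha⟩⟩

variable {A K}

theorem coe_vsubEquiv
    (h : ∀ x : K, (∃ a, algebraMap A K a = x) ∨ (∃ a, algebraMap A K a = x⁻¹))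
    (hinj : Function.Injective (algebraMap A K)) (a : A) :
    ((vsubEquiv A K h hinj a : vsub A K h) : K) = algebraMap A K a := rfl

theorem algebraMap_vsubEquiv_symm
    (h : ∀ x : K, (∃ a, algebraMap A K a = x) ∨ (∃ a, algebraMap A K a = x⁻¹))
    (hinj : Function.Injective (algebraMap A K)) (z : vsub A K h) :
    algebraMap A K ((vsubEquiv A K h hinj).symm z) = (z : K) := by
  rw [← coe_vsubEquiv h hinj, RingEquiv.apply_symm_apply]

end vsub

theorem exists_lift {A B K : Type u} [CommRing A] [CommRing B] [Field K] (f : A →+* K)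
    (g : B →+* K) (hf : Function.Injective f) (h : ∀ b, ∃ a, f a = g b) :
    ∃ φ : B →+* A, f.comp φ = g := by
  choose a ha using h
  refine ⟨{ toFun := a
            map_one' := hf (by rw [ha, map_one, map_one])
            map_mul' := fun b b' => hf (by rw [ha, map_mul, map_mul, ha, ha])
            map_zero' := hf (by rw [ha, map_zero, map_zero])
            map_add' := fun b b' => hf (by rw [ha, map_add, map_add, ha, ha]) }, ?_⟩
  exact RingHom.ext fun b => ha b

theorem isDominant_SpecMap_of_injective {R S : CommRingCat.{u}} (f : R ⟶ S)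
    (hf : Function.Injective f.hom) : IsDominant (Spec.map f) := by
  constructor
  have : RingHom.ker f.hom ≤ nilradical R := by
    rw [(RingHom.injective_iff_ker_eq_bot f.hom).mp hf]
    exact bot_le
  exact (PrimeSpectrum.denseRange_comap_iff_ker_le_nilRadical (f := f.hom)).mpr this

set_option backward.isDefEq.respectTransparency.types false in
theorem eq_of_range_eq (X : Scheme.{u}) [IsIntegral X] [X.IsSeparated] (x y : X)
    (h1 : ∀ b : X.presheaf.stalk y, ∃ a : X.presheaf.stalk x,
      algebraMap (X.presheaf.stalk x) X.functionField a =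
        algebraMap (X.presheaf.stalk y) X.functionField b)
    (h2 : ∀ a : X.presheaf.stalk x, ∃ b : X.presheaf.stalk y,
      algebraMap (X.presheaf.stalk y) X.functionField b =
        algebraMap (X.presheaf.stalk x) X.functionField a) : x = y := by
  obtain ⟨φ, hφ⟩ := exists_lift (algebraMap (X.presheaf.stalk x) X.functionField)
    (algebraMap (X.presheaf.stalk y) X.functionField) (IsFractionRing.injective _ _) h1
  obtain ⟨ψ, hψ⟩ := exists_lift (algebraMap (X.presheaf.stalk y) X.functionField)
    (algebraMap (X.presheaf.stalk x) X.functionField) (IsFractionRing.injective _ _) h2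
  have hψφ : ∀ b, ψ (φ b) = b := fun b =>
    IsFractionRing.injective (X.presheaf.stalk y) X.functionField (by
      have e1 := RingHom.congr_fun hψ (φ b)
      have e2 := RingHom.congr_fun hφ b
      rw [RingHom.comp_apply] at e1 e2
      exact e1.trans e2)
  have hloc : IsLocalHom φ := ⟨fun b hb => by
    have := hb.map ψ
    rwa [hψφ] at this⟩
  let φ' : X.presheaf.stalk y ⟶ X.presheaf.stalk x := CommRingCat.ofHom φ
  have : IsLocalHom φ'.hom := hloc
  have hgx : genericPoint X ⤳ x := (genericPoint_spec X).specializes trivial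
  have hgy : genericPoint X ⤳ y := (genericPoint_spec X).specializes trivial
  have hcomp : φ' ≫ X.presheaf.stalkSpecializes hgx = X.presheaf.stalkSpecializes hgy := by
    ext b
    exact RingHom.congr_fun hφ b
  have key : X.fromSpecStalk x = Spec.map φ' ≫ X.fromSpecStalk y := by
    have : IsDominant (Spec.map (X.presheaf.stalkSpecializes hgx)) :=
      isDominant_SpecMap_of_injective _ (IsFractionRing.injective (X.presheaf.stalk x) X.functionField)
    apply ext_of_isDominant (ι := Spec.map (X.presheaf.stalkSpecializes hgx))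
    rw [Scheme.SpecMap_stalkSpecializes_fromSpecStalk, ← Category.assoc, ← Spec.map_comp, hcomp,
      Scheme.SpecMap_stalkSpecializes_fromSpecStalk]
  have h4 : (Spec.map φ' ≫ X.fromSpecStalk y) (IsLocalRing.closedPoint (X.presheaf.stalk x)) = y := by
    rw [Scheme.Hom.comp_apply, Spec_closedPoint, Scheme.fromSpecStalk_closedPoint]
  have h3 : (X.fromSpecStalk x) (IsLocalRing.closedPoint (X.presheaf.stalk x)) = x :=
    Scheme.fromSpecStalk_closedPoint
  rw [key] at h3
  exact h3.symm.trans h4

theorem main (X : Scheme.{u}) [IsIntegral X] [IsNoetherian X] [X.IsSeparated]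
    (hnor : ∀ x : X, IsIntegrallyClosed (X.presheaf.stalk x))
    {r : ℕ} (ξ : Fin r → X) (hξ : Function.Injective ξ)
    (hcodim : ∀ i, ringKrullDim (X.presheaf.stalk (ξ i)) = 1) (n : Fin r → ℤ) :
    ∃ f : X.functionField, f ≠ 0 ∧ ∀ i : Fin r,
      ∃ (ϖ : X.presheaf.stalk (ξ i)) (_ : Irreducible ϖ) (w : (X.presheaf.stalk (ξ i))ˣ),
        f = algebraMap (X.presheaf.stalk (ξ i)) X.functionField (w : X.presheaf.stalk (ξ i)) *
          algebraMap (X.presheaf.stalk (ξ i)) X.functionField ϖ ^ (n i) := by
  classical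
  rcases Nat.eq_zero_or_pos r with hr | hr
  · subst hr
    exact ⟨1, one_ne_zero, fun i => i.elim0⟩
  have hdvr : ∀ i, IsDiscreteValuationRing (X.presheaf.stalk (ξ i)) := fun i => by
    have := hnor (ξ i)
    exact isDVR_of_dim_one _ (hcodim i)
  have hmem : ∀ i, ∀ z : X.functionField,
      (∃ a, algebraMap (X.presheaf.stalk (ξ i)) X.functionField a = z) ∨
        (∃ a, algebraMap (X.presheaf.stalk (ξ i)) X.functionField a = z⁻¹) := fun i z => by
    have := hdvr i
    exact ValuationRing.isInteger_or_isInteger (X.presheaf.stalk (ξ i)) z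
  have hinjA : ∀ i, Function.Injective (algebraMap (X.presheaf.stalk (ξ i)) X.functionField) :=
    fun i => IsFractionRing.injective _ _
  let O : Fin r → ValuationSubring X.functionField :=
    fun i => vsub (X.presheaf.stalk (ξ i)) X.functionField (hmem i)
  have hO : ∀ i, IsDiscreteValuationRing (O i) := fun i => by
    have := hdvr i
    exact IsDiscreteValuationRing.RingEquivClass.isDiscreteValuationRing
      (vsubEquiv (X.presheaf.stalk (ξ i)) X.functionField (hmem i) (hinjA i))
  have hinj : Function.Injective O := by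
    intro i j hij
    apply hξ
    apply eq_of_range_eq X (ξ i) (ξ j)
    · intro b
      have hb : algebraMap (X.presheaf.stalk (ξ j)) X.functionField b ∈ O j :=
        (mem_vsub (hmem j) _).mpr ⟨b, rfl⟩
      rw [← hij] at hb
      exact (mem_vsub (hmem i) _).mp hb
    · intro a
      have ha : algebraMap (X.presheaf.stalk (ξ i)) X.functionField a ∈ O i :=
        (mem_vsub (hmem i) _).mpr ⟨a, rfl⟩
      rw [hij] at ha
      exact (mem_vsub (hmem j) _).mp ha
  obtain ⟨f, hf⟩ := Groth.Agent.S7931.result X.functionField O hO hinj (fun _ => 0) n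
  have hf' : ∀ i : Fin r,
      ∃ (ϖ : X.presheaf.stalk (ξ i)) (_ : Irreducible ϖ) (w : (X.presheaf.stalk (ξ i))ˣ),
        f = algebraMap (X.presheaf.stalk (ξ i)) X.functionField (w : X.presheaf.stalk (ξ i)) *
          algebraMap (X.presheaf.stalk (ξ i)) X.functionField ϖ ^ (n i) := by
    intro i
    obtain ⟨ϖ, hϖ, w, hfw⟩ := hf i
    let e := vsubEquiv (X.presheaf.stalk (ξ i)) X.functionField (hmem i) (hinjA i)
    refine ⟨e.symm ϖ, (MulEquiv.irreducible_iff e.symm).mpr hϖ,
      Units.map (e.symm : O i →* X.presheaf.stalk (ξ i)) w, ?_⟩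
    rw [sub_zero] at hfw
    rw [hfw, Units.coe_map]
    change _ = algebraMap _ _ (e.symm (w : O i)) * algebraMap _ _ (e.symm ϖ) ^ (n i)
    rw [algebraMap_vsubEquiv_symm, algebraMap_vsubEquiv_symm]
  refine ⟨f, ?_, hf'⟩
  obtain ⟨ϖ, hϖ, w, hfw⟩ := hf' ⟨0, hr⟩
  rw [hfw]
  have hw : algebraMap (X.presheaf.stalk (ξ ⟨0, hr⟩)) X.functionField
      (w : X.presheaf.stalk (ξ ⟨0, hr⟩)) ≠ 0 := by
    intro h0
    have := hinjA ⟨0, hr⟩ (h0.trans (map_zero _).symm)
    exact w.ne_zero this
  have hp : algebraMap (X.presheaf.stalk (ξ ⟨0, hr⟩)) X.functionField ϖ ≠ 0 := by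
    intro h0
    have := hinjA ⟨0, hr⟩ (h0.trans (map_zero _).symm)
    exact hϖ.ne_zero this
  exact mul_ne_zero hw (zpow_ne_zero _ hp)

end Groth.Agent.H86.ApproxSch
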