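import Mathlib.CategoryTheory.FiberedCategory.BasedCategory
import Mathlib.CategoryTheory.Comma.Over.Basic

/-!
Whiskering of isomorphisms of based functors, and `Over.map` of a composite as a based functor.
-/

set_option autoImplicit false

universe v₁ u₁ v₂ u₂ v₃ u₃ v₄ u₄

open CategoryTheory

namespace Groth.Agent.H86

variable {𝒮 : Type u₁} [Category.{v₁} 𝒮]
variable {𝒳 : BasedCategory.{v₂, u₂} 𝒮} {𝒴 : BasedCategory.{v₃, u₃} 𝒮} {𝒵 : BasedCategory.{v₄, u₄} 𝒮}

/-- left whiskering of an isomorphism of based functors -/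
def basedWhiskerLeftIso (F : 𝒳 ⥤ᵇ 𝒴) {G H : 𝒴 ⥤ᵇ 𝒵} (α : G ≅ H) :
    BasedFunctor.comp F G ≅ BasedFunctor.comp F H where
  hom := BasedCategory.whiskerLeft F α.hom
  inv := BasedCategory.whiskerLeft F α.inv
  hom_inv_id := by
    apply BasedNatTrans.homCategory.ext
    ext a
    change α.hom.toNatTrans.app (F.obj a) ≫ α.inv.toNatTrans.app (F.obj a) = 𝟙 _
    have := congrArg (fun t : G ⟶ G => t.toNatTrans.app (F.obj a)) α.hom_inv_id
    exact this
  inv_hom_id := by
    apply BasedNatTrans.homCategory.ext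
    ext a
    change α.inv.toNatTrans.app (F.obj a) ≫ α.hom.toNatTrans.app (F.obj a) = 𝟙 _
    have := congrArg (fun t : H ⟶ H => t.toNatTrans.app (F.obj a)) α.inv_hom_id
    exact this

/-- right whiskering of an isomorphism of based functors -/
def basedWhiskerRightIso {F G : 𝒳 ⥤ᵇ 𝒴} (α : F ≅ G) (H : 𝒴 ⥤ᵇ 𝒵) :
    BasedFunctor.comp F H ≅ BasedFunctor.comp G H where
  hom := BasedCategory.whiskerRight α.hom H
  inv := BasedCategory.whiskerRight α.inv H
  hom_inv_id := by
    apply BasedNatTrans.homCategory.ext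
    ext a
    change H.map (α.hom.toNatTrans.app a) ≫ H.map (α.inv.toNatTrans.app a) = 𝟙 _
    rw [← H.map_comp]
    have := congrArg (fun t : F ⟶ F => t.toNatTrans.app a) α.hom_inv_id
    have h2 : α.hom.toNatTrans.app a ≫ α.inv.toNatTrans.app a = 𝟙 _ := this
    rw [h2, H.map_id]
  inv_hom_id := by
    apply BasedNatTrans.homCategory.ext
    ext a
    change H.map (α.inv.toNatTrans.app a) ≫ H.map (α.hom.toNatTrans.app a) = 𝟙 _
    rw [← H.map_comp]
    have := congrArg (fun t : G ⟶ G => t.toNatTrans.app a) α.inv_hom_id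
    have h2 : α.inv.toNatTrans.app a ≫ α.hom.toNatTrans.app a = 𝟙 _ := this
    rw [h2, H.map_id]

/-- `Over.map h` as a based functor between slices -/
def overMapB {U V : 𝒮} (h : V ⟶ U) :
    BasedCategory.ofFunctor (Over.forget V) ⥤ᵇ BasedCategory.ofFunctor (Over.forget U) :=
  ⟨Over.map h, Over.mapForget_eq h⟩

theorem overMapB_comp {U V W : 𝒮} (h' : W ⟶ V) (h : V ⟶ U) :
    overMapB (h' ≫ h) = BasedFunctor.comp (overMapB h') (overMapB h) := by
  unfold overMapB BasedFunctor.comp
  congr 1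
  exact Over.mapComp_eq h' h

end Groth.Agent.H86
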