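import Mathlib
import Groth.Agent.H1.CSA.BrauerEq
import Groth.Agent.H1.CSA.SplittingField
import Groth.Agent.H1.CSA.IndexBaseChange
import Groth.Agent.H1.CSA.TensorSimple
import Groth.Agent.H1.CSA.BaseChange
import Groth.Agent.H1.CSA.Splits
import Groth.Agent.H1.CSA.CentralEquiv

/-!
# Descent of a central division algebra to a finitely generated subfield, and
Brauer groups of separable algebraic extensions (for S18519).
-/

set_option autoImplicit false
universe u
open TensorProduct Module
open Groth.Agent.H1.CSA

noncomputable section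

namespace Groth.Agent.H86.BrDescend

/-- A central simple algebra all of whose division algebras are trivial is split. -/
theorem splits_of_trivial (k : Type u) [Field k] (A : Type u) [Ring A] [Algebra k A]
    [Algebra.IsCentral k A] [IsSimpleRing A] [FiniteDimensional k A]
    (h : ∀ (Δ : Type u) [DivisionRing Δ] [Algebra k Δ] [Algebra.IsCentral k Δ]
      [FiniteDimensional k Δ], Module.finrank k Δ = 1) : Curves.Splits k A k := by
  haveI : IsArtinianRing A := IsArtinianRing.of_finite k A
  obtain ⟨r, hr, Δ, _, _, _, ⟨f⟩⟩ := IsSimpleRing.exists_algEquiv_matrix_divisionRing_finite k A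
  haveI : Algebra.IsCentral k (Matrix (Fin r) (Fin r) Δ) := isCentral_of_algEquiv f
  haveI : Algebra.IsCentral k Δ := isCentral_of_matrix k Δ r
  have h1 : Module.finrank k Δ = 1 := h Δ
  have h2 : (⊥ : Subalgebra k Δ) = ⊤ := Subalgebra.bot_eq_top_of_finrank_eq_one h1
  let e : Δ ≃ₐ[k] k :=
    (Subalgebra.topEquiv.symm.trans (Subalgebra.equivOfEq _ _ h2.symm)).trans (Algebra.botEquiv k Δ)
  exact splits_of_algEquiv_matrix r hr.out (f.trans e.mapMatrix)

section Descend

variable (K : Type u) [Field K] (F' : Type u) [Field F'] [Algebra K F']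
  (D : Type u) [DivisionRing D] [Algebra F' D] [FiniteDimensional F' D]

/-- a basis of `D` over `F'` -/
abbrev bas : Basis (Fin (finrank F' D)) F' D := Module.finBasis F' D

/-- structure constants and the coordinates of `1` -/
def Tset : Set F' :=
  Set.range (fun p : Fin (finrank F' D) × Fin (finrank F' D) × Fin (finrank F' D) =>
    (bas F' D).repr (bas F' D p.1 * bas F' D p.2.1) p.2.2) ∪
  Set.range (fun l : Fin (finrank F' D) => (bas F' D).repr 1 l)

theorem Tset_finite : (Tset F' D).Finite := (Set.finite_range _).union (Set.finite_range _)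

/-- the field of definition -/
def Efield : IntermediateField K F' := IntermediateField.adjoin K (Tset F' D)

theorem c_mem (i j l : Fin (finrank F' D)) :
    (bas F' D).repr (bas F' D i * bas F' D j) l ∈ Efield K F' D :=
  IntermediateField.subset_adjoin K _ (Or.inl ⟨(i, j, l), rfl⟩)

theorem u_mem (l : Fin (finrank F' D)) : (bas F' D).repr 1 l ∈ Efield K F' D :=
  IntermediateField.subset_adjoin K _ (Or.inr ⟨l, rfl⟩)

instance finE [Algebra.IsSeparable K F'] : FiniteDimensional K ↥(Efield K F' D) := by
  haveI : Finite ↑(Tset F' D) := (Tset_finite F' D).to_subtype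
  exact IntermediateField.finiteDimensional_adjoin
    (fun x _ => Algebra.IsSeparable.isIntegral K x)

/-- the `E`-span of the basis -/
def Pmod : Submodule ↥(Efield K F' D) D := Submodule.span _ (Set.range (bas F' D))

theorem bas_mem_P (l : Fin (finrank F' D)) : bas F' D l ∈ Pmod K F' D :=
  Submodule.subset_span ⟨l, rfl⟩

theorem smul_bas_mem_P (f : F') (hf : f ∈ Efield K F' D) (l : Fin (finrank F' D)) :
    f • bas F' D l ∈ Pmod K F' D := by
  have : f • bas F' D l = (⟨f, hf⟩ : ↥(Efield K F' D)) • bas F' D l := rfl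
  rw [this]
  exact Submodule.smul_mem _ _ (bas_mem_P K F' D l)

theorem one_mem_P : (1 : D) ∈ Pmod K F' D := by
  rw [← (bas F' D).sum_repr 1]
  exact Submodule.sum_mem _ fun l _ => smul_bas_mem_P K F' D _ (u_mem K F' D l) l

theorem mul_mem_P (x y : D) (hx : x ∈ Pmod K F' D) (hy : y ∈ Pmod K F' D) :
    x * y ∈ Pmod K F' D := by
  unfold Pmod at hx hy
  induction hx using Submodule.span_induction with
  | mem x hx =>
    obtain ⟨i, rfl⟩ := hx
    induction hy using Submodule.span_induction with
    | mem y hy =>
      obtain ⟨j, rfl⟩ := hy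
      rw [← (bas F' D).sum_repr (bas F' D i * bas F' D j)]
      exact Submodule.sum_mem _ fun l _ => smul_bas_mem_P K F' D _ (c_mem K F' D i j l) l
    | zero => rw [mul_zero]; exact Submodule.zero_mem _
    | add y z _ _ hy hz => rw [mul_add]; exact Submodule.add_mem _ hy hz
    | smul a y _ hy => rw [mul_smul_comm]; exact Submodule.smul_mem _ _ hy
  | zero => rw [zero_mul]; exact Submodule.zero_mem _
  | add x z _ _ hx hz => rw [add_mul]; exact Submodule.add_mem _ hx hz
  | smul a x _ hx => rw [smul_mul_assoc]; exact Submodule.smul_mem _ _ hx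

/-- the descended algebra -/
def D0 : Subalgebra ↥(Efield K F' D) D :=
  (Pmod K F' D).toSubalgebra (one_mem_P K F' D) (mul_mem_P K F' D)

theorem mem_D0 (x : D) : x ∈ D0 K F' D ↔ x ∈ Pmod K F' D := Submodule.mem_toSubalgebra

theorem D0_toSubmodule : Subalgebra.toSubmodule (D0 K F' D) = Pmod K F' D :=
  Submodule.toSubalgebra_toSubmodule _ _ _

/-- linear identification of `P` and `D0` -/
def ellEquiv : ↥(Pmod K F' D) ≃ₗ[↥(Efield K F' D)] ↥(D0 K F' D) :=
  (LinearEquiv.ofEq _ _ (D0_toSubmodule K F' D).symm).trans
    (Subalgebra.toSubmoduleEquiv (D0 K F' D))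

instance finP : Module.Finite ↥(Efield K F' D) ↥(Pmod K F' D) :=
  Module.Finite.span_of_finite _ (Set.finite_range _)

instance finD0 : Module.Finite ↥(Efield K F' D) ↥(D0 K F' D) :=
  Module.Finite.equiv (ellEquiv K F' D)

theorem finrank_D0 : Module.finrank ↥(Efield K F' D) ↥(D0 K F' D) = Module.finrank F' D := by
  rw [← (ellEquiv K F' D).finrank_eq]
  have hli : LinearIndependent ↥(Efield K F' D) (bas F' D) :=
    (bas F' D).linearIndependent.restrict_scalars' ↥(Efield K F' D)
  show Module.finrank ↥(Efield K F' D)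
    ↥(Submodule.span ↥(Efield K F' D) (Set.range (bas F' D))) = _
  rw [finrank_span_eq_card hli, Fintype.card_fin]

theorem D0_central [Algebra.IsCentral F' D] :
    Algebra.IsCentral ↥(Efield K F' D) ↥(D0 K F' D) where
  out := by
    intro z hz
    rw [Subalgebra.mem_center_iff] at hz
    have hzb : ∀ l, bas F' D l * z.1 = z.1 * bas F' D l := by
      intro l
      have := hz ⟨bas F' D l, (mem_D0 K F' D _).mpr (bas_mem_P K F' D l)⟩
      exact congrArg Subtype.val this
    have hzD : z.1 ∈ Subalgebra.center F' D := by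
      rw [Subalgebra.mem_center_iff]
      intro d
      rw [← (bas F' D).sum_repr d, Finset.sum_mul, Finset.mul_sum]
      refine Finset.sum_congr rfl fun l _ => ?_
      rw [smul_mul_assoc, mul_smul_comm, hzb l]
    obtain ⟨f, hf⟩ := (Algebra.IsCentral.mem_center_iff F').mp hzD
    -- coordinates of z
    have hzP : z.1 ∈ Pmod K F' D := (mem_D0 K F' D _).mp z.2
    obtain ⟨c, hc⟩ := (Submodule.mem_span_range_iff_exists_fun ↥(Efield K F' D)).mp hzP
    have hc' : ∑ l, ((c l : ↥(Efield K F' D)) : F') • bas F' D l = z.1 := hc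
    have hrepr1 : ∀ l, (bas F' D).repr z.1 l = ((c l : ↥(Efield K F' D)) : F') := by
      intro l
      rw [← hc']
      exact congrFun ((bas F' D).repr_sum_self (fun l => ((c l : ↥(Efield K F' D)) : F'))) l
    have hrepr2 : ∀ l, (bas F' D).repr z.1 l = f * (bas F' D).repr 1 l := by
      intro l
      rw [hf, Algebra.algebraMap_eq_smul_one, map_smul]
      rfl
    have hex : ∃ l, (bas F' D).repr 1 l ≠ 0 := by
      by_contra hne
      push Not at hne
      have : (bas F' D).repr 1 = 0 := Finsupp.ext hne
      rw [map_eq_zero_iff _ (bas F' D).repr.injective] at this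
      exact one_ne_zero this
    obtain ⟨l₀, hl₀⟩ := hex
    have hfE : f ∈ Efield K F' D := by
      have h1 : f = ((c l₀ : ↥(Efield K F' D)) : F') / (bas F' D).repr 1 l₀ := by
        rw [eq_div_iff hl₀, ← hrepr2, hrepr1]
      rw [h1]
      exact (Efield K F' D).div_mem (c l₀).2 (u_mem K F' D l₀)
    rw [Algebra.mem_bot]
    refine ⟨⟨f, hfE⟩, Subtype.ext ?_⟩
    rw [Subalgebra.coe_algebraMap, hf]
    rfl

end Descend

section Dir2

variable (K F : Type u) [Field K] [Field F] [Algebra K F] [Algebra.IsSeparable K F]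

/-- the hypothesis (b), for domains instead of division rings -/
theorem hb_domain
    (hb : ∀ (E : Type u) [Field E] [Algebra K E] [FiniteDimensional K E] [Algebra.IsSeparable K E]
        (D : Type u) [DivisionRing D] [Algebra E D] [Algebra.IsCentral E D] [FiniteDimensional E D]
        (M : Type u) [Field M] [Algebra K M] [Algebra E M] [Algebra F M] [IsScalarTower K E M]
        [IsScalarTower K F M],
        ∃ n : ℕ, Nonempty ((M ⊗[E] D) ≃ₐ[M] Matrix (Fin n) (Fin n) M))
    (E : Type u) [iE1 : Field E] [iE2 : Algebra K E] [iE3 : FiniteDimensional K E]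
    [iE4 : Algebra.IsSeparable K E]
    (D : Type u) [iD1 : Ring D] [iD2 : IsDomain D] [iD3 : Algebra E D]
    [iD4 : Algebra.IsCentral E D] [iD5 : FiniteDimensional E D]
    (M : Type u) [iM1 : Field M] [iM2 : Algebra K M] [iM3 : Algebra E M] [iM4 : Algebra F M]
    [iM5 : IsScalarTower K E M] [iM6 : IsScalarTower K F M] :
    ∃ n : ℕ, Nonempty ((M ⊗[E] D) ≃ₐ[M] Matrix (Fin n) (Fin n) M) :=
  @hb E iE1 iE2 iE3 iE4 D (divisionRingOfFiniteDimensional E D) iD3 iD4 iD5 M iM1 iM2 iM3 iM4
    iM5 iM6

theorem dir2
    (hb : ∀ (E : Type u) [Field E] [Algebra K E] [FiniteDimensional K E] [Algebra.IsSeparable K E]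
        (D : Type u) [DivisionRing D] [Algebra E D] [Algebra.IsCentral E D] [FiniteDimensional E D]
        (M : Type u) [Field M] [Algebra K M] [Algebra E M] [Algebra F M] [IsScalarTower K E M]
        [IsScalarTower K F M],
        ∃ n : ℕ, Nonempty ((M ⊗[E] D) ≃ₐ[M] Matrix (Fin n) (Fin n) M))
    (F' : Type u) [Field F'] [Algebra F F'] [FiniteDimensional F F'] [Algebra.IsSeparable F F']
    (D : Type u) [DivisionRing D] [Algebra F' D] [Algebra.IsCentral F' D]
    [FiniteDimensional F' D] : Module.finrank F' D = 1 := by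
  classical
  letI : Algebra K F' := ((algebraMap F F').comp (algebraMap K F)).toAlgebra
  haveI : IsScalarTower K F F' := IsScalarTower.of_algebraMap_eq (fun _ => rfl)
  haveI : Algebra.IsSeparable K F' := Algebra.IsSeparable.trans K F F'
  haveI : Algebra.IsCentral ↥(Efield K F' D) ↥(D0 K F' D) := D0_central K F' D
  haveI : Algebra.IsSeparable K ↥(Efield K F' D) :=
    Algebra.isSeparable_tower_bot_of_isSeparable K ↥(Efield K F' D) F'
  obtain ⟨n, ⟨g⟩⟩ := hb_domain K F hb ↥(Efield K F' D) ↥(D0 K F' D) F'
  let ψ : F' ⊗[↥(Efield K F' D)] ↥(D0 K F' D) →ₐ[F'] D :=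
    Algebra.TensorProduct.lift (Algebra.ofId F' D) (D0 K F' D).val
      (fun x y => Algebra.commutes x (y : D))
  haveI : IsSimpleRing ↥(D0 K F' D) :=
    @DivisionRing.isSimpleRing ↥(D0 K F' D)
      (divisionRingOfFiniteDimensional ↥(Efield K F' D) ↥(D0 K F' D))
  haveI : IsSimpleRing (F' ⊗[↥(Efield K F' D)] ↥(D0 K F' D)) := isSimpleRing_tensorProduct
  have hinj : Function.Injective ψ := by
    rcases IsSimpleRing.injective_ringHom_or_subsingleton_codomain ψ.toRingHom with h | h
    · exact h
    · exact absurd h (not_subsingleton D)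
  have hrank : Module.finrank F' (F' ⊗[↥(Efield K F' D)] ↥(D0 K F' D)) = Module.finrank F' D := by
    rw [Module.finrank_baseChange, finrank_D0]
  have hsurj : Function.Surjective ψ :=
    (LinearMap.injective_iff_surjective_of_finrank_eq_finrank hrank (f := ψ.toLinearMap)).mp hinj
  let e : D ≃ₐ[F'] Matrix (Fin n) (Fin n) F' :=
    (AlgEquiv.ofBijective ψ ⟨hinj, hsurj⟩).symm.trans g
  have hdim : Module.finrank F' D = n * n := by
    rw [e.toLinearEquiv.finrank_eq, Module.finrank_matrix, Fintype.card_fin, Module.finrank_self,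
      mul_one]
  have hpos : 0 < Module.finrank F' D := Module.finrank_pos
  have hn1 : n ≤ 1 := by
    by_contra hn
    push Not at hn
    let i0 : Fin n := ⟨0, by omega⟩
    let i1 : Fin n := ⟨1, hn⟩
    have h01 : i0 ≠ i1 := by
      intro h
      have := congrArg Fin.val h
      simp [i0, i1] at this
    have hprod : e.symm (Matrix.single i0 i0 1) * e.symm (Matrix.single i1 i1 1) = 0 := by
      rw [← map_mul, Matrix.single_mul_single_of_ne _ _ _ _ h01, map_zero]
    have hne : ∀ i : Fin n, e.symm (Matrix.single i i (1 : F')) ≠ 0 := by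
      intro i h
      have h2 : Matrix.single i i (1 : F') = 0 :=
        e.symm.injective (h.trans (map_zero e.symm).symm)
      have h3 := congrFun (congrFun h2 i) i
      simp at h3
    rcases mul_eq_zero.mp hprod with h | h
    · exact hne i0 h
    · exact hne i1 h
  have : n = 1 := by
    rcases Nat.lt_or_ge n 1 with h | h
    · have : n = 0 := by omega
      subst this
      omega
    · omega
  rw [hdim, this]

end Dir2

section Dir1

variable (K F : Type u) [Field K] [Field F] [Algebra K F] [Algebra.IsSeparable K F]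

theorem dir1
    (ha : ∀ (F' : Type u) [Field F'] [Algebra F F'] [FiniteDimensional F F']
        [Algebra.IsSeparable F F']
        (D : Type u) [DivisionRing D] [Algebra F' D] [Algebra.IsCentral F' D]
        [FiniteDimensional F' D], Module.finrank F' D = 1)
    (E : Type u) [Field E] [Algebra K E] [FiniteDimensional K E] [Algebra.IsSeparable K E]
    (D : Type u) [DivisionRing D] [Algebra E D] [Algebra.IsCentral E D] [FiniteDimensional E D]
    (M : Type u) [Field M] [Algebra K M] [Algebra E M] [Algebra F M] [IsScalarTower K E M]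
    [IsScalarTower K F M] :
    ∃ n : ℕ, Nonempty ((M ⊗[E] D) ≃ₐ[M] Matrix (Fin n) (Fin n) M) := by
  classical
  let bE := Module.finBasis K E
  let S : Set M := Set.range (fun i => algebraMap E M (bE i))
  have hS_int : ∀ x ∈ S, IsIntegral F x := by
    rintro _ ⟨i, rfl⟩
    have h1 : IsIntegral K (bE i) := Algebra.IsIntegral.isIntegral (bE i)
    have h2 : IsIntegral K (algebraMap E M (bE i)) := h1.map (IsScalarTower.toAlgHom K E M)
    exact h2.tower_top
  have hS_sep : ∀ x ∈ S, IsSeparable F x := by
    rintro _ ⟨i, rfl⟩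
    have h1 : IsSeparable K (bE i) := Algebra.IsSeparable.isSeparable K (bE i)
    have h2 : IsSeparable K (algebraMap E M (bE i)) :=
      h1.map (IsScalarTower.toAlgHom K E M) (IsScalarTower.toAlgHom K E M).toRingHom.injective
    exact h2.tower_top F
  haveI : Finite ↑S := (Set.finite_range _).to_subtype
  haveI hfin : FiniteDimensional F ↥(IntermediateField.adjoin F S) :=
    IntermediateField.finiteDimensional_adjoin hS_int
  haveI hsep : Algebra.IsSeparable F ↥(IntermediateField.adjoin F S) :=
    (IntermediateField.isSeparable_adjoin_iff_isSeparable F M).mpr hS_sep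
  have hmem : ∀ e : E, algebraMap E M e ∈ IntermediateField.adjoin F S := by
    intro e
    rw [← bE.sum_repr e, map_sum]
    refine (IntermediateField.adjoin F S).sum_mem fun i _ => ?_
    rw [Algebra.smul_def, map_mul, ← IsScalarTower.algebraMap_apply K E M,
      IsScalarTower.algebraMap_apply K F M]
    exact (IntermediateField.adjoin F S).mul_mem
      ((IntermediateField.adjoin F S).algebraMap_mem _)
      (IntermediateField.subset_adjoin F S ⟨i, rfl⟩)
  let φ : E →+* ↥(IntermediateField.adjoin F S) :=
    (algebraMap E M).codRestrict (IntermediateField.adjoin F S) hmem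
  letI : Algebra E ↥(IntermediateField.adjoin F S) := φ.toAlgebra
  haveI : IsScalarTower E ↥(IntermediateField.adjoin F S) M :=
    IsScalarTower.of_algebraMap_eq (fun x => rfl)
  haveI : IsSimpleRing (↥(IntermediateField.adjoin F S) ⊗[E] D) := isSimpleRing_tensorProduct
  haveI : Algebra.IsCentral ↥(IntermediateField.adjoin F S)
      (↥(IntermediateField.adjoin F S) ⊗[E] D) :=
    isCentral_baseChange (k := E) (A := D) ↥(IntermediateField.adjoin F S)
  have hs : Curves.Splits ↥(IntermediateField.adjoin F S)
      (↥(IntermediateField.adjoin F S) ⊗[E] D) ↥(IntermediateField.adjoin F S) :=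
    splits_of_trivial _ _ (fun Δ _ _ _ _ => ha ↥(IntermediateField.adjoin F S) Δ)
  have hs2 : Curves.Splits E D ↥(IntermediateField.adjoin F S) := splits_descend hs
  have hs3 : Curves.Splits E D M := splits_extend (k' := ↥(IntermediateField.adjoin F S)) hs2
  obtain ⟨n, _, ⟨g⟩⟩ := hs3
  exact ⟨n, ⟨g⟩⟩

end Dir1

end Groth.Agent.H86.BrDescend
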