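import Mathlib
import Groth.Prelude
import Groth.Agent.H29.FlatCM
import Groth.Agent.S9249

/-!
# (CET) : the Cohen–Macaulay property of stalks ascends along étale morphisms

For an étale morphism `α : U ⟶ X` and `u : U`, the stalk map `O_{X,α u} → O_{U,u}` is a flat local
homomorphism, essentially of finite type and formally unramified, so the closed fibre
`O_{U,u} / m_{α u} O_{U,u}` is a field, hence Cohen–Macaulay; `H29.FlatCM` gives the ascent.
-/

set_option autoImplicit false
universe u
open CategoryTheory CategoryTheory.Limits AlgebraicGeometry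

namespace Groth.Agent.H86.CL_CET

theorem cm_stalk_of_etale {U X : Scheme.{u}} (α : U ⟶ X) [Etale α] (u : U)
    (h : LocCoh.IsCohenMacaulayLocalRing (X.presheaf.stalk (α u))) :
    LocCoh.IsCohenMacaulayLocalRing (U.presheaf.stalk u) := by
  have : IsNoetherianRing (X.presheaf.stalk (α u)) := h.toIsNoetherian
  have hfl : (α.stalkMap u).hom.Flat := AlgebraicGeometry.Flat.stalkMap α u
  algebraize [(α.stalkMap u).hom]
  have hloc : IsLocalHom (algebraMap (X.presheaf.stalk (α u)) (U.presheaf.stalk u)) :=
    inferInstanceAs <| IsLocalHom (α.stalkMap u).hom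
  have hess : Algebra.EssFiniteType (X.presheaf.stalk (α u)) (U.presheaf.stalk u) := by
    rw [← RingHom.essFiniteType_algebraMap, RingHom.algebraMap_toAlgebra]
    exact LocallyOfFiniteType.stalkMap α u
  have hunr : Algebra.FormallyUnramified (X.presheaf.stalk (α u)) (U.presheaf.stalk u) := by
    rw [← RingHom.formallyUnramified_algebraMap, RingHom.algebraMap_toAlgebra]
    exact AlgebraicGeometry.FormallyUnramified.stalkMap α u
  have hflat : Module.Flat (X.presheaf.stalk (α u)) (U.presheaf.stalk u) := hfl
  have : IsNoetherianRing (U.presheaf.stalk u) :=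
    Algebra.EssFiniteType.isNoetherianRing (X.presheaf.stalk (α u)) _
  have hfld : IsField (EGA4.FibRing (X.presheaf.stalk (α u)) (U.presheaf.stalk u)) :=
    Algebra.FormallyUnramified.isField_quotient_map_maximalIdeal
  have : Nontrivial (EGA4.FibRing (X.presheaf.stalk (α u)) (U.presheaf.stalk u)) :=
    Ideal.Quotient.nontrivial_iff.mpr Groth.Agent.H29.FlatCM.mB_ne_top
  have : IsLocalRing (EGA4.FibRing (X.presheaf.stalk (α u)) (U.presheaf.stalk u)) :=
    IsLocalRing.of_surjective' (Ideal.Quotient.mk _) Ideal.Quotient.mk_surjective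
  have : IsNoetherianRing (EGA4.FibRing (X.presheaf.stalk (α u)) (U.presheaf.stalk u)) :=
    inferInstance
  exact Groth.Agent.H29.FlatCM.isCM_of_flat_of_isCM_of_isCM h
    (Groth.Agent.S9249.isCM_of_isField hfld)

end Groth.Agent.H86.CL_CET
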