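import Mathlib
import Groth.Prelude
import Groth.Agent.H60.GorTransfer

/-!
# (GET) : the Gorenstein property of stalks ascends along étale morphisms

For an étale morphism `α : U ⟶ X` and `u : U`, the stalk map `O_{X,α u} → O_{U,u}` is a flat local
homomorphism, essentially of finite type and formally unramified, so `m_{α u} O_{U,u} = m_u` and the
closed fibre is the residue field of `O_{U,u}`.  `H60.GorTransfer.flat_local_iff` concludes.
-/

set_option autoImplicit false
universe u
open CategoryTheory CategoryTheory.Limits AlgebraicGeometry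

namespace Groth.Agent.H86.CL_GET

theorem gor_stalk_of_etale {U X : Scheme.{u}} (α : U ⟶ X) [Etale α] (u : U)
    (h : LocCoh.IsGorensteinLocalRing (X.presheaf.stalk (α u))) :
    LocCoh.IsGorensteinLocalRing (U.presheaf.stalk u) := by
  have : IsNoetherianRing (X.presheaf.stalk (α u)) := h.toIsNoetherian
  have hfl : (α.stalkMap u).hom.Flat := AlgebraicGeometry.Flat.stalkMap α u
  algebraize [(α.stalkMap u).hom]
  have hloc : IsLocalHom (algebraMap (X.presheaf.stalk (α u)) (U.presheaf.stalk u)) :=
    inferInstanceAs <| IsLocalHom (α.stalkMap u).hom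
  have hess : Algebra.EssFiniteType (X.presheaf.stalk (α u)) (U.presheaf.stalk u) := by
    rw [← RingHom.essFiniteType_algebraMap, RingHom.algebraMap_toAlgebra]
    exact LocallyOfFiniteType.stalkMap α u
  have hunr : Algebra.FormallyUnramified (X.presheaf.stalk (α u)) (U.presheaf.stalk u) := by
    rw [← RingHom.formallyUnramified_algebraMap, RingHom.algebraMap_toAlgebra]
    exact AlgebraicGeometry.FormallyUnramified.stalkMap α u
  have hflat : Module.Flat (X.presheaf.stalk (α u)) (U.presheaf.stalk u) := hfl
  have : IsNoetherianRing (U.presheaf.stalk u) :=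
    Algebra.EssFiniteType.isNoetherianRing (X.presheaf.stalk (α u)) _
  have hmax : (IsLocalRing.maximalIdeal (X.presheaf.stalk (α u))).map
      (algebraMap (X.presheaf.stalk (α u)) (U.presheaf.stalk u)) =
      IsLocalRing.maximalIdeal (U.presheaf.stalk u) :=
    Algebra.FormallyUnramified.map_maximalIdeal
  have hker : RingHom.ker (IsLocalRing.residue (U.presheaf.stalk u)) =
      (IsLocalRing.maximalIdeal (X.presheaf.stalk (α u))).map
        (algebraMap (X.presheaf.stalk (α u)) (U.presheaf.stalk u)) := by
    rw [IsLocalRing.ker_residue, hmax]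
  exact (Groth.Agent.H60.GorTransfer.flat_local_iff (X.presheaf.stalk (α u))
    (U.presheaf.stalk u) (IsLocalRing.ResidueField (U.presheaf.stalk u))
    (IsLocalRing.residue _) IsLocalRing.residue_surjective hker).mpr
    ⟨h, Groth.Agent.H60.GorTransfer.gor_field _⟩

end Groth.Agent.H86.CL_GET
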