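import Mathlib
import Groth.Agent.H91.Cm2Defs

/-!
# (PIFF) `ℤ[N] → ℤ[M × Y]` along the graph embedding is faithfully flat

Squad piece for helper91's S18298 (same pattern as helper26's `Fix_FFA`).
-/

set_option autoImplicit false
universe u
open CategoryTheory Limits AlgebraicGeometry MonoidalCategory CartesianMonoidalCategory MonObj Opposite
open Magnet Magnet.MonAct
open scoped TensorProduct
open Groth.Agent.H91.MagnetDense Groth.Agent.H91.Cm2Defs

namespace Groth.Agent.H86.Cm2_PIFF

attribute [local instance 10] algZ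

/-- if `G` is the disjoint union of the translates `j(N) + rep q`, then `ℤ[G]` is free over
`ℤ[N]`, hence faithfully flat. -/
theorem faithfullyFlat_phi_of_bijective {N G : Type} [AddCommMonoid N] [AddCommMonoid G]
    (j : N →+ G) {Q : Type} (rep : Q → Multiplicative G)
    (hbij : Function.Bijective
      (fun p : Q × Multiplicative N => AddMonoidHom.toMultiplicative j p.2 * rep p.1)) :
    (phi.{u} j).toRingHom.FaithfullyFlat := by
  classical
  letI alg : Algebra (MonoidAlgebra (ULift.{u} ℤ) (Multiplicative N))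
      (MonoidAlgebra (ULift.{u} ℤ) (Multiplicative G)) :=
    (phi.{u} j).toRingHom.toAlgebra
  have hsmul : ∀ (a : MonoidAlgebra (ULift.{u} ℤ) (Multiplicative N))
      (x : MonoidAlgebra (ULift.{u} ℤ) (Multiplicative G)),
      a • x = phi.{u} j a * x := fun a x => rfl
  let v : Q → MonoidAlgebra (ULift.{u} ℤ) (Multiplicative G) :=
    fun q => MonoidAlgebra.single (rep q) 1
  let Ψ : (Q →₀ MonoidAlgebra (ULift.{u} ℤ) (Multiplicative N))
      →ₗ[MonoidAlgebra (ULift.{u} ℤ) (Multiplicative N)]
      MonoidAlgebra (ULift.{u} ℤ) (Multiplicative G) :=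
    Finsupp.linearCombination _ v
  have hΨ : ∀ (q : Q) (h : Multiplicative N) (c : ULift.{u} ℤ),
      Ψ (Finsupp.single q (MonoidAlgebra.single h c)) =
        MonoidAlgebra.single (AddMonoidHom.toMultiplicative j h * rep q) c := by
    intro q h c
    show Finsupp.linearCombination _ v (Finsupp.single q (MonoidAlgebra.single h c)) = _
    rw [Finsupp.linearCombination_single, hsmul]
    show (MonoidAlgebra.mapDomainBialgHom (ULift.{u} ℤ) (AddMonoidHom.toMultiplicative j))
      (MonoidAlgebra.single h c) * MonoidAlgebra.single (rep q) 1 = _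
    rw [MonoidAlgebra.mapDomainBialgHom_single, MonoidAlgebra.single_mul_single, _root_.mul_one]
  let eG : Q × Multiplicative N ≃ Multiplicative G := Equiv.ofBijective _ hbij
  have heG : ∀ (q : Q) (h : Multiplicative N),
      eG (q, h) = AddMonoidHom.toMultiplicative j h * rep q := fun _ _ => rfl
  let Θ : MonoidAlgebra (ULift.{u} ℤ) (Multiplicative G) →+
      (Q →₀ MonoidAlgebra (ULift.{u} ℤ) (Multiplicative N)) :=
    (Finsupp.liftAddHom (fun g : Multiplicative G =>
      (Finsupp.singleAddHom (eG.symm g).1).comp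
        (MonoidAlgebra.singleAddHom (R := ULift.{u} ℤ) (eG.symm g).2))).comp
      (MonoidAlgebra.coeffAddEquiv :
        MonoidAlgebra (ULift.{u} ℤ) (Multiplicative G) ≃+ _).toAddMonoidHom
  have hΘ : ∀ (g : Multiplicative G) (c : ULift.{u} ℤ),
      Θ (MonoidAlgebra.single g c) =
        Finsupp.single (eG.symm g).1 (MonoidAlgebra.single (eG.symm g).2 c) := by
    intro g c
    show Finsupp.liftAddHom _ (MonoidAlgebra.coeff (MonoidAlgebra.single g c)) = _
    rw [MonoidAlgebra.coeff_single, Finsupp.liftAddHom_apply_single]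
    rfl
  have h1 : ∀ x, Θ (Ψ x) = x := by
    intro x
    have hcomp : Θ.comp Ψ.toAddMonoidHom = AddMonoidHom.id _ := by
      refine Finsupp.addHom_ext' fun q => ?_
      refine MonoidAlgebra.addHom_ext' fun h => ?_
      refine AddMonoidHom.ext fun c => ?_
      show Θ (Ψ (Finsupp.single q (MonoidAlgebra.single h c))) =
        Finsupp.single q (MonoidAlgebra.single h c)
      rw [hΨ, ← heG, hΘ, Equiv.symm_apply_apply]
    exact DFunLike.congr_fun hcomp x
  have h2 : ∀ y, Ψ (Θ y) = y := by
    intro y
    have hcomp : Ψ.toAddMonoidHom.comp Θ = AddMonoidHom.id _ := by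
      refine MonoidAlgebra.addHom_ext' fun g => ?_
      refine AddMonoidHom.ext fun c => ?_
      show Ψ (Θ (MonoidAlgebra.single g c)) = MonoidAlgebra.single g c
      rw [hΘ, hΨ, ← heG, Prod.mk.eta, Equiv.apply_symm_apply]
    exact DFunLike.congr_fun hcomp y
  have hbij' : Function.Bijective Ψ :=
    ⟨Function.LeftInverse.injective h1, Function.RightInverse.surjective h2⟩
  haveI : Module.Free (MonoidAlgebra (ULift.{u} ℤ) (Multiplicative N))
      (MonoidAlgebra (ULift.{u} ℤ) (Multiplicative G)) :=
    Module.Free.of_equiv (LinearEquiv.ofBijective Ψ hbij')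
  haveI : Nontrivial (MonoidAlgebra (ULift.{u} ℤ) (Multiplicative G)) := inferInstance
  show Module.FaithfullyFlat (MonoidAlgebra (ULift.{u} ℤ) (Multiplicative N))
      (MonoidAlgebra (ULift.{u} ℤ) (Multiplicative G))
  infer_instance

variable {M Z : Type} [AddCommGroup M] [AddCommGroup Z]

/-- (PIFF) -/
theorem faithfullyFlat_phi_jgr (f : M →+ Z) (Y : AddSubmonoid Z)
    (hY : Y ≤ AddMonoidHom.mrange f) :
    (phi.{u} (jgr f Y)).toRingHom.FaithfullyFlat := by
  refine faithfullyFlat_phi_of_bijective (jgr f Y) (Q := M ⧸ f.ker)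
    (fun c => Multiplicative.ofAdd ((Quotient.out c : M), (0 : ↥Y))) ⟨?_, ?_⟩
  · rintro ⟨c, n⟩ ⟨c', n'⟩ heq
    have heq' : jgr f Y (Multiplicative.toAdd n) + ((Quotient.out c : M), (0 : ↥Y)) =
        jgr f Y (Multiplicative.toAdd n') + ((Quotient.out c' : M), (0 : ↥Y)) := heq
    rw [jgr_apply, jgr_apply] at heq'
    have h1 : ((Multiplicative.toAdd n : ↥(Y.comap f)) : M) + Quotient.out c =
        ((Multiplicative.toAdd n' : ↥(Y.comap f)) : M) + Quotient.out c' :=
      congrArg Prod.fst heq'
    have h2 : f ((Multiplicative.toAdd n : ↥(Y.comap f)) : M) =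
        f ((Multiplicative.toAdd n' : ↥(Y.comap f)) : M) := by
      have := congrArg (fun p : M × ↥Y => ((p.2 : ↥Y) : Z)) heq'
      simpa using this
    have hmk : (QuotientAddGroup.mk ((Multiplicative.toAdd n : ↥(Y.comap f)) : M) : M ⧸ f.ker) =
        QuotientAddGroup.mk ((Multiplicative.toAdd n' : ↥(Y.comap f)) : M) := by
      rw [QuotientAddGroup.eq, AddMonoidHom.mem_ker, map_add, map_neg, h2, neg_add_cancel]
    have hc : c = c' := by
      have h3 := congrArg (QuotientAddGroup.mk (s := f.ker)) h1
      rw [QuotientAddGroup.mk_add, QuotientAddGroup.mk_add, QuotientAddGroup.out_eq',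
        QuotientAddGroup.out_eq', hmk] at h3
      exact add_left_cancel h3
    subst hc
    have hn : ((Multiplicative.toAdd n : ↥(Y.comap f)) : M) =
        ((Multiplicative.toAdd n' : ↥(Y.comap f)) : M) := add_right_cancel h1
    have hh : n = n' := Multiplicative.toAdd.injective (Subtype.ext hn)
    rw [hh]
  · intro g
    set m : M := (Multiplicative.toAdd g).1 with hm
    set y : ↥Y := (Multiplicative.toAdd g).2 with hy
    obtain ⟨n₀, hn₀⟩ := AddMonoidHom.mem_mrange.1 (hY y.2)
    let c : M ⧸ f.ker := QuotientAddGroup.mk (m - n₀)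
    have hout : f (Quotient.out c) = f (m - n₀) := by
      have h : (QuotientAddGroup.mk (Quotient.out c) : M ⧸ f.ker) = QuotientAddGroup.mk (m - n₀) :=
        QuotientAddGroup.out_eq' c
      rw [QuotientAddGroup.eq, AddMonoidHom.mem_ker, map_add, map_neg] at h
      exact neg_add_eq_zero.1 h
    have hfn : f (m - Quotient.out c) = (y : Z) := by
      rw [map_sub, hout, map_sub, hn₀]; abel
    have hmem : m - Quotient.out c ∈ Y.comap f := by
      show f (m - Quotient.out c) ∈ Y
      rw [hfn]; exact y.2
    refine ⟨(c, Multiplicative.ofAdd (⟨m - Quotient.out c, hmem⟩ : ↥(Y.comap f))), ?_⟩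
    apply Multiplicative.toAdd.injective
    show jgr f Y ⟨m - Quotient.out c, hmem⟩ + ((Quotient.out c : M), (0 : ↥Y)) =
      Multiplicative.toAdd g
    rw [jgr_apply]
    refine Prod.ext ?_ (Subtype.ext ?_)
    · show m - Quotient.out c + Quotient.out c = m
      abel
    · show f (m - Quotient.out c) + 0 = (y : Z)
      rw [add_zero, hfn]

end Groth.Agent.H86.Cm2_PIFF
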