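import Mathlib
import Groth.Prelude.Def_CoactBr

/-!
# (BACK) freeness over a flat neighbourhood of the image point forces trivial inertia
-/

set_option autoImplicit false
universe u
open CategoryTheory CategoryTheory.Limits MonoidalCategory CartesianMonoidalCategory MonObj
  AlgebraicGeometry

namespace Groth.Agent.H86.CoactBack

theorem trivial_of_exists_free (R A B K : Type u) [CommRing R] [CommRing A] [HopfAlgebra R A]
    [CommRing B] [Algebra R B] [HopfRep.Comod R A B] [GLin.IsCoactAlg R A B]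
    [Field K] [Algebra R K] (x : B →ₐ[R] K) (Y' : Scheme.{u})
    (c : Y' ⟶ Spec (CommRingCat.of (GLin.invariants R A B))) [Flat c] (y' : Y')
    (hy' : c.base y' =
      (Spec.map (CommRingCat.ofHom (x.toRingHom.comp (GLin.invariants R A B).val.toRingHom))).base
        (IsLocalRing.closedPoint K))
    (hfree : ∀ (T : Over (Spec (CommRingCat.of R))) (ζ : T ⟶ CoactBr.sp R B),
      (∃ t : T.left ⟶ Y', t ≫ c = ζ.left ≫
        Spec.map (CommRingCat.ofHom (GLin.invariants R A B).val.toRingHom)) →
      ∀ g : T ⟶ CoactBr.sp R A, lift g ζ ≫ (CoactBr.action R A B).act = ζ → g = 1)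
    (T : Over (Spec (CommRingCat.of R))) (h : T ⟶ CoactBr.sp R K) (g : T ⟶ CoactBr.sp R A)
    (hg : lift g (h ≫ CoactBr.pt x) ≫ (CoactBr.action R A B).act = h ≫ CoactBr.pt x) :
    g = 1 := by
  let C := GLin.invariants R A B
  let ζ : T ⟶ CoactBr.sp R B := h ≫ CoactBr.pt x
  let v : (CoactBr.sp R B).left ⟶ Spec (CommRingCat.of C) :=
    Spec.map (CommRingCat.ofHom C.val.toRingHom)
  let q : T.left ⟶ Spec (CommRingCat.of C) := ζ.left ≫ v
  let xv : (CoactBr.sp R K).left ⟶ Spec (CommRingCat.of C) :=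
    Spec.map (CommRingCat.ofHom (x.toRingHom.comp C.val.toRingHom))
  have hxv : (CoactBr.pt x).left ≫ v = xv := by
    show Spec.map (CommRingCat.ofHom x.toRingHom) ≫ Spec.map (CommRingCat.ofHom C.val.toRingHom) =
      Spec.map (CommRingCat.ofHom (x.toRingHom.comp C.val.toRingHom))
    rw [CommRingCat.ofHom_comp C.val.toRingHom x.toRingHom, Spec.map_comp]
  have hq : q = h.left ≫ xv := by
    show (h.left ≫ (CoactBr.pt x).left) ≫ v = h.left ≫ xv
    rw [Category.assoc, hxv]
  have hpts : ∀ τ : T.left, q.base τ = c.base y' := by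
    intro τ
    rw [hy', hq]
    have h1 : h.left.base τ = (IsLocalRing.closedPoint K : PrimeSpectrum K) :=
      Subsingleton.elim (α := PrimeSpectrum K) _ _
    show xv.base (h.left.base τ) = _
    rw [h1]
    rfl
  let fst := pullback.fst q c
  let snd := pullback.snd q c
  haveI : Surjective fst := ⟨fun τ => by
    obtain ⟨z, hz, -⟩ := Scheme.Pullback.exists_preimage_pullback (f := q) (g := c) τ y' (hpts τ)
    exact ⟨z, hz⟩⟩
  have hepi : Epi fst := Flat.epi_of_flat_of_surjective fst
  let T' : Over (Spec (CommRingCat.of R)) := Over.mk (fst ≫ T.hom)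
  let p : T' ⟶ T := Over.homMk fst rfl
  have hpepi : Epi p := by
    have : Epi p.left := hepi
    exact Over.epi_of_epi_left p
  have hcond : fst ≫ q = snd ≫ c := pullback.condition
  have h1 : p ≫ g = 1 := by
    refine hfree T' (p ≫ ζ) ⟨snd, ?_⟩ (p ≫ g) ?_
    · show snd ≫ c = (fst ≫ ζ.left) ≫ v
      rw [Category.assoc]
      exact hcond.symm
    · rw [← comp_lift, Category.assoc, hg]
  have hp1 : p ≫ (1 : T ⟶ CoactBr.sp R A) = 1 := by
    rw [Hom.one_def, Hom.one_def, ← Category.assoc, comp_toUnit]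
  exact (cancel_epi p).mp (h1.trans hp1.symm)

end Groth.Agent.H86.CoactBack
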