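import Mathlib
import Groth.Prelude.Def_CoactBr

/-!
# (CMP) a common algebraically closed overfield; (DESC) an fpqc cover changing the field of a point
-/

set_option autoImplicit false
universe u
open CategoryTheory CategoryTheory.Limits AlgebraicGeometry

namespace Groth.Agent.H86.CoactCmpDesc

/-- (CMP) -/
theorem exists_algClosed_compositum (R K₁ K₂ : Type u) [CommRing R] [Field K₁] [Field K₂]
    [Algebra R K₁] [Algebra R K₂]
    (hq : RingHom.ker (algebraMap R K₁) = RingHom.ker (algebraMap R K₂)) :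
    ∃ (K : Type u) (_ : Field K) (_ : IsAlgClosed K) (_ : Algebra R K),
      Nonempty (K₁ →ₐ[R] K) ∧ Nonempty (K₂ →ₐ[R] K) := by
  let f : Spec (CommRingCat.of K₁) ⟶ Spec (CommRingCat.of R) :=
    Spec.map (CommRingCat.ofHom (algebraMap R K₁))
  let g : Spec (CommRingCat.of K₂) ⟶ Spec (CommRingCat.of R) :=
    Spec.map (CommRingCat.ofHom (algebraMap R K₂))
  let x : Spec (CommRingCat.of K₁) := (⟨⊥, Ideal.isPrime_bot⟩ : PrimeSpectrum K₁)
  let y : Spec (CommRingCat.of K₂) := (⟨⊥, Ideal.isPrime_bot⟩ : PrimeSpectrum K₂)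
  have hxy : f x = g y := by
    apply PrimeSpectrum.ext
    show Ideal.comap (algebraMap R K₁) ⊥ = Ideal.comap (algebraMap R K₂) ⊥
    rw [← RingHom.ker_eq_comap_bot, ← RingHom.ker_eq_comap_bot, hq]
  obtain ⟨z, -, -⟩ := Scheme.Pullback.exists_preimage_pullback (f := f) (g := g) x y hxy
  let κ := (pullback f g).residueField z
  let m₁ : Spec κ ⟶ Spec (CommRingCat.of K₁) :=
    (pullback f g).fromSpecResidueField z ≫ pullback.fst f g
  let m₂ : Spec κ ⟶ Spec (CommRingCat.of K₂) :=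
    (pullback f g).fromSpecResidueField z ≫ pullback.snd f g
  have hm : m₁ ≫ f = m₂ ≫ g := by
    simp only [m₁, m₂, Category.assoc, pullback.condition]
  let φ₁ : K₁ →+* κ := (Spec.preimage m₁).hom
  let φ₂ : K₂ →+* κ := (Spec.preimage m₂).hom
  have hφ : φ₁.comp (algebraMap R K₁) = φ₂.comp (algebraMap R K₂) := by
    have h1 : Spec.map (CommRingCat.ofHom (algebraMap R K₁) ≫ Spec.preimage m₁) =
        Spec.map (CommRingCat.ofHom (algebraMap R K₂) ≫ Spec.preimage m₂) := by
      rw [Spec.map_comp, Spec.map_comp, Spec.map_preimage, Spec.map_preimage]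
      exact hm
    have h2 := Spec.map_injective h1
    exact congrArg CommRingCat.Hom.hom h2
  let K := AlgebraicClosure κ
  letI : Algebra R K := ((algebraMap κ K).comp (φ₁.comp (algebraMap R K₁))).toAlgebra
  refine ⟨K, inferInstance, inferInstance, inferInstance,
    ⟨{ toRingHom := (algebraMap κ K).comp φ₁, commutes' := fun r => rfl }⟩,
    ⟨{ toRingHom := (algebraMap κ K).comp φ₂, commutes' := fun r => ?_ }⟩⟩
  show algebraMap κ K (φ₂ (algebraMap R K₂ r)) = algebraMap κ K (φ₁ (algebraMap R K₁ r))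
  have := congrArg (fun ψ => ψ r) hφ
  exact congrArg (algebraMap κ K) this.symm

/-- (DESC) -/
theorem exists_epi_cover {R K₂ K : Type u} [CommRing R] [Field K₂] [Field K] [Algebra R K₂]
    [Algebra R K] (j : K₂ →ₐ[R] K) (T : Over (Spec (CommRingCat.of R)))
    (h : T ⟶ CoactBr.sp R K₂) :
    ∃ (T' : Over (Spec (CommRingCat.of R))) (p : T' ⟶ T) (h' : T' ⟶ CoactBr.sp R K),
      Epi p ∧ p ≫ h = h' ≫ CoactBr.pt j := by
  let g : Spec (CommRingCat.of K) ⟶ (CoactBr.sp R K₂).left :=
    Spec.map (CommRingCat.ofHom j.toRingHom)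
  haveI : Flat g := by
    show Flat (Spec.map (CommRingCat.ofHom j.toRingHom))
    rw [Flat.SpecMap_iff]
    show j.toRingHom.Flat
    letI := j.toRingHom.toAlgebra
    show Module.Flat K₂ K
    infer_instance
  haveI : Surjective g := ⟨fun (a : PrimeSpectrum K₂) => ⟨(⟨⊥, Ideal.isPrime_bot⟩ : PrimeSpectrum K), by
    apply PrimeSpectrum.ext
    have ha : (a : PrimeSpectrum K₂).asIdeal = ⊥ :=
      ((Ideal.eq_bot_or_top _).resolve_right (a : PrimeSpectrum K₂).2.ne_top)
    rw [ha]
    show Ideal.comap j.toRingHom ⊥ = ⊥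
    rw [← RingHom.ker_eq_comap_bot]
    exact (RingHom.injective_iff_ker_eq_bot _).mp j.toRingHom.injective⟩⟩
  let fst := pullback.fst h.left g
  let snd := pullback.snd h.left g
  have hepi : Epi fst := Flat.epi_of_flat_of_surjective fst
  have hw1 : h.left ≫ (CoactBr.sp R K₂).hom = T.hom := Over.w h
  have hw2 : g ≫ (CoactBr.sp R K₂).hom = (CoactBr.sp R K).hom := Over.w (CoactBr.pt j)
  let T' : Over (Spec (CommRingCat.of R)) := Over.mk (fst ≫ T.hom)
  let p : T' ⟶ T := Over.homMk fst rfl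
  have hcond : fst ≫ h.left = snd ≫ g := pullback.condition
  let h' : T' ⟶ CoactBr.sp R K := Over.homMk snd (by
    show snd ≫ (CoactBr.sp R K).hom = fst ≫ T.hom
    calc snd ≫ (CoactBr.sp R K).hom = snd ≫ (g ≫ (CoactBr.sp R K₂).hom) := by rw [hw2]
      _ = (snd ≫ g) ≫ (CoactBr.sp R K₂).hom := (Category.assoc _ _ _).symm
      _ = (fst ≫ h.left) ≫ (CoactBr.sp R K₂).hom :=
          congrArg (· ≫ (CoactBr.sp R K₂).hom) hcond.symm
      _ = fst ≫ (h.left ≫ (CoactBr.sp R K₂).hom) := Category.assoc _ _ _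
      _ = fst ≫ T.hom := by rw [hw1])
  refine ⟨T', p, h', ?_, ?_⟩
  · have : Epi p.left := hepi
    exact Over.epi_of_epi_left p
  · apply Over.OverMorphism.ext
    show fst ≫ h.left = snd ≫ g
    exact hcond

end Groth.Agent.H86.CoactCmpDesc
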