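import Mathlib
import Groth.Prelude.Def_CoactBr

/-!
# The ring-level action groupoid of a comodule algebra (definitions only)

`B` a comodule algebra over the Hopf algebra `A` over `R`.  The affine groupoid `G × X ⇉ X`
has coordinate rings `B` (objects), `B ⊗ A` (arrows), `(B ⊗ A) ⊗ A` (composable pairs) and
structure maps `s t e p₀ p₁ c` below, in the conventions of `Groth.Agent.H49.PolyTrick`.
-/

set_option autoImplicit false
universe u
open TensorProduct

namespace Groth.Agent.H86.CoactGrpd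

variable (R A B : Type u) [CommRing R] [CommRing A] [HopfAlgebra R A]
  [CommRing B] [Algebra R B] [HopfRep.Comod R A B] [GLin.IsCoactAlg R A B]

/-- source: `b ↦ b ⊗ 1` -/
noncomputable def s : B →+* B ⊗[R] A :=
  (Algebra.TensorProduct.includeLeft : B →ₐ[R] B ⊗[R] A).toRingHom

/-- target: the coaction `b ↦ ρ b` -/
noncomputable def t : B →+* B ⊗[R] A := (GLin.coactAlgHom R A B).toRingHom

/-- identity: `b ⊗ a ↦ ε(a) • b` -/
noncomputable def e : B ⊗[R] A →+* B :=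
  ((Algebra.TensorProduct.rid R R B).toAlgHom.comp
    (Algebra.TensorProduct.map (AlgHom.id R B) (Bialgebra.counitAlgHom R A))).toRingHom

/-- `w ↦ w ⊗ 1` -/
noncomputable def p₁ : B ⊗[R] A →+* (B ⊗[R] A) ⊗[R] A :=
  (Algebra.TensorProduct.includeLeft : B ⊗[R] A →ₐ[R] (B ⊗[R] A) ⊗[R] A).toRingHom

/-- `b ⊗ a ↦ ρ b ⊗ a` -/
noncomputable def p₀ : B ⊗[R] A →+* (B ⊗[R] A) ⊗[R] A :=
  (Algebra.TensorProduct.map (GLin.coactAlgHom R A B) (AlgHom.id R A)).toRingHom

/-- `b ⊗ a ↦ (b ⊗ a₁) ⊗ a₂` -/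
noncomputable def c : B ⊗[R] A →+* (B ⊗[R] A) ⊗[R] A :=
  ((Algebra.TensorProduct.assoc R R R B A A).symm.toAlgHom.comp
    (Algebra.TensorProduct.map (AlgHom.id R B) (Bialgebra.comulAlgHom R A))).toRingHom

lemma s_apply (b : B) : s R A B b = b ⊗ₜ[R] (1 : A) := rfl

lemma t_apply (b : B) : t R A B b = GLin.coactAlgHom R A B b := rfl

lemma p₁_apply (w : B ⊗[R] A) : p₁ R A B w = w ⊗ₜ[R] (1 : A) := rfl

lemma p₀_tmul (b : B) (a : A) : p₀ R A B (b ⊗ₜ[R] a) = GLin.coactAlgHom R A B b ⊗ₜ[R] a := rfl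

lemma e_tmul (b : B) (a : A) : e R A B (b ⊗ₜ[R] a) = Coalgebra.counit (R := R) a • b := by
  simp [e]

end Groth.Agent.H86.CoactGrpd
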