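import Mathlib
import Groth.Prelude.Def_CoactBr
import Groth.Agent.H86.CoactGrpd

/-!
# (KN0) the groupoid identities `e ∘ s = id`, `e ∘ t = id`, `c ∘ t = p₀ ∘ t`
-/

set_option autoImplicit false
universe u
open TensorProduct

namespace Groth.Agent.H86.CoactKN0

open Groth.Agent.H86.CoactGrpd

variable (R A B : Type u) [CommRing R] [CommRing A] [HopfAlgebra R A]
  [CommRing B] [Algebra R B] [HopfRep.Comod R A B] [GLin.IsCoactAlg R A B]

omit [HopfRep.Comod R A B] [GLin.IsCoactAlg R A B] in
lemma map_counit_eq (z : B ⊗[R] A) :
    Algebra.TensorProduct.map (AlgHom.id R B) (Bialgebra.counitAlgHom R A) z =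
      (Coalgebra.counit (R := R) (A := A)).lTensor B z := by
  induction z using TensorProduct.induction_on with
  | zero => simp
  | tmul b a => simp
  | add x y hx hy => rw [map_add, map_add, hx, hy]

omit [HopfRep.Comod R A B] [GLin.IsCoactAlg R A B] in
lemma map_comul_eq (z : B ⊗[R] A) :
    Algebra.TensorProduct.map (AlgHom.id R B) (Bialgebra.comulAlgHom R A) z =
      (Coalgebra.comul (R := R) (A := A)).lTensor B z := by
  induction z using TensorProduct.induction_on with
  | zero => simp
  | tmul b a => simp
  | add x y hx hy => rw [map_add, map_add, hx, hy]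

lemma p₀_eq (z : B ⊗[R] A) :
    p₀ R A B z = (HopfRep.Comod.coact (k := R) (A := A) (V := B)).rTensor A z := by
  induction z using TensorProduct.induction_on with
  | zero => simp
  | tmul b a => rw [p₀_tmul]; simp
  | add x y hx hy => rw [map_add, map_add, hx, hy]

omit [HopfRep.Comod R A B] [GLin.IsCoactAlg R A B] in
lemma assoc_eq (w : (B ⊗[R] A) ⊗[R] A) :
    Algebra.TensorProduct.assoc R R R B A A w = TensorProduct.assoc R B A A w := by
  induction w using TensorProduct.induction_on with
  | zero => simp
  | tmul x a =>
    induction x using TensorProduct.induction_on with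
    | zero => simp
    | tmul b a' => simp
    | add x y hx hy => rw [TensorProduct.add_tmul, map_add, map_add, hx, hy]
  | add x y hx hy => rw [map_add, map_add, hx, hy]

theorem hes (b : B) : e R A B (s R A B b) = b := by
  rw [s_apply, e_tmul, Bialgebra.counit_one, one_smul]

theorem het (b : B) : e R A B (t R A B b) = b := by
  have h1 := congrArg (fun f => f b) (HopfRep.Comod.counit_comp (k := R) (A := A) (V := B))
  simp only [LinearMap.coe_comp, Function.comp_apply, LinearMap.flip_apply,
    TensorProduct.mk_apply] at h1
  show (Algebra.TensorProduct.rid R R B)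
    (Algebra.TensorProduct.map (AlgHom.id R B) (Bialgebra.counitAlgHom R A)
      (GLin.coactAlgHom R A B b)) = b
  rw [map_counit_eq, GLin.coactAlgHom_apply, h1]
  simp

theorem hct (b : B) : c R A B (t R A B b) = p₀ R A B (t R A B b) := by
  have h1 := congrArg (fun f => f b) (HopfRep.Comod.coassoc (k := R) (A := A) (V := B))
  simp only [LinearMap.coe_comp, Function.comp_apply, LinearEquiv.coe_coe] at h1
  apply (Algebra.TensorProduct.assoc R R R B A A).injective
  show (Algebra.TensorProduct.assoc R R R B A A)
    ((Algebra.TensorProduct.assoc R R R B A A).symm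
      (Algebra.TensorProduct.map (AlgHom.id R B) (Bialgebra.comulAlgHom R A)
        (GLin.coactAlgHom R A B b))) = _
  rw [AlgEquiv.apply_symm_apply, map_comul_eq, assoc_eq, p₀_eq, t_apply, GLin.coactAlgHom_apply,
    h1]

end Groth.Agent.H86.CoactKN0
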