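import Mathlib
import Groth.Prelude.Def_CoactBr
import Groth.Agent.H86.CoactGrpd

/-!
# (KN1), (KN2): the two pushout squares of the action groupoid of a comodule algebra
-/

set_option autoImplicit false
universe u
open TensorProduct CategoryTheory CategoryTheory.Limits

namespace Groth.Agent.H86.CoactKN12

open Groth.Agent.H86.CoactGrpd

/-- base change of `B → B ⊗ A` along a `k`-algebra map `φ : B → P'` is `P' → P' ⊗ A` -/
theorem isPushout_baseChange {k B A P' : Type u} [CommRing k] [CommRing B] [CommRing A]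
    [CommRing P'] [Algebra k B] [Algebra k A] [Algebra k P'] (φ : B →ₐ[k] P') :
    IsPushout
      (CommRingCat.ofHom (Algebra.TensorProduct.includeLeft : B →ₐ[k] B ⊗[k] A).toRingHom)
      (CommRingCat.ofHom φ.toRingHom)
      (CommRingCat.ofHom (Algebra.TensorProduct.map φ (AlgHom.id k A)).toRingHom)
      (CommRingCat.ofHom (Algebra.TensorProduct.includeLeft : P' →ₐ[k] P' ⊗[k] A).toRingHom) := by
  have w : CommRingCat.ofHom (Algebra.TensorProduct.includeLeft : B →ₐ[k] B ⊗[k] A).toRingHom ≫
      CommRingCat.ofHom (Algebra.TensorProduct.map φ (AlgHom.id k A)).toRingHom =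
      CommRingCat.ofHom φ.toRingHom ≫
        CommRingCat.ofHom (Algebra.TensorProduct.includeLeft : P' →ₐ[k] P' ⊗[k] A).toRingHom := by
    ext b
    show Algebra.TensorProduct.map φ (AlgHom.id k A) (b ⊗ₜ[k] (1 : A)) = φ b ⊗ₜ[k] (1 : A)
    rw [Algebra.TensorProduct.map_tmul]
    rfl
  refine ⟨⟨w⟩, ⟨PushoutCocone.isColimitAux' _ fun cc => ?_⟩⟩
  have hc : ∀ b : B, cc.inl.hom (b ⊗ₜ[k] (1 : A)) = cc.inr.hom (φ b) := fun b =>
    congrArg (fun ψ => ψ.hom b) cc.condition
  letI : Algebra k cc.pt := (cc.inr.hom.comp (algebraMap k P')).toAlgebra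
  let g' : P' →ₐ[k] cc.pt := { toRingHom := cc.inr.hom, commutes' := fun r => rfl }
  let f' : A →ₐ[k] cc.pt :=
    { toRingHom := cc.inl.hom.comp
        (Algebra.TensorProduct.includeRight : A →ₐ[k] B ⊗[k] A).toRingHom
      commutes' := fun r => by
        show cc.inl.hom ((1 : B) ⊗ₜ[k] algebraMap k A r) = cc.inr.hom (algebraMap k P' r)
        have h1 : (1 : B) ⊗ₜ[k] algebraMap k A r = (algebraMap k B r) ⊗ₜ[k] (1 : A) := by
          rw [Algebra.algebraMap_eq_smul_one, Algebra.algebraMap_eq_smul_one,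
            TensorProduct.tmul_smul, TensorProduct.smul_tmul']
        rw [h1, hc, AlgHom.commutes] }
  let uu : P' ⊗[k] A →ₐ[k] cc.pt := Algebra.TensorProduct.lift g' f' (fun _ _ => .all _ _)
  have huu : ∀ (x : P') (a : A), uu (x ⊗ₜ[k] a) = cc.inr.hom x * cc.inl.hom ((1 : B) ⊗ₜ[k] a) :=
    fun x a => Algebra.TensorProduct.lift_tmul _ _ _ _ _
  refine ⟨CommRingCat.ofHom uu.toRingHom, ?_, ?_, ?_⟩
  · apply CommRingCat.hom_ext
    apply RingHom.ext
    intro z
    show uu (Algebra.TensorProduct.map φ (AlgHom.id k A) z) = cc.inl.hom z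
    induction z using TensorProduct.induction_on with
    | zero => simp
    | tmul b a =>
      rw [Algebra.TensorProduct.map_tmul, huu, ← hc, ← map_mul,
        Algebra.TensorProduct.tmul_mul_tmul, mul_one, one_mul]
      rfl
    | add x y hx hy => rw [map_add, map_add, map_add, hx, hy]
  · apply CommRingCat.hom_ext
    apply RingHom.ext
    intro x
    show uu (x ⊗ₜ[k] (1 : A)) = cc.inr.hom x
    rw [huu, ← Algebra.TensorProduct.one_def, map_one, mul_one]
  · intro m' h1 h2
    let mm : P' ⊗[k] A →+* cc.pt := m'.hom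
    have e1 : ∀ x : P', mm (x ⊗ₜ[k] (1 : A)) = cc.inr.hom x := fun x =>
      congrArg (fun ψ => ψ.hom x) h2
    have e2 : ∀ y : B ⊗[k] A, mm (Algebra.TensorProduct.map φ (AlgHom.id k A) y) =
        cc.inl.hom y := fun y => congrArg (fun ψ => ψ.hom y) h1
    apply CommRingCat.hom_ext
    apply RingHom.ext
    intro z
    show mm z = uu z
    clear_value mm
    induction z using TensorProduct.induction_on with
    | zero => rw [map_zero, map_zero]
    | tmul x a =>
      have e3 : x ⊗ₜ[k] a = (x ⊗ₜ[k] (1 : A)) *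
          Algebra.TensorProduct.map φ (AlgHom.id k A) ((1 : B) ⊗ₜ[k] a) := by
        rw [Algebra.TensorProduct.map_tmul, map_one, Algebra.TensorProduct.tmul_mul_tmul,
          mul_one, one_mul]
        rfl
      rw [huu]
      conv_lhs => rw [e3]
      rw [map_mul, e1, e2]
    | add x y hx hy => rw [map_add, map_add, hx, hy]

section Conv
variable {R A D : Type u} [CommRing R] [CommRing A] [HopfAlgebra R A] [CommRing D] [Algebra R D]

open WithConv in
lemma id_antipode_cancel :
    toConv (AlgHom.id R A) * toConv (HopfAlgebra.antipodeAlgHom R A) = 1 := by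
  apply WithConv.ofConv_injective
  apply AlgHom.toLinearMap_injective
  apply WithConv.toConv_injective
  rw [AlgHom.toLinearMap_convMul, AlgHom.toLinearMap_convOne]
  simp [LinearMap.id_mul_antipode]

open WithConv in
lemma comp_one (g : A →ₐ[R] D) :
    g.comp (1 : WithConv (A →ₐ[R] A)).ofConv = (1 : WithConv (A →ₐ[R] D)).ofConv := by
  ext a
  show g (algebraMap R A (Coalgebra.counit a)) = algebraMap R D (Coalgebra.counit a)
  rw [AlgHom.commutes]

open WithConv in
lemma conv_left_inv (g : A →ₐ[R] D) :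
    toConv (g.comp (HopfAlgebra.antipodeAlgHom R A)) * toConv g = 1 := by
  have h := AlgHom.comp_convMul_distrib g (toConv (HopfAlgebra.antipodeAlgHom R A))
    (toConv (AlgHom.id R A))
  rw [AlgHom.antipode_id_cancel, comp_one] at h
  simp only [WithConv.ofConv_toConv, AlgHom.comp_id] at h
  apply WithConv.ofConv_injective
  exact h.symm

open WithConv in
lemma conv_right_inv (g : A →ₐ[R] D) :
    toConv g * toConv (g.comp (HopfAlgebra.antipodeAlgHom R A)) = 1 := by
  have h := AlgHom.comp_convMul_distrib g (toConv (AlgHom.id R A))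
    (toConv (HopfAlgebra.antipodeAlgHom R A))
  rw [id_antipode_cancel, comp_one] at h
  simp only [WithConv.ofConv_toConv, AlgHom.comp_id] at h
  apply WithConv.ofConv_injective
  exact h.symm

end Conv

variable (R A B : Type u) [CommRing R] [CommRing A] [HopfAlgebra R A]
  [CommRing B] [Algebra R B] [HopfRep.Comod R A B] [GLin.IsCoactAlg R A B]

/-- (KN2) -/
theorem P2 : IsPushout (CommRingCat.ofHom (s R A B)) (CommRingCat.ofHom (t R A B))
    (CommRingCat.ofHom (p₀ R A B)) (CommRingCat.ofHom (p₁ R A B)) :=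
  isPushout_baseChange (k := R) (A := A) (GLin.coactAlgHom R A B)

/-- (KN1) -/
theorem P1 : IsPushout (CommRingCat.ofHom (s R A B)) (CommRingCat.ofHom (s R A B))
    (CommRingCat.ofHom (c R A B)) (CommRingCat.ofHom (p₁ R A B)) := by
  have ctmul : ∀ (b : B) (a : A), c R A B (b ⊗ₜ[R] a) =
      (Algebra.TensorProduct.assoc R R R B A A).symm (b ⊗ₜ[R] Coalgebra.comul (R := R) a) := by
    intro b a
    show (Algebra.TensorProduct.assoc R R R B A A).symm
      (Algebra.TensorProduct.map (AlgHom.id R B) (Bialgebra.comulAlgHom R A) (b ⊗ₜ[R] a)) = _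
    rw [Algebra.TensorProduct.map_tmul]
    rfl
  have cs : ∀ b : B, c R A B (s R A B b) = p₁ R A B (s R A B b) := by
    intro b
    rw [s_apply, ctmul, Bialgebra.comul_one, Algebra.TensorProduct.one_def,
      Algebra.TensorProduct.assoc_symm_tmul, p₁_apply]
  have w : CommRingCat.ofHom (s R A B) ≫ CommRingCat.ofHom (c R A B) =
      CommRingCat.ofHom (s R A B) ≫ CommRingCat.ofHom (p₁ R A B) := by
    ext b
    exact cs b
  refine ⟨⟨w⟩, ⟨PushoutCocone.isColimitAux' _ fun cc => ?_⟩⟩
  have hc : ∀ b : B, cc.inl.hom (s R A B b) = cc.inr.hom (s R A B b) := fun b =>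
    congrArg (fun ψ => ψ.hom b) cc.condition
  letI : Algebra R cc.pt := (cc.inr.hom.comp (algebraMap R (B ⊗[R] A))).toAlgebra
  let g' : B ⊗[R] A →ₐ[R] cc.pt := { toRingHom := cc.inr.hom, commutes' := fun r => rfl }
  have halg : ∀ r : R, algebraMap R (B ⊗[R] A) r = s R A B (algebraMap R B r) := fun r => by
    rw [s_apply, Algebra.TensorProduct.algebraMap_apply]
  let f' : B ⊗[R] A →ₐ[R] cc.pt :=
    { toRingHom := cc.inl.hom
      commutes' := fun r => by
        show cc.inl.hom (algebraMap R (B ⊗[R] A) r) = cc.inr.hom (algebraMap R (B ⊗[R] A) r)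
        rw [halg, hc] }
  let gA : A →ₐ[R] cc.pt := g'.comp Algebra.TensorProduct.includeRight
  let fA : A →ₐ[R] cc.pt := f'.comp Algebra.TensorProduct.includeRight
  have hgA : ∀ a, gA a = cc.inr.hom ((1 : B) ⊗ₜ[R] a) := fun a => rfl
  have hfA : ∀ a, fA a = cc.inl.hom ((1 : B) ⊗ₜ[R] a) := fun a => rfl
  let hh : A →ₐ[R] cc.pt := (WithConv.toConv (gA.comp (HopfAlgebra.antipodeAlgHom R A)) *
    WithConv.toConv fA).ofConv
  have hconv : WithConv.toConv gA * WithConv.toConv hh = WithConv.toConv fA := by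
    show WithConv.toConv gA * (WithConv.toConv (gA.comp (HopfAlgebra.antipodeAlgHom R A)) *
      WithConv.toConv fA) = _
    rw [← mul_assoc, conv_right_inv, one_mul]
  have hsplit : ∀ (x : B ⊗[R] A → cc.pt) (b : B) (a : A), True := fun _ _ _ => trivial
  have hinr : ∀ (b : B) (a : A), cc.inr.hom (b ⊗ₜ[R] a) = cc.inr.hom (b ⊗ₜ[R] (1 : A)) * gA a := by
    intro b a
    rw [hgA, ← map_mul, Algebra.TensorProduct.tmul_mul_tmul, mul_one, one_mul]
  have hinl : ∀ (b : B) (a : A), cc.inl.hom (b ⊗ₜ[R] a) = cc.inr.hom (b ⊗ₜ[R] (1 : A)) * fA a := by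
    intro b a
    rw [hfA, ← s_apply, ← hc, s_apply, ← map_mul, Algebra.TensorProduct.tmul_mul_tmul, mul_one,
      one_mul]
  let uu : (B ⊗[R] A) ⊗[R] A →ₐ[R] cc.pt :=
    Algebra.TensorProduct.lift g' hh (fun _ _ => .all _ _)
  have huu : ∀ (x : B ⊗[R] A) (a : A), uu (x ⊗ₜ[R] a) = cc.inr.hom x * hh a :=
    fun x a => Algebra.TensorProduct.lift_tmul _ _ _ _ _
  have key : ∀ (b : B) (ww : A ⊗[R] A),
      uu ((Algebra.TensorProduct.assoc R R R B A A).symm (b ⊗ₜ[R] ww)) =
        cc.inr.hom (b ⊗ₜ[R] (1 : A)) *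
          (Algebra.TensorProduct.lift gA hh (fun _ _ => .all _ _)) ww := by
    intro b ww
    induction ww using TensorProduct.induction_on with
    | zero => simp
    | tmul a₁ a₂ =>
      rw [Algebra.TensorProduct.assoc_symm_tmul, huu, Algebra.TensorProduct.lift_tmul, hinr,
        mul_assoc]
    | add x y hx hy => rw [TensorProduct.tmul_add, map_add, map_add, map_add, mul_add, hx, hy]
  have hlift : ∀ a : A, (Algebra.TensorProduct.lift gA hh (fun _ _ => .all _ _))
      (Coalgebra.comul (R := R) a) = fA a := by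
    intro a
    have h1 := AlgHom.convMul_apply (WithConv.toConv gA) (WithConv.toConv hh) a
    rw [hconv] at h1
    exact h1.symm
  refine ⟨CommRingCat.ofHom uu.toRingHom, ?_, ?_, ?_⟩
  · apply CommRingCat.hom_ext
    apply RingHom.ext
    intro z
    show uu (c R A B z) = cc.inl.hom z
    induction z using TensorProduct.induction_on with
    | zero => simp
    | tmul b a => rw [ctmul, key, hlift, hinl]
    | add x y hx hy => rw [map_add, map_add, map_add, hx, hy]
  · apply CommRingCat.hom_ext
    apply RingHom.ext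
    intro x
    show uu (x ⊗ₜ[R] (1 : A)) = cc.inr.hom x
    rw [huu, map_one, mul_one]
  · intro m' h1 h2
    let mm : (B ⊗[R] A) ⊗[R] A →+* cc.pt := m'.hom
    have e1 : ∀ x : B ⊗[R] A, mm (x ⊗ₜ[R] (1 : A)) = cc.inr.hom x := fun x =>
      congrArg (fun ψ => ψ.hom x) h2
    have e2 : ∀ y : B ⊗[R] A, mm (c R A B y) = cc.inl.hom y := fun y =>
      congrArg (fun ψ => ψ.hom y) h1
    apply CommRingCat.hom_ext
    apply RingHom.ext
    intro z
    show mm z = uu z
    clear_value mm
    let hA' : A →ₐ[R] cc.pt :=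
      { toRingHom := mm.comp
          (Algebra.TensorProduct.includeRight : A →ₐ[R] (B ⊗[R] A) ⊗[R] A).toRingHom
        commutes' := fun r => by
          show mm ((1 : B ⊗[R] A) ⊗ₜ[R] algebraMap R A r) = cc.inr.hom (algebraMap R (B ⊗[R] A) r)
          have h3 : (1 : B ⊗[R] A) ⊗ₜ[R] algebraMap R A r =
              (algebraMap R (B ⊗[R] A) r) ⊗ₜ[R] (1 : A) := by
            rw [Algebra.algebraMap_eq_smul_one, Algebra.algebraMap_eq_smul_one,
              TensorProduct.tmul_smul, TensorProduct.smul_tmul']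
          rw [h3, e1] }
    have hhA' : ∀ a, hA' a = mm ((1 : B ⊗[R] A) ⊗ₜ[R] a) := fun a => rfl
    have key' : ∀ ww : A ⊗[R] A,
        (Algebra.TensorProduct.lift gA hA' (fun _ _ => .all _ _)) ww =
          mm ((Algebra.TensorProduct.assoc R R R B A A).symm ((1 : B) ⊗ₜ[R] ww)) := by
      intro ww
      induction ww using TensorProduct.induction_on with
      | zero => simp
      | tmul a₁ a₂ =>
        rw [Algebra.TensorProduct.assoc_symm_tmul, Algebra.TensorProduct.lift_tmul, hgA, ← e1, hhA',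
          ← map_mul, Algebra.TensorProduct.tmul_mul_tmul, mul_one, one_mul]
      | add x y hx hy => rw [TensorProduct.tmul_add, map_add, map_add, map_add, hx, hy]
    have hconv' : WithConv.toConv gA * WithConv.toConv hA' = WithConv.toConv fA := by
      apply WithConv.ofConv_injective
      apply AlgHom.ext
      intro a
      have h3 := AlgHom.convMul_apply (WithConv.toConv gA) (WithConv.toConv hA') a
      refine h3.trans ?_
      show (Algebra.TensorProduct.lift gA hA' (fun _ _ => .all _ _)) (Coalgebra.comul (R := R) a) = fA a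
      rw [key', ← ctmul, e2, hfA]
    have hAeq : hA' = hh := by
      have h4 : WithConv.toConv hA' = WithConv.toConv (gA.comp (HopfAlgebra.antipodeAlgHom R A)) *
          WithConv.toConv fA := by
        rw [← hconv', ← mul_assoc, conv_left_inv, one_mul]
      exact congrArg WithConv.ofConv h4
    induction z using TensorProduct.induction_on with
    | zero => rw [map_zero, map_zero]
    | tmul x a =>
      have e3 : x ⊗ₜ[R] a = (x ⊗ₜ[R] (1 : A)) * ((1 : B ⊗[R] A) ⊗ₜ[R] a) := by
        rw [Algebra.TensorProduct.tmul_mul_tmul, mul_one, one_mul]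
      rw [huu, ← hAeq, hhA']
      conv_lhs => rw [e3]
      rw [map_mul, e1]
    | add x y hx hy => rw [map_add, map_add, hx, hy]

end Groth.Agent.H86.CoactKN12
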