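import Mathlib
import Groth.Prelude.Def_CoactBr
import Groth.Agent.H86.CoactGrpd

/-!
# (KN3) `B ⊗ A` is a direct summand of a finite free `B`-module (via `s`)
-/

set_option autoImplicit false
universe u
open TensorProduct

namespace Groth.Agent.H86.CoactKN3

open Groth.Agent.H86.CoactGrpd

/-- `B'` is a retract of a finite free `A'`-module, for the module structure given by `f`. -/
def Pres {A' B' : Type u} [CommRing A'] [CommRing B'] (f : A' →+* B') : Prop :=
  ∃ (n : ℕ) (π : letI := f.toAlgebra; (Fin n → A') →ₗ[A'] B')
    (σ : letI := f.toAlgebra; B' →ₗ[A'] (Fin n → A')),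
    letI := f.toAlgebra; π ∘ₗ σ = LinearMap.id

theorem pres_of_finite_projective {A' B' : Type u} [CommRing A'] [CommRing B'] [Algebra A' B']
    [Module.Finite A' B'] [Module.Projective A' B'] (f : A' →+* B')
    (hf : ∀ a, f a = algebraMap A' B' a) : Pres f := by
  obtain ⟨n, π, σ, -, -, hπσ⟩ := Module.Finite.exists_comp_eq_id_of_projective A' B'
  have hsm : ∀ (c : A') (y : B'), f c * y = c • y := fun c y => by rw [hf, Algebra.smul_def]
  let πf : (Fin n → A') → B' := fun x => π x
  let σf : B' → (Fin n → A') := fun y => σ y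
  have πadd : ∀ x y, πf (x + y) = πf x + πf y := fun x y => π.map_add x y
  have πsmul : ∀ (c : A') x, πf (c • x) = f c * πf x := fun c x =>
    (π.map_smul c x).trans (hsm c (π x)).symm
  have σadd : ∀ x y, σf (x + y) = σf x + σf y := fun x y => σ.map_add x y
  have σsmul : ∀ (c : A') y, σf (f c * y) = c • σf y := fun c y => by
    show σ (f c * y) = c • σ y
    rw [hsm, σ.map_smul]
  have hcomp : ∀ y, πf (σf y) = y := fun y => congrArg (fun g => g y) hπσ
  clear_value πf σf
  letI alg2 : Algebra A' B' := f.toAlgebra
  let π' : (Fin n → A') →ₗ[A'] B' :=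
    { toFun := πf
      map_add' := πadd
      map_smul' := fun c x => πsmul c x }
  let σ' : B' →ₗ[A'] (Fin n → A') :=
    { toFun := σf
      map_add' := σadd
      map_smul' := fun c y => σsmul c y }
  exact ⟨n, π', σ', LinearMap.ext fun y => hcomp y⟩

variable (R A B : Type u) [CommRing R] [CommRing A] [HopfAlgebra R A]
  [CommRing B] [Algebra R B]

theorem exists_presentation [Module.Finite R A] [Module.Projective R A] : Pres (s R A B) :=
  pres_of_finite_projective (s R A B) (fun b => by
    rw [Algebra.TensorProduct.algebraMap_apply]; rfl)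

end Groth.Agent.H86.CoactKN3
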