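import Mathlib
import Groth.Prelude.Def_CoactBr
import Groth.Agent.H86.CoactGrpd
import Groth.Agent.H86.CoactKN0
import Groth.Agent.H86.CoactKN12
import Groth.Agent.H86.CoactKN3
import Groth.Agent.H37.CharpolyBC
import Groth.Agent.H49.FinGrpdRing

/-!
# (INT) a comodule algebra over a finite projective Hopf algebra is integral over its invariants
-/

set_option autoImplicit false
universe u
open TensorProduct CategoryTheory

namespace Groth.Agent.H86.CoactInt

open Groth.Agent.H86.CoactGrpd Groth.Agent.H86.CoactKN0 Groth.Agent.H86.CoactKN12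
  Groth.Agent.H86.CoactKN3

variable (R A B : Type u) [CommRing R] [CommRing A] [HopfAlgebra R A]
  [Module.Finite R A] [Module.Projective R A]
  [CommRing B] [Algebra R B] [HopfRep.Comod R A B] [GLin.IsCoactAlg R A B]

theorem isIntegral_eqLocus :
    Algebra.IsIntegral (RingHom.eqLocus (s R A B) (t R A B)) B := by
  obtain ⟨n, π, σ, hπσ⟩ := exists_presentation R A B
  exact Groth.Agent.H49.FinGrpdRing.isIntegral (s R A B) (t R A B) (e R A B) (p₀ R A B)
    (p₁ R A B) (c R A B) (hes R A B) (het R A B) (hct R A B) n π σ hπσ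
    (fun x => Groth.Agent.H37.CharpolyBC.charpoly_of_isPushout (P1 R A B) n π σ hπσ x)
    (fun x => Groth.Agent.H37.CharpolyBC.charpoly_of_isPushout (P2 R A B) n π σ hπσ x)

theorem isIntegral_invariants : Algebra.IsIntegral (GLin.invariants R A B) B := by
  haveI := isIntegral_eqLocus R A B
  let E := RingHom.eqLocus (s R A B) (t R A B)
  let C := GLin.invariants R A B
  have hE : ∀ r : E, (r : B) ∈ C := by
    intro r
    have h1 : s R A B r = t R A B r := r.2
    show HopfRep.Comod.coact (k := R) (A := A) (r : B) = (r : B) ⊗ₜ[R] (1 : A)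
    exact h1.symm
  let ι : E →+* C :=
    { toFun := fun r => ⟨r, hE r⟩
      map_one' := rfl
      map_mul' := fun _ _ => rfl
      map_zero' := rfl
      map_add' := fun _ _ => rfl }
  letI : Algebra E C := ι.toAlgebra
  haveI : IsScalarTower E C B := IsScalarTower.of_algebraMap_eq (fun r => rfl)
  exact ⟨fun b => (Algebra.IsIntegral.isIntegral (R := E) b).tower_top⟩

end Groth.Agent.H86.CoactInt
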