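import Mathlib
import Groth.Prelude.Def_CoactBr
import Groth.Agent.H86.CoactGrpd
import Groth.Agent.H86.CoactKN0
import Groth.Agent.H86.CoactKN3
import Groth.Agent.H49.PolyTrick

/-!
# (KN4) the kernel of `B ⊗_{B^A} B → B ⊗ A` is nil, in elementwise form
(given the two pushout squares of the action groupoid as hypotheses)
-/

set_option autoImplicit false
universe u
open TensorProduct CategoryTheory

namespace Groth.Agent.H86.CoactKN4

open Groth.Agent.H86.CoactGrpd Groth.Agent.H86.CoactKN0 Groth.Agent.H86.CoactKN3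

variable (R A B : Type u) [CommRing R] [CommRing A] [HopfAlgebra R A]
  [CommRing B] [Algebra R B] [HopfRep.Comod R A B] [GLin.IsCoactAlg R A B]

theorem ker_nil_of [Module.Finite R A] [Module.Projective R A]
    (hP1 : IsPushout (CommRingCat.ofHom (s R A B)) (CommRingCat.ofHom (s R A B))
      (CommRingCat.ofHom (c R A B)) (CommRingCat.ofHom (p₁ R A B)))
    (hP2 : IsPushout (CommRingCat.ofHom (s R A B)) (CommRingCat.ofHom (t R A B))
      (CommRingCat.ofHom (p₀ R A B)) (CommRingCat.ofHom (p₁ R A B)))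
    (K : Type u) [CommRing K] [IsReduced K] (x₁ x₂ : B →+* K)
    (hx : ∀ b ∈ GLin.invariants R A B, x₁ b = x₂ b)
    (m : ℕ) (a a' : Fin m → B)
    (h0 : ∑ j, t R A B (a j) * s R A B (a' j) = 0) :
    ∑ j, x₁ (a j) * x₂ (a' j) = 0 := by
  obtain ⟨n, π, σ, hπσ⟩ := exists_presentation R A B
  have hpow := Groth.Agent.H49.PolyTrick.pow_eq_zero (s R A B) (t R A B) (e R A B) (p₀ R A B)
    (p₁ R A B) (c R A B) (hes R A B) (het R A B) (hct R A B) hP1 hP2 n π σ hπσ m a a' h0
  let E := RingHom.eqLocus (s R A B) (t R A B)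
  have hE : ∀ r : E, (r : B) ∈ GLin.invariants R A B := by
    intro r
    have h1 : s R A B r = t R A B r := r.2
    show HopfRep.Comod.coact (k := R) (A := A) (r : B) = (r : B) ⊗ₜ[R] (1 : A)
    exact h1.symm
  letI : Algebra E K := (x₁.comp E.subtype).toAlgebra
  let x₁' : B →ₐ[E] K := { toRingHom := x₁, commutes' := fun r => rfl }
  let x₂' : B →ₐ[E] K := { toRingHom := x₂, commutes' := fun r => (hx r (hE r)).symm }
  let Φ : B ⊗[E] B →ₐ[E] K := Algebra.TensorProduct.lift x₁' x₂' (fun _ _ => .all _ _)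
  have h1 : Φ (∑ j, (a j) ⊗ₜ[E] (a' j)) = ∑ j, x₁ (a j) * x₂ (a' j) := by
    rw [map_sum]
    refine Finset.sum_congr rfl fun j _ => ?_
    rw [Algebra.TensorProduct.lift_tmul]
    rfl
  have h2 : (∑ j, x₁ (a j) * x₂ (a' j)) ^ n = 0 := by
    rw [← h1, ← map_pow, hpow, map_zero]
  exact IsReduced.eq_zero _ ⟨n, h2⟩

end Groth.Agent.H86.CoactKN4
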