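import Mathlib

/-!
# (R1b) a finitely generated direct summand killed by a field point is killed near that point
-/

set_option autoImplicit false
universe u
open TensorProduct

namespace Groth.Agent.H86.TensorKill

theorem exists_smul_eq_zero_of_tmul_eq_zero {B K Q : Type u} [CommRing B] [Field K] [Algebra B K]
    [AddCommGroup Q] [Module B Q] (M : Submodule B Q) (hM : M.FG) (r : Q →ₗ[B] M)
    (hr : ∀ m : M, r m = m) (h : ∀ m ∈ M, (1 : K) ⊗ₜ[B] m = (0 : K ⊗[B] Q)) :
    ∃ f : B, algebraMap B K f ≠ 0 ∧ ∀ m ∈ M, f • m = 0 := by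
  haveI : Module.Finite B M := Module.Finite.iff_fg.mpr hM
  have hsub : Subsingleton (K ⊗[B] M) := by
    have hz : ∀ t : K ⊗[B] M, t = 0 := by
      intro t
      induction t using TensorProduct.induction_on with
      | zero => rfl
      | tmul k m =>
        have h1 : (1 : K) ⊗ₜ[B] (m : Q) = (0 : K ⊗[B] Q) := h m m.2
        have h2 := congrArg (LinearMap.lTensor K r) h1
        rw [LinearMap.lTensor_tmul, map_zero, hr] at h2
        have h3 : k ⊗ₜ[B] m = k • ((1 : K) ⊗ₜ[B] m) := by
          rw [TensorProduct.smul_tmul', smul_eq_mul, mul_one]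
        rw [h3, h2, smul_zero]
      | add x y hx hy => rw [hx, hy, add_zero]
    exact ⟨fun a b => by rw [hz a, hz b]⟩
  let I : Ideal B := RingHom.ker (algebraMap B K)
  haveI hI : I.IsPrime := RingHom.ker_isPrime _
  let φ : I.ResidueField →+* K :=
    Ideal.ResidueField.lift I (algebraMap B K) le_rfl (by
      intro b hb
      show IsUnit (algebraMap B K b)
      exact IsUnit.mk0 _ (fun h0 => hb (RingHom.mem_ker.mpr h0)))
  letI : Algebra I.ResidueField K := φ.toAlgebra
  haveI : IsScalarTower B I.ResidueField K := IsScalarTower.of_algebraMap_eq (fun b =>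
    (Ideal.ResidueField.lift_algebraMap I (algebraMap B K) le_rfl _ b).symm)
  have e := TensorProduct.AlgebraTensorModule.cancelBaseChange B I.ResidueField
    I.ResidueField K M
  haveI : Subsingleton (K ⊗[I.ResidueField] (I.ResidueField ⊗[B] M)) :=
    e.toEquiv.injective.subsingleton
  haveI : Subsingleton (I.ResidueField ⊗[B] M) :=
    Module.FaithfullyFlat.lTensor_reflects_triviality I.ResidueField K _
  let p : PrimeSpectrum B := ⟨I, hI⟩
  have hnot : p ∉ Module.support B M := by
    rw [Module.mem_support_iff_nontrivial_residueField_tensorProduct]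
    show ¬ Nontrivial (I.ResidueField ⊗[B] M)
    exact not_nontrivial _
  rw [Module.mem_support_iff_of_finite] at hnot
  obtain ⟨f, hfann, hfp⟩ := SetLike.not_le_iff_exists.mp hnot
  refine ⟨f, fun h0 => hfp (RingHom.mem_ker.mpr h0), fun m hm => ?_⟩
  have h4 := (Module.mem_annihilator.mp hfann) ⟨m, hm⟩
  exact congrArg Subtype.val h4

end Groth.Agent.H86.TensorKill
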