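import Mathlib
import Groth.Prelude.Def_CoactBr
import Groth.Agent.H86.CoactGrpd
import Groth.Agent.H86.CoactKN0
import Groth.Agent.H86.TensorKill

/-!
# (R1) the universal stabiliser: trivial inertia at a point gives a function, nonzero at the
point, killing the augmentation ideal of the stabiliser
-/

set_option autoImplicit false
universe u
open TensorProduct

namespace Groth.Agent.H86.CoactStab

open Groth.Agent.H86.CoactGrpd Groth.Agent.H86.CoactKN0 Groth.Agent.H86.TensorKill

variable (R A B : Type u) [CommRing R] [CommRing A] [HopfAlgebra R A]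
  [CommRing B] [Algebra R B] [HopfRep.Comod R A B] [GLin.IsCoactAlg R A B]

/-- the ideal of the stabiliser subscheme of `Spec B × Spec A` -/
noncomputable def Jst : Ideal (B ⊗[R] A) :=
  Ideal.span (Set.range fun b : B => GLin.coactAlgHom R A B b - b ⊗ₜ[R] (1 : A))

lemma coact_sub_mem (b : B) :
    GLin.coactAlgHom R A B b - b ⊗ₜ[R] (1 : A) ∈ Jst R A B :=
  Ideal.subset_span ⟨b, rfl⟩

/-- a point of the stabiliser lying over a `K`-point with trivial inertia is the unit -/
theorem aug_dies {K : Type u} [Field K] [Algebra R K] (x : B →ₐ[R] K)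
    (htriv : ∀ (D : Type u) [CommRing D] [Algebra R D] (j : K →ₐ[R] D) (g : A →ₐ[R] D),
      (Algebra.TensorProduct.lift (j.comp x) g (fun _ _ => .all _ _)).comp
        (GLin.coactAlgHom R A B) = j.comp x →
      g = (Algebra.ofId R D).comp (Bialgebra.counitAlgHom R A))
    (D : Type u) [CommRing D] [Algebra R D] (j : K →ₐ[R] D) (q : B ⊗[R] A →ₐ[R] D)
    (hq1 : ∀ b : B, q (b ⊗ₜ[R] (1 : A)) = j (x b)) (hqJ : ∀ z ∈ Jst R A B, q z = 0) (a : A) :
    q ((1 : B) ⊗ₜ[R] (a - algebraMap R A (Coalgebra.counit (R := R) a))) = 0 := by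
  let g : A →ₐ[R] D := q.comp Algebra.TensorProduct.includeRight
  have hgq : ∀ a', g a' = q ((1 : B) ⊗ₜ[R] a') := fun a' => rfl
  have hlift : Algebra.TensorProduct.lift (j.comp x) g (fun _ _ => .all _ _) = q := by
    apply Algebra.TensorProduct.ext'
    intro b a'
    rw [Algebra.TensorProduct.lift_tmul, hgq, AlgHom.comp_apply, ← hq1, ← map_mul,
      Algebra.TensorProduct.tmul_mul_tmul, mul_one, one_mul]
  have hfix : (Algebra.TensorProduct.lift (j.comp x) g (fun _ _ => .all _ _)).comp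
      (GLin.coactAlgHom R A B) = j.comp x := by
    rw [hlift]
    ext b
    rw [AlgHom.comp_apply, AlgHom.comp_apply, ← hq1, ← sub_eq_zero, ← map_sub]
    exact hqJ _ (coact_sub_mem R A B b)
  have hg := htriv D j g hfix
  have h1 : q ((1 : B) ⊗ₜ[R] a) = algebraMap R D (Coalgebra.counit (R := R) a) := by
    rw [← hgq, hg]
    rfl
  have h2 : q ((1 : B) ⊗ₜ[R] algebraMap R A (Coalgebra.counit (R := R) a)) =
      algebraMap R D (Coalgebra.counit (R := R) a) := by
    have h3 : (1 : B) ⊗ₜ[R] algebraMap R A (Coalgebra.counit (R := R) a) =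
        algebraMap R (B ⊗[R] A) (Coalgebra.counit (R := R) a) := by
      rw [Algebra.TensorProduct.algebraMap_apply, Algebra.algebraMap_eq_smul_one,
        Algebra.algebraMap_eq_smul_one, TensorProduct.tmul_smul, TensorProduct.smul_tmul']
    rw [h3, q.commutes]
  rw [TensorProduct.tmul_sub, map_sub, h1, h2, sub_self]

/-- `a ↦ [1 ⊗ (a - ε a)]`, the generators of the augmentation ideal of the stabiliser -/
noncomputable def augQ : A →ₗ[R] (B ⊗[R] A) ⧸ Jst R A B :=
  (Ideal.Quotient.mkₐ R (Jst R A B)).toLinearMap ∘ₗ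
    (Algebra.TensorProduct.includeRight : A →ₐ[R] B ⊗[R] A).toLinearMap ∘ₗ
      (LinearMap.id - (Algebra.linearMap R A) ∘ₗ Coalgebra.counit)

lemma augQ_apply (a : A) : augQ R A B a = Ideal.Quotient.mk (Jst R A B)
    ((1 : B) ⊗ₜ[R] (a - algebraMap R A (Coalgebra.counit (R := R) a))) := rfl

lemma mk_smul (b : B) (z : B ⊗[R] A) :
    Ideal.Quotient.mk (Jst R A B) (b • z) = b • Ideal.Quotient.mk (Jst R A B) z := rfl

omit [HopfRep.Comod R A B] [GLin.IsCoactAlg R A B] in
lemma tmul_eq_smul (b : B) (a : A) : b ⊗ₜ[R] a = b • ((1 : B) ⊗ₜ[R] a) := by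
  rw [TensorProduct.smul_tmul', smul_eq_mul, mul_one]

lemma e_Jst (z : B ⊗[R] A) (hz : z ∈ Jst R A B) : e R A B z = 0 := by
  have hle : Jst R A B ≤ RingHom.ker (e R A B) := by
    refine Ideal.span_le.mpr ?_
    rintro _ ⟨b, rfl⟩
    show e R A B (GLin.coactAlgHom R A B b - b ⊗ₜ[R] (1 : A)) = 0
    rw [map_sub, ← t_apply, het, ← s_apply, hes, sub_self]
  exact hle hz

/-- the unit section of the stabiliser, on coordinate rings -/
noncomputable def eQ : (B ⊗[R] A) ⧸ Jst R A B →+* B :=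
  Ideal.Quotient.lift (Jst R A B) (e R A B) (e_Jst R A B)

lemma eQ_mk (z : B ⊗[R] A) : eQ R A B (Ideal.Quotient.mk (Jst R A B) z) = e R A B z := rfl

lemma e_smul (b : B) (z : B ⊗[R] A) : e R A B (b • z) = b * e R A B z := by
  have h1 : b • z = s R A B b * z := by
    rw [Algebra.smul_def, Algebra.TensorProduct.algebraMap_apply]
    rfl
  rw [h1, map_mul, hes]

/-- `eQ` as a `B`-linear map -/
noncomputable def eL : (B ⊗[R] A) ⧸ Jst R A B →ₗ[B] B where
  toFun := eQ R A B
  map_add' := (eQ R A B).map_add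
  map_smul' := fun b q => by
    obtain ⟨z, rfl⟩ := Ideal.Quotient.mk_surjective q
    rw [← mk_smul, eQ_mk, eQ_mk, e_smul]
    rfl

lemma eL_apply (q : (B ⊗[R] A) ⧸ Jst R A B) : eL R A B q = eQ R A B q := rfl

/-- the projection of the coordinate ring of the stabiliser onto its augmentation ideal -/
noncomputable def rQ : (B ⊗[R] A) ⧸ Jst R A B →ₗ[B] (B ⊗[R] A) ⧸ Jst R A B :=
  LinearMap.id - (LinearMap.toSpanSingleton B ((B ⊗[R] A) ⧸ Jst R A B) 1) ∘ₗ eL R A B

lemma rQ_apply (q : (B ⊗[R] A) ⧸ Jst R A B) :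
    rQ R A B q = q - (eQ R A B q) • (1 : (B ⊗[R] A) ⧸ Jst R A B) := rfl

lemma rQ_mk_tmul (b : B) (a : A) :
    rQ R A B (Ideal.Quotient.mk (Jst R A B) (b ⊗ₜ[R] a)) = b • augQ R A B a := by
  rw [rQ_apply, eQ_mk, e_tmul, augQ_apply, ← mk_smul, ← tmul_eq_smul, TensorProduct.tmul_sub,
    map_sub]
  congr 1
  rw [Algebra.algebraMap_eq_smul_one, TensorProduct.tmul_smul, TensorProduct.smul_tmul',
    tmul_eq_smul, ← Algebra.TensorProduct.one_def, mk_smul, map_one]

lemma eQ_augQ (a : A) : eQ R A B (augQ R A B a) = 0 := by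
  rw [augQ_apply, eQ_mk, e_tmul, map_sub, Bialgebra.counit_algebraMap, sub_self, zero_smul]

theorem exists_retraction [Module.Finite R A] :
    ∃ (M : Submodule B ((B ⊗[R] A) ⧸ Jst R A B)) (r : (B ⊗[R] A) ⧸ Jst R A B →ₗ[B] M),
      M.FG ∧ (∀ m : M, r m = m) ∧ (∀ a, augQ R A B a ∈ M) ∧
      M ≤ Submodule.span B (Set.range (augQ R A B)) := by
  classical
  obtain ⟨S, hS⟩ := (Module.Finite.fg_top : (⊤ : Submodule R A).FG)
  let M : Submodule B ((B ⊗[R] A) ⧸ Jst R A B) := Submodule.span B (augQ R A B '' (S : Set A))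
  have hmem : ∀ a : A, augQ R A B a ∈ M := by
    intro a
    have ha : a ∈ Submodule.span R (S : Set A) := by rw [hS]; trivial
    induction ha using Submodule.span_induction with
    | mem a ha => exact Submodule.subset_span ⟨a, ha, rfl⟩
    | zero => rw [map_zero]; exact M.zero_mem
    | add a b _ _ ha hb => rw [map_add]; exact M.add_mem ha hb
    | smul r a _ ha =>
      rw [map_smul, ← algebraMap_smul B r (augQ R A B a)]
      exact M.smul_mem _ ha
  have hrM : ∀ q, rQ R A B q ∈ M := by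
    intro q
    obtain ⟨z, rfl⟩ := Ideal.Quotient.mk_surjective q
    induction z using TensorProduct.induction_on with
    | zero => rw [map_zero, map_zero]; exact M.zero_mem
    | tmul b a => rw [rQ_mk_tmul]; exact M.smul_mem _ (hmem a)
    | add z w hz hw => rw [map_add, map_add]; exact M.add_mem hz hw
  have heM : ∀ m ∈ M, eQ R A B m = 0 := by
    intro m hm
    induction hm using Submodule.span_induction with
    | mem m hm =>
      obtain ⟨a, -, rfl⟩ := hm
      exact eQ_augQ R A B a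
    | zero => rw [map_zero]
    | add a b _ _ ha hb => rw [map_add, ha, hb, add_zero]
    | smul b m _ hm =>
      rw [← eL_apply, map_smul, eL_apply, hm, smul_zero]
  refine ⟨M, (rQ R A B).codRestrict M hrM, Submodule.fg_span ((S.finite_toSet).image _), ?_,
    hmem, Submodule.span_mono (Set.image_subset_range _ _)⟩
  intro m
  apply Subtype.ext
  show rQ R A B (m : (B ⊗[R] A) ⧸ Jst R A B) = m
  rw [rQ_apply, heM m m.2, zero_smul, sub_zero]

/-- (R1) -/
theorem exists_kill_of_trivial [Module.Finite R A] {K : Type u} [Field K] [Algebra R K]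
    (x : B →ₐ[R] K)
    (htriv : ∀ (D : Type u) [CommRing D] [Algebra R D] (j : K →ₐ[R] D) (g : A →ₐ[R] D),
      (Algebra.TensorProduct.lift (j.comp x) g (fun _ _ => .all _ _)).comp
        (GLin.coactAlgHom R A B) = j.comp x →
      g = (Algebra.ofId R D).comp (Bialgebra.counitAlgHom R A)) :
    ∃ f : B, x f ≠ 0 ∧ ∀ a : A, f ⊗ₜ[R] (a - algebraMap R A (Coalgebra.counit (R := R) a)) ∈
      Ideal.span (Set.range fun b : B => GLin.coactAlgHom R A B b - b ⊗ₜ[R] (1 : A)) := by
  letI algBK : Algebra B K := x.toRingHom.toAlgebra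
  haveI : IsScalarTower R B K := IsScalarTower.of_algebraMap_eq (fun r => (x.commutes r).symm)
  obtain ⟨M, r, hMfg, hr, hmem, hMle⟩ := exists_retraction R A B
  let q : B ⊗[R] A →ₐ[R] K ⊗[B] ((B ⊗[R] A) ⧸ Jst R A B) :=
    ((Algebra.TensorProduct.includeRight :
      (B ⊗[R] A) ⧸ Jst R A B →ₐ[B] K ⊗[B] ((B ⊗[R] A) ⧸ Jst R A B)).restrictScalars R).comp
        (Ideal.Quotient.mkₐ R (Jst R A B))
  have hq : ∀ z, q z = (1 : K) ⊗ₜ[B] Ideal.Quotient.mk (Jst R A B) z := fun z => rfl
  have hq1 : ∀ b : B, q (b ⊗ₜ[R] (1 : A)) =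
      (Algebra.TensorProduct.includeLeft : K →ₐ[R] K ⊗[B] ((B ⊗[R] A) ⧸ Jst R A B)) (x b) := by
    intro b
    rw [hq, tmul_eq_smul, ← Algebra.TensorProduct.one_def, mk_smul, map_one,
      TensorProduct.tmul_smul, TensorProduct.smul_tmul', Algebra.smul_def, mul_one]
    rfl
  have hqJ : ∀ z ∈ Jst R A B, q z = 0 := by
    intro z hz
    rw [hq, Ideal.Quotient.eq_zero_iff_mem.mpr hz, TensorProduct.tmul_zero]
  have hgen : ∀ a, (1 : K) ⊗ₜ[B] augQ R A B a = (0 : K ⊗[B] ((B ⊗[R] A) ⧸ Jst R A B)) :=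
    fun a => by
      have h0 := aug_dies R A B x htriv (K ⊗[B] ((B ⊗[R] A) ⧸ Jst R A B))
        Algebra.TensorProduct.includeLeft q hq1 hqJ a
      rw [hq] at h0
      exact h0
  have hspan : ∀ m ∈ Submodule.span B (Set.range (augQ R A B)),
      (1 : K) ⊗ₜ[B] m = (0 : K ⊗[B] ((B ⊗[R] A) ⧸ Jst R A B)) := by
    intro m hm
    induction hm using Submodule.span_induction with
    | mem m hm =>
      obtain ⟨a, rfl⟩ := hm
      exact hgen a
    | zero => rw [TensorProduct.tmul_zero]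
    | add a b _ _ ha hb => rw [TensorProduct.tmul_add, ha, hb, add_zero]
    | smul b m _ hm => rw [TensorProduct.tmul_smul, hm, smul_zero]
  obtain ⟨f, hf0, hfM⟩ := exists_smul_eq_zero_of_tmul_eq_zero (K := K) M hMfg r hr
    (fun m hm => hspan m (hMle hm))
  refine ⟨f, hf0, fun a => ?_⟩
  have h1 := hfM (augQ R A B a) (hmem a)
  rw [augQ_apply, ← mk_smul, ← tmul_eq_smul] at h1
  exact Ideal.Quotient.eq_zero_iff_mem.mp h1

end Groth.Agent.H86.CoactStab
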