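import Mathlib
import Groth.Prelude.Def_CoactBr

/-!
# (TP) every `T`-point of an affine scheme factors uniquely through a universal ring-valued point
-/

set_option autoImplicit false
universe u
open CategoryTheory AlgebraicGeometry Opposite

namespace Groth.Agent.H86.CoactTP

/-- morphisms to an affine scheme = ring maps to global sections, through `toSpecΓ` -/
theorem existsUnique_toSpec (X : Scheme.{u}) (P : Type u) [CommRing P]
    (m : X ⟶ Spec (CommRingCat.of P)) :
    ∃! φ : P →+* Γ(X, ⊤), m = X.toSpecΓ ≫ Spec.map (CommRingCat.ofHom φ) := by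
  have hnat : ∀ ψ : CommRingCat.of P ⟶ Γ(X, ⊤),
      (X.toSpecΓ ≫ Spec.map ψ).appTop = (Scheme.ΓSpecIso (CommRingCat.of P)).hom ≫ ψ := by
    intro ψ
    rw [Scheme.Hom.comp_appTop, Scheme.toSpecΓ_appTop, Scheme.ΓSpecIso_naturality]
  let f₀ : CommRingCat.of P ⟶ Γ(X, ⊤) := (Scheme.ΓSpecIso (CommRingCat.of P)).inv ≫ m.appTop
  have hf₀ : m = X.toSpecΓ ≫ Spec.map f₀ := by
    calc m = m ≫ ((Spec (CommRingCat.of P)).toSpecΓ ≫
          Spec.map (Scheme.ΓSpecIso (CommRingCat.of P)).inv) := by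
            rw [toSpecΓ_SpecMap_ΓSpecIso_inv, Category.comp_id]
      _ = (X.toSpecΓ ≫ Spec.map m.appTop) ≫ Spec.map (Scheme.ΓSpecIso (CommRingCat.of P)).inv := by
            rw [← Category.assoc, Scheme.toSpecΓ_naturality]
      _ = X.toSpecΓ ≫ Spec.map f₀ := by
            rw [Category.assoc, ← Spec.map_comp]
  refine ⟨f₀.hom, hf₀, ?_⟩
  intro φ hφ
  have h1 := hnat (CommRingCat.ofHom φ)
  rw [← hφ] at h1
  have h3 : CommRingCat.ofHom φ = f₀ := by
    show CommRingCat.ofHom φ = (Scheme.ΓSpecIso (CommRingCat.of P)).inv ≫ m.appTop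
    rw [h1, Iso.inv_hom_id_assoc]
  exact congrArg CommRingCat.Hom.hom h3

/-- (TP) -/
theorem exists_univ_pt (R : Type u) [CommRing R] (T : Over (Spec (CommRingCat.of R))) :
    ∃ (D : Type u) (_ : CommRing D) (_ : Algebra R D) (w : T ⟶ CoactBr.sp R D),
      (∀ (P : Type u) [CommRing P] (m : T.left ⟶ Spec (CommRingCat.of P)),
        ∃! φ : P →+* D, m = w.left ≫ Spec.map (CommRingCat.ofHom φ)) ∧
      (∀ (B' : Type u) [CommRing B'] [Algebra R B'] (ζ : T ⟶ CoactBr.sp R B'),
        ∃! φ : B' →ₐ[R] D, ζ = w ≫ CoactBr.pt φ) := by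
  obtain ⟨f₀, hf₀, -⟩ := existsUnique_toSpec T.left R T.hom
  letI : Algebra R Γ(T.left, ⊤) := f₀.toAlgebra
  have hhom : ∀ (B' : Type u) [CommRing B'] [Algebra R B'],
      (CoactBr.sp R B').hom = Spec.map (CommRingCat.ofHom (algebraMap R B')) := fun B' _ _ => rfl
  let w : T ⟶ CoactBr.sp R Γ(T.left, ⊤) := Over.homMk T.left.toSpecΓ (by
    show T.left.toSpecΓ ≫ (CoactBr.sp R Γ(T.left, ⊤)).hom = T.hom
    rw [hhom]
    exact hf₀.symm)
  have hP : ∀ (P : Type u) [CommRing P] (m : T.left ⟶ Spec (CommRingCat.of P)),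
      ∃! φ : P →+* Γ(T.left, ⊤), m = w.left ≫ Spec.map (CommRingCat.ofHom φ) :=
    fun P _ m => existsUnique_toSpec T.left P m
  refine ⟨Γ(T.left, ⊤), inferInstance, inferInstance, w, hP, ?_⟩
  intro B' _ _ ζ
  obtain ⟨φ₀, hφ₀, huniq⟩ := hP B' ζ.left
  have hlin : φ₀.comp (algebraMap R B') = algebraMap R Γ(T.left, ⊤) := by
    obtain ⟨ψ, -, hu⟩ := hP R T.hom
    have e1 : Spec.map (CommRingCat.ofHom (φ₀.comp (algebraMap R B'))) =
        Spec.map (CommRingCat.ofHom φ₀) ≫ Spec.map (CommRingCat.ofHom (algebraMap R B')) := by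
      rw [CommRingCat.ofHom_comp (algebraMap R B') φ₀, Spec.map_comp]
    have h1 := hu (φ₀.comp (algebraMap R B'))
      (calc T.hom = ζ.left ≫ (CoactBr.sp R B').hom := (Over.w ζ).symm
        _ = (w.left ≫ Spec.map (CommRingCat.ofHom φ₀)) ≫
              Spec.map (CommRingCat.ofHom (algebraMap R B')) := by
            rw [hhom]
            exact congrArg (· ≫ Spec.map (CommRingCat.ofHom (algebraMap R B'))) hφ₀
        _ = w.left ≫ (Spec.map (CommRingCat.ofHom φ₀) ≫
              Spec.map (CommRingCat.ofHom (algebraMap R B'))) :=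
            Category.assoc w.left (Spec.map (CommRingCat.ofHom φ₀))
              (Spec.map (CommRingCat.ofHom (algebraMap R B')))
        _ = w.left ≫ Spec.map (CommRingCat.ofHom (φ₀.comp (algebraMap R B'))) :=
            congrArg (w.left ≫ ·) e1.symm)
    have h2 := hu (algebraMap R Γ(T.left, ⊤)) (by
      have := Over.w w
      rw [hhom] at this
      exact this.symm)
    exact h1.trans h2.symm
  let φ : B' →ₐ[R] Γ(T.left, ⊤) :=
    { toRingHom := φ₀, commutes' := fun r => congrArg (fun ψ => ψ r) hlin }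
  refine ⟨φ, ?_, ?_⟩
  · apply Over.OverMorphism.ext
    exact hφ₀
  · intro φ' hφ'
    have h1 : ζ.left = w.left ≫ Spec.map (CommRingCat.ofHom φ'.toRingHom) :=
      congrArg (fun q => q.left) hφ'
    have h2 := huniq φ'.toRingHom h1
    apply AlgHom.ext
    intro b
    exact congrArg (fun ψ => ψ b) h2

end Groth.Agent.H86.CoactTP
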