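import Mathlib

set_option autoImplicit false
open Polynomial

namespace Groth.Agent.H86.TameKummer

universe u

section Hensel

variable (O : Type u) [CommRing O] [HenselianLocalRing O]

theorem hensel (f : O[X]) (hf : f.Monic) (a₀ : IsLocalRing.ResidueField O)
    (h1 : aeval a₀ f = 0) (h2 : aeval a₀ (derivative f) ≠ 0) :
    ∃ a : O, f.IsRoot a ∧ IsLocalRing.residue O a = a₀ := by
  have H : HenselianLocalRing O := inferInstance
  have H2 := ((HenselianLocalRing.TFAE O).out 0 1).mp H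
  exact H2 f hf a₀ h1 h2

variable [IsAlgClosed (IsLocalRing.ResidueField O)]

theorem exists_root_unit {n : ℕ} (hn : 0 < n)
    (hnκ : (n : IsLocalRing.ResidueField O) ≠ 0) (u : Oˣ) : ∃ w : O, w ^ n = (u : O) := by
  have hu : IsLocalRing.residue O (u : O) ≠ 0 := by
    intro h0
    have h1 := (IsLocalRing.residue_eq_zero_iff (u : O)).mp h0
    exact (IsLocalRing.mem_maximalIdeal _).mp h1 u.isUnit
  obtain ⟨a, ha⟩ := IsAlgClosed.exists_pow_nat_eq (IsLocalRing.residue O (u : O)) hn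
  have ha0 : a ≠ 0 := by
    rintro rfl
    rw [zero_pow hn.ne'] at ha
    exact hu ha.symm
  obtain ⟨w, hw, -⟩ := hensel O (X ^ n - C (u : O)) (monic_X_pow_sub_C _ hn.ne') a
    (by rw [map_sub, map_pow, aeval_X, aeval_C, IsLocalRing.ResidueField.algebraMap_eq, ha,
      sub_self])
    (by
      rw [derivative_sub, derivative_X_pow, derivative_C, sub_zero, map_mul, aeval_C,
        map_natCast, map_pow, aeval_X]
      exact mul_ne_zero hnκ (pow_ne_zero _ ha0))
  refine ⟨w, ?_⟩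
  have h3 : eval w (X ^ n - C (u : O)) = 0 := hw
  rw [eval_sub, eval_pow, eval_X, eval_C, sub_eq_zero] at h3
  exact h3

theorem exists_primitiveRoot {n : ℕ} (hn : 0 < n)
    (hnκ : (n : IsLocalRing.ResidueField O) ≠ 0) : ∃ ζ : O, IsPrimitiveRoot ζ n := by
  haveI : NeZero (n : IsLocalRing.ResidueField O) := ⟨hnκ⟩
  obtain ⟨ζ₀, hζ₀⟩ := HasEnoughRootsOfUnity.exists_primitiveRoot (IsLocalRing.ResidueField O) n
  have hζ₀0 : ζ₀ ≠ 0 := hζ₀.ne_zero hn.ne'
  obtain ⟨ζ, hζ, hres⟩ := hensel O (X ^ n - C (1 : O)) (monic_X_pow_sub_C _ hn.ne') ζ₀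
    (by rw [map_sub, map_pow, aeval_X, aeval_C, map_one, hζ₀.pow_eq_one, sub_self])
    (by
      rw [derivative_sub, derivative_X_pow, derivative_C, sub_zero, map_mul, aeval_C,
        map_natCast, map_pow, aeval_X]
      exact mul_ne_zero hnκ (pow_ne_zero _ hζ₀0))
  have h3 : eval ζ (X ^ n - C (1 : O)) = 0 := hζ
  rw [eval_sub, eval_pow, eval_X, eval_C, sub_eq_zero] at h3
  refine ⟨ζ, ⟨h3, ?_⟩⟩
  intro l hl
  apply hζ₀.dvd_of_pow_eq_one
  rw [← hres, ← map_pow, hl, map_one]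

end Hensel

section Bezout

variable {K M : Type*} [Field K] [Field M] [Algebra K M] (F : IntermediateField K M)

theorem pow_gcd_mem {x : M} (hx : x ≠ 0) {a b : ℕ} (ha : x ^ a ∈ F) (hb : x ^ b ∈ F) :
    x ^ (Nat.gcd a b) ∈ F := by
  have h1 : (x ^ (Nat.gcd a b) : M) = (x ^ a) ^ (Nat.gcdA a b) * (x ^ b) ^ (Nat.gcdB a b) := by
    rw [← zpow_natCast x (Nat.gcd a b), Nat.gcd_eq_gcd_ab, zpow_add₀ hx, zpow_mul, zpow_mul,
      zpow_natCast, zpow_natCast]
  rw [h1]
  exact F.mul_mem (zpow_mem ha _) (zpow_mem hb _)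

theorem pow_finset_gcd_mem {x : M} (hx : x ≠ 0) {ι : Type*} (s : Finset ι) (d : ι → ℕ)
    (h : ∀ i ∈ s, x ^ d i ∈ F) : x ^ (s.gcd d) ∈ F := by
  classical
  induction s using Finset.induction_on with
  | empty => simp
  | insert a s ha ih =>
    rw [Finset.gcd_insert]
    exact pow_gcd_mem F hx (h a (Finset.mem_insert_self a s))
      (ih (fun i hi => h i (Finset.mem_insert_of_mem hi)))

end Bezout

theorem gcd_eq_one {m : ℕ} (r b : Fin m → ℕ) (hr : ∀ i, r i ≠ 0)
    (hrb : ∀ i, (r i).Coprime (b i)) :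
    Nat.gcd (Finset.univ.lcm r) (Finset.univ.gcd fun i => Finset.univ.lcm r / r i * b i) = 1 := by
  obtain ⟨R, hR⟩ : ∃ R, R = Finset.univ.lcm r := ⟨_, rfl⟩
  rw [← hR]
  have hRpos : 0 < R := by
    rw [hR]
    apply Nat.pos_of_ne_zero
    intro h0
    rw [Finset.lcm_eq_zero_iff] at h0
    obtain ⟨i, -, hi⟩ := h0
    exact hr i hi
  obtain ⟨g, hg⟩ : ∃ g, g = Nat.gcd R (Finset.univ.gcd fun i => R / r i * b i) := ⟨_, rfl⟩
  rw [← hg]
  have hgR : g ∣ R := hg ▸ Nat.gcd_dvd_left _ _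
  have hgd : ∀ i, g ∣ R / r i * b i := fun i =>
    (hg ▸ Nat.gcd_dvd_right _ _ : g ∣ Finset.univ.gcd fun i => R / r i * b i).trans
      (Finset.gcd_dvd (Finset.mem_univ i))
  have hrR : ∀ i, r i ∣ R := fun i => hR ▸ Finset.dvd_lcm (Finset.mem_univ i)
  have hgi : ∀ i, g ∣ R / r i := by
    intro i
    have h1 : g ∣ Nat.gcd (R / r i * r i) (R / r i * b i) :=
      Nat.dvd_gcd (by rw [Nat.div_mul_cancel (hrR i)]; exact hgR) (hgd i)
    rw [Nat.gcd_mul_left, Nat.Coprime.gcd_eq_one (hrb i), mul_one] at h1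
    exact h1
  obtain ⟨q, hq⟩ := hgR
  have hg0 : 0 < g := Nat.pos_of_ne_zero (by rintro h0; rw [h0, zero_mul] at hq; omega)
  have hq0 : 0 < q := Nat.pos_of_ne_zero (by rintro h0; rw [h0, mul_zero] at hq; omega)
  have hri' : ∀ i, r i ∣ q := by
    intro i
    obtain ⟨t, ht⟩ := hgi i
    have h2 : R = g * t * r i := by rw [← ht, Nat.div_mul_cancel (hrR i)]
    have h3 : q = t * r i := by
      apply Nat.eq_of_mul_eq_mul_left hg0
      rw [← hq, h2, mul_assoc]
    exact ⟨t, by rw [h3, mul_comm]⟩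
  have hRq : R ∣ q := by
    rw [hR]
    exact Finset.lcm_dvd (fun i _ => hri' i)
  rw [hq] at hRq
  have h4 : g * q ∣ 1 * q := by rwa [one_mul]
  exact Nat.dvd_one.mp (Nat.dvd_of_mul_dvd_mul_right hq0 h4)

theorem irreducible_X_pow_sub_C_uniformizer (O : Type u) [CommRing O] [IsDomain O]
    [IsDiscreteValuationRing O] (ϖ : O) (hϖ : Irreducible ϖ) {R : ℕ} (hR : 0 < R) :
    Irreducible (X ^ R - C (algebraMap O (FractionRing O) ϖ) : (FractionRing O)[X]) := by
  have hmon : (X ^ R - C ϖ : O[X]).Monic := monic_X_pow_sub_C _ hR.ne'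
  have hϖmem : ϖ ∈ IsLocalRing.maximalIdeal O := by
    rw [hϖ.maximalIdeal_eq]; exact Ideal.mem_span_singleton_self ϖ
  have hE : (X ^ R - C ϖ : O[X]).IsEisensteinAt (IsLocalRing.maximalIdeal O) := by
    refine ⟨?_, ?_, ?_⟩
    · rw [hmon.leadingCoeff]
      exact fun h => (IsLocalRing.maximalIdeal.isMaximal O).ne_top ((Ideal.eq_top_iff_one _).mpr h)
    · intro n hn
      rw [natDegree_X_pow_sub_C] at hn
      rw [coeff_sub, coeff_X_pow, if_neg hn.ne, zero_sub, coeff_C]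
      split_ifs
      · exact neg_mem hϖmem
      · rw [neg_zero]; exact zero_mem _
    · rw [coeff_sub, coeff_X_pow, if_neg hR.ne, coeff_C_zero, zero_sub, hϖ.maximalIdeal_eq,
        Ideal.span_singleton_pow, neg_mem_iff, Ideal.mem_span_singleton]
      rintro ⟨c, hc⟩
      apply hϖ.not_isUnit
      have h1 : ϖ * 1 = ϖ * (ϖ * c) := by rw [mul_one, ← mul_assoc, ← sq]; exact hc
      have h2 := mul_left_cancel₀ hϖ.ne_zero h1
      exact IsUnit.of_mul_eq_one c h2.symm
  have hirr : Irreducible (X ^ R - C ϖ : O[X]) :=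
    hE.irreducible (IsLocalRing.maximalIdeal.isMaximal O).isPrime hmon.isPrimitive
      (by rw [natDegree_X_pow_sub_C]; exact hR)
  have h5 := (hmon.irreducible_iff_irreducible_map_fraction_map (K := FractionRing O)).mp hirr
  rwa [Polynomial.map_sub, Polynomial.map_pow, map_X, map_C] at h5

end Groth.Agent.H86.TameKummer
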