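import Mathlib
import Groth.Agent.S11091
import Groth.Agent.H3.HInt
import Groth.Agent.H86.TameKummer

/-!
# Lifting residue classes to elements algebraic over a coefficient field
-/

set_option autoImplicit false

universe u

attribute [local instance] FractionRing.liftAlgebra

open Polynomial IsLocalRing

namespace Groth.Agent.H86.CoeffLift

theorem main (K A B : Type u) [Field K]
    [PerfectField K] [CommRing A] [IsDomain A] [IsDiscreteValuationRing A]
    [IsAdicComplete (IsLocalRing.maximalIdeal A) A]
    [Algebra K A] (hK : Function.Bijective ((IsLocalRing.residue A).comp (algebraMap K A)))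
    [CommRing B] [IsDedekindDomain B] [Algebra A B] [Module.Finite A B] [Module.IsTorsionFree A B]
    [Algebra.IsSeparable (FractionRing A) (FractionRing B)] [Algebra K B] [IsScalarTower K A B]
    (M : Ideal B) [M.IsMaximal] (b : B) :
    ∃! c : B, IsAlgebraic K c ∧ b - c ∈ M := by
  classical
  obtain ⟨M₀, hM₀, huniq₀⟩ := Groth.Agent.S11091.result A B
  have huniq : ∀ N : Ideal B, N.IsMaximal → N = M := fun N hN =>
    (huniq₀ N hN).trans (huniq₀ M inferInstance).symm
  haveI hloc : IsLocalRing B := IsLocalRing.of_unique_max_ideal ⟨M₀, hM₀, huniq₀⟩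
  have hMmax : IsLocalRing.maximalIdeal B = M := huniq _ (IsLocalRing.maximalIdeal.isMaximal B)
  haveI : HenselianLocalRing A :=
    Groth.Agent.H3.henselianLocalRing_of_henselianRing_maximalIdeal A
  haveI : HenselianLocalRing B :=
    Groth.Agent.H3.henselianLocalRing_of_isIntegral_of_isLocalRing A B
  have hM1 : M ≠ ⊤ := Ideal.IsMaximal.ne_top inferInstance
  -- an element of `M` algebraic over `K` vanishes
  have key : ∀ d : B, IsAlgebraic K d → d ∈ M → d = 0 := by
    intro d hd hdM
    by_contra hd0
    have hint : IsIntegral K d := hd.isIntegral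
    have hc0 := minpoly.coeff_zero_ne_zero hint hd0
    have h1 : aeval d ((minpoly K d).divX * X + C ((minpoly K d).coeff 0)) = 0 := by
      rw [Polynomial.divX_mul_X_add]; exact minpoly.aeval K d
    rw [map_add, map_mul, aeval_X, aeval_C] at h1
    have h2 : algebraMap K B ((minpoly K d).coeff 0) ∈ M := by
      have h3 : algebraMap K B ((minpoly K d).coeff 0) = -(aeval d (minpoly K d).divX * d) := by
        linear_combination h1
      rw [h3]; exact M.neg_mem (M.mul_mem_left _ hdM)
    have hu : IsUnit (algebraMap K B ((minpoly K d).coeff 0)) :=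
      (isUnit_iff_ne_zero.mpr hc0).map _
    exact hM1 (Ideal.eq_top_of_isUnit_mem M h2 hu)
  -- residue fields
  haveI : IsLocalHom (algebraMap A B) := Groth.Agent.H3.isLocalHom_of_isIntegral A B
  obtain ⟨ψ, hψ⟩ : ∃ ψ : ResidueField A →+* ResidueField B,
      ∀ a : A, ψ (residue A a) = residue B (algebraMap A B a) :=
    ⟨ResidueField.map (algebraMap A B), fun a => rfl⟩
  obtain ⟨e, he⟩ : ∃ e : K ≃+* ResidueField A, ∀ k : K, e k = residue A (algebraMap K A k) :=
    ⟨RingEquiv.ofBijective _ hK, fun k => rfl⟩
  obtain ⟨φ, hφ⟩ : ∃ φ : K →+* ResidueField B, ∀ k : K, φ k = residue B (algebraMap K B k) :=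
    ⟨(residue B).comp (algebraMap K B), fun k => rfl⟩
  have hφe : ∀ k : K, φ k = ψ (e k) := by
    intro k
    rw [hφ, he, hψ, ← IsScalarTower.algebraMap_apply K A B]
  letI algKL : Algebra K (ResidueField B) := φ.toAlgebra
  have halg : ∀ k : K, algebraMap K (ResidueField B) k = φ k := fun k => rfl
  haveI : IsScalarTower K B (ResidueField B) :=
    IsScalarTower.of_algebraMap_eq (fun x => by
      rw [halg, hφ, IsLocalRing.ResidueField.algebraMap_eq])
  obtain ⟨b', hb'⟩ : ∃ b' : ResidueField B, b' = residue B b := ⟨_, rfl⟩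
  have hbint : IsIntegral K b' := by
    have hb : IsIntegral A b := Algebra.IsIntegral.isIntegral b
    obtain ⟨P, hPm, hP⟩ := hb
    refine ⟨(P.map (residue A)).map (e.symm : ResidueField A →+* K), (hPm.map _).map _, ?_⟩
    have hcomp : (((algebraMap K (ResidueField B)).comp (e.symm : ResidueField A →+* K)).comp
        (residue A)) = (residue B).comp (algebraMap A B) := by
      ext a
      show algebraMap K (ResidueField B) (e.symm (residue A a)) = residue B (algebraMap A B a)
      rw [halg, hφe, RingEquiv.apply_symm_apply, hψ]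
    rw [eval₂_map, eval₂_map, hcomp, hb', ← Polynomial.hom_eval₂, hP, map_zero]
  -- the separable minimal polynomial and Hensel
  obtain ⟨p, hpdef⟩ : ∃ p : K[X], p = minpoly K b' := ⟨_, rfl⟩
  have hpirr : Irreducible p := hpdef ▸ minpoly.irreducible hbint
  have hpmon : p.Monic := hpdef ▸ minpoly.monic hbint
  have hpsep : p.Separable := PerfectField.separable_of_irreducible hpirr
  have hproot : aeval b' p = 0 := hpdef ▸ minpoly.aeval K b'
  have hpder : aeval b' (derivative p) ≠ 0 := hpsep.aeval_derivative_ne_zero hproot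
  obtain ⟨c, hc1, hc2⟩ := TameKummer.hensel B (p.map (algebraMap K B)) (hpmon.map _) b'
    (by rw [aeval_map_algebraMap]; exact hproot)
    (by rw [derivative_map, aeval_map_algebraMap]; exact hpder)
  have hcalg : IsAlgebraic K c := by
    refine ⟨p, hpmon.ne_zero, ?_⟩
    have := hc1
    rw [IsRoot.def, eval_map, ← aeval_def] at this
    exact this
  have hbc : b - c ∈ M := by
    rw [← hMmax, ← IsLocalRing.residue_eq_zero_iff, map_sub, hc2, hb', sub_self]
  refine ⟨c, ⟨hcalg, hbc⟩, ?_⟩
  rintro c' ⟨hc'alg, hbc'⟩
  have hd : c' - c ∈ M := by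
    have := M.sub_mem hbc hbc'
    have e2 : b - c - (b - c') = c' - c := by ring
    rwa [e2] at this
  have := key (c' - c) (hc'alg.sub hcalg) hd
  exact sub_eq_zero.mp this

end Groth.Agent.H86.CoeffLift
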