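import Mathlib
import Groth.Agent.S16920

set_option autoImplicit false
universe u
open AlgebraicGeometry CategoryTheory CategoryTheory.Limits TopologicalSpace

namespace Groth.Agent.H86.CountableDecomp

theorem irreducibleSpace_of_inducing {V X : Type*} [TopologicalSpace V] [TopologicalSpace X]
    (f : V → X) (hf : Topology.IsInducing f) (h : IsIrreducible (Set.range f)) :
    IrreducibleSpace V := by
  obtain ⟨⟨_, v0, rfl⟩, hpre⟩ := h
  rw [irreducibleSpace_def]
  refine ⟨⟨v0, trivial⟩, ?_⟩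
  rintro u v hu hv ⟨a, _, hau⟩ ⟨b, _, hbv⟩
  obtain ⟨u', hu', rfl⟩ := hf.isOpen_iff.mp hu
  obtain ⟨v', hv', rfl⟩ := hf.isOpen_iff.mp hv
  obtain ⟨_, ⟨c, rfl⟩, hcu, hcv⟩ :=
    hpre u' v' hu' hv' ⟨f a, ⟨a, rfl⟩, hau⟩ ⟨f b, ⟨b, rfl⟩, hbv⟩
  exact ⟨c, trivial, hcu, hcv⟩

/-- Baire-type lemma through closed points. -/
theorem exists_closedPoint_avoiding (k : Type u) [Field k] [IsAlgClosed k] [Uncountable k]
    (X : Scheme.{u}) (sX : X ⟶ Spec (CommRingCat.of k)) [LocallyOfFiniteType sX]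
    [QuasiCompact sX] (T : Closeds X) (hT : IsIrreducible (T : Set X)) (W : ℕ → Closeds X)
    (hW : ∀ n, ¬ T ≤ W n) :
    ∃ x : X, IsClosed ({x} : Set X) ∧ x ∈ T ∧ ∀ n, x ∉ W n := by
  let I := Scheme.IdealSheafData.vanishingIdeal T
  let ι : I.subscheme ⟶ X := I.subschemeι
  have hr : Set.range ι = (T : Set X) := by
    rw [Scheme.IdealSheafData.range_subschemeι, Scheme.IdealSheafData.coe_support_vanishingIdeal]
  haveI : IrreducibleSpace I.subscheme :=
    irreducibleSpace_of_inducing ι ι.isEmbedding.isInducing (hr ▸ hT)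
  let Z' : ℕ → Closeds I.subscheme :=
    fun n => ⟨ι ⁻¹' (W n : Set X), (W n).isClosed.preimage ι.continuous⟩
  have hZ' : ∀ n, (Z' n : Set I.subscheme) ≠ Set.univ := by
    intro n h
    apply hW n
    intro y hy
    have hy' : y ∈ Set.range ι := by rw [hr]; exact hy
    obtain ⟨v, rfl⟩ := hy'
    have hv : v ∈ (Z' n : Set I.subscheme) := by rw [h]; exact Set.mem_univ v
    exact hv
  have hd := Groth.Agent.S16920.result k I.subscheme (ι ≫ sX) Z' hZ'
  obtain ⟨v, hv⟩ := hd.nonempty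
  refine ⟨ι v, ?_, ?_, ?_⟩
  · have := ι.isClosedEmbedding.isClosedMap _ hv.1
    rwa [Set.image_singleton] at this
  · have : ι v ∈ Set.range ι := ⟨v, rfl⟩
    rw [hr] at this
    exact this
  · intro n hn
    exact hv.2 n hn

/-- In a locally Noetherian scheme, every member of a family of irreducible closed subsets lies
below a maximal member. -/
theorem exists_maximal_ge (X : Scheme.{u}) [IsLocallyNoetherian X] (C : Set (Closeds X))
    (hC : ∀ T ∈ C, IsIrreducible (T : Set X)) (T₁ : Closeds X) (hT₁ : T₁ ∈ C) :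
    ∃ T ∈ C, T₁ ≤ T ∧ ∀ T' ∈ C, T ≤ T' → T' ≤ T := by
  classical
  obtain ⟨x, hx⟩ := QuasiSober.sober (hC T₁ hT₁) T₁.isClosed
  let ι := X.fromSpecStalk x
  have hιemb : Topology.IsEmbedding ι := ι.isEmbedding
  have hrange : Set.range ι = {y | y ⤳ x} := Scheme.range_fromSpecStalk
  have key : ∀ T ∈ C, T₁ ≤ T → ∃ q : PrimeSpectrum (X.presheaf.stalk x),
      closure {ι q} = (T : Set X) := by
    intro T hT hle
    obtain ⟨y, hy⟩ := QuasiSober.sober (hC T hT) T.isClosed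
    have hyx : y ⤳ x := by
      rw [specializes_iff_mem_closure, hy.def]
      apply hle
      show x ∈ (T₁ : Set X)
      rw [← hx.def]
      exact subset_closure rfl
    have hyr : y ∈ Set.range ι := by rw [hrange]; exact hyx
    obtain ⟨q, rfl⟩ := hyr
    exact ⟨q, hy.def⟩
  let μ : Closeds X → ℕ∞ := fun T =>
    if h : T ∈ C ∧ T₁ ≤ T then (Classical.choose (key T h.1 h.2)).asIdeal.height else 0
  obtain ⟨T, ⟨hTC, hT1⟩, hmin⟩ := (InvImage.wf μ wellFounded_lt).has_min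
    {T | T ∈ C ∧ T₁ ≤ T} ⟨T₁, hT₁, le_rfl⟩
  refine ⟨T, hTC, hT1, fun T' hT'C hTT' => ?_⟩
  by_contra hnot
  have h1 : T₁ ≤ T' := hT1.trans hTT'
  have hlt : μ T' < μ T := by
    simp only [μ, dif_pos (And.intro hT'C h1), dif_pos (And.intro hTC hT1)]
    have hq's := Classical.choose_spec (key T' hT'C h1)
    have hqs := Classical.choose_spec (key T hTC hT1)
    generalize Classical.choose (key T' hT'C h1) = q' at hq's ⊢
    generalize Classical.choose (key T hTC hT1) = q at hqs ⊢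
    have hspec2 : ι q' ⤳ ι q := by
      rw [specializes_iff_mem_closure, hq's]
      apply hTT'
      show ι q ∈ (T : Set X)
      rw [← hqs]
      exact subset_closure rfl
    have hspec : q' ⤳ q := (hιemb.isInducing.specializes_iff).mp hspec2
    have hle : q' ≤ q := (PrimeSpectrum.le_iff_specializes q' q).mpr hspec
    have hne : q'.asIdeal ≠ q.asIdeal := by
      intro heq
      apply hnot
      have hqq : q' = q := PrimeSpectrum.ext heq
      intro z hz
      have hz' : z ∈ closure {ι q'} := by rw [hq's]; exact hz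
      rw [hqq, hqs] at hz'
      exact hz'
    exact Ideal.height_strict_mono_of_isPrime (lt_of_le_of_ne hle hne)
  exact hmin T' ⟨hT'C, h1⟩ hlt

section main
variable (k : Type u) [Field k] [IsAlgClosed k] [Uncountable k]
  (X : Scheme.{u}) (sX : X ⟶ Spec (CommRingCat.of k)) [LocallyOfFiniteType sX] [QuasiCompact sX]

include sX in
theorem exists_ge_of_props (S S' : Set (Closeds X)) (hS'c : S'.Countable)
    (hSirr : ∀ T ∈ S, IsIrreducible (T : Set X))
    (hcp : ∀ x : X, IsClosed ({x} : Set X) → (∃ T ∈ S, x ∈ T) → ∃ T' ∈ S', x ∈ T') :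
    ∀ T ∈ S, ∃ T' ∈ S', T ≤ T' := by
  classical
  intro T hT
  by_contra hcon
  push Not at hcon
  obtain ⟨f, hf⟩ := Set.countable_iff_exists_subset_range.mp hS'c
  let W : ℕ → Closeds X := fun n => if f n ∈ S' then f n else ⊥
  have hW : ∀ n, ¬ T ≤ W n := by
    intro n
    by_cases hn : f n ∈ S'
    · simp only [W, if_pos hn]
      exact hcon _ hn
    · simp only [W, if_neg hn]
      intro hle
      obtain ⟨y, hy⟩ := (hSirr T hT).nonempty
      exact (hle hy : y ∈ ((⊥ : Closeds X) : Set X))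
  obtain ⟨x, hxc, hxT, hxW⟩ := exists_closedPoint_avoiding k X sX T (hSirr T hT) W hW
  obtain ⟨T', hT', hxT'⟩ := hcp x hxc ⟨T, hT, hxT⟩
  obtain ⟨n, rfl⟩ := hf hT'
  apply hxW n
  simp only [W, if_pos hT']
  exact hxT'

include sX in
theorem eq_of_props (Z : ℕ → Closeds X) (S S' : Set (Closeds X))
    (hS : S.Countable ∧ (∀ T ∈ S, IsIrreducible (T : Set X)) ∧ IsAntichain (· ≤ ·) S ∧
      {x : X | IsClosed ({x} : Set X) ∧ ∃ T ∈ S, x ∈ T} =
        {x : X | IsClosed ({x} : Set X) ∧ ∃ n, x ∈ Z n})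
    (hS' : S'.Countable ∧ (∀ T ∈ S', IsIrreducible (T : Set X)) ∧ IsAntichain (· ≤ ·) S' ∧
      {x : X | IsClosed ({x} : Set X) ∧ ∃ T ∈ S', x ∈ T} =
        {x : X | IsClosed ({x} : Set X) ∧ ∃ n, x ∈ Z n}) : S ⊆ S' := by
  obtain ⟨hSc, hSirr, hSa, hSeq⟩ := hS
  obtain ⟨hS'c, hS'irr, hS'a, hS'eq⟩ := hS'
  have h12 : ∀ x : X, IsClosed ({x} : Set X) → (∃ T ∈ S, x ∈ T) → ∃ T' ∈ S', x ∈ T' := by
    intro x hx h
    have h1 := (Set.ext_iff.mp hSeq x).mp ⟨hx, h⟩
    exact ((Set.ext_iff.mp hS'eq x).mpr h1).2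
  have h21 : ∀ x : X, IsClosed ({x} : Set X) → (∃ T ∈ S', x ∈ T) → ∃ T' ∈ S, x ∈ T' := by
    intro x hx h
    have h1 := (Set.ext_iff.mp hS'eq x).mp ⟨hx, h⟩
    exact ((Set.ext_iff.mp hSeq x).mpr h1).2
  intro T hT
  obtain ⟨T', hT', hle⟩ := exists_ge_of_props k X sX S S' hS'c hSirr h12 T hT
  obtain ⟨T'', hT'', hle'⟩ := exists_ge_of_props k X sX S' S hSc hS'irr h21 T' hT'
  have hTT'' : T = T'' := by
    by_contra hne
    exact hSa hT hT'' hne (hle.trans hle')
  have hTT' : T = T' := le_antisymm hle (hTT'' ▸ hle')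
  rw [hTT']
  exact hT'

include sX in
theorem main (Z : ℕ → Closeds X) :
    ∃! S : Set (Closeds X), S.Countable ∧ (∀ T ∈ S, IsIrreducible (T : Set X)) ∧
      IsAntichain (· ≤ ·) S ∧
      {x : X | IsClosed ({x} : Set X) ∧ ∃ T ∈ S, x ∈ T} =
        {x : X | IsClosed ({x} : Set X) ∧ ∃ n, x ∈ Z n} := by
  classical
  haveI : IsLocallyNoetherian X := LocallyOfFiniteType.isLocallyNoetherian sX
  haveI : CompactSpace X := QuasiCompact.compactSpace_of_compactSpace sX
  haveI : IsNoetherian X := {}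
  haveI : NoetherianSpace X := inferInstance
  choose F hFirr hFsup using fun n => NoetherianSpace.exists_finset_irreducible (Z n)
  let C : Set (Closeds X) := ⋃ n, (F n : Set (Closeds X))
  have hCc : C.Countable := Set.countable_iUnion fun n => (F n).countable_toSet
  have hCirr : ∀ T ∈ C, IsIrreducible (T : Set X) := by
    intro T hT
    obtain ⟨n, hn⟩ := Set.mem_iUnion.mp hT
    exact hFirr n ⟨T, hn⟩
  have hCle : ∀ T ∈ C, ∃ n, T ≤ Z n := by
    intro T hT
    obtain ⟨n, hn⟩ := Set.mem_iUnion.mp hT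
    refine ⟨n, ?_⟩
    rw [hFsup n]
    exact Finset.le_sup (f := id) hn
  have hCcov : ∀ n, ∀ x ∈ Z n, ∃ T ∈ C, x ∈ T := by
    intro n x hx
    have hx' : x ∈ (((F n).sup id : Closeds X) : Set X) := by
      rw [← hFsup n]; exact hx
    rw [Closeds.coe_finset_sup, Finset.sup_set_eq_biUnion] at hx'
    simp only [Set.mem_iUnion, Function.comp_apply, id_eq, exists_prop] at hx'
    obtain ⟨T, hTF, hxT⟩ := hx'
    exact ⟨T, Set.mem_iUnion.mpr ⟨n, hTF⟩, hxT⟩
  let S : Set (Closeds X) := {T | T ∈ C ∧ ∀ T' ∈ C, T ≤ T' → T' ≤ T}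
  have hS : S.Countable ∧ (∀ T ∈ S, IsIrreducible (T : Set X)) ∧ IsAntichain (· ≤ ·) S ∧
      {x : X | IsClosed ({x} : Set X) ∧ ∃ T ∈ S, x ∈ T} =
        {x : X | IsClosed ({x} : Set X) ∧ ∃ n, x ∈ Z n} := by
    refine ⟨hCc.mono (fun T hT => hT.1), fun T hT => hCirr T hT.1, ?_, ?_⟩
    · intro T hT T' hT' hne hle
      exact hne (le_antisymm hle (hT.2 T' hT'.1 hle))
    · ext x
      constructor
      · rintro ⟨hx, T, hT, hxT⟩
        obtain ⟨n, hn⟩ := hCle T hT.1
        exact ⟨hx, n, hn hxT⟩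
      · rintro ⟨hx, n, hxn⟩
        obtain ⟨T₁, hT₁, hxT₁⟩ := hCcov n x hxn
        obtain ⟨T, hTC, hle, hmax⟩ := exists_maximal_ge X C hCirr T₁ hT₁
        exact ⟨hx, T, ⟨hTC, hmax⟩, hle hxT₁⟩
  refine ⟨S, hS, fun S' hS' => ?_⟩
  exact Set.Subset.antisymm (eq_of_props k X sX Z S' S hS' hS) (eq_of_props k X sX Z S S' hS hS')

end main

end Groth.Agent.H86.CountableDecomp
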