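import Mathlib
import Groth.Agent.H86.MonoPS
import Groth.Agent.H86.ExtPres

/-!
# `Ext¹` between monomial modules over the cubical monomial curve `k + Xⁿ k⟦X⟧`
-/

namespace Groth.Agent.H86.Cubical

open PowerSeries CategoryTheory MonoPS

universe u

variable {k : Type u} [Field k] {R : Type u} [CommRing R] [Algebra k R]
  [Module R (PowerSeries k)] [IsScalarTower k R (PowerSeries k)]
  (ι : R →ₐ[k] PowerSeries k) (hι : ∀ (r : R) (f : PowerSeries k), r • f = ι r * f)

include hι in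
/-- abstract version of `MonoPS.length_quot` -/
theorem length_quot' {N' Q₀ : Type u} [AddCommGroup N'] [Module R N'] [AddCommGroup Q₀]
    [Module R Q₀] (jN : N' →ₗ[R] PowerSeries k) (hjN : Function.Injective jN) {SH SW : Set ℕ}
    (hN : ∀ f, f ∈ Set.range jN ↔ f ∈ E SH)
    (p : N' →ₗ[R] Q₀) (hp : Function.Surjective p) (hker : ∀ ν, p ν = 0 ↔ jN ν ∈ E SW)
    (D : Finset ℕ) (hD : ∀ m, m ∈ D ↔ m ∈ SH ∧ m ∉ SW) (e : ℕ)
    (he : ∀ m, e ≤ m → m ∈ SW ∧ m ∈ SH) :
    Module.length R Q₀ = D.card := by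
  have hH : ∀ f, f ∈ LinearMap.range jN ↔ f ∈ E SH := fun f => hN f
  have hW : ∀ f, f ∈ (LinearMap.ker p).map jN ↔ f ∈ E {m | m ∈ SW ∧ m ∈ SH} := by
    intro f
    constructor
    · rintro ⟨ν, hν, rfl⟩
      have h1 := (hker ν).mp (LinearMap.mem_ker.mp hν)
      have h2 := (hN _).mp ⟨ν, rfl⟩
      intro m hm; exact ⟨h1 m hm, h2 m hm⟩
    · intro hf
      obtain ⟨ν, rfl⟩ := (hN f).mpr (fun m hm => (hf m hm).2)
      exact ⟨ν, LinearMap.mem_ker.mpr ((hker ν).mpr (fun m hm => (hf m hm).1)), rfl⟩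
  have hmap : (LinearMap.ker p).map ((LinearEquiv.ofInjective jN hjN : N' ≃ₗ[R] _) :
      N' →ₗ[R] ↥(LinearMap.range jN)) =
      ((LinearMap.ker p).map jN).submoduleOf (LinearMap.range jN) := by
    ext ⟨f, hf⟩
    constructor
    · rintro ⟨φ, hφ, hφf⟩
      show f ∈ (LinearMap.ker p).map jN
      exact ⟨φ, hφ, congrArg Subtype.val hφf⟩
    · intro h
      obtain ⟨φ, hφ, hφf⟩ : f ∈ (LinearMap.ker p).map jN := h
      exact ⟨φ, hφ, Subtype.ext hφf⟩
  have e1 : Q₀ ≃ₗ[R] (N' ⧸ LinearMap.ker p) := (LinearMap.quotKerEquivOfSurjective p hp).symm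
  have e2 := Submodule.Quotient.equiv (LinearMap.ker p) _ _ hmap
  rw [(e1.trans e2).length_eq]
  exact length_quot ι hι hH hW D
    (fun m => (hD m).trans ⟨fun ⟨h1, h2⟩ => ⟨h1, fun h => h2 h.1⟩,
      fun ⟨h1, h2⟩ => ⟨h1, fun h => h2 ⟨h, h1⟩⟩⟩) e he

/-- the final length arithmetic -/
theorem length_final {σ : Type} [Fintype σ] {N' Q₁ : Type u} [AddCommGroup N'] [Module R N']
    [AddCommGroup Q₁] [Module R Q₁] (ū : N' →ₗ[R] (σ → Q₁)) (d₁ d₂ z : ℕ)
    (h₁ : Module.length R Q₁ = d₁) (h₂ : Module.length R ↥(LinearMap.range ū) = d₂)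
    (hz : Fintype.card σ * d₁ = d₂ + z) :
    Module.length R ((σ → Q₁) ⧸ LinearMap.range ū) = z := by
  have key := Module.length_eq_add_of_exact (LinearMap.range ū).subtype (LinearMap.range ū).mkQ
    (Submodule.injective_subtype _) (Submodule.mkQ_surjective _)
    (LinearMap.exact_subtype_mkQ _)
  rw [Module.length_pi_of_fintype R (fun _ : σ => Q₁), h₁, h₂, Finset.sum_const,
    Finset.card_univ, nsmul_eq_mul] at key
  generalize Module.length R ((σ → Q₁) ⧸ LinearMap.range ū) = x at key ⊢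
  induction x using ENat.recTopCoe with
  | top =>
    rw [add_top] at key
    exact absurd key (by rw [← Nat.cast_mul]; exact ENat.coe_ne_top _)
  | coe x =>
    norm_cast at key ⊢
    omega

variable {σ : Type} [Fintype σ] [DecidableEq σ]
variable {M' N' H₀ Q₁ : Type u} [AddCommGroup M'] [Module R M'] [AddCommGroup N'] [Module R N']
  [AddCommGroup H₀] [Module R H₀] [AddCommGroup Q₁] [Module R Q₁]

include hι in
theorem length_ext_cubical (hinj : Function.Injective ι) (n : ℕ)
    (hA : ∀ f : PowerSeries k, f ∈ Set.range ι ↔ f ∈ E {m | m = 0 ∨ n ≤ m})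
    (a : σ → ℕ) (ha : Function.Injective a) (ha0 : ∀ s, 0 < a s) (han : ∀ s, a s < n)
    (jM : M' →ₗ[R] PowerSeries k) (hjM : Function.Injective jM)
    (m₀ : M') (mgen : σ → M') (hm₀ : jM m₀ = 1) (hmgen : ∀ s, jM (mgen s) = X ^ a s)
    (hgen : ∀ m : M', ∃ (α₀ : R) (α : σ → R), m = α₀ • m₀ + ∑ s, α s • mgen s)
    (jN : N' →ₗ[R] PowerSeries k) (hjN : Function.Injective jN) (SN : Set ℕ)
    (hN : ∀ f, f ∈ Set.range jN ↔ f ∈ E SN)
    (c : ℕ) (hc1 : ∀ m, c ≤ m → m ∈ SN) (hc2 : ∀ m, (∀ t, m + t ∈ SN) → c ≤ m)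
    (jH : H₀ →ₗ[R] PowerSeries k) (hjH : Function.Injective jH)
    (hH : ∀ f, f ∈ Set.range jH ↔ f ∈ E {m | c ≤ m})
    (q₁ : H₀ →ₗ[R] Q₁) (hq₁ : Function.Surjective q₁)
    (hq₁ker : ∀ h, q₁ h = 0 ↔ jH h ∈ E {m | n ≤ m ∧ m - n ∈ SN})
    (u : σ → (N' →ₗ[R] H₀)) (hu : ∀ s ν, jH (u s ν) = X ^ (n + a s) * jN ν) :
    Module.length R (Abelian.Ext (ModuleCat.of R M') (ModuleCat.of R N') 1) =
      Module.length R ((σ → Q₁) ⧸ LinearMap.range (LinearMap.pi (fun s => q₁.comp (u s)))) := by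
  classical
  have hXn : (X : PowerSeries k) ^ n ≠ 0 := pow_ne_zero _ X_ne_zero
  have hE : ∀ r : R, ι r ∈ E {m | m = 0 ∨ n ≤ m} := fun r => (hA _).mp ⟨r, rfl⟩
  -- choice of lifts
  have hρex : ∀ b : PowerSeries k, ∃ r : R, ι r = X ^ n * b := by
    intro b
    apply (hA _).mpr
    exact E_mono (fun m hm => Or.inr hm.1)
      (X_pow_mul_mem_E (T := Set.univ) (fun _ _ => Set.mem_univ _))
  choose ρ hρ using hρex
  -- presentation
  let g : R × (σ → R) →ₗ[R] M' :=
    (LinearMap.toSpanSingleton R M' m₀).coprod (Fintype.linearCombination R mgen)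
  have hg_apply : ∀ x : R × (σ → R), jM (g x) = ι x.1 + ∑ s, ι (x.2 s) * X ^ a s := by
    intro x
    simp only [g, LinearMap.coprod_apply, LinearMap.toSpanSingleton_apply,
      Fintype.linearCombination_apply, map_add, map_smul, map_sum, hι, hm₀, hmgen, mul_one]
  have hg_surj : Function.Surjective g := by
    intro m
    obtain ⟨α₀, α, rfl⟩ := hgen m
    refine ⟨(α₀, α), ?_⟩
    simp only [g, LinearMap.coprod_apply, LinearMap.toSpanSingleton_apply,
      Fintype.linearCombination_apply]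
  let K : Submodule R (R × (σ → R)) := LinearMap.ker g
  have K_spec : ∀ κ : ↥K,
      ι (κ : R × (σ → R)).1 + ∑ s, ι ((κ : R × (σ → R)).2 s) * X ^ a s = 0 := by
    intro κ
    rw [← hg_apply, LinearMap.mem_ker.mp κ.2, map_zero]
  have K_mem : ∀ x : R × (σ → R), ι x.1 + ∑ s, ι (x.2 s) * X ^ a s = 0 → x ∈ K := by
    intro x hx
    show g x = 0
    apply hjM
    rw [hg_apply, hx, map_zero]
  have K_ext : ∀ κ κ' : ↥K, (κ : R × (σ → R)).2 = (κ' : R × (σ → R)).2 → κ = κ' := by
    intro κ κ' h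
    apply Subtype.ext
    refine Prod.ext ?_ h
    apply hinj
    have e1 := K_spec κ
    have e2 := K_spec κ'
    rw [h] at e1
    exact add_right_cancel (e1.trans e2.symm)
  have hκs_ex : ∀ (s : σ) (b : PowerSeries k), ι (-(ρ (X ^ a s * b))) +
      ∑ t, ι ((Pi.single s (ρ b) : σ → R) t) * X ^ a t = 0 := by
    intro s b
    rw [Finset.sum_eq_single s]
    · rw [Pi.single_eq_same, map_neg, hρ, hρ]; ring
    · intro t _ hts; rw [Pi.single_eq_of_ne hts, map_zero, zero_mul]
    · intro h; exact absurd (Finset.mem_univ s) h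
  let κs : σ → PowerSeries k → ↥K := fun s b =>
    ⟨(-(ρ (X ^ a s * b)), Pi.single s (ρ b)), K_mem _ (hκs_ex s b)⟩
  have hκs : ∀ s b, ((κs s b : ↥K) : R × (σ → R)) = (-(ρ (X ^ a s * b)), Pi.single s (ρ b)) :=
    fun s b => rfl
  have hκs2 : ∀ s b, ((κs s b : ↥K) : R × (σ → R)).2 = Pi.single s (ρ b) := fun s b => rfl
  have expand : ∀ (φ : ↥K →ₗ[R] N') (κ : ↥K),
      X ^ n * jN (φ κ) = ∑ s, ι ((κ : R × (σ → R)).2 s) * jN (φ (κs s 1)) := by
    intro φ κ
    have h : ρ 1 • κ = ∑ s, ((κ : R × (σ → R)).2 s) • κs s 1 := by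
      apply K_ext
      ext t
      simp only [Submodule.coe_smul, Submodule.coe_sum, Prod.smul_snd, Prod.snd_sum, Pi.smul_apply,
        Finset.sum_apply, hκs2, Pi.single_apply, smul_eq_mul, mul_ite, mul_zero,
        Finset.sum_ite_eq, Finset.mem_univ, if_true]
      exact mul_comm _ _
    have h2 := congrArg (fun x => jN (φ x)) h
    simp only [map_smul, map_sum, hι, hρ, mul_one] at h2
    exact h2
  have hBlin : ∀ (φ : ↥K →ₗ[R] N') (s : σ) (b : PowerSeries k),
      jN (φ (κs s b)) = b * jN (φ (κs s 1)) := by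
    intro φ s b
    apply mul_left_cancel₀ hXn
    rw [expand φ (κs s b), Finset.sum_eq_single s]
    · rw [hκs2, Pi.single_eq_same, hρ]; ring
    · intro t _ hts; rw [hκs2, Pi.single_eq_of_ne hts, map_zero, zero_mul]
    · intro h; exact absurd (Finset.mem_univ s) h
  have hmemH : ∀ (φ : ↥K →ₗ[R] N') (s : σ), jN (φ (κs s 1)) ∈ E {m | c ≤ m} := by
    intro φ s m hm
    apply hc2
    intro t
    have h1 : jN (φ (κs s (X ^ t))) ∈ E SN := (hN _).mp ⟨_, rfl⟩
    rw [hBlin] at h1
    exact h1 (m + t) (by rw [coeff_X_pow_mul]; exact hm)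
  have hcoord : ∀ (κ : ↥K) (s : σ), ∃ β : PowerSeries k,
      ι ((κ : R × (σ → R)).2 s) = X ^ n * β := by
    intro κ s
    have h0 : coeff 0 (ι ((κ : R × (σ → R)).2 s)) = 0 := by
      have h := congrArg (coeff (a s)) (K_spec κ)
      rw [map_add, map_sum, map_zero, Finset.sum_eq_single s] at h
      · rw [coeff_mul_X_pow', if_pos le_rfl, Nat.sub_self] at h
        have h1 : coeff (a s) (ι (κ : R × (σ → R)).1) = 0 := by
          by_contra hne
          have h2 := hE _ _ hne
          have h3 := ha0 s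
          have h4 := han s
          simp only [Set.mem_setOf_eq] at h2
          omega
        rw [h1, zero_add] at h
        exact h
      · intro t _ hts
        rw [coeff_mul_X_pow']
        split_ifs with hle
        · by_contra hne
          have h2 := hE _ _ hne
          have h3 : a t ≠ a s := fun h => hts (ha h)
          have h4 := han s
          simp only [Set.mem_setOf_eq] at h2
          omega
        · rfl
      · intro h; exact absurd (Finset.mem_univ s) h
    have hdvd : (X : PowerSeries k) ^ n ∣ ι ((κ : R × (σ → R)).2 s) := by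
      rw [X_pow_dvd_iff]
      intro m hm
      by_contra hne
      have h2 := hE _ _ hne
      simp only [Set.mem_setOf_eq] at h2
      rcases h2 with rfl | h2
      · exact hne h0
      · omega
    exact hdvd
  -- evaluation maps
  choose evf hevf using (fun (s : σ) (φ : ↥K →ₗ[R] N') => (hH _).mpr (hmemH φ s))
  let ev : σ → ((↥K →ₗ[R] N') →ₗ[R] H₀) := fun s =>
    { toFun := evf s
      map_add' := fun φ ψ => by
        apply hjH
        rw [map_add, hevf, hevf, hevf, LinearMap.add_apply, map_add]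
      map_smul' := fun r φ => by
        apply hjH
        rw [map_smul, hevf, hevf, LinearMap.smul_apply, map_smul, RingHom.id_apply] }
  let ū : N' →ₗ[R] (σ → Q₁) := LinearMap.pi (fun s => q₁.comp (u s))
  let Ev : (↥K →ₗ[R] N') →ₗ[R] (σ → Q₁) := LinearMap.pi (fun s => q₁.comp (ev s))
  let Θ' : (↥K →ₗ[R] N') →ₗ[R] ((σ → Q₁) ⧸ LinearMap.range ū) :=
    (LinearMap.range ū).mkQ.comp Ev
  have hΘsurj : Function.Surjective Θ' := by
    intro q
    obtain ⟨y, rfl⟩ := Submodule.mkQ_surjective _ q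
    choose hs hhs using (fun s => hq₁ (y s))
    have hex : ∀ κ : ↥K, ∃ ν : N',
        X ^ n * jN ν = ∑ s, ι ((κ : R × (σ → R)).2 s) * jH (hs s) := by
      intro κ
      choose β hβ using hcoord κ
      have hmem : ∑ s, β s * jH (hs s) ∈ E SN := by
        refine E_mono hc1 ?_
        refine Finset.sum_induction _ (fun f => f ∈ E {m | c ≤ m}) (fun _ _ => add_mem_E)
          (zero_mem_E _) ?_
        intro s _
        exact mul_mem_E (S := Set.univ) (fun _ _ => Set.mem_univ _) ((hH _).mp ⟨_, rfl⟩)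
          (fun x _ y hy => le_trans hy (Nat.le_add_left _ _))
      obtain ⟨ν, hν⟩ := (hN _).mpr hmem
      refine ⟨ν, ?_⟩
      rw [hν, Finset.mul_sum]
      refine Finset.sum_congr rfl (fun s _ => ?_)
      rw [hβ s, mul_assoc]
    choose νf hνf using hex
    let φ : ↥K →ₗ[R] N' :=
      { toFun := νf
        map_add' := fun κ κ' => by
          apply hjN; apply mul_left_cancel₀ hXn
          rw [hνf, map_add, mul_add, hνf, hνf, ← Finset.sum_add_distrib]
          refine Finset.sum_congr rfl (fun s _ => ?_)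
          show ι ((κ : R × (σ → R)).2 s + (κ' : R × (σ → R)).2 s) * _ = _
          rw [map_add, add_mul]
        map_smul' := fun r κ => by
          apply hjN; apply mul_left_cancel₀ hXn
          rw [hνf, RingHom.id_apply, map_smul, hι, mul_left_comm, hνf, Finset.mul_sum]
          refine Finset.sum_congr rfl (fun s _ => ?_)
          show ι (r * (κ : R × (σ → R)).2 s) * _ = _
          rw [map_mul, mul_assoc] }
    refine ⟨φ, ?_⟩
    show (LinearMap.range ū).mkQ (Ev φ) = (LinearMap.range ū).mkQ y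
    congr 1
    ext s
    show q₁ (evf s φ) = y s
    rw [← hhs s]
    congr 1
    apply hjH
    rw [hevf]
    apply mul_left_cancel₀ hXn
    show X ^ n * jN (νf (κs s 1)) = _
    rw [hνf, Finset.sum_eq_single s]
    · rw [hκs2, Pi.single_eq_same, hρ, mul_one]
    · intro t _ hts; rw [hκs2, Pi.single_eq_of_ne hts, map_zero, zero_mul]
    · intro h; exact absurd (Finset.mem_univ s) h
  have hΘker : ∀ φ : ↥K →ₗ[R] N',
      Θ' φ = 0 ↔ ∃ ψ : R × (σ → R) →ₗ[R] N', ψ.comp K.subtype = φ := by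
    intro φ
    constructor
    · intro h0
      have h1 : Ev φ ∈ LinearMap.range ū := by
        have : (LinearMap.range ū).mkQ (Ev φ) = 0 := h0
        rwa [Submodule.mkQ_apply, Submodule.Quotient.mk_eq_zero] at this
      obtain ⟨ν₀, hν₀⟩ := h1
      have hs : ∀ s, ∃ νs : N', jN (φ (κs s 1)) = X ^ n * jN νs + X ^ (n + a s) * jN ν₀ := by
        intro s
        have h2 : q₁ (u s ν₀) = q₁ (evf s φ) := congrFun hν₀ s
        have h3 : q₁ (evf s φ - u s ν₀) = 0 := by rw [map_sub, h2, sub_self]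
        rw [hq₁ker, map_sub, hevf, hu] at h3
        obtain ⟨w, hw, hwe⟩ := exists_eq_X_pow_mul h3
        obtain ⟨νs, rfl⟩ := (hN _).mpr hw
        exact ⟨νs, by rw [← hwe]; ring⟩
      choose νgen hνgen using hs
      let ψ : R × (σ → R) →ₗ[R] N' :=
        (LinearMap.toSpanSingleton R N' (-ν₀)).coprod (Fintype.linearCombination R νgen)
      refine ⟨ψ, ?_⟩
      apply LinearMap.ext
      intro κ
      apply hjN
      apply mul_left_cancel₀ hXn
      rw [expand φ κ]
      show X ^ n * jN (ψ (κ : R × (σ → R))) = _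
      have e1 : ι (κ : R × (σ → R)).1 = -∑ s, ι ((κ : R × (σ → R)).2 s) * X ^ a s :=
        eq_neg_of_add_eq_zero_left (K_spec κ)
      have hfirst : ι (κ : R × (σ → R)).1 * jN (-ν₀) =
          ∑ s, ι ((κ : R × (σ → R)).2 s) * X ^ a s * jN ν₀ := by
        rw [e1, map_neg, neg_mul_neg, Finset.sum_mul]
      simp only [ψ, LinearMap.coprod_apply, LinearMap.toSpanSingleton_apply,
        Fintype.linearCombination_apply, map_add, map_smul, map_sum, hι]
      rw [hfirst, ← Finset.sum_add_distrib, Finset.mul_sum]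
      refine Finset.sum_congr rfl (fun s _ => ?_)
      rw [hνgen s, pow_add]; ring
    · rintro ⟨ψ, rfl⟩
      show (LinearMap.range ū).mkQ (Ev (ψ.comp K.subtype)) = 0
      rw [Submodule.mkQ_apply, Submodule.Quotient.mk_eq_zero]
      refine ⟨-ψ (1, 0), ?_⟩
      ext s
      show q₁ (u s (-ψ (1, 0))) = q₁ (evf s (ψ.comp K.subtype))
      rw [← sub_eq_zero, ← map_sub, hq₁ker, map_sub, hu, hevf]
      show X ^ (n + a s) * jN (-ψ (1, 0)) - jN (ψ ((κs s 1 : ↥K) : R × (σ → R))) ∈ _
      have hdec : ((κs s 1 : ↥K) : R × (σ → R)) =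
          (-(ρ (X ^ a s * 1))) • ((1, 0) : R × (σ → R)) +
            (ρ 1) • ((0, Pi.single s 1) : R × (σ → R)) := by
        rw [hκs]
        ext t
        · simp
        · simp [Pi.single_apply]
      have hval : X ^ (n + a s) * jN (-ψ (1, 0)) - jN (ψ ((κs s 1 : ↥K) : R × (σ → R))) =
          X ^ n * (-(jN (ψ (0, Pi.single s 1)))) := by
        rw [hdec, map_add, map_smul, map_smul, map_add, map_smul, map_smul, hι, hι, map_neg,
          map_neg, hρ, hρ, pow_add]
        ring
      rw [hval]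
      exact X_pow_mul_mem_E (neg_mem_E ((hN _).mp ⟨_, rfl⟩))
  rw [ExtPres.length_ext_one' K.subtype g (Submodule.injective_subtype _) hg_surj
    (LinearMap.exact_subtype_ker_map _) Θ' hΘsurj hΘker]

end Groth.Agent.H86.Cubical
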