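import Mathlib
import Groth.Agent.H86.Cubical

/-!
# `Ext¹` over the cubical monomial curve: concrete monomial modules
-/

namespace Groth.Agent.H86.Cubical

open PowerSeries CategoryTheory MonoPS

universe u

variable {k : Type u} [Field k] {R : Type u} [CommRing R] [Algebra k R]
  [Module R (PowerSeries k)] [IsScalarTower k R (PowerSeries k)]
  (ι : R →ₐ[k] PowerSeries k) (hι : ∀ (r : R) (f : PowerSeries k), r • f = ι r * f)

include hι in
/-- multiplication by `X^m` as an `R`-linear map -/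
noncomputable def mulX (m : ℕ) : PowerSeries k →ₗ[R] PowerSeries k :=
  { toFun := fun f => X ^ m * f
    map_add' := fun f g => mul_add _ _ _
    map_smul' := fun r f => by rw [RingHom.id_apply, hι, hι, mul_left_comm] }

include hι in
theorem length_ext_cubical' {σ : Type} [Fintype σ] [DecidableEq σ] {M' N' : Type u}
    [AddCommGroup M'] [Module R M'] [AddCommGroup N'] [Module R N']
    (hinj : Function.Injective ι) (n : ℕ)
    (hA : ∀ f : PowerSeries k, f ∈ Set.range ι ↔ f ∈ E {m | m = 0 ∨ n ≤ m})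
    (a : σ → ℕ) (ha : Function.Injective a) (ha0 : ∀ s, 0 < a s) (han : ∀ s, a s < n)
    (jM : M' →ₗ[R] PowerSeries k) (hjM : Function.Injective jM)
    (m₀ : M') (mgen : σ → M') (hm₀ : jM m₀ = 1) (hmgen : ∀ s, jM (mgen s) = X ^ a s)
    (hgen : ∀ m : M', ∃ (α₀ : R) (α : σ → R), m = α₀ • m₀ + ∑ s, α s • mgen s)
    (jN : N' →ₗ[R] PowerSeries k) (hjN : Function.Injective jN) (SN : Set ℕ)
    (hN : ∀ f, f ∈ Set.range jN ↔ f ∈ E SN)
    (c : ℕ) (hcn : c ≤ n) (hc1 : ∀ m, c ≤ m → m ∈ SN) (hc2 : ∀ m, (∀ t, m + t ∈ SN) → c ≤ m)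
    (D₁ D₂ : Finset ℕ)
    (hD₁ : ∀ m, m ∈ D₁ ↔ c ≤ m ∧ ¬(n ≤ m ∧ m - n ∈ SN))
    (hD₂ : ∀ m, m ∈ D₂ ↔ m ∈ SN ∧ ¬ ∀ s, m + a s ∈ SN)
    (z : ℕ) (hz : Fintype.card σ * D₁.card = D₂.card + z) :
    Module.length R (Abelian.Ext (ModuleCat.of R M') (ModuleCat.of R N') 1) = z := by
  classical
  let Hsub : Submodule R (PowerSeries k) := LinearMap.range (mulX ι hι c)
  let W : Submodule R (PowerSeries k) := (LinearMap.range jN).map (mulX ι hι n)
  have hHsub : ∀ f, f ∈ Hsub ↔ f ∈ E {m | c ≤ m} := by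
    intro f
    constructor
    · rintro ⟨b, rfl⟩
      exact E_mono (fun m hm => hm.1)
        (X_pow_mul_mem_E (T := Set.univ) (fun _ _ => Set.mem_univ _))
    · intro hf
      have hf' : f ∈ E {m | c ≤ m ∧ m - c ∈ (Set.univ : Set ℕ)} :=
        E_mono (S := {m | c ≤ m}) (T := {m | c ≤ m ∧ m - c ∈ (Set.univ : Set ℕ)})
          (fun m hm => And.intro hm (Set.mem_univ _)) hf
      obtain ⟨b, _, rfl⟩ := exists_eq_X_pow_mul hf'
      exact ⟨b, rfl⟩
  have hW : ∀ f, f ∈ W ↔ f ∈ E {m | n ≤ m ∧ m - n ∈ SN} := by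
    intro f
    constructor
    · rintro ⟨_, ⟨ν, rfl⟩, rfl⟩
      exact X_pow_mul_mem_E ((hN _).mp ⟨ν, rfl⟩)
    · intro hf
      obtain ⟨w, hw, rfl⟩ := exists_eq_X_pow_mul hf
      obtain ⟨ν, rfl⟩ := (hN _).mpr hw
      exact ⟨jN ν, ⟨ν, rfl⟩, rfl⟩
  have hH' : ∀ f, f ∈ Set.range Hsub.subtype ↔ f ∈ E {m | c ≤ m} := fun f =>
    ⟨fun ⟨x, hx⟩ => hx ▸ (hHsub _).mp x.2, fun h => ⟨⟨f, (hHsub f).mpr h⟩, rfl⟩⟩
  let q₁ : ↥Hsub →ₗ[R] (↥Hsub ⧸ W.submoduleOf Hsub) := (W.submoduleOf Hsub).mkQ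
  have hq₁ker : ∀ h : ↥Hsub, q₁ h = 0 ↔ Hsub.subtype h ∈ E {m | n ≤ m ∧ m - n ∈ SN} := by
    intro h
    rw [← hW]
    show (W.submoduleOf Hsub).mkQ h = 0 ↔ _
    rw [Submodule.mkQ_apply, Submodule.Quotient.mk_eq_zero]
    rfl
  let u : σ → (N' →ₗ[R] ↥Hsub) := fun s =>
    LinearMap.codRestrict Hsub ((mulX ι hι (n + a s)).comp jN) (fun ν => (hHsub _).mpr
      (E_mono (fun m hm => le_trans (le_trans hcn (Nat.le_add_right n (a s))) hm.1)
        (X_pow_mul_mem_E (T := Set.univ) (fun _ _ => Set.mem_univ _))))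
  have hu : ∀ s ν, Hsub.subtype (u s ν) = X ^ (n + a s) * jN ν := fun s ν => rfl
  have hcore := length_ext_cubical ι hι hinj n hA a ha ha0 han jM hjM m₀ mgen hm₀ hmgen hgen jN hjN
    SN hN c hc1 hc2 Hsub.subtype (Submodule.injective_subtype _) hH' q₁
    (Submodule.mkQ_surjective _) hq₁ker u hu
  rw [hcore]
  refine length_final _ D₁.card D₂.card z ?_ ?_ hz
  · exact length_quot ι hι hHsub hW D₁ hD₁ (n + c)
      (fun m hm => ⟨by omega, hc1 _ (by omega)⟩)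
  · refine length_quot' ι hι jN hjN hN (LinearMap.rangeRestrict _)
      (LinearMap.surjective_rangeRestrict _) (SW := {m | ∀ s, m + a s ∈ SN}) ?_ D₂ hD₂ c
      (fun m hm => ⟨fun s => hc1 _ (by omega), hc1 m hm⟩)
    intro ν
    have h1 : (LinearMap.pi (fun s => q₁.comp (u s))).rangeRestrict ν = 0 ↔
        ∀ s, q₁ (u s ν) = 0 := by
      rw [Subtype.ext_iff]
      show (LinearMap.pi (fun s => q₁.comp (u s))) ν = 0 ↔ _
      exact funext_iff
    rw [h1]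
    constructor
    · intro h m hm s
      have h2 := (hq₁ker (u s ν)).mp (h s)
      rw [hu] at h2
      have h3 := h2 (m + (n + a s)) (by rw [coeff_X_pow_mul]; exact hm)
      have h4 : m + (n + a s) - n = m + a s := by omega
      rw [← h4]; exact h3.2
    · intro h s
      rw [hq₁ker, hu]
      refine mul_mem_E (S := {n + a s}) (X_pow_mem_E.mpr rfl) h ?_
      rintro x rfl y hy
      refine ⟨by omega, ?_⟩
      have h4 : n + a s + y - n = y + a s := by omega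
      rw [h4]; exact hy s

lemma trunc_eq {S : Set ℕ} {n : ℕ} {f : PowerSeries k} (hf : f ∈ E S) (hS : ∀ m ∈ S, m < n) :
    f = ∑ b ∈ Finset.range n, (coeff b f) • (X : PowerSeries k) ^ b := by
  ext m
  rw [map_sum]
  simp only [map_smul, coeff_X_pow, smul_eq_mul, mul_ite, mul_one, mul_zero]
  rw [Finset.sum_ite_eq]
  split_ifs with h
  · rfl
  · by_contra hne
    exact h (Finset.mem_range.mpr (hS m (hf m hne)))

include hι in
lemma mem_span_iff (n : ℕ)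
    (hA : ∀ f : PowerSeries k, f ∈ Set.range ι ↔ f ∈ E {m | m = 0 ∨ n ≤ m})
    (T₀ : Set ℕ) (h0 : 0 ∈ T₀) (hT : ∀ b ∈ T₀, b < n) (f : PowerSeries k) :
    f ∈ Submodule.span R ((fun b : ℕ => (X : PowerSeries k) ^ b) '' T₀) ↔
      f ∈ E {m | m ∈ T₀ ∨ n ≤ m} := by
  constructor
  · intro hf
    induction hf using Submodule.span_induction with
    | mem x h => obtain ⟨b, hb, rfl⟩ := h; exact X_pow_mem_E.mpr (Or.inl hb)
    | zero => exact zero_mem_E _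
    | add x y _ _ hx hy => exact add_mem_E hx hy
    | smul r x _ hx =>
      rw [hι]
      refine mul_mem_E ((hA _).mp ⟨r, rfl⟩) hx ?_
      intro x' hx' y hy
      simp only [Set.mem_setOf_eq] at hx' hy ⊢
      rcases hx' with rfl | hx'
      · rw [zero_add]; exact hy
      · right; omega
  · intro hf
    obtain ⟨f₁, hf₁, f₂, _, rfl⟩ := exists_split (S := T₀) (T := Set.univ) (c := n)
      (E_mono (fun m hm => hm.imp id (fun h => ⟨h, Set.mem_univ _⟩)) hf)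
    refine Submodule.add_mem _ ?_ ?_
    · rw [trunc_eq hf₁ hT]
      refine Submodule.sum_mem _ (fun b _ => ?_)
      by_cases hb : coeff b f₁ = 0
      · rw [hb, zero_smul]; exact Submodule.zero_mem _
      · exact Submodule.smul_of_tower_mem _ _ (Submodule.subset_span ⟨b, hf₁ b hb, rfl⟩)
    · obtain ⟨r, hr⟩ := (hA _).mpr (E_mono (fun m hm => Or.inr hm.1)
        (X_pow_mul_mem_E (m := n) (T := Set.univ) (ν := f₂) (fun _ _ => Set.mem_univ _)))
      have : X ^ n * f₂ = r • (X : PowerSeries k) ^ 0 := by rw [hι, hr, pow_zero, mul_one]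
      rw [this]
      exact Submodule.smul_mem _ _ (Submodule.subset_span ⟨0, h0, rfl⟩)

lemma span_gen {σ : Type} [Fintype σ] [DecidableEq σ] (a : σ → ℕ) (T₀ : Set ℕ)
    (hT : ∀ b ∈ T₀, b = 0 ∨ ∃ s, b = a s) (f : PowerSeries k)
    (hf : f ∈ Submodule.span R ((fun b : ℕ => (X : PowerSeries k) ^ b) '' T₀)) :
    ∃ (α₀ : R) (α : σ → R),
      f = α₀ • (1 : PowerSeries k) + ∑ s, α s • (X : PowerSeries k) ^ a s := by
  induction hf using Submodule.span_induction with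
  | mem x h =>
    obtain ⟨b, hb, rfl⟩ := h
    rcases hT b hb with rfl | ⟨s, rfl⟩
    · exact ⟨1, 0, by simp⟩
    · refine ⟨0, Pi.single s 1, ?_⟩
      rw [zero_smul, zero_add, Finset.sum_eq_single s]
      · rw [Pi.single_eq_same, one_smul]
      · intro t _ hts; rw [Pi.single_eq_of_ne hts, zero_smul]
      · intro h; exact absurd (Finset.mem_univ s) h
  | zero => exact ⟨0, 0, by simp⟩
  | add x y _ _ hx hy =>
    obtain ⟨α₀, α, rfl⟩ := hx
    obtain ⟨β₀, β, rfl⟩ := hy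
    refine ⟨α₀ + β₀, α + β, ?_⟩
    simp only [Pi.add_apply, add_smul, Finset.sum_add_distrib]
    abel
  | smul r x _ hx =>
    obtain ⟨α₀, α, rfl⟩ := hx
    refine ⟨r * α₀, r • α, ?_⟩
    simp only [Pi.smul_apply, smul_eq_mul, mul_smul, smul_add, Finset.smul_sum]

include hι in
theorem length_ext_span {σ : Type} [Fintype σ] [DecidableEq σ]
    (hinj : Function.Injective ι) (n : ℕ) (hn : 0 < n)
    (hA : ∀ f : PowerSeries k, f ∈ Set.range ι ↔ f ∈ E {m | m = 0 ∨ n ≤ m})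
    (a : σ → ℕ) (ha : Function.Injective a) (ha0 : ∀ s, 0 < a s) (han : ∀ s, a s < n)
    (T₀ : Set ℕ) (h0 : 0 ∈ T₀) (has : ∀ s, a s ∈ T₀) (hT : ∀ b ∈ T₀, b = 0 ∨ ∃ s, b = a s)
    (c : ℕ) (hcn : c ≤ n) (hc1 : ∀ m, c ≤ m → (m ∈ T₀ ∨ n ≤ m))
    (hc2 : ∀ m, (∀ t, (m + t ∈ T₀ ∨ n ≤ m + t)) → c ≤ m)
    (D₁ D₂ : Finset ℕ)
    (hD₁ : ∀ m, m ∈ D₁ ↔ c ≤ m ∧ ¬(n ≤ m ∧ (m - n ∈ T₀ ∨ n ≤ m - n)))
    (hD₂ : ∀ m, m ∈ D₂ ↔ (m ∈ T₀ ∨ n ≤ m) ∧ ¬ ∀ s, (m + a s ∈ T₀ ∨ n ≤ m + a s))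
    (z : ℕ) (hz : Fintype.card σ * D₁.card = D₂.card + z) :
    Module.length R (Abelian.Ext
      (ModuleCat.of R ↥(Submodule.span R ((fun b : ℕ => (X : PowerSeries k) ^ b) '' T₀)))
      (ModuleCat.of R ↥(Submodule.span R ((fun b : ℕ => (X : PowerSeries k) ^ b) '' T₀))) 1) =
      z := by
  have hTn : ∀ b ∈ T₀, b < n := by
    intro b hb
    rcases hT b hb with rfl | ⟨s, rfl⟩
    · exact hn
    · exact han s
  have hrange : ∀ f, f ∈ Set.range (Submodule.span R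
      ((fun b : ℕ => (X : PowerSeries k) ^ b) '' T₀)).subtype ↔ f ∈ E {m | m ∈ T₀ ∨ n ≤ m} := by
    intro f
    rw [← mem_span_iff ι hι n hA T₀ h0 hTn f]
    exact ⟨fun ⟨x, hx⟩ => hx ▸ x.2, fun h => ⟨⟨f, h⟩, rfl⟩⟩
  refine length_ext_cubical' ι hι hinj n hA a ha ha0 han
    (Submodule.span R ((fun b : ℕ => (X : PowerSeries k) ^ b) '' T₀)).subtype
    (Submodule.injective_subtype _)
    ⟨1, Submodule.subset_span ⟨0, h0, pow_zero _⟩⟩
    (fun s => ⟨X ^ a s, Submodule.subset_span ⟨a s, has s, rfl⟩⟩) rfl (fun s => rfl) ?_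
    (Submodule.span R ((fun b : ℕ => (X : PowerSeries k) ^ b) '' T₀)).subtype
    (Submodule.injective_subtype _) {m | m ∈ T₀ ∨ n ≤ m} hrange c hcn hc1 hc2 D₁ D₂ hD₁ hD₂ z hz
  rintro ⟨f, hf⟩
  obtain ⟨α₀, α, hfe⟩ := span_gen (R := R) a T₀ hT f hf
  refine ⟨α₀, α, Subtype.ext ?_⟩
  rw [Submodule.coe_add, Submodule.coe_smul, Submodule.coe_sum]
  simp only [Submodule.coe_smul]
  exact hfe

end Groth.Agent.H86.Cubical
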