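import Mathlib
import Groth.Agent.H86.CubicalMain

/-!
# `Ext¹` over the cubical monomial curve: the two families `M_i` and `R_{n-i}`
-/

namespace Groth.Agent.H86.Cubical

open PowerSeries CategoryTheory MonoPS

universe u

variable {k : Type u} [Field k] {R : Type u} [CommRing R] [Algebra k R]
  [Module R (PowerSeries k)] [IsScalarTower k R (PowerSeries k)]
  (ι : R →ₐ[k] PowerSeries k) (hι : ∀ (r : R) (f : PowerSeries k), r • f = ι r * f)

include hι in
theorem main_gen31 (hinj : Function.Injective ι) (n : ℕ)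
    (hA : ∀ f : PowerSeries k, f ∈ Set.range ι ↔ f ∈ E {m | m = 0 ∨ n ≤ m})
    (i : ℕ) (hi : i + 2 ≤ n) :
    Module.length R (Abelian.Ext
      (ModuleCat.of R ↥(Submodule.span R ((fun b : ℕ => (X : PowerSeries k) ^ b) '' Set.Iic i)))
      (ModuleCat.of R ↥(Submodule.span R ((fun b : ℕ => (X : PowerSeries k) ^ b) '' Set.Iic i)))
      1) = ((i * (n - 2 - i) : ℕ) : ℕ∞) := by
  classical
  have key := length_ext_span ι hι (σ := Fin i) hinj n (by omega) hA (fun s => (s : ℕ) + 1)
    (fun s t h => Fin.ext (Nat.add_right_cancel h)) (fun s => Nat.succ_pos _)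
    (fun s => by have := s.isLt; omega) (Set.Iic i) (Nat.zero_le i)
    (fun s => Nat.succ_le_of_lt s.isLt)
    (fun b hb => by
      rcases Nat.eq_zero_or_pos b with h | h
      · exact Or.inl h
      · have hb' : b ≤ i := hb
        exact Or.inr ⟨⟨b - 1, by omega⟩, by simp only []; omega⟩)
    n le_rfl (fun m hm => Or.inr hm)
    (fun m h => by
      by_contra hlt
      have h1 := h (n - 1 - m)
      simp only [Set.mem_Iic] at h1
      omega)
    (Finset.Ico (n + i + 1) (2 * n)) (Finset.Icc 1 i)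
    (fun m => by simp only [Finset.mem_Ico, Set.mem_Iic]; omega)
    (fun m => by
      simp only [Finset.mem_Icc, Set.mem_Iic]
      constructor
      · rintro ⟨h1, h2⟩
        refine ⟨Or.inl h2, fun h => ?_⟩
        have h3 := h ⟨i - m, by omega⟩
        simp only [] at h3
        omega
      · rintro ⟨h1, h2⟩
        by_contra hcon
        apply h2
        intro s
        have := s.isLt
        omega)
    (i * (n - 2 - i))
    (by
      rw [Fintype.card_fin, Nat.card_Ico, Nat.card_Icc]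
      have h1 : 2 * n - (n + i + 1) = (n - 2 - i) + 1 := by omega
      rw [h1, Nat.mul_succ]
      generalize i * (n - 2 - i) = q
      omega)
  exact key

include hι in
theorem main_gen33 (hinj : Function.Injective ι) (n : ℕ)
    (hA : ∀ f : PowerSeries k, f ∈ Set.range ι ↔ f ∈ E {m | m = 0 ∨ n ≤ m})
    (i : ℕ) (hi : i + 2 ≤ n) :
    Module.length R (Abelian.Ext
      (ModuleCat.of R ↥(Submodule.span R ((fun b : ℕ => (X : PowerSeries k) ^ b) ''
        ({0} ∪ Set.Icc (n - i) (n - 1)))))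
      (ModuleCat.of R ↥(Submodule.span R ((fun b : ℕ => (X : PowerSeries k) ^ b) ''
        ({0} ∪ Set.Icc (n - i) (n - 1)))))
      1) = ((i * (n - 1) : ℕ) : ℕ∞) := by
  classical
  have hcard : (Finset.Ico (n - i) n ∪ Finset.Ico (n + 1) (2 * n - i)).card = n - 1 := by
    rw [Finset.card_union_of_disjoint (Finset.disjoint_left.mpr (by
      intro m h1 h2
      simp only [Finset.mem_Ico] at h1 h2
      omega)), Nat.card_Ico, Nat.card_Ico]
    omega
  have key := length_ext_span ι hι (σ := Fin i) hinj n (by omega) hA (fun s => n - i + (s : ℕ))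
    (fun s t h => Fin.ext (by simp only [] at h; omega)) (fun s => by omega)
    (fun s => by have := s.isLt; omega) ({0} ∪ Set.Icc (n - i) (n - 1)) (Or.inl rfl)
    (fun s => Or.inr ⟨by omega, by have := s.isLt; omega⟩)
    (fun b hb => by
      rcases hb with hb | ⟨h1, h2⟩
      · exact Or.inl hb
      · exact Or.inr ⟨⟨b - (n - i), by omega⟩, by simp only []; omega⟩)
    (n - i) (Nat.sub_le _ _)
    (fun m hm => by
      simp only [Set.mem_union, Set.mem_singleton_iff, Set.mem_Icc]; omega)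
    (fun m h => by
      have h1 := h 0
      have h2 := h 1
      simp only [Set.mem_union, Set.mem_singleton_iff, Set.mem_Icc] at h1 h2
      omega)
    (Finset.Ico (n - i) n ∪ Finset.Ico (n + 1) (2 * n - i)) ∅
    (fun m => by
      simp only [Finset.mem_union, Finset.mem_Ico, Set.mem_union, Set.mem_singleton_iff,
        Set.mem_Icc]
      omega)
    (fun m => by
      constructor
      · intro h; simp at h
      · rintro ⟨h1, h2⟩
        exfalso
        apply h2
        intro s
        have := s.isLt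
        simp only [Set.mem_union, Set.mem_singleton_iff, Set.mem_Icc] at h1 ⊢
        omega)
    (i * (n - 1))
    (by rw [Fintype.card_fin, hcard, Finset.card_empty, zero_add])
  exact key

end Groth.Agent.H86.Cubical

namespace Groth.Agent.H86.Cubical

open PowerSeries CategoryTheory MonoPS

universe u

theorem main31 (k : Type u) [Field k] (n : ℕ) (A : Subalgebra k (PowerSeries k))
    (hmono : ∀ f : PowerSeries k, f ∈ A ↔ ∀ m : ℕ, PowerSeries.coeff m f ≠ 0 → (m = 0 ∨ n ≤ m))
    (i : ℕ) (hi : i + 2 ≤ n) :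
    Module.length ↥A (Abelian.Ext (ModuleCat.of ↥A ↥(Submodule.span ↥A ((fun a : ℕ => (PowerSeries.X : PowerSeries k) ^ a) '' Set.Iic i))) (ModuleCat.of ↥A ↥(Submodule.span ↥A ((fun a : ℕ => (PowerSeries.X : PowerSeries k) ^ a) '' Set.Iic i))) 1) = ((i * (n - 2 - i) : ℕ) : ℕ∞) := by
  have hA : ∀ f : PowerSeries k, f ∈ Set.range A.val ↔ f ∈ E {m | m = 0 ∨ n ≤ m} := by
    intro f
    have h1 : f ∈ E {m | m = 0 ∨ n ≤ m} ↔ f ∈ A := (hmono f).symm
    rw [h1]
    exact ⟨fun ⟨x, hx⟩ => hx ▸ x.2, fun h => ⟨⟨f, h⟩, rfl⟩⟩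
  exact main_gen31 (R := ↥A) A.val (fun _ _ => rfl) Subtype.val_injective n hA i hi

theorem main33 (k : Type u) [Field k] (n : ℕ) (A : Subalgebra k (PowerSeries k))
    (hmono : ∀ f : PowerSeries k, f ∈ A ↔ ∀ m : ℕ, PowerSeries.coeff m f ≠ 0 → (m = 0 ∨ n ≤ m))
    (i : ℕ) (hi : i + 2 ≤ n) :
    Module.length ↥A (Abelian.Ext (ModuleCat.of ↥A ↥(Submodule.span ↥A ((fun a : ℕ => (PowerSeries.X : PowerSeries k) ^ a) '' ({0} ∪ Set.Icc (n - i) (n - 1))))) (ModuleCat.of ↥A ↥(Submodule.span ↥A ((fun a : ℕ => (PowerSeries.X : PowerSeries k) ^ a) '' ({0} ∪ Set.Icc (n - i) (n - 1))))) 1) = ((i * (n - 1) : ℕ) : ℕ∞) := by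
  have hA : ∀ f : PowerSeries k, f ∈ Set.range A.val ↔ f ∈ E {m | m = 0 ∨ n ≤ m} := by
    intro f
    have h1 : f ∈ E {m | m = 0 ∨ n ≤ m} ↔ f ∈ A := (hmono f).symm
    rw [h1]
    exact ⟨fun ⟨x, hx⟩ => hx ▸ x.2, fun h => ⟨⟨f, h⟩, rfl⟩⟩
  exact main_gen33 (R := ↥A) A.val (fun _ _ => rfl) Subtype.val_injective n hA i hi

end Groth.Agent.H86.Cubical
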