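import Mathlib
import Groth.Agent.H86.CubicalMain

/-!
# `Ext¹` of the normalisation over the cubical monomial curve
-/

namespace Groth.Agent.H86.Cubical

open PowerSeries CategoryTheory MonoPS

universe u

variable {k : Type u} [Field k] {R : Type u} [CommRing R] [Algebra k R]
  [Module R (PowerSeries k)] [IsScalarTower k R (PowerSeries k)]
  (ι : R →ₐ[k] PowerSeries k) (hι : ∀ (r : R) (f : PowerSeries k), r • f = ι r * f)

include hι in
theorem ext_norm (hinj : Function.Injective ι) (n : ℕ) (hn : 2 ≤ n)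
    (hA : ∀ f : PowerSeries k, f ∈ Set.range ι ↔ f ∈ E {m | m = 0 ∨ n ≤ m}) :
    Module.length R (Abelian.Ext (ModuleCat.of R (PowerSeries k))
      (ModuleCat.of R (PowerSeries k)) 1) = (((n - 1) * n : ℕ) : ℕ∞) := by
  classical
  let jB : PowerSeries k →ₗ[R] PowerSeries k :=
    { toFun := id, map_add' := fun _ _ => rfl, map_smul' := fun _ _ => rfl }
  refine length_ext_cubical' ι hι (σ := Fin (n - 1)) (M' := PowerSeries k) (N' := PowerSeries k)
    hinj n hA (fun s => (s : ℕ) + 1) (fun s t h => Fin.ext (Nat.add_right_cancel h))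
    (fun s => Nat.succ_pos _) (fun s => by have := s.isLt; omega) jB (fun x y h => h) 1
    (fun s => X ^ ((s : ℕ) + 1)) rfl (fun s => rfl) ?_ jB (fun x y h => h) Set.univ
    (fun f => ⟨fun _ _ _ => Set.mem_univ _, fun _ => ⟨f, rfl⟩⟩) 0 (Nat.zero_le n)
    (fun m _ => Set.mem_univ m) (fun m _ => Nat.zero_le m) (Finset.range n) ∅ ?_ ?_
    ((n - 1) * n) ?_
  · intro f
    have hf' : f ∈ E {m | m ∈ {m | m < n} ∨ (n ≤ m ∧ m - n ∈ (Set.univ : Set ℕ))} := fun m _ => by
      by_cases h : m < n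
      · exact Or.inl h
      · exact Or.inr ⟨not_lt.mp h, Set.mem_univ _⟩
    obtain ⟨f₁, hf₁, f₂, _, rfl⟩ := exists_split hf'
    obtain ⟨ρ, hρ⟩ := (hA _).mpr (E_mono (fun m hm => Or.inr hm.1)
      (X_pow_mul_mem_E (m := n) (T := Set.univ) (ν := f₂) (fun _ _ => Set.mem_univ _)))
    refine ⟨algebraMap k R (coeff 0 f₁) + ρ, fun s => algebraMap k R (coeff ((s : ℕ) + 1) f₁), ?_⟩
    have htr := trunc_eq (n := (n - 1) + 1) hf₁ (fun m hm => by have h : m < n := hm; omega)
    rw [Finset.sum_range_succ', ← Fin.sum_univ_eq_sum_range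
      (fun b => coeff (b + 1) f₁ • (X : PowerSeries k) ^ (b + 1))] at htr
    rw [add_smul, algebraMap_smul, hι ρ, hρ, mul_one]
    simp only [algebraMap_smul]
    conv_lhs => rw [htr]
    rw [pow_zero]
    abel
  · intro m
    simp only [Finset.mem_range, Set.mem_univ, and_true, zero_le, true_and, not_le]
  · intro m
    constructor
    · intro h; simp at h
    · rintro ⟨_, h2⟩
      exact absurd (fun s => Set.mem_univ _) h2
  · rw [Fintype.card_fin, Finset.card_range, Finset.card_empty, zero_add]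

include hι in
theorem end_norm (hinj : Function.Injective ι) (n : ℕ) (hn : 2 ≤ n)
    (hA : ∀ f : PowerSeries k, f ∈ Set.range ι ↔ f ∈ E {m | m = 0 ∨ n ≤ m}) :
    Module.length R ((PowerSeries k →ₗ[R] PowerSeries k) ⧸
      LinearMap.range (Algebra.lsmul R R (PowerSeries k) :
        R →ₐ[R] Module.End R (PowerSeries k)).toLinearMap) = ((n - 1 : ℕ) : ℕ∞) := by
  classical
  have hXn : (X : PowerSeries k) ^ n ≠ 0 := pow_ne_zero _ X_ne_zero
  have hρex : ∀ b : PowerSeries k, ∃ r : R, ι r = X ^ n * b := by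
    intro b
    apply (hA _).mpr
    exact E_mono (fun m hm => Or.inr hm.1)
      (X_pow_mul_mem_E (T := Set.univ) (fun _ _ => Set.mem_univ _))
  let ev1 : (PowerSeries k →ₗ[R] PowerSeries k) →ₗ[R] PowerSeries k :=
    { toFun := fun φ => φ 1, map_add' := fun _ _ => rfl, map_smul' := fun _ _ => rfl }
  have hev1 : ∀ φ, ev1 φ = φ 1 := fun φ => rfl
  have hBlin : ∀ (φ : PowerSeries k →ₗ[R] PowerSeries k) (b : PowerSeries k),
      φ b = b * φ 1 := by
    intro φ b
    obtain ⟨ρn, hρn⟩ := hρex 1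
    obtain ⟨ρb, hρb⟩ := hρex b
    apply mul_left_cancel₀ hXn
    have h1 : φ (ρn • b) = ρn • φ b := map_smul φ ρn b
    have h2 : φ (ρb • (1 : PowerSeries k)) = ρb • φ 1 := map_smul φ ρb 1
    have h3 : ρn • b = ρb • (1 : PowerSeries k) := by rw [hι, hι, hρn, hρb, mul_one, mul_one]
    rw [h3, h2, hι, hι, hρn, hρb, mul_one] at h1
    rw [← h1]; ring
  have hev1inj : Function.Injective ev1 := by
    intro φ ψ h
    apply LinearMap.ext; intro b
    rw [hBlin φ b, hBlin ψ b, ← hev1, ← hev1, h]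
  have key := length_quot' ι hι ev1 hev1inj (SH := Set.univ) (SW := {m | m = 0 ∨ n ≤ m})
    (fun f => ⟨fun _ _ _ => Set.mem_univ _, fun _ => ⟨
      { toFun := fun b => b * f
        map_add' := fun x y => add_mul _ _ _
        map_smul' := fun r b => by rw [RingHom.id_apply, hι, hι, mul_assoc] },
      one_mul f⟩⟩)
    (LinearMap.range (Algebra.lsmul R R (PowerSeries k) :
        R →ₐ[R] Module.End R (PowerSeries k)).toLinearMap).mkQ
    (Submodule.mkQ_surjective _)
    (fun φ => by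
      rw [Submodule.mkQ_apply, Submodule.Quotient.mk_eq_zero, ← hA]
      constructor
      · rintro ⟨r, rfl⟩
        exact ⟨r, by
          show ι r = r • (1 : PowerSeries k)
          rw [hι, mul_one]⟩
      · rintro ⟨r, hr⟩
        refine ⟨r, hev1inj ?_⟩
        show r • (1 : PowerSeries k) = φ 1
        rw [hι, mul_one]; exact hr)
    (Finset.Ico 1 n)
    (fun m => by
      simp only [Finset.mem_Ico, Set.mem_univ, true_and, Set.mem_setOf_eq]; omega)
    n (fun m hm => ⟨Or.inr hm, Set.mem_univ _⟩)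
  rw [key, Nat.card_Ico]

include hι in
theorem main_gen32 (hinj : Function.Injective ι) (n : ℕ) (hn : 2 ≤ n)
    (hA : ∀ f : PowerSeries k, f ∈ Set.range ι ↔ f ∈ E {m | m = 0 ∨ n ≤ m}) :
    Module.length R (Abelian.Ext (ModuleCat.of R (PowerSeries k))
      (ModuleCat.of R (PowerSeries k)) 1) =
      (((n - 1) ^ 2 : ℕ) : ℕ∞) + Module.length R ((PowerSeries k →ₗ[R] PowerSeries k) ⧸
        LinearMap.range (Algebra.lsmul R R (PowerSeries k) :
          R →ₐ[R] Module.End R (PowerSeries k)).toLinearMap) := by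
  rw [ext_norm ι hι hinj n hn hA, end_norm ι hι hinj n hn hA]
  obtain ⟨m, rfl⟩ : ∃ m, n = m + 1 := ⟨n - 1, by omega⟩
  simp only [Nat.add_sub_cancel]
  norm_cast
  ring

end Groth.Agent.H86.Cubical

namespace Groth.Agent.H86.Cubical

open PowerSeries CategoryTheory MonoPS

universe u

theorem main32 (k : Type u) [Field k] (n : ℕ) (hn : 2 ≤ n) (A : Subalgebra k (PowerSeries k))
    (hmono : ∀ f : PowerSeries k, f ∈ A ↔ ∀ m : ℕ, PowerSeries.coeff m f ≠ 0 → (m = 0 ∨ n ≤ m)) :
    Module.length ↥A (Abelian.Ext (ModuleCat.of ↥A (PowerSeries k)) (ModuleCat.of ↥A (PowerSeries k)) 1) = (((n - 1) ^ 2 : ℕ) : ℕ∞) + Module.length ↥A ((PowerSeries k →ₗ[↥A] PowerSeries k) ⧸ LinearMap.range (Algebra.lsmul ↥A ↥A (PowerSeries k) : ↥A →ₐ[↥A] Module.End ↥A (PowerSeries k)).toLinearMap) := by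
  have hA : ∀ f : PowerSeries k, f ∈ Set.range A.val ↔ f ∈ E {m | m = 0 ∨ n ≤ m} := by
    intro f
    have h1 : f ∈ E {m | m = 0 ∨ n ≤ m} ↔ f ∈ A := (hmono f).symm
    rw [h1]
    exact ⟨fun ⟨x, hx⟩ => hx ▸ x.2, fun h => ⟨⟨f, h⟩, rfl⟩⟩
  exact main_gen32 (R := ↥A) A.val (fun _ _ => rfl) Subtype.val_injective n hn hA

end Groth.Agent.H86.Cubical
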