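import Mathlib

set_option autoImplicit false

namespace Groth.Agent.H86.DPComp

variable {A : Type*} [CommRing A] {I : Ideal A}

theorem dpow_congr (γ : DividedPowers I) (c : A) (t : ℕ) (ht : Ideal.span {c} ^ t ≤ I)
    (n k : ℕ) {a a' : A} (ha' : a' ∈ I) (h : a - a' ∈ Ideal.span {c} ^ (k + t)) :
    Ideal.Quotient.mk (Ideal.span {c} ^ k) (γ.dpow n a) =
      Ideal.Quotient.mk (Ideal.span {c} ^ k) (γ.dpow n a') := by
  rw [Ideal.span_singleton_pow, Ideal.mem_span_singleton'] at h
  obtain ⟨y, hy⟩ := h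
  have hz : c ^ t * y ∈ I :=
    ht (Ideal.mul_mem_right _ _ (Ideal.pow_mem_pow (Ideal.mem_span_singleton_self c) t))
  have hpkz : c ^ k * (c ^ t * y) ∈ I := Ideal.mul_mem_left _ _ hz
  have hae : a = a' + c ^ k * (c ^ t * y) := by
    have h1 : a = a' + (a - a') := by ring
    rw [h1, ← hy]; ring
  rw [hae, γ.dpow_add ha' hpkz, map_sum, Finset.sum_eq_single (n, 0)]
  · rw [γ.dpow_zero hpkz, mul_one]
  · intro b hb hne
    have hj : b.2 ≠ 0 := by
      intro h0
      have h2 := Finset.HasAntidiagonal.mem_antidiagonal.mp hb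
      exact hne (Prod.ext (by show b.1 = n; omega) h0)
    rw [map_mul, γ.dpow_mul hz, map_mul]
    have h3 : Ideal.Quotient.mk (Ideal.span {c} ^ k) ((c ^ k) ^ b.2) = 0 := by
      rw [Ideal.Quotient.eq_zero_iff_mem]
      obtain ⟨j, hj'⟩ := Nat.exists_eq_succ_of_ne_zero hj
      rw [hj', pow_succ]
      exact Ideal.mul_mem_left _ _ (Ideal.pow_mem_pow (Ideal.mem_span_singleton_self c) k)
    rw [h3, zero_mul, mul_zero]
  · intro h
    exact absurd (Finset.HasAntidiagonal.mem_antidiagonal.mpr (add_zero n)) h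

theorem eval_of_le (J : Ideal A) (x : AdicCompletion J A) {k l : ℕ} (hkl : k ≤ l) (a : A)
    (ha : AdicCompletion.evalₐ J l x = Ideal.Quotient.mk (J ^ l) a) :
    AdicCompletion.evalₐ J k x = Ideal.Quotient.mk (J ^ k) a := by
  obtain ⟨f, rfl⟩ := AdicCompletion.mk_surjective J A x
  rw [AdicCompletion.evalₐ_mk] at ha ⊢
  rw [← AdicCompletion.Ideal.mk_eq_mk J hkl f]
  rw [Ideal.Quotient.eq] at ha ⊢
  exact Ideal.pow_le_pow_right hkl ha

noncomputable def rep (J : Ideal A) (x : AdicCompletion J A) :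
    AdicCompletion.AdicCauchySequence J A :=
  Classical.choose (AdicCompletion.mk_surjective J A x)

theorem rep_spec (J : Ideal A) (x : AdicCompletion J A) :
    AdicCompletion.mk J A (rep J x) = x :=
  Classical.choose_spec (AdicCompletion.mk_surjective J A x)

theorem eval_rep (J : Ideal A) (x : AdicCompletion J A) (l : ℕ) :
    AdicCompletion.evalₐ J l x = Ideal.Quotient.mk (J ^ l) ((rep J x).val l) := by
  conv_lhs => rw [← rep_spec J x]
  exact AdicCompletion.evalₐ_mk J l (rep J x)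

theorem mem_ker_iff (c : A) (t : ℕ) (ht : Ideal.span {c} ^ t ≤ I)
    (x : AdicCompletion (Ideal.span {c}) A) (l : ℕ) (hl : t ≤ l) (a : A)
    (ha : AdicCompletion.evalₐ (Ideal.span {c}) l x = Ideal.Quotient.mk (Ideal.span {c} ^ l) a) :
    x ∈ RingHom.ker ((Ideal.Quotient.factor ht).comp
      (AdicCompletion.evalₐ (Ideal.span {c}) t).toRingHom) ↔ a ∈ I := by
  rw [RingHom.mem_ker, RingHom.comp_apply]
  have h1 : (AdicCompletion.evalₐ (Ideal.span {c}) t).toRingHom x =
      Ideal.Quotient.mk (Ideal.span {c} ^ t) a := eval_of_le _ x hl a ha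
  rw [h1, Ideal.Quotient.factor_mk, Ideal.Quotient.eq_zero_iff_mem]

theorem rep_mem (c : A) (t : ℕ) (ht : Ideal.span {c} ^ t ≤ I)
    {x : AdicCompletion (Ideal.span {c}) A}
    (hx : x ∈ RingHom.ker ((Ideal.Quotient.factor ht).comp
      (AdicCompletion.evalₐ (Ideal.span {c}) t).toRingHom)) (l : ℕ) (hl : t ≤ l) :
    (rep (Ideal.span {c}) x).val l ∈ I :=
  (mem_ker_iff c t ht x l hl _ (eval_rep _ x l)).mp hx

theorem dseq_cauchy (γ : DividedPowers I) (c : A) (t : ℕ) (ht : Ideal.span {c} ^ t ≤ I) (n : ℕ)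
    {x : AdicCompletion (Ideal.span {c}) A}
    (hx : x ∈ RingHom.ker ((Ideal.Quotient.factor ht).comp
      (AdicCompletion.evalₐ (Ideal.span {c}) t).toRingHom)) :
    AdicCompletion.IsAdicCauchy (Ideal.span {c}) A
      (fun k => γ.dpow n ((rep (Ideal.span {c}) x).val (k + t))) := by
  intro k l hkl
  rw [SModEq.sub_mem]
  have h1 : (Ideal.span {c} ^ k • ⊤ : Ideal A) = Ideal.span {c} ^ k := by ext; simp
  rw [h1, ← Ideal.Quotient.eq]
  apply dpow_congr γ c t ht n k (rep_mem c t ht hx (l + t) (Nat.le_add_left _ _))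
  rw [← Ideal.Quotient.eq]
  exact (AdicCompletion.Ideal.mk_eq_mk (Ideal.span {c}) (by omega : k + t ≤ l + t)
    (rep _ x)).symm

open Classical in
noncomputable def delta (γ : DividedPowers I) (c : A) (t : ℕ) (ht : Ideal.span {c} ^ t ≤ I)
    (n : ℕ) (x : AdicCompletion (Ideal.span {c}) A) : AdicCompletion (Ideal.span {c}) A :=
  if hx : x ∈ RingHom.ker ((Ideal.Quotient.factor ht).comp
      (AdicCompletion.evalₐ (Ideal.span {c}) t).toRingHom) then
    AdicCompletion.mk (Ideal.span {c}) A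
      (⟨_, dseq_cauchy γ c t ht n hx⟩ : AdicCompletion.AdicCauchySequence (Ideal.span {c}) A)
  else 0

theorem eval_delta (γ : DividedPowers I) (c : A) (t : ℕ) (ht : Ideal.span {c} ^ t ≤ I) (n : ℕ)
    {x : AdicCompletion (Ideal.span {c}) A}
    (hx : x ∈ RingHom.ker ((Ideal.Quotient.factor ht).comp
      (AdicCompletion.evalₐ (Ideal.span {c}) t).toRingHom)) (k : ℕ) :
    AdicCompletion.evalₐ (Ideal.span {c}) k (delta γ c t ht n x) =
      Ideal.Quotient.mk (Ideal.span {c} ^ k)
        (γ.dpow n ((rep (Ideal.span {c}) x).val (k + t))) := by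
  unfold delta
  rw [dif_pos hx]
  exact AdicCompletion.evalₐ_mk _ k _

theorem eval_delta_of_lift (γ : DividedPowers I) (c : A) (t : ℕ) (ht : Ideal.span {c} ^ t ≤ I)
    (n : ℕ) {x : AdicCompletion (Ideal.span {c}) A}
    (hx : x ∈ RingHom.ker ((Ideal.Quotient.factor ht).comp
      (AdicCompletion.evalₐ (Ideal.span {c}) t).toRingHom)) (k : ℕ) (a : A)
    (ha : AdicCompletion.evalₐ (Ideal.span {c}) (k + t) x =
      Ideal.Quotient.mk (Ideal.span {c} ^ (k + t)) a) :
    AdicCompletion.evalₐ (Ideal.span {c}) k (delta γ c t ht n x) =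
      Ideal.Quotient.mk (Ideal.span {c} ^ k) (γ.dpow n a) := by
  rw [eval_delta γ c t ht n hx k]
  have haI : a ∈ I := (mem_ker_iff c t ht x (k + t) (Nat.le_add_left _ _) a ha).mp hx
  apply dpow_congr γ c t ht n k haI
  rw [← Ideal.Quotient.eq, ← ha, eval_rep]

theorem delta_mem (γ : DividedPowers I) (c : A) (t : ℕ) (ht : Ideal.span {c} ^ t ≤ I)
    {n : ℕ} (hn : n ≠ 0) {x : AdicCompletion (Ideal.span {c}) A}
    (hx : x ∈ RingHom.ker ((Ideal.Quotient.factor ht).comp
      (AdicCompletion.evalₐ (Ideal.span {c}) t).toRingHom)) :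
    delta γ c t ht n x ∈ RingHom.ker ((Ideal.Quotient.factor ht).comp
      (AdicCompletion.evalₐ (Ideal.span {c}) t).toRingHom) := by
  rw [mem_ker_iff c t ht _ t le_rfl _ (eval_delta γ c t ht n hx t)]
  exact γ.dpow_mem hn (rep_mem c t ht hx (t + t) (Nat.le_add_left _ _))

noncomputable def dp (γ : DividedPowers I) (c : A) (t : ℕ) (ht : Ideal.span {c} ^ t ≤ I) :
    DividedPowers (RingHom.ker ((Ideal.Quotient.factor ht).comp
      (AdicCompletion.evalₐ (Ideal.span {c}) t).toRingHom)) where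
  dpow n x := delta γ c t ht n x
  dpow_null {n x} hx := by
    unfold delta
    rw [dif_neg hx]
  dpow_zero {x} hx := by
    apply AdicCompletion.ext_evalₐ
    intro k
    rw [eval_delta γ c t ht 0 hx k,
      γ.dpow_zero (rep_mem c t ht hx (k + t) (Nat.le_add_left _ _)), map_one, map_one]
  dpow_one {x} hx := by
    apply AdicCompletion.ext_evalₐ
    intro k
    rw [eval_delta γ c t ht 1 hx k,
      γ.dpow_one (rep_mem c t ht hx (k + t) (Nat.le_add_left _ _))]
    exact (eval_of_le _ x (Nat.le_add_right k t) _ (eval_rep _ x (k + t))).symm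
  dpow_mem {n x} hn hx := delta_mem γ c t ht hn hx
  dpow_add {n x y} hx hy := by
    apply AdicCompletion.ext_evalₐ
    intro k
    have hxy : x + y ∈ RingHom.ker ((Ideal.Quotient.factor ht).comp
      (AdicCompletion.evalₐ (Ideal.span {c}) t).toRingHom) := Ideal.add_mem _ hx hy
    have hax := rep_mem c t ht hx (k + t) (Nat.le_add_left _ _)
    have hay := rep_mem c t ht hy (k + t) (Nat.le_add_left _ _)
    rw [eval_delta_of_lift γ c t ht n hxy k
      ((rep _ x).val (k + t) + (rep _ y).val (k + t))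
      (by rw [map_add (AdicCompletion.evalₐ (Ideal.span {c}) (k + t)) x y, eval_rep _ x,
        eval_rep _ y, map_add]),
      γ.dpow_add hax hay, map_sum, map_sum]
    apply Finset.sum_congr rfl
    intro b _
    rw [map_mul, map_mul, eval_delta γ c t ht b.1 hx k, eval_delta γ c t ht b.2 hy k]
  dpow_mul {n a' x} hx := by
    apply AdicCompletion.ext_evalₐ
    intro k
    have hax := rep_mem c t ht hx (k + t) (Nat.le_add_left _ _)
    have hmem : a' * x ∈ RingHom.ker ((Ideal.Quotient.factor ht).comp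
      (AdicCompletion.evalₐ (Ideal.span {c}) t).toRingHom) := Ideal.mul_mem_left _ _ hx
    rw [eval_delta_of_lift γ c t ht n hmem k
      ((rep _ a').val (k + t) * (rep _ x).val (k + t))
      (by rw [map_mul (AdicCompletion.evalₐ (Ideal.span {c}) (k + t)) a' x, eval_rep _ a',
        eval_rep _ x, map_mul]),
      γ.dpow_mul hax, map_mul, map_mul, map_pow, map_pow, eval_delta γ c t ht n hx k,
      eval_of_le _ a' (Nat.le_add_right k t) _ (eval_rep _ a' (k + t))]
  mul_dpow {m n x} hx := by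
    apply AdicCompletion.ext_evalₐ
    intro k
    have hax := rep_mem c t ht hx (k + t) (Nat.le_add_left _ _)
    rw [map_mul, map_mul, map_natCast, eval_delta γ c t ht m hx k, eval_delta γ c t ht n hx k,
      eval_delta γ c t ht (m + n) hx k, ← map_mul, γ.mul_dpow hax, map_mul, map_natCast]
  dpow_comp {m n x} hn hx := by
    apply AdicCompletion.ext_evalₐ
    intro k
    have hy := delta_mem γ c t ht hn hx
    have ha2 := rep_mem c t ht hx (k + t + t) (Nat.le_add_left _ _)
    rw [eval_delta_of_lift γ c t ht m hy k _ (eval_delta γ c t ht n hx (k + t)),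
      γ.dpow_comp hn ha2, map_mul, map_mul, map_natCast, map_natCast,
      eval_delta_of_lift γ c t ht (m * n) hx k ((rep _ x).val (k + t + t))
        (eval_of_le _ x (Nat.le_add_right (k + t) t) _ (eval_rep _ x (k + t + t)))]

theorem isDPMorphism (γ : DividedPowers I) (c : A) (t : ℕ) (ht : Ideal.span {c} ^ t ≤ I) :
    γ.IsDPMorphism (dp γ c t ht) (algebraMap A (AdicCompletion (Ideal.span {c}) A)) := by
  have hmem : ∀ a ∈ I, algebraMap A (AdicCompletion (Ideal.span {c}) A) a ∈
      RingHom.ker ((Ideal.Quotient.factor ht).comp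
        (AdicCompletion.evalₐ (Ideal.span {c}) t).toRingHom) := by
    intro a ha
    rw [mem_ker_iff c t ht _ t le_rfl a (by rw [AlgHom.commutes]; rfl)]
    exact ha
  refine ⟨Ideal.map_le_iff_le_comap.mpr (fun a ha => hmem a ha), ?_⟩
  intro n a ha
  apply AdicCompletion.ext_evalₐ
  intro k
  show AdicCompletion.evalₐ _ k (delta γ c t ht n _) = _
  rw [eval_delta_of_lift γ c t ht n (hmem a ha) k a (by rw [AlgHom.commutes]; rfl),
    AlgHom.commutes]
  rfl

theorem surj (c : A) (t : ℕ) (ht : Ideal.span {c} ^ t ≤ I) :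
    Function.Surjective ((Ideal.Quotient.factor ht).comp
      (AdicCompletion.evalₐ (Ideal.span {c}) t).toRingHom) := by
  rw [RingHom.coe_comp]
  exact (Ideal.Quotient.factor_surjective ht).comp (AdicCompletion.surjective_evalₐ _ t)

end Groth.Agent.H86.DPComp
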