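import Groth.Statements.S17886
import Groth.Agent.H18.AmpleIso
import Mathlib

set_option autoImplicit false
universe u
open CategoryTheory CategoryTheory.Limits AlgebraicGeometry TopologicalSpace

namespace Groth.Agent.H86.DenseAffine

/-- In a scheme with Noetherian underlying space every point has a dense affine open
neighbourhood (a maximal affine open containing a given one is dense). -/
theorem exists_dense_affine (X : Scheme.{u}) [NoetherianSpace X] (x : X) :
    ∃ U : X.Opens, x ∈ U ∧ IsAffineOpen U ∧ Dense (U : Set X) := by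
  obtain ⟨_, ⟨U₁, hU₁, rfl⟩, hxU₁, -⟩ :=
    X.isBasis_affineOpens.exists_subset_of_mem_open (Set.mem_univ x) isOpen_univ
  let 𝒜 : Set X.Opens := {W | IsAffineOpen W ∧ U₁ ≤ W}
  have h𝒜 : 𝒜.Nonempty := ⟨U₁, hU₁, le_rfl⟩
  obtain ⟨W, ⟨hWaff, hUW⟩, hmax⟩ := (wellFounded_gt (α := X.Opens)).has_min 𝒜 h𝒜
  refine ⟨W, hUW hxU₁, hWaff, ?_⟩
  by_contra hnd
  have hne : ((closure (W : Set X))ᶜ).Nonempty := by
    rw [Set.nonempty_compl]
    intro h
    exact hnd (dense_iff_closure_eq.mpr h)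
  obtain ⟨y, hy⟩ := hne
  obtain ⟨_, ⟨V, hV, rfl⟩, hyV, hVC⟩ :=
    X.isBasis_affineOpens.exists_subset_of_mem_open hy isClosed_closure.isOpen_compl
  have hdisj : Disjoint W V := by
    rw [← Opens.coe_disjoint]
    exact Set.disjoint_left.mpr fun z hzW hzV => hVC hzV (subset_closure hzW)
  have hsup : IsAffineOpen (W ⊔ V) := hWaff.sup_of_disjoint hV hdisj
  refine hmax (W ⊔ V) ⟨hsup, hUW.trans le_sup_left⟩ ?_
  refine lt_of_le_of_ne le_sup_left fun h => ?_
  have hy' : y ∈ W ⊔ V := by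
    show y ∈ ((W ⊔ V : X.Opens) : Set X)
    rw [Opens.coe_sup]
    exact Or.inr hyV
  rw [← h] at hy'
  exact hVC hyV (subset_closure hy')

/-- An affine open of a scheme with Noetherian underlying space, locally of finite type over `S`,
is quasi-projective over `S`: its structure sheaf is relatively ample. -/
theorem isQuasiProjective_of_affine {S X : Scheme.{u}} (f : X ⟶ S) [NoetherianSpace X]
    [LocallyOfFiniteType f] (U : X.Opens) (hU : IsAffineOpen U) :
    RelProj.IsQuasiProjective (U.ι ≫ f) := by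
  haveI : IsAffine (U : Scheme.{u}) := hU
  haveI : NoetherianSpace (U : Scheme.{u}) := U.ι.isOpenEmbedding.isInducing.noetherianSpace
  refine ⟨inferInstance, inferInstance, Coh.structureModule U, inferInstance, fun V => ?_⟩
  haveI : NoetherianSpace (((U.ι ≫ f) ⁻¹ᵁ V.1 : (U : Scheme.{u}).Opens) : Scheme.{u}) :=
    ((U.ι ≫ f) ⁻¹ᵁ V.1).ι.isOpenEmbedding.isInducing.noetherianSpace
  haveI hq : (((U.ι ≫ f) ⁻¹ᵁ V.1 : (U : Scheme.{u}).Opens) : Scheme.{u}).IsQuasiAffine :=
    Scheme.IsQuasiAffine.of_isImmersion ((U.ι ≫ f) ⁻¹ᵁ V.1).ι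
  have h1 := Groth.Agent.H18.AmpleIso.isQuasiAffine_iff_isAmple_structureModule.mp hq
  exact Groth.Agent.H18.AmpleIso.isAmple_of_iso (Scheme.Modules.restrictUnitIso _).symm h1

theorem main {S X : Scheme.{u}} (f : X ⟶ S)
    [IsNoetherian S] [QuasiCompact f] [LocallyOfFiniteType f] :
    ∃ (n : ℕ) (U : Fin n → X.Opens), (⨆ i, U i) = ⊤ ∧
      ∀ i, IsAffineOpen (U i) ∧ Dense ((U i : Set X)) ∧
        RelProj.IsQuasiProjective ((U i).ι ≫ f) := by
  haveI : IsLocallyNoetherian X := LocallyOfFiniteType.isLocallyNoetherian f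
  haveI : CompactSpace X := QuasiCompact.compactSpace_of_compactSpace f
  haveI : IsNoetherian X := {}
  haveI : NoetherianSpace X := inferInstance
  choose W hxW hWaff hWdense using exists_dense_affine X
  obtain ⟨t, ht⟩ := isCompact_univ.elim_finite_subcover (fun x : X => (W x : Set X))
    (fun x => (W x).isOpen) (fun x _ => Set.mem_iUnion.mpr ⟨x, hxW x⟩)
  refine ⟨t.card, fun i => W (t.equivFin.symm i).1, ?_, fun i =>
    ⟨hWaff _, hWdense _, isQuasiProjective_of_affine f _ (hWaff _)⟩⟩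
  rw [eq_top_iff]
  intro y _
  obtain ⟨x, hx⟩ := Set.mem_iUnion.mp (ht (Set.mem_univ y))
  obtain ⟨hxt, hyx⟩ := Set.mem_iUnion.mp hx
  rw [Opens.mem_iSup]
  refine ⟨t.equivFin ⟨x, hxt⟩, ?_⟩
  show y ∈ W (t.equivFin.symm (t.equivFin ⟨x, hxt⟩)).1
  rw [Equiv.symm_apply_apply]
  exact hyx

end Groth.Agent.H86.DenseAffine
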