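import Mathlib

/-!
# (FX) finite filtrations are closed under extensions (abelian category)

Squad piece for helper8's S0026.  NOTE: the statement as first requested is false without some
way to know that the `Good` successive quotients of the filtration of `S.X₃` lie in `Coh`
(one needs `Coh (kernel (S.X₂ ⟶ S.X₃ ⟶ S.X₃ / F j))`); the extra hypothesis `hcok` below follows
from either `Good ≤ Coh` or closure of `Coh` under cokernels.
-/

set_option autoImplicit false
universe v u
open CategoryTheory CategoryTheory.Limits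

namespace Groth.Agent.H86.Dev_FX

/-- `M` has a finite filtration `0 = F 0 → F 1 → ⋯ → F m ≅ M` by monomorphisms between objects in
`Coh`, whose successive cokernels lie in `Good`. -/
def FiltN {C : Type u} [Category.{v} C] [Abelian C] (Coh Good : ObjectProperty C) (M : C) : Prop :=
  ∃ (m : ℕ) (F : ℕ → C) (φ : (j : ℕ) → (F j ⟶ F (j + 1))),
    IsZero (F 0) ∧ Nonempty (F m ≅ M) ∧ (∀ j ≤ m, Coh (F j)) ∧
      ∀ j < m, Mono (φ j) ∧ Good (cokernel (φ j))

variable {C : Type u} [Category.{v} C] [Abelian C]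

/-- inductive form of `FiltN` -/
inductive Filt (Coh Good : ObjectProperty C) : C → Prop
  | zero (M : C) : IsZero M → Coh M → Filt Coh Good M
  | step (M' M : C) (i : M' ⟶ M) : Filt Coh Good M' → Mono i → Coh M → Good (cokernel i) →
      Filt Coh Good M

lemma Filt.of_iso {Coh Good : ObjectProperty C} [Coh.IsClosedUnderIsomorphisms]
    [Good.IsClosedUnderIsomorphisms] {M M' : C} (h : Filt Coh Good M) (e : M ≅ M') :
    Filt Coh Good M' := by
  cases h with
  | zero _ hz hc => exact Filt.zero _ (hz.of_iso e.symm) (Coh.prop_of_iso e hc)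
  | step M₀ _ i hM₀ hmono hc hg =>
    haveI := hmono
    refine Filt.step M₀ M' (i ≫ e.hom) hM₀ inferInstance (Coh.prop_of_iso e hc) ?_
    exact Good.prop_of_iso (cokernelCompIsIso i e.hom).symm hg

lemma Filt.coh {Coh Good : ObjectProperty C} {M : C} (h : Filt Coh Good M) : Coh M := by
  cases h with
  | zero _ _ hc => exact hc
  | step _ _ _ _ _ hc _ => exact hc

lemma filt_of_filtN {Coh Good : ObjectProperty C} [Coh.IsClosedUnderIsomorphisms]
    [Good.IsClosedUnderIsomorphisms] {M : C} (h : FiltN Coh Good M) : Filt Coh Good M := by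
  obtain ⟨m, F, φ, hz, ⟨α⟩, hC, hφ⟩ := h
  have key : ∀ j, j ≤ m → Filt Coh Good (F j) := by
    intro j
    induction j with
    | zero => intro h0; exact Filt.zero _ hz (hC 0 h0)
    | succ j ih =>
      intro hj
      have hj' : j < m := hj
      exact Filt.step (F j) (F (j + 1)) (φ j) (ih (Nat.le_of_lt hj')) (hφ j hj').1
        (hC (j + 1) hj) (hφ j hj').2
  exact (key m le_rfl).of_iso α

section Append

variable (m : ℕ) (F : ℕ → C) (M : C)

/-- the objects of the filtration with one more step `F m ⟶ M` appended -/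
def appG (j : ℕ) : C := if j ≤ m then F j else M

lemma appG_le {j : ℕ} (h : j ≤ m) : appG m F M j = F j := if_pos h

lemma appG_gt {j : ℕ} (h : ¬ j ≤ m) : appG m F M j = M := if_neg h

/-- the maps of the filtration with one more step `u : F m ⟶ M` appended -/
def appψ (φ : (j : ℕ) → (F j ⟶ F (j + 1))) (u : F m ⟶ M) (j : ℕ) :
    appG m F M j ⟶ appG m F M (j + 1) :=
  if h : j < m then
    eqToHom (appG_le m F M (le_of_lt h)) ≫ φ j ≫
      eqToHom (appG_le m F M (Nat.succ_le_of_lt h)).symm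
  else if h2 : j = m then
    eqToHom ((appG_le m F M (le_of_eq h2)).trans (congrArg F h2)) ≫ u ≫
      eqToHom (appG_gt m F M (by omega)).symm
  else eqToHom (appG_gt m F M (by omega)) ≫ eqToHom (appG_gt m F M (by omega)).symm

lemma appψ_lt (φ : (j : ℕ) → (F j ⟶ F (j + 1))) (u : F m ⟶ M) {j : ℕ} (h : j < m) :
    appψ m F M φ u j = eqToHom (appG_le m F M (le_of_lt h)) ≫ φ j ≫
      eqToHom (appG_le m F M (Nat.succ_le_of_lt h)).symm :=
  dif_pos h

lemma appψ_eq (φ : (j : ℕ) → (F j ⟶ F (j + 1))) (u : F m ⟶ M) :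
    appψ m F M φ u m = eqToHom (appG_le m F M le_rfl) ≫ u ≫
      eqToHom (appG_gt m F M (Nat.not_succ_le_self m)).symm := by
  unfold appψ
  rw [dif_neg (lt_irrefl m), dif_pos rfl]

end Append

lemma mono_good_of_eq {Good : ObjectProperty C} {X Y : C} {f f' : X ⟶ Y} (h : f = f')
    (hm : Mono f') (hg : Good (cokernel f')) : Mono f ∧ Good (cokernel f) := by
  subst h; exact ⟨hm, hg⟩

lemma filtN_append {Coh Good : ObjectProperty C} [Good.IsClosedUnderIsomorphisms] {M' M : C}
    (i : M' ⟶ M) [Mono i] (h : FiltN Coh Good M') (hc : Coh M) (hg : Good (cokernel i)) :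
    FiltN Coh Good M := by
  obtain ⟨m, F, φ, hz, ⟨α⟩, hC, hφ⟩ := h
  refine ⟨m + 1, appG m F M, appψ m F M φ (α.hom ≫ i), ?_, ?_, ?_, ?_⟩
  · rw [appG_le m F M (Nat.zero_le m)]; exact hz
  · exact ⟨eqToIso (appG_gt m F M (Nat.not_succ_le_self m))⟩
  · intro j hj
    by_cases hjm : j ≤ m
    · rw [appG_le m F M hjm]; exact hC j hjm
    · rw [appG_gt m F M hjm]; exact hc
  · intro j hj
    by_cases hjm : j < m
    · haveI := (hφ j hjm).1
      refine mono_good_of_eq (appψ_lt m F M φ _ hjm) inferInstance ?_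
      exact Good.prop_of_iso
        ((cokernelEpiComp _ _).trans (cokernelCompIsIso _ _)).symm (hφ j hjm).2
    · have hjeq : j = m := by omega
      subst hjeq
      refine mono_good_of_eq (appψ_eq _ F M φ _) inferInstance ?_
      exact Good.prop_of_iso
        ((cokernelEpiComp _ _).trans
          ((cokernelCompIsIso _ _).trans (cokernelEpiComp _ _))).symm hg

lemma filtN_of_filt {Coh Good : ObjectProperty C} [Good.IsClosedUnderIsomorphisms] {M : C}
    (h : Filt Coh Good M) : FiltN Coh Good M := by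
  induction h with
  | zero M hz hc =>
    exact ⟨0, fun _ => M, fun _ => 𝟙 M, hz, ⟨Iso.refl M⟩, fun _ _ => hc,
      fun j hj => absurd hj (Nat.not_lt_zero j)⟩
  | step M' M i _ hmono hc hg ih =>
    haveI := hmono
    exact filtN_append i ih hc hg

/-- the abelian-category input of the induction step -/
lemma ext_step (S : ShortComplex C) (hS : S.ShortExact) {Z Z₁ : C} (g' : S.X₂ ⟶ Z) [Epi g']
    (hfg' : S.f ≫ g' = 0) (hg' : ∀ {W : C} (t : W ⟶ S.X₂), t ≫ g' = 0 → t ≫ S.g = 0)
    (i : Z₁ ⟶ Z) [Mono i] :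
    ∃ (a : S.X₁ ⟶ kernel (g' ≫ cokernel.π i)) (b : kernel (g' ≫ cokernel.π i) ⟶ Z₁)
      (wab : a ≫ b = 0), (ShortComplex.mk a b wab).ShortExact ∧
        Nonempty (cokernel (kernel.ι (g' ≫ cokernel.π i)) ≅ cokernel i) := by
  haveI := hS.mono_f
  haveI := hS.epi_g
  haveI : Epi (g' ≫ cokernel.π i) := epi_comp _ _
  have hT : (ShortComplex.mk i (cokernel.π i) (cokernel.condition i)).Exact :=
    ShortComplex.exact_cokernel i
  haveI : Mono (ShortComplex.mk i (cokernel.π i) (cokernel.condition i)).f := ‹Mono i›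
  have hfp : S.f ≫ g' ≫ cokernel.π i = 0 := by
    rw [← Category.assoc, hfg', zero_comp]
  have hw : (kernel.ι (g' ≫ cokernel.π i) ≫ g') ≫ cokernel.π i = 0 := by
    rw [Category.assoc]; exact kernel.condition _
  obtain ⟨a, ha⟩ : ∃ a : S.X₁ ⟶ kernel (g' ≫ cokernel.π i),
      a ≫ kernel.ι (g' ≫ cokernel.π i) = S.f :=
    ⟨kernel.lift _ S.f hfp, kernel.lift_ι _ _ _⟩
  obtain ⟨b, hb⟩ : ∃ b : kernel (g' ≫ cokernel.π i) ⟶ Z₁,
      b ≫ i = kernel.ι (g' ≫ cokernel.π i) ≫ g' :=
    ⟨hT.lift (kernel.ι (g' ≫ cokernel.π i) ≫ g') hw, hT.lift_f _ _⟩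
  have hab : a ≫ b = 0 := by
    apply (cancel_mono i).1
    calc (a ≫ b) ≫ i = a ≫ (b ≫ i) := Category.assoc _ _ _
      _ = a ≫ (kernel.ι (g' ≫ cokernel.π i) ≫ g') := by rw [hb]
      _ = (a ≫ kernel.ι (g' ≫ cokernel.π i)) ≫ g' := (Category.assoc _ _ _).symm
      _ = S.f ≫ g' := by rw [ha]
      _ = 0 := hfg'
      _ = 0 ≫ i := zero_comp.symm
  haveI : Mono a := mono_of_mono_fac ha
  -- `kernel p` is the pullback of `i` along `g'`
  have hsq : kernel.ι (g' ≫ cokernel.π i) ≫ g' = b ≫ i := hb.symm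
  have hlim : IsLimit (PullbackCone.mk (kernel.ι (g' ≫ cokernel.π i)) b hsq) := by
    refine PullbackCone.IsLimit.mk hsq
      (fun s => kernel.lift (g' ≫ cokernel.π i) s.fst ?_) (fun s => kernel.lift_ι _ _ _)
      (fun s => ?_) (fun s m h1 h2 => ?_)
    · rw [← Category.assoc, s.condition, Category.assoc, cokernel.condition, comp_zero]
    · apply (cancel_mono i).1
      rw [Category.assoc, hb, ← Category.assoc, kernel.lift_ι]
      exact s.condition
    · apply (cancel_mono (kernel.ι (g' ≫ cokernel.π i))).1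
      rw [kernel.lift_ι]
      exact h1
  haveI : Epi b := Abelian.epi_snd_of_isLimit g' i hlim
  -- `a` is a kernel of `b`
  have hkerab : IsLimit (KernelFork.ofι a hab) := by
    refine KernelFork.IsLimit.ofι a hab
      (fun {W'} t ht => hS.exact.lift (t ≫ kernel.ι (g' ≫ cokernel.π i)) ?_)
      (fun {W'} t ht => ?_) (fun {W'} t ht m hm => ?_)
    · apply hg'
      calc (t ≫ kernel.ι (g' ≫ cokernel.π i)) ≫ g'
          = t ≫ (kernel.ι (g' ≫ cokernel.π i) ≫ g') := Category.assoc _ _ _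
        _ = t ≫ (b ≫ i) := by rw [hb]
        _ = (t ≫ b) ≫ i := (Category.assoc _ _ _).symm
        _ = 0 ≫ i := by rw [ht]
        _ = 0 := zero_comp
    · apply (cancel_mono (kernel.ι (g' ≫ cokernel.π i))).1
      rw [Category.assoc, ha, ShortComplex.Exact.lift_f]
    · apply (cancel_mono S.f).1
      rw [ShortComplex.Exact.lift_f, ← ha, ← Category.assoc, hm]
  have hex : (ShortComplex.mk a b hab).ShortExact :=
    ShortComplex.ShortExact.mk' (ShortComplex.exact_of_f_is_kernel _ hkerab) ‹Mono a› ‹Epi b›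
  -- the cokernel of `kernel.ι p`
  haveI : Epi (ShortComplex.mk (kernel.ι (g' ≫ cokernel.π i)) (g' ≫ cokernel.π i)
      (kernel.condition _)).g := ‹Epi (g' ≫ cokernel.π i)›
  have hcolim := (ShortComplex.exact_kernel (g' ≫ cokernel.π i)).gIsCokernel
  exact ⟨a, b, hab, hex,
    ⟨(cokernelIsCokernel (kernel.ι (g' ≫ cokernel.π i))).coconePointUniqueUpToIso hcolim⟩⟩

theorem filt_ext {Coh Good : ObjectProperty C} [Coh.IsClosedUnderIsomorphisms]
    [Good.IsClosedUnderIsomorphisms]
    (hker : ∀ {A B : C} (f : A ⟶ B), Coh A → Coh B → Coh (kernel f))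
    (hcok : ∀ {A B : C} (f : A ⟶ B), Mono f → Coh A → Coh B → Good (cokernel f) →
      Coh (cokernel f))
    {Z : C} (hZ : Filt Coh Good Z) :
    ∀ (S : ShortComplex C), S.ShortExact → (S.X₃ ≅ Z) → Coh S.X₂ → Filt Coh Good S.X₁ →
      Filt Coh Good S.X₂ := by
  induction hZ with
  | zero Z hz _ =>
    intro S hS e h2 f1
    have hz3 : IsZero S.X₃ := hz.of_iso e
    haveI := hS.mono_f
    haveI : Epi S.f := hS.exact.epi_f (hz3.eq_of_tgt _ _)
    haveI : IsIso S.f := isIso_of_mono_of_epi S.f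
    exact f1.of_iso (asIso S.f)
  | step Z₁ Z i hZ₁ hmono hcZ hg ih =>
    intro S hS e h2 f1
    haveI := hmono
    haveI := hS.mono_f
    haveI := hS.epi_g
    haveI : Epi (S.g ≫ e.hom) := epi_comp _ _
    have hcC₂ : Coh (cokernel i) := hcok i hmono hZ₁.coh hcZ hg
    have hcB₁ : Coh (kernel ((S.g ≫ e.hom) ≫ cokernel.π i)) := hker _ h2 hcC₂
    obtain ⟨a, b, hab, hex, ⟨ec⟩⟩ := ext_step S hS (S.g ≫ e.hom)
      (by rw [← Category.assoc, S.zero, zero_comp])
      (fun t ht => by
        apply (cancel_mono e.hom).1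
        rw [Category.assoc, ht, zero_comp]) i
    have hB₁ : Filt Coh Good (kernel ((S.g ≫ e.hom) ≫ cokernel.π i)) :=
      ih (ShortComplex.mk a b hab) hex (Iso.refl _) hcB₁ f1
    exact Filt.step _ _ (kernel.ι ((S.g ≫ e.hom) ≫ cokernel.π i)) hB₁ inferInstance h2
      (Good.prop_of_iso ec.symm hg)

/-- (FX) with the extra hypothesis `hcok` (see the module docstring). -/
theorem FX {C : Type u} [Category.{v} C] [Abelian C] (Coh Good : ObjectProperty C)
    [Coh.IsClosedUnderIsomorphisms] [Good.IsClosedUnderIsomorphisms]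
    (hker : ∀ {A B : C} (f : A ⟶ B), Coh A → Coh B → Coh (kernel f))
    (hcok : ∀ {A B : C} (f : A ⟶ B), Mono f → Coh A → Coh B → Good (cokernel f) →
      Coh (cokernel f))
    (S : ShortComplex C) (hS : S.ShortExact) (h1 : Coh S.X₁) (h2 : Coh S.X₂) (h3 : Coh S.X₃)
    (f1 : FiltN Coh Good S.X₁) (f3 : FiltN Coh Good S.X₃) : FiltN Coh Good S.X₂ :=
  filtN_of_filt (filt_ext hker hcok (filt_of_filtN f3) S hS (Iso.refl _) h2 (filt_of_filtN f1))

end Groth.Agent.H86.Dev_FX
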