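import Mathlib

/-!
# H86.DieudHom — Hom of Dieudonné-type modules modulo `V` (for S16417)

Generic version over a domain `W` that is a PID with an element `π` such that every element is a
unit or divisible by `π` (e.g. a DVR with uniformizer `π`), and a surjective ring endomorphism `σ`.
-/

set_option autoImplicit false

universe u v w

namespace Groth.Agent.H86.DieudHom

open Module

section generic

variable {W : Type u} [CommRing W] [IsDomain W]

/-- torsion-freeness of free modules over a domain, proved by coordinates. -/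
lemma eq_zero_of_smul_eq_zero {N : Type*} [AddCommGroup N] [Module W N] [Module.Free W N]
    {a : W} (ha : a ≠ 0) {x : N} (h : a • x = 0) : x = 0 := by
  let b := Module.Free.chooseBasis W N
  apply b.repr.injective
  ext i
  have h1 := congrArg (fun y => b.repr y i) h
  simp only [map_smul, Finsupp.smul_apply, smul_eq_mul, map_zero, Finsupp.zero_apply] at h1
  rcases mul_eq_zero.mp h1 with h2 | h2
  · exact absurd h2 ha
  · simpa using h2

lemma mem_span_range_iff {N : Type*} [AddCommGroup N] [Module W N]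
    (σ : W →+* W) (V : N →+ N) (hV : ∀ (a : W) (n : N), V (σ a • n) = a • V n) (y : N) :
    y ∈ Submodule.span W (Set.range V) ↔ ∃ x, V x = y := by
  constructor
  · intro hy
    refine Submodule.span_induction (p := fun y _ => ∃ x, V x = y) ?_ ?_ ?_ ?_ hy
    · rintro x ⟨x', rfl⟩
      exact ⟨x', rfl⟩
    · exact ⟨0, map_zero V⟩
    · rintro x y _ _ ⟨x', rfl⟩ ⟨y', rfl⟩
      exact ⟨x' + y', map_add V x' y'⟩
    · rintro a x _ ⟨x', rfl⟩
      exact ⟨σ a • x', hV a x'⟩
  · rintro ⟨x, rfl⟩
    exact Submodule.subset_span ⟨x, rfl⟩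

lemma exists_basis_mem_iff [IsPrincipalIdealRing W]
    {M : Type*} [AddCommGroup M] [Module W M] [Module.Free W M] [Module.Finite W M]
    (π : W) (hW : ∀ a : W, IsUnit a ∨ π ∣ a)
    (M₁ : Submodule W M) (hπM : ∀ m : M, π • m ∈ M₁) :
    ∃ (d : ℕ) (bM : Module.Basis (Fin d) W M),
      ∀ m : M, m ∈ M₁ ↔ ∀ j, bM j ∈ M₁ ∨ π ∣ bM.repr m j := by
  classical
  obtain ⟨n, ⟨bM, bN, f, a, snf⟩⟩ := Submodule.smithNormalForm (Module.finBasis W M) M₁
  refine ⟨_, bM, fun m => ⟨fun hm j => ?_, fun H => ?_⟩⟩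
  · by_cases hj : bM j ∈ M₁
    · exact Or.inl hj
    · right
      have key : ∀ i, π ∣ bM.coord j (bN i : M) := by
        intro i
        rw [snf i, map_smul, smul_eq_mul, Module.Basis.coord_apply, Module.Basis.repr_self,
          Finsupp.single_apply]
        split_ifs with hij
        · rcases hW (a i) with hu | hd
          · exfalso
            apply hj
            have h5 : bM j = (↑hu.unit⁻¹ : W) • (bN i : M) := by
              rw [snf i, smul_smul, IsUnit.val_inv_mul, one_smul, hij]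
            rw [h5]
            exact M₁.smul_mem _ (bN i).2
          · simpa using hd
        · simp
      have h1 : (∑ i, bN.repr ⟨m, hm⟩ i • (bN i : M)) = m := by
        have h0 := congrArg M₁.subtype (bN.sum_repr ⟨m, hm⟩)
        simpa only [map_sum, map_smul, Submodule.subtype_apply] using h0
      have h2 := congrArg (bM.coord j) h1
      rw [map_sum] at h2
      simp only [map_smul, smul_eq_mul] at h2
      rw [← Module.Basis.coord_apply, ← h2]
      exact Finset.dvd_sum (fun i _ => (key i).mul_left _)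
  · rw [← bM.sum_repr m]
    refine M₁.sum_mem (fun j _ => ?_)
    rcases H j with hj | ⟨t, ht⟩
    · exact M₁.smul_mem _ hj
    · rw [ht, mul_smul]
      exact hπM _

theorem main_generic [IsPrincipalIdealRing W]
    (π : W) (σ : W →+* W) (hσ : Function.Surjective σ)
    (hW : ∀ a : W, IsUnit a ∨ π ∣ a) (hπ0 : π ≠ 0) (hπu : ¬ IsUnit π)
    {M : Type v} [AddCommGroup M] [Module W M] [Module.Free W M] [Module.Finite W M]
    {N : Type w} [AddCommGroup N] [Module W N] [Module.Free W N] [Module.Finite W N]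
    (FM VM : M →+ M) (FN VN : N →+ N)
    (hVM : ∀ (a : W) (m : M), VM (σ a • m) = a • VM m)
    (hVFM : ∀ m : M, VM (FM m) = π • m)
    (hVN : ∀ (a : W) (n : N), VN (σ a • n) = a • VN n)
    (hFVN : ∀ n : N, FN (VN n) = π • n)
    (hVFN : ∀ n : N, VN (FN n) = π • n)
    (M₁ : Submodule W M) (hM₁ : ∀ y, y ∈ M₁ ↔ ∃ x, VM x = y)
    (N₁ : Submodule W N) (hN₁ : ∀ y, y ∈ N₁ ↔ ∃ x, VN x = y)
    (r₂ s₁ : ℕ)
    (hr₂ : Module.length W (N ⧸ N₁) = r₂)
    (hs₁ : (Module.finrank W M : ℕ∞) = Module.length W (M ⧸ M₁) + s₁) :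
    (∀ h : M →ₗ[W] N, (∀ m : M, h (VM m) ∈ N₁) ↔
        ∃ h' : M →ₗ[W] N, ∀ m : M, h (VM m) = VN (h' m)) ∧
    (∀ g : M₁ →ₗ[W] N ⧸ N₁,
      (∀ m : M, g ⟨VM (FM m), (hM₁ (VM (FM m))).2 ⟨FM m, rfl⟩⟩ = 0) →
      ∃ h : M →ₗ[W] N, ∀ x : M₁, N₁.mkQ (h x) = g x) ∧
    Module.length W ((M →ₗ[W] N) ⧸
      ⨅ m : M, N₁.comap (LinearMap.applyₗ (VM m) : (M →ₗ[W] N) →ₗ[W] N)) = (r₂ * s₁ : ℕ) := by
  classical
  have hVNinj : Function.Injective VN := by
    refine (injective_iff_map_eq_zero VN).2 (fun x hx => ?_)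
    have h0 : π • x = 0 := by rw [← hFVN x, hx, map_zero]
    exact eq_zero_of_smul_eq_zero hπ0 h0
  have hπM : ∀ m : M, π • m ∈ M₁ := fun m => (hM₁ _).2 ⟨FM m, hVFM m⟩
  have hπN : ∀ n : N, π • n ∈ N₁ := fun n => (hN₁ _).2 ⟨FN n, hVFN n⟩
  obtain ⟨d, bM, hb⟩ := exists_basis_mem_iff π hW M₁ hπM
  -- generation principle: `M₁` is generated by the basis vectors it contains and by `π M`
  have hgen : ∀ (T : Submodule W M), (∀ j, bM j ∈ M₁ → bM j ∈ T) → (∀ m : M, π • m ∈ T) →
      M₁ ≤ T := by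
    intro T h1 h2 x hx
    rw [← bM.sum_repr x]
    refine T.sum_mem (fun j _ => ?_)
    rcases (hb x).1 hx j with hj | ⟨t, ht⟩
    · exact T.smul_mem _ (h1 j hj)
    · rw [ht, mul_smul]
      exact h2 _
  have hsurjN : ∀ q : N ⧸ N₁, ∃ n : N, N₁.mkQ n = q := N₁.mkQ_surjective
  refine ⟨fun h => ⟨fun H => ?_, ?_⟩, ?_, ?_⟩
  · -- (a) ⇒
    choose h' hh' using fun m => (hN₁ _).1 (H m)
    refine ⟨{ toFun := h', map_add' := fun m₁ m₂ => ?_, map_smul' := fun a m => ?_ },
      fun m => (hh' m).symm⟩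
    · apply hVNinj
      simp only [map_add, hh']
    · obtain ⟨b, rfl⟩ := hσ a
      apply hVNinj
      simp only [RingHom.id_apply, hVN, hh', hVM, map_smul]
  · -- (a) ⇐
    rintro ⟨h', hh'⟩ m
    exact (hN₁ _).2 ⟨h' m, (hh' m).symm⟩
  · -- (b)
    intro g hg
    choose lift hlift using hsurjN
    obtain ⟨nn, hnn⟩ : ∃ nn : Fin d → N, ∀ j (hj : bM j ∈ M₁), N₁.mkQ (nn j) = g ⟨bM j, hj⟩ := by
      refine ⟨fun j => if hj : bM j ∈ M₁ then lift (g ⟨bM j, hj⟩) else 0, fun j hj => ?_⟩
      dsimp only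
      rw [dif_pos hj]
      exact hlift _
    obtain ⟨h, hh⟩ : ∃ h : M →ₗ[W] N, ∀ j, h (bM j) = nn j :=
      ⟨bM.constr W nn, fun j => bM.constr_basis W nn j⟩
    refine ⟨h, ?_⟩
    let A : M₁ →ₗ[W] N ⧸ N₁ := N₁.mkQ ∘ₗ h ∘ₗ M₁.subtype
    have hA : ∀ x : M₁, A x = N₁.mkQ (h x) := fun x => rfl
    have hle : M₁ ≤ Submodule.map M₁.subtype (LinearMap.eqLocus A g) := by
      apply hgen
      · intro j hj
        refine Submodule.mem_map.2 ⟨⟨bM j, hj⟩, LinearMap.mem_eqLocus.2 ?_, rfl⟩
        rw [hA]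
        show N₁.mkQ (h (bM j)) = g ⟨bM j, hj⟩
        rw [hh j]
        exact hnn j hj
      · intro m
        refine Submodule.mem_map.2 ⟨⟨π • m, hπM m⟩, LinearMap.mem_eqLocus.2 ?_, rfl⟩
        rw [hA]
        show N₁.mkQ (h (π • m)) = g ⟨π • m, hπM m⟩
        have e : (⟨π • m, hπM m⟩ : M₁) = ⟨VM (FM m), (hM₁ (VM (FM m))).2 ⟨FM m, rfl⟩⟩ :=
          Subtype.ext (hVFM m).symm
        have e1 : g ⟨π • m, hπM m⟩ = 0 := by
          rw [e]
          exact hg m
        rw [e1, map_smul, Submodule.mkQ_apply]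
        exact (Submodule.Quotient.mk_eq_zero N₁).2 (hπN _)
    intro x
    obtain ⟨y, hy, hyx⟩ := Submodule.mem_map.1 (hle x.2)
    have hyx' : y = x := Subtype.ext hyx
    rw [← hyx', ← hA]
    exact LinearMap.mem_eqLocus.1 hy
  · -- (c)
    -- the map Ψ
    let Ψ : (M →ₗ[W] N) →ₗ[W] ({j : Fin d // bM j ∈ M₁} → N ⧸ N₁) :=
      LinearMap.pi (fun j : {j : Fin d // bM j ∈ M₁} =>
        N₁.mkQ ∘ₗ (LinearMap.applyₗ (bM j.1) : (M →ₗ[W] N) →ₗ[W] N))
    have hΨapply : ∀ (h : M →ₗ[W] N) (j : {j : Fin d // bM j ∈ M₁}),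
        Ψ h j = N₁.mkQ (h (bM j.1)) := fun h j => rfl
    have hΨsurj : Function.Surjective Ψ := by
      intro t
      choose lift hlift using hsurjN
      refine ⟨bM.constr W (fun j => if hj : bM j ∈ M₁ then lift (t ⟨j, hj⟩) else 0), ?_⟩
      funext j
      rw [hΨapply, Module.Basis.constr_basis, dif_pos j.2]
      exact hlift _
    have hker : (⨅ m : M, N₁.comap (LinearMap.applyₗ (VM m) : (M →ₗ[W] N) →ₗ[W] N)) =
        LinearMap.ker Ψ := by
      ext h
      simp only [Submodule.mem_iInf, Submodule.mem_comap, LinearMap.mem_ker]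
      constructor
      · intro H
        funext j
        obtain ⟨x, hx⟩ := (hM₁ _).1 j.2
        show N₁.mkQ (h (bM j.1)) = 0
        rw [← hx, Submodule.mkQ_apply]
        exact (Submodule.Quotient.mk_eq_zero N₁).2 (H x)
      · intro H m
        show h (VM m) ∈ N₁
        have hT : M₁ ≤ N₁.comap h := by
          apply hgen
          · intro j hj
            have h3 : N₁.mkQ (h (bM j)) = 0 := congrFun H ⟨j, hj⟩
            rw [Submodule.mkQ_apply] at h3
            exact (Submodule.Quotient.mk_eq_zero N₁).1 h3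
          · intro m'
            show h (π • m') ∈ N₁
            rw [map_smul]
            exact hπN _
        exact hT ((hM₁ _).2 ⟨m, rfl⟩)
    have hlenH : Module.length W ((M →ₗ[W] N) ⧸
        ⨅ m : M, N₁.comap (LinearMap.applyₗ (VM m) : (M →ₗ[W] N) →ₗ[W] N)) =
        (Fintype.card {j : Fin d // bM j ∈ M₁} : ℕ∞) * Module.length W (N ⧸ N₁) := by
      rw [(Submodule.quotEquivOfEq _ _ hker).length_eq,
        (Ψ.quotKerEquivOfSurjective hΨsurj).length_eq, Module.length_pi,
        ENat.card_eq_coe_fintype_card]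
    -- the map Θ
    let Θ : M →ₗ[W] ({j : Fin d // bM j ∉ M₁} → W ⧸ Ideal.span {π}) :=
      LinearMap.pi (fun j : {j : Fin d // bM j ∉ M₁} =>
        Submodule.mkQ (Ideal.span {π}) ∘ₗ bM.coord j.1)
    have hΘapply : ∀ (m : M) (j : {j : Fin d // bM j ∉ M₁}),
        Θ m j = Submodule.mkQ (Ideal.span {π}) (bM.repr m j.1) := fun m j => rfl
    have hsurjW : ∀ q : W ⧸ Ideal.span {π}, ∃ a : W, Submodule.mkQ (Ideal.span {π}) a = q :=
      Submodule.mkQ_surjective (Ideal.span {π})
    have hΘsurj : Function.Surjective Θ := by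
      intro t
      choose lift hlift using hsurjW
      obtain ⟨c, hc⟩ : ∃ c : Fin d → W, ∀ j (hj : bM j ∉ M₁), c j = lift (t ⟨j, hj⟩) := by
        refine ⟨fun j => if hj : bM j ∉ M₁ then lift (t ⟨j, hj⟩) else 0, fun j hj => ?_⟩
        dsimp only
        rw [dif_pos hj]
      refine ⟨bM.equivFun.symm c, ?_⟩
      funext j
      have h1 : bM.repr (bM.equivFun.symm c) j.1 = c j.1 :=
        congrFun (bM.equivFun.apply_symm_apply c) j.1
      rw [hΘapply, h1, hc j.1 j.2]
      exact hlift _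
    have hkerΘ : M₁ = LinearMap.ker Θ := by
      ext m
      rw [hb m, LinearMap.mem_ker]
      constructor
      · intro H
        funext j
        show Θ m j = 0
        rw [hΘapply, Submodule.mkQ_apply]
        rcases H j.1 with hj | hd
        · exact absurd hj j.2
        · exact (Submodule.Quotient.mk_eq_zero _).2 (Ideal.mem_span_singleton.2 hd)
      · intro H j
        by_cases hj : bM j ∈ M₁
        · exact Or.inl hj
        · right
          have h3 : Submodule.mkQ (Ideal.span {π}) (bM.repr m j) = 0 := congrFun H ⟨j, hj⟩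
          rw [Submodule.mkQ_apply] at h3
          exact Ideal.mem_span_singleton.1 ((Submodule.Quotient.mk_eq_zero _).1 h3)
    have hmax : (Ideal.span {π} : Ideal W).IsMaximal := by
      rw [Ideal.isMaximal_iff]
      refine ⟨fun h1 => hπu (isUnit_of_dvd_one (Ideal.mem_span_singleton.1 h1)),
        fun J x _ hx hxJ => ?_⟩
      rcases hW x with hu | hd
      · exact (Ideal.eq_top_iff_one J).1 (Ideal.eq_top_of_isUnit_mem J hxJ hu)
      · exact absurd (Ideal.mem_span_singleton.2 hd) hx
    haveI hsimple : IsSimpleModule W (W ⧸ Ideal.span {π}) :=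
      isSimpleModule_iff_quot_maximal.2 ⟨Ideal.span {π}, hmax, ⟨LinearEquiv.refl W _⟩⟩
    have hlenM : Module.length W (M ⧸ M₁) =
        (Fintype.card {j : Fin d // bM j ∉ M₁} : ℕ∞) := by
      rw [(Submodule.quotEquivOfEq _ _ hkerΘ).length_eq,
        (Θ.quotKerEquivOfSurjective hΘsurj).length_eq, Module.length_pi,
        ENat.card_eq_coe_fintype_card, Module.length_eq_one W (W ⧸ Ideal.span {π}), mul_one]
    have hd : Module.finrank W M = d := by
      rw [Module.finrank_eq_card_basis bM, Fintype.card_fin]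
    have hs : s₁ = Fintype.card {j : Fin d // bM j ∈ M₁} := by
      rw [hd, hlenM] at hs₁
      have h1 : d = Fintype.card {j : Fin d // bM j ∉ M₁} + s₁ := by exact_mod_cast hs₁
      have h2 : Fintype.card {j : Fin d // bM j ∉ M₁} =
          Fintype.card (Fin d) - Fintype.card {j : Fin d // bM j ∈ M₁} :=
        Fintype.card_subtype_compl _
      have h3 : Fintype.card {j : Fin d // bM j ∈ M₁} ≤ Fintype.card (Fin d) :=
        Fintype.card_subtype_le _
      rw [Fintype.card_fin] at h2 h3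
      omega
    rw [hlenH, hr₂, hs, Nat.cast_mul, mul_comm]

end generic

section witt

variable (p : ℕ) [hp : Fact p.Prime] (k : Type u) [Field k] [CharP k p] [PerfectRing k p]

lemma witt_unit_or_dvd (a : WittVector p k) : IsUnit a ∨ (p : WittVector p k) ∣ a := by
  by_cases h0 : a.coeff 0 = 0
  · right
    have h1 : a = WittVector.verschiebung (a.shift 1) :=
      WittVector.eq_iterate_verschiebung (x := a) (n := 1) (fun i hi => by
        have hi0 : i = 0 := by omega
        rw [hi0]
        exact h0)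
    obtain ⟨z, hz⟩ := (WittVector.frobenius_bijective p k).2 (a.shift 1)
    rw [h1, ← hz, WittVector.verschiebung_frobenius]
    exact dvd_mul_left _ _
  · left
    exact WittVector.isUnit_of_coeff_zero_ne_zero a h0

lemma witt_p_not_unit : ¬ IsUnit (p : WittVector p k) := by
  intro hu
  have h1 := hu.map (WittVector.constantCoeff : WittVector p k →+* k)
  rw [map_natCast, CharP.cast_eq_zero] at h1
  exact not_isUnit_zero h1

theorem main
    (M : Type v) [AddCommGroup M] [Module (WittVector p k) M]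
    [Module.Free (WittVector p k) M] [Module.Finite (WittVector p k) M]
    (N : Type w) [AddCommGroup N] [Module (WittVector p k) N]
    [Module.Free (WittVector p k) N] [Module.Finite (WittVector p k) N]
    (FM VM : M →+ M) (FN VN : N →+ N)
    (hVM : ∀ (a : WittVector p k) (m : M), VM (WittVector.frobenius a • m) = a • VM m)
    (hVFM : ∀ m : M, VM (FM m) = (p : WittVector p k) • m)
    (hVN : ∀ (a : WittVector p k) (n : N), VN (WittVector.frobenius a • n) = a • VN n)
    (hFVN : ∀ n : N, FN (VN n) = (p : WittVector p k) • n)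
    (hVFN : ∀ n : N, VN (FN n) = (p : WittVector p k) • n)
    (r₂ s₁ : ℕ)
    (hr₂ : Module.length (WittVector p k) (N ⧸ Submodule.span (WittVector p k) (Set.range VN)) = r₂)
    (hs₁ : (Module.finrank (WittVector p k) M : ℕ∞) =
      Module.length (WittVector p k) (M ⧸ Submodule.span (WittVector p k) (Set.range VM)) + s₁) :
    (∀ h : M →ₗ[WittVector p k] N,
      (∀ m : M, h (VM m) ∈ Submodule.span (WittVector p k) (Set.range VN)) ↔
        ∃ h' : M →ₗ[WittVector p k] N, ∀ m : M, h (VM m) = VN (h' m)) ∧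
    (∀ g : Submodule.span (WittVector p k) (Set.range VM) →ₗ[WittVector p k]
        N ⧸ Submodule.span (WittVector p k) (Set.range VN),
      (∀ m : M, g ⟨VM (FM m), Submodule.subset_span ⟨FM m, rfl⟩⟩ = 0) →
      ∃ h : M →ₗ[WittVector p k] N, ∀ x : Submodule.span (WittVector p k) (Set.range VM),
        (Submodule.span (WittVector p k) (Set.range VN)).mkQ (h x) = g x) ∧
    Module.length (WittVector p k) ((M →ₗ[WittVector p k] N) ⧸
      ⨅ m : M, (Submodule.span (WittVector p k) (Set.range VN)).comap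
        (LinearMap.applyₗ (VM m) : (M →ₗ[WittVector p k] N) →ₗ[WittVector p k] N)) =
        (r₂ * s₁ : ℕ) :=
  main_generic (p : WittVector p k) WittVector.frobenius (WittVector.frobenius_bijective p k).2
    (witt_unit_or_dvd p k) (WittVector.p_nonzero p k) (witt_p_not_unit p k)
    FM VM FN VN hVM hVFM hVN hFVN hVFN
    (Submodule.span (WittVector p k) (Set.range VM))
    (mem_span_range_iff WittVector.frobenius VM hVM)
    (Submodule.span (WittVector p k) (Set.range VN))
    (mem_span_range_iff WittVector.frobenius VN hVN)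
    r₂ s₁ hr₂ hs₁

end witt

end Groth.Agent.H86.DieudHom
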