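import Mathlib
import Groth.Agent.H86.CubicalMain

/-!
# `Ext¹(k⟦t⟧, k⟦t⟧)` over the `E₆` singularity `k⟦t³, t⁴⟧`
-/

namespace Groth.Agent.H86.E6

open PowerSeries CategoryTheory MonoPS

universe u

variable {k : Type u} [Field k]

lemma dvd_iff_mem_E (c : ℕ) (f : PowerSeries k) :
    (X : PowerSeries k) ^ c ∣ f ↔ f ∈ E {m | c ≤ m} := by
  rw [X_pow_dvd_iff]
  exact ⟨fun h m hm => not_lt.mp (fun hlt => hm (h m hlt)),
    fun h m hlt => by_contra (fun hne => absurd (h m hne) (not_le.mpr hlt))⟩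

/-- the semigroup `⟨3, 4⟩` -/
def G6 : Set ℕ := {n | n = 0 ∨ n = 3 ∨ n = 4 ∨ 6 ≤ n}

variable {R : Type u} [CommRing R] [Algebra k R]
  [Module R (PowerSeries k)] [IsScalarTower k R (PowerSeries k)]
  (ι : R →ₐ[k] PowerSeries k) (hι : ∀ (r : R) (f : PowerSeries k), r • f = ι r * f)

variable {M' N' : Type u} [AddCommGroup M'] [Module R M'] [AddCommGroup N'] [Module R N']

include hι in
theorem length_ext_norm (hinj : Function.Injective ι)
    (hA : ∀ f : PowerSeries k, f ∈ Set.range ι ↔ f ∈ E G6)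
    (jM : M' →ₗ[R] PowerSeries k) (hjM : Function.Injective jM) (m₀ m₁ m₂ : M')
    (hm₀ : jM m₀ = 1) (hm₁ : jM m₁ = X) (hm₂ : jM m₂ = X ^ 2)
    (hgen : ∀ m : M', ∃ a b c : R, m = a • m₀ + b • m₁ + c • m₂)
    (jN : N' →ₗ[R] PowerSeries k) (hjN : Function.Injective jN)
    (hjNs : Function.Surjective jN) :
    Module.length R (Abelian.Ext (ModuleCat.of R M') (ModuleCat.of R N') 1) = 6 := by
  classical
  have hX : ∀ n : ℕ, (X : PowerSeries k) ^ n ≠ 0 := fun n => pow_ne_zero _ X_ne_zero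
  have hE : ∀ r : R, ι r ∈ E G6 := fun r => (hA _).mp ⟨r, rfl⟩
  have hz : ∀ (r : R) (m : ℕ), m ∉ G6 → coeff m (ι r) = 0 := by
    intro r m hm
    by_contra hne
    exact hm (hE r m hne)
  have h1G : (1 : ℕ) ∉ G6 := by intro h; simp only [G6, Set.mem_setOf_eq] at h; omega
  have h2G : (2 : ℕ) ∉ G6 := by intro h; simp only [G6, Set.mem_setOf_eq] at h; omega
  have lift : ∀ s : ℕ, s ∈ G6 → ∃ r : R, ι r = X ^ s :=
    fun s hs => (hA _).mpr (X_pow_mem_E.mpr hs)
  obtain ⟨ρ3, hρ3⟩ := lift 3 (Or.inr (Or.inl rfl))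
  obtain ⟨ρ4, hρ4⟩ := lift 4 (Or.inr (Or.inr (Or.inl rfl)))
  obtain ⟨ρ7, hρ7⟩ := lift 7 (Or.inr (Or.inr (Or.inr (by norm_num))))
  let g : R × R × R →ₗ[R] M' :=
    (LinearMap.toSpanSingleton R M' m₀).coprod
      ((LinearMap.toSpanSingleton R M' m₁).coprod (LinearMap.toSpanSingleton R M' m₂))
  have hg_apply : ∀ x : R × R × R,
      jM (g x) = ι x.1 + ι x.2.1 * X ^ 1 + ι x.2.2 * X ^ 2 := by
    intro x
    simp only [g, LinearMap.coprod_apply, LinearMap.toSpanSingleton_apply, map_add, map_smul, hι,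
      hm₀, hm₁, hm₂, mul_one, pow_one]
    ring
  have hg_surj : Function.Surjective g := by
    intro m
    obtain ⟨a, b, c, rfl⟩ := hgen m
    refine ⟨(a, b, c), ?_⟩
    simp only [g, LinearMap.coprod_apply, LinearMap.toSpanSingleton_apply]
    abel
  let K : Submodule R (R × R × R) := LinearMap.ker g
  have K_spec : ∀ κ : ↥K, ι (κ : R × R × R).1 + ι (κ : R × R × R).2.1 * X ^ 1 +
      ι (κ : R × R × R).2.2 * X ^ 2 = 0 := by
    intro κ
    rw [← hg_apply, LinearMap.mem_ker.mp κ.2, map_zero]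
  have K_mem : ∀ x : R × R × R, ι x.1 + ι x.2.1 * X ^ 1 + ι x.2.2 * X ^ 2 = 0 → x ∈ K := by
    intro x hx
    show g x = 0
    apply hjM
    rw [hg_apply, hx, map_zero]
  let κ₁ : ↥K := ⟨(ρ4, -ρ3, 0), K_mem _ (by
    simp only [map_neg, map_zero, hρ3, hρ4]; ring)⟩
  let κ₂ : ↥K := ⟨(0, ρ4, -ρ3), K_mem _ (by
    simp only [map_neg, map_zero, hρ3, hρ4]; ring)⟩
  have hκ₁c : ((κ₁ : ↥K) : R × R × R) = (ρ4, -ρ3, 0) := rfl
  have hκ₂c : ((κ₂ : ↥K) : R × R × R) = (0, ρ4, -ρ3) := rfl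
  have hcoef : ∀ κ : ↥K, (X : PowerSeries k) ^ 4 ∣ ι (κ : R × R × R).1 ∧
      (X : PowerSeries k) ^ 3 ∣ ι (κ : R × R × R).2.2 := by
    intro κ
    have rel := K_spec κ
    have c0 := congrArg (coeff 0) rel
    have c2 := congrArg (coeff 2) rel
    have c3 := congrArg (coeff 3) rel
    simp only [map_add, coeff_mul_X_pow', map_zero] at c0 c2 c3
    norm_num at c0 c2 c3
    rw [hz _ 2 h2G, hz _ 1 h1G, zero_add, zero_add] at c2
    rw [hz _ 2 h2G, hz _ 1 h1G, add_zero, add_zero] at c3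
    constructor
    · rw [X_pow_dvd_iff]
      intro m hm
      interval_cases m
      · rw [coeff_zero_eq_constantCoeff_apply]; exact c0
      · exact hz _ 1 h1G
      · exact hz _ 2 h2G
      · exact c3
    · rw [X_pow_dvd_iff]
      intro m hm
      interval_cases m
      · rw [coeff_zero_eq_constantCoeff_apply]; exact c2
      · exact hz _ 1 h1G
      · exact hz _ 2 h2G
  have expand : ∀ (φ : ↥K →ₗ[R] N') (κ : ↥K), X ^ 7 * jN (φ κ) =
      X ^ 3 * ι (κ : R × R × R).1 * jN (φ κ₁) - X ^ 4 * ι (κ : R × R × R).2.2 * jN (φ κ₂) := by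
    intro φ κ
    have h : ρ7 • κ = (ρ3 * (κ : R × R × R).1) • κ₁ + (-(ρ4 * (κ : R × R × R).2.2)) • κ₂ := by
      apply Subtype.ext
      show ρ7 • (κ : R × R × R) = (ρ3 * (κ : R × R × R).1) • (κ₁ : R × R × R) +
        (-(ρ4 * (κ : R × R × R).2.2)) • (κ₂ : R × R × R)
      rw [hκ₁c, hκ₂c]
      have rel := K_spec κ
      refine Prod.ext ?_ (Prod.ext ?_ ?_)
      · apply hinj
        simp only [Prod.smul_fst, Prod.fst_add, smul_eq_mul, map_mul, map_add, map_neg, map_zero,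
          hρ3, hρ4, hρ7]
        ring
      · apply hinj
        simp only [Prod.smul_snd, Prod.smul_fst, Prod.snd_add, Prod.fst_add, smul_eq_mul, map_mul,
          map_add, map_neg, map_zero, hρ3, hρ4, hρ7]
        linear_combination (X ^ 6) * rel
      · apply hinj
        simp only [Prod.smul_snd, Prod.snd_add, smul_eq_mul, map_mul, map_add, map_neg, map_zero,
          hρ3, hρ4, hρ7]
        ring
    have h2 := congrArg (fun x => jN (φ x)) h
    simp only [map_smul, map_add, map_neg, hι, map_mul, hρ3, hρ4, hρ7] at h2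
    rw [h2]; ring
  -- the quotient `B / X³ B`
  let W₃ : Submodule R N' := Submodule.comap jN (LinearMap.range (Cubical.mulX ι hι 3))
  have hW₃ : ∀ ν : N', ν ∈ W₃ ↔ (X : PowerSeries k) ^ 3 ∣ jN ν := by
    intro ν
    constructor
    · rintro ⟨b, hb⟩
      exact ⟨b, hb.symm⟩
    · rintro ⟨b, hb⟩
      exact ⟨b, hb.symm⟩
  have hQlen : Module.length R (N' ⧸ W₃) = 3 := by
    have key := Cubical.length_quot' ι hι jN hjN (SH := Set.univ) (SW := {m | 3 ≤ m})
      (fun f => ⟨fun _ _ _ => Set.mem_univ _, fun _ => hjNs f⟩)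
      W₃.mkQ (Submodule.mkQ_surjective _)
      (fun ν => by
        rw [Submodule.mkQ_apply, Submodule.Quotient.mk_eq_zero, hW₃, dvd_iff_mem_E])
      (Finset.range 3)
      (fun m => by
        simp only [Finset.mem_range, Set.mem_univ, true_and, Set.mem_setOf_eq, not_le])
      3 (fun m hm => ⟨hm, Set.mem_univ _⟩)
    rw [key, Finset.card_range]; rfl
  let evK : ↥K → ((↥K →ₗ[R] N') →ₗ[R] N') := fun κ =>
    { toFun := fun φ => φ κ, map_add' := fun _ _ => rfl, map_smul' := fun _ _ => rfl }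
  let Θ' : (↥K →ₗ[R] N') →ₗ[R] (N' ⧸ W₃) × (N' ⧸ W₃) :=
    LinearMap.prod (W₃.mkQ.comp (evK κ₁)) (W₃.mkQ.comp (evK κ₂))
  have hΘ_apply : ∀ φ, Θ' φ = (W₃.mkQ (φ κ₁), W₃.mkQ (φ κ₂)) := fun φ => rfl
  have hΘsurj : Function.Surjective Θ' := by
    rintro ⟨q₁, q₂⟩
    obtain ⟨ν₁, rfl⟩ := Submodule.mkQ_surjective _ q₁
    obtain ⟨ν₂, rfl⟩ := Submodule.mkQ_surjective _ q₂
    have hex : ∀ κ : ↥K, ∃ ν : N', X ^ 7 * jN ν =
        X ^ 3 * ι (κ : R × R × R).1 * jN ν₁ - X ^ 4 * ι (κ : R × R × R).2.2 * jN ν₂ := by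
      intro κ
      obtain ⟨⟨α', hα'⟩, ⟨γ', hγ'⟩⟩ := hcoef κ
      obtain ⟨ν, hν⟩ := hjNs (α' * jN ν₁ - γ' * jN ν₂)
      refine ⟨ν, ?_⟩
      rw [hν, hα', hγ']; ring
    choose νf hνf using hex
    let φ : ↥K →ₗ[R] N' :=
      { toFun := νf
        map_add' := fun κ κ' => by
          apply hjN; apply mul_left_cancel₀ (hX 7)
          rw [hνf, map_add, mul_add, hνf, hνf]
          show X ^ 3 * ι ((κ : R × R × R).1 + (κ' : R × R × R).1) * jN ν₁ -
            X ^ 4 * ι ((κ : R × R × R).2.2 + (κ' : R × R × R).2.2) * jN ν₂ = _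
          rw [map_add, map_add]; ring
        map_smul' := fun r κ => by
          apply hjN; apply mul_left_cancel₀ (hX 7)
          rw [hνf, RingHom.id_apply, map_smul, hι, mul_left_comm, hνf]
          show X ^ 3 * ι (r * (κ : R × R × R).1) * jN ν₁ -
            X ^ 4 * ι (r * (κ : R × R × R).2.2) * jN ν₂ = _
          rw [map_mul, map_mul]; ring }
    refine ⟨φ, ?_⟩
    rw [hΘ_apply]
    have e1 : νf κ₁ = ν₁ := by
      apply hjN; apply mul_left_cancel₀ (hX 7)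
      rw [hνf, hκ₁c]
      simp only [map_zero, hρ4]; ring
    have e2 : νf κ₂ = ν₂ := by
      apply hjN; apply mul_left_cancel₀ (hX 7)
      rw [hνf, hκ₂c]
      simp only [map_zero, map_neg, hρ3]; ring
    show (W₃.mkQ (νf κ₁), W₃.mkQ (νf κ₂)) = _
    rw [e1, e2]
  have hΘker : ∀ φ : ↥K →ₗ[R] N',
      Θ' φ = 0 ↔ ∃ ψ : R × R × R →ₗ[R] N', ψ.comp K.subtype = φ := by
    intro φ
    rw [hΘ_apply, Prod.mk_eq_zero, Submodule.mkQ_apply, Submodule.mkQ_apply,
      Submodule.Quotient.mk_eq_zero, Submodule.Quotient.mk_eq_zero, hW₃, hW₃]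
    constructor
    · rintro ⟨⟨u₁, hu₁⟩, ⟨u₂, hu₂⟩⟩
      obtain ⟨n₁, hn₁⟩ := hjNs (-u₁)
      obtain ⟨n₂, hn₂⟩ := hjNs (-(X * u₁) - u₂)
      let ψ : R × R × R →ₗ[R] N' :=
        (LinearMap.toSpanSingleton R N' 0).coprod
          ((LinearMap.toSpanSingleton R N' n₁).coprod (LinearMap.toSpanSingleton R N' n₂))
      have hψ : ∀ x : R × R × R, jN (ψ x) = ι x.2.1 * jN n₁ + ι x.2.2 * jN n₂ := by
        intro x
        simp only [ψ, LinearMap.coprod_apply, LinearMap.toSpanSingleton_apply, map_add, map_smul,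
          hι, smul_zero, map_zero, zero_add]
      refine ⟨ψ, ?_⟩
      apply LinearMap.ext
      intro κ
      apply hjN
      apply mul_left_cancel₀ (hX 7)
      have e1 : jN ((ψ.comp K.subtype) κ₁) = jN (φ κ₁) := by
        show jN (ψ ((κ₁ : ↥K) : R × R × R)) = _
        rw [hψ, hκ₁c, hu₁, hn₁]
        simp only [map_neg, map_zero, hρ3]; ring
      have e2 : jN ((ψ.comp K.subtype) κ₂) = jN (φ κ₂) := by
        show jN (ψ ((κ₂ : ↥K) : R × R × R)) = _
        rw [hψ, hκ₂c, hu₂, hn₁, hn₂]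
        simp only [map_neg, hρ3, hρ4]; ring
      rw [expand (ψ.comp K.subtype) κ, expand φ κ, e1, e2]
    · rintro ⟨ψ, rfl⟩
      constructor
      · refine ⟨X * jN (ψ (1, 0, 0)) - jN (ψ (0, 1, 0)), ?_⟩
        show jN (ψ ((κ₁ : ↥K) : R × R × R)) = _
        have hdec : ((κ₁ : ↥K) : R × R × R) =
            ρ4 • ((1, 0, 0) : R × R × R) + (-ρ3) • ((0, 1, 0) : R × R × R) := by
          rw [hκ₁c]; ext <;> simp
        rw [hdec, map_add, map_smul, map_smul, map_add, map_smul, map_smul, hι, hι, map_neg,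
          hρ3, hρ4]
        ring
      · refine ⟨X * jN (ψ (0, 1, 0)) - jN (ψ (0, 0, 1)), ?_⟩
        show jN (ψ ((κ₂ : ↥K) : R × R × R)) = _
        have hdec : ((κ₂ : ↥K) : R × R × R) =
            ρ4 • ((0, 1, 0) : R × R × R) + (-ρ3) • ((0, 0, 1) : R × R × R) := by
          rw [hκ₂c]; ext <;> simp
        rw [hdec, map_add, map_smul, map_smul, map_add, map_smul, map_smul, hι, hι, map_neg,
          hρ3, hρ4]
        ring
  rw [ExtPres.length_ext_one' K.subtype g (Submodule.injective_subtype _) hg_surj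
    (LinearMap.exact_subtype_ker_map _) Θ' hΘsurj hΘker, Module.length_prod, hQlen]
  rfl

end Groth.Agent.H86.E6
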