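import Mathlib
import Groth.Agent.H86.E6Norm
import Groth.Agent.H86.TwoGen

/-!
# `Ext¹(M, M)` for the rank one modules over the `E₆` singularity
-/

namespace Groth.Agent.H86.E6

open PowerSeries CategoryTheory MonoPS

universe u

lemma mem_G6 (n : ℕ) : n ∈ G6 ↔ n = 0 ∨ n = 3 ∨ n = 4 ∨ 6 ≤ n := Iff.rfl

/-- `⟨3, 4⟩` as an additive submonoid -/
def Gam6 : AddSubmonoid ℕ where
  carrier := G6
  zero_mem' := Or.inl rfl
  add_mem' := by
    intro a b ha hb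
    simp only [G6, Set.mem_setOf_eq] at ha hb ⊢
    omega

lemma mem_closure_iff (n : ℕ) : n ∈ AddSubmonoid.closure ({3, 4} : Set ℕ) ↔ n ∈ G6 := by
  constructor
  · intro hn
    have hle : AddSubmonoid.closure ({3, 4} : Set ℕ) ≤ Gam6 := by
      rw [AddSubmonoid.closure_le]
      intro x hx
      rcases hx with rfl | hx
      · exact Or.inr (Or.inl rfl)
      · rw [Set.mem_singleton_iff] at hx; subst hx; exact Or.inr (Or.inr (Or.inl rfl))
    exact hle hn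
  · intro hn
    have h3 : (3 : ℕ) ∈ AddSubmonoid.closure ({3, 4} : Set ℕ) :=
      AddSubmonoid.subset_closure (Set.mem_insert _ _)
    have h4 : (4 : ℕ) ∈ AddSubmonoid.closure ({3, 4} : Set ℕ) :=
      AddSubmonoid.subset_closure (Set.mem_insert_of_mem _ (Set.mem_singleton _))
    simp only [G6, Set.mem_setOf_eq] at hn
    have hcases : n % 3 = 0 ∨ n % 3 = 1 ∨ n % 3 = 2 := by omega
    rcases hcases with h | h | h
    · have : n = (n / 3) • 3 := by rw [smul_eq_mul]; omega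
      rw [this]; exact AddSubmonoid.nsmul_mem _ h3 _
    · have : n = 4 + ((n - 4) / 3) • 3 := by rw [smul_eq_mul]; omega
      rw [this]; exact add_mem h4 (AddSubmonoid.nsmul_mem _ h3 _)
    · have : n = 4 + 4 + ((n - 8) / 3) • 3 := by rw [smul_eq_mul]; omega
      rw [this]; exact add_mem (add_mem h4 h4) (AddSubmonoid.nsmul_mem _ h3 _)

variable {k : Type u} [Field k] {R : Type u} [CommRing R] [Algebra k R]
  [Module R (PowerSeries k)] [IsScalarTower k R (PowerSeries k)]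
  (ι : R →ₐ[k] PowerSeries k) (hι : ∀ (r : R) (f : PowerSeries k), r • f = ι r * f)

include hι in
lemma mem_span_pair_iff (SA SN : Set ℕ)
    (hA : ∀ f : PowerSeries k, f ∈ Set.range ι ↔ f ∈ E SA) (c : ℕ)
    (h₁ : ∀ n, n ∈ SA → n ∈ SN) (h₂ : ∀ n ∈ SA, n + c ∈ SN)
    (h₃ : ∀ n, n ∈ SN → n ∈ {n | n ∈ SA ∨ (c ≤ n ∧ n - c ∈ SA)}) (f : PowerSeries k) :
    f ∈ Submodule.span R ({1, (X : PowerSeries k) ^ c} : Set (PowerSeries k)) ↔ f ∈ E SN := by
  constructor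
  · intro hf
    obtain ⟨r, s, rfl⟩ := Submodule.mem_span_pair.mp hf
    rw [hι, hι, mul_one]
    refine add_mem_E (E_mono h₁ ((hA _).mp ⟨r, rfl⟩))
      (mul_mem_E ((hA _).mp ⟨s, rfl⟩) (X_pow_mem_E.mpr (Set.mem_singleton c)) ?_)
    intro a ha b hb
    rw [Set.mem_singleton_iff] at hb; subst hb
    exact h₂ a ha
  · intro hf
    have hf' : f ∈ E {n | n ∈ SA ∨ (c ≤ n ∧ n - c ∈ SA)} := E_mono h₃ hf
    obtain ⟨f₁, hf₁, f₂, hf₂, rfl⟩ := exists_split hf'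
    obtain ⟨r, hr⟩ := (hA _).mpr hf₁
    obtain ⟨s, hs⟩ := (hA _).mpr hf₂
    rw [Submodule.mem_span_pair]
    refine ⟨r, s, ?_⟩
    rw [hι, hι, mul_one, hr, hs]; ring

include hι in
theorem part_gen (hinj : Function.Injective ι)
    (hA : ∀ f : PowerSeries k, f ∈ Set.range ι ↔ f ∈ E G6)
    (c m₀ s₂ : ℕ) (SI SN SH : Set ℕ) (D : Finset ℕ) (e : ℕ)
    (hm₀ : m₀ ∈ G6) (hm₀c : m₀ + c ∈ G6) (hs₂ : s₂ ∈ G6) (hs₂c : s₂ + c ∈ G6)
    (h₁ : ∀ n, n ∈ G6 → n ∈ SN) (h₂ : ∀ n ∈ G6, n + c ∈ SN)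
    (h₃ : ∀ n, n ∈ SN → n ∈ {n | n ∈ G6 ∨ (c ≤ n ∧ n - c ∈ G6)})
    (hI : ∀ s, s ∈ G6 → s + c ∈ G6 → s ∈ SI)
    (h1 : ∀ s ∈ SI, ∀ a ∈ SH, m₀ ≤ s + a ∧ s + a - m₀ ∈ SN)
    (h2 : ∀ a, a ∈ SN → (m₀ ≤ a + s₂ ∧ a + s₂ - m₀ ∈ SN) → a ∈ SH)
    (hD : ∀ n, n ∈ D ↔
      n ∈ SH ∧ ¬ (m₀ ≤ n ∧ (n - m₀ ∈ SN ∨ (c ≤ n - m₀ ∧ n - m₀ - c ∈ SN))))
    (he : ∀ n, e ≤ n → (m₀ ≤ n ∧ (n - m₀ ∈ SN ∨ (c ≤ n - m₀ ∧ n - m₀ - c ∈ SN)))) :
    Module.length R (Abelian.Ext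
      (ModuleCat.of R ↥(Submodule.span R ({1, (X : PowerSeries k) ^ c} : Set (PowerSeries k))))
      (ModuleCat.of R ↥(Submodule.span R ({1, (X : PowerSeries k) ^ c} : Set (PowerSeries k))))
      1) = D.card := by
  have lift : ∀ s : ℕ, s ∈ G6 → ∃ r : R, ι r = X ^ s :=
    fun s hs => (hA _).mpr (X_pow_mem_E.mpr hs)
  obtain ⟨r₀, hr₀⟩ := lift _ hm₀
  obtain ⟨r₁, hr₁⟩ := lift _ hm₀c
  obtain ⟨r₂, hr₂⟩ := lift _ hs₂
  obtain ⟨r₃, hr₃⟩ := lift _ hs₂c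
  have hN : ∀ f, f ∈ Set.range (Submodule.span R
      ({1, (X : PowerSeries k) ^ c} : Set (PowerSeries k))).subtype ↔ f ∈ E SN := by
    intro f
    rw [← mem_span_pair_iff ι hι G6 SN hA c h₁ h₂ h₃ f]
    exact ⟨fun ⟨x, hx⟩ => hx ▸ x.2, fun h => ⟨⟨f, h⟩, rfl⟩⟩
  exact TwoGen.length_ext_twoGen ι hι (Submodule.span R
      ({1, (X : PowerSeries k) ^ c} : Set (PowerSeries k))).subtype hinj c m₀ s₂ r₀ r₁ r₂ r₃
    hr₀ hr₁ hr₂ hr₃ G6 SI SN SH hA (Submodule.injective_subtype _) hN hI h1 h2 D hD e he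

include hι in
theorem main_gen (hinj : Function.Injective ι)
    (hA : ∀ f : PowerSeries k, f ∈ Set.range ι ↔ f ∈ E G6) :
    Module.length R (Abelian.Ext (ModuleCat.of R ↥(Submodule.span R ({1, (X : PowerSeries k) ^ 5} : Set (PowerSeries k)))) (ModuleCat.of R ↥(Submodule.span R ({1, (X : PowerSeries k) ^ 5} : Set (PowerSeries k)))) 1) = 2 ∧
    Module.length R (Abelian.Ext (ModuleCat.of R ↥(Submodule.span R ({1, (X : PowerSeries k)} : Set (PowerSeries k)))) (ModuleCat.of R ↥(Submodule.span R ({1, (X : PowerSeries k)} : Set (PowerSeries k)))) 1) = 2 ∧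
    Module.length R (Abelian.Ext (ModuleCat.of R ↥(Submodule.span R ({1, (X : PowerSeries k) ^ 2} : Set (PowerSeries k)))) (ModuleCat.of R ↥(Submodule.span R ({1, (X : PowerSeries k) ^ 2} : Set (PowerSeries k)))) 1) = 4 ∧
    Module.length R (Abelian.Ext (ModuleCat.of R ↥(Submodule.span R ({1, (X : PowerSeries k), (X : PowerSeries k) ^ 2} : Set (PowerSeries k)))) (ModuleCat.of R ↥(Submodule.span R ({1, (X : PowerSeries k), (X : PowerSeries k) ^ 2} : Set (PowerSeries k)))) 1) = 6 := by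
  refine ⟨?_, ?_, ?_, ?_⟩
  · -- M₁ = span {1, X^5}
    have key := part_gen ι hι hinj hA 5 3 4 {s | s = 3 ∨ s = 4 ∨ 6 ≤ s} {n | n = 0 ∨ 3 ≤ n}
      {a | 3 ≤ a} {4, 5} 6
      ((mem_G6 _).mpr (by omega)) ((mem_G6 _).mpr (by omega))
      ((mem_G6 _).mpr (by omega)) ((mem_G6 _).mpr (by omega))
      (by intro n hn; simp only [G6, Set.mem_setOf_eq] at hn ⊢; omega)
      (by intro n hn; simp only [G6, Set.mem_setOf_eq] at hn ⊢; omega)
      (by intro n hn; simp only [G6, Set.mem_setOf_eq] at hn ⊢; omega)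
      (by intro s h1 h2; simp only [G6, Set.mem_setOf_eq] at h1 h2 ⊢; omega)
      (by intro s hs a ha; simp only [Set.mem_setOf_eq] at hs ha ⊢; omega)
      (by intro a h1 h2; simp only [Set.mem_setOf_eq] at h1 h2 ⊢; omega)
      (by intro n; simp only [Finset.mem_insert, Finset.mem_singleton, Set.mem_setOf_eq]; omega)
      (by intro n hn; simp only [Set.mem_setOf_eq]; omega)
    rw [key]; rfl
  · -- M₁* = span {1, X}
    have key := part_gen ι hι hinj hA 1 3 8 {s | s = 3 ∨ 6 ≤ s} {n | n = 0 ∨ n = 1 ∨ 3 ≤ n}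
      {n | n = 0 ∨ n = 1 ∨ 3 ≤ n} {0, 1} 3
      ((mem_G6 _).mpr (by omega)) ((mem_G6 _).mpr (by omega))
      ((mem_G6 _).mpr (by omega)) ((mem_G6 _).mpr (by omega))
      (by intro n hn; simp only [G6, Set.mem_setOf_eq] at hn ⊢; omega)
      (by intro n hn; simp only [G6, Set.mem_setOf_eq] at hn ⊢; omega)
      (by intro n hn; simp only [G6, Set.mem_setOf_eq] at hn ⊢; omega)
      (by intro s h1 h2; simp only [G6, Set.mem_setOf_eq] at h1 h2 ⊢; omega)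
      (by intro s hs a ha; simp only [Set.mem_setOf_eq] at hs ha ⊢; omega)
      (by intro a h1 h2; simp only [Set.mem_setOf_eq] at h1 h2 ⊢; omega)
      (by intro n; simp only [Finset.mem_insert, Finset.mem_singleton, Set.mem_setOf_eq]; omega)
      (by intro n hn; simp only [Set.mem_setOf_eq]; omega)
    rw [pow_one] at key
    rw [key]; rfl
  · -- M₂ = span {1, X^2}
    have key := part_gen ι hι hinj hA 2 4 6 {s | s = 4 ∨ 6 ≤ s} {n | n = 0 ∨ 2 ≤ n}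
      {n | n = 0 ∨ 2 ≤ n} {0, 2, 3, 5} 6
      ((mem_G6 _).mpr (by omega)) ((mem_G6 _).mpr (by omega))
      ((mem_G6 _).mpr (by omega)) ((mem_G6 _).mpr (by omega))
      (by intro n hn; simp only [G6, Set.mem_setOf_eq] at hn ⊢; omega)
      (by intro n hn; simp only [G6, Set.mem_setOf_eq] at hn ⊢; omega)
      (by intro n hn; simp only [G6, Set.mem_setOf_eq] at hn ⊢; omega)
      (by intro s h1 h2; simp only [G6, Set.mem_setOf_eq] at h1 h2 ⊢; omega)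
      (by intro s hs a ha; simp only [Set.mem_setOf_eq] at hs ha ⊢; omega)
      (by intro a h1 h2; simp only [Set.mem_setOf_eq] at h1 h2 ⊢; omega)
      (by intro n; simp only [Finset.mem_insert, Finset.mem_singleton, Set.mem_setOf_eq]; omega)
      (by intro n hn; simp only [Set.mem_setOf_eq]; omega)
    rw [key]; rfl
  · -- M₃ = k⟦X⟧
    have hall : ∀ f : PowerSeries k, f ∈ Submodule.span R
        ({1, (X : PowerSeries k), (X : PowerSeries k) ^ 2} : Set (PowerSeries k)) := by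
      intro f
      have hf : f ∈ E {n | n ∈ {n | n ∈ G6 ∨ (1 ≤ n ∧ n - 1 ∈ G6)} ∨ (2 ≤ n ∧ n - 2 ∈ G6)} :=
        fun n _ => by
          show ((n = 0 ∨ n = 3 ∨ n = 4 ∨ 6 ≤ n) ∨
            (1 ≤ n ∧ (n - 1 = 0 ∨ n - 1 = 3 ∨ n - 1 = 4 ∨ 6 ≤ n - 1))) ∨
            (2 ≤ n ∧ (n - 2 = 0 ∨ n - 2 = 3 ∨ n - 2 = 4 ∨ 6 ≤ n - 2))
          omega
      obtain ⟨g, hg, f₂, hf₂, rfl⟩ := exists_split hf
      obtain ⟨f₀, hf₀, f₁, hf₁, rfl⟩ := exists_split hg
      obtain ⟨r₀, hr₀⟩ := (hA _).mpr hf₀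
      obtain ⟨r₁, hr₁⟩ := (hA _).mpr hf₁
      obtain ⟨r₂, hr₂⟩ := (hA _).mpr hf₂
      rw [Submodule.mem_span_triple]
      exact ⟨r₀, r₁, r₂, by rw [hι, hι, hι, hr₀, hr₁, hr₂]; ring⟩
    exact length_ext_norm ι hι hinj hA
      (Submodule.span R ({1, (X : PowerSeries k), (X : PowerSeries k) ^ 2} :
        Set (PowerSeries k))).subtype (Submodule.injective_subtype _)
      ⟨1, Submodule.subset_span (Set.mem_insert _ _)⟩
      ⟨X, Submodule.subset_span (Set.mem_insert_of_mem _ (Set.mem_insert _ _))⟩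
      ⟨X ^ 2, Submodule.subset_span (Set.mem_insert_of_mem _
        (Set.mem_insert_of_mem _ (Set.mem_singleton _)))⟩ rfl rfl rfl
      (fun m => by
        obtain ⟨a, b, c, h⟩ := Submodule.mem_span_triple.mp m.2
        exact ⟨a, b, c, Subtype.ext h.symm⟩)
      (Submodule.span R ({1, (X : PowerSeries k), (X : PowerSeries k) ^ 2} :
        Set (PowerSeries k))).subtype (Submodule.injective_subtype _)
      (fun f => ⟨⟨f, hall f⟩, rfl⟩)

end Groth.Agent.H86.E6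

namespace Groth.Agent.H86.E6

open PowerSeries CategoryTheory MonoPS

universe u

theorem main (k : Type u) [Field k] (A : Subalgebra k (PowerSeries k))
    (hmono : ∀ f : PowerSeries k, f ∈ A ↔ ∀ n : ℕ, PowerSeries.coeff n f ≠ 0 →
      n ∈ AddSubmonoid.closure ({3, 4} : Set ℕ)) :
    Module.length ↥A (Abelian.Ext (ModuleCat.of ↥A ↥(Submodule.span ↥A ({1, (PowerSeries.X : PowerSeries k) ^ 5} : Set (PowerSeries k)))) (ModuleCat.of ↥A ↥(Submodule.span ↥A ({1, (PowerSeries.X : PowerSeries k) ^ 5} : Set (PowerSeries k)))) 1) = 2 ∧ Module.length ↥A (Abelian.Ext (ModuleCat.of ↥A ↥(Submodule.span ↥A ({1, (PowerSeries.X : PowerSeries k)} : Set (PowerSeries k)))) (ModuleCat.of ↥A ↥(Submodule.span ↥A ({1, (PowerSeries.X : PowerSeries k)} : Set (PowerSeries k)))) 1) = 2 ∧ Module.length ↥A (Abelian.Ext (ModuleCat.of ↥A ↥(Submodule.span ↥A ({1, (PowerSeries.X : PowerSeries k) ^ 2} : Set (PowerSeries k))))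 (ModuleCat.of ↥A ↥(Submodule.span ↥A ({1, (PowerSeries.X : PowerSeries k) ^ 2} : Set (PowerSeries k)))) 1) = 4 ∧ Module.length ↥A (Abelian.Ext (ModuleCat.of ↥A ↥(Submodule.span ↥A ({1, (PowerSeries.X : PowerSeries k), (PowerSeries.X : PowerSeries k) ^ 2} : Set (PowerSeries k)))) (ModuleCat.of ↥A ↥(Submodule.span ↥A ({1, (PowerSeries.X : PowerSeries k), (PowerSeries.X : PowerSeries k) ^ 2} : Set (PowerSeries k)))) 1) = 6 := by
  have hA : ∀ f : PowerSeries k, f ∈ Set.range A.val ↔ f ∈ E G6 := by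
    intro f
    have h1 : f ∈ Set.range A.val ↔ f ∈ A :=
      ⟨fun ⟨x, hx⟩ => hx ▸ x.2, fun h => ⟨⟨f, h⟩, rfl⟩⟩
    rw [h1, hmono]
    constructor
    · intro h n hn; exact (mem_closure_iff n).mp (h n hn)
    · intro h n hn; exact (mem_closure_iff n).mpr (h n hn)
  exact main_gen (R := ↥A) A.val (fun _ _ => rfl) Subtype.val_injective hA

end Groth.Agent.H86.E6
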