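import Mathlib

/-!
# Eilenberg–Watts for module categories over commutative rings (helper86)

`F : Mod_A ⥤ Mod_B` additive, right exact, preserving coproducts.  `K F = F(A)` with its `A`-action,
`eta F hsum M : K F ⊗[A] M ≃ₗ[B] F(M)` natural in `M`; natural transformations `F ⟶ F'` are
determined by (and correspond to) `A`-equivariant maps `F(A) ⟶ F'(A)`.
-/

set_option autoImplicit false
universe u
open CategoryTheory CategoryTheory.Limits TensorProduct

namespace Groth.Agent.H86.EilWatts

noncomputable section

variable {A B : Type u} [CommRing A] [CommRing B]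

/-- multiplication by `a` on `A`. -/
abbrev mulA (a : A) : ModuleCat.of A A ⟶ ModuleCat.of A A := a • 𝟙 (ModuleCat.of A A)

lemma mulA_apply (a c : A) : (mulA a).hom c = a * c := rfl

/-- the map `A → M`, `c ↦ c • m`. -/
def rho (M : ModuleCat.{u} A) (m : M) : ModuleCat.of A A ⟶ M :=
  ModuleCat.ofHom (LinearMap.toSpanSingleton A M m)

lemma rho_apply (M : ModuleCat.{u} A) (m : M) (c : A) : (rho M m).hom c = c • m := rfl

lemma rho_add (M : ModuleCat.{u} A) (m m' : M) : rho M (m + m') = rho M m + rho M m' := by
  apply ModuleCat.hom_ext; apply LinearMap.ext; intro c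
  show c • (m + m') = c • m + c • m'
  exact smul_add _ _ _

lemma mulA_comp_rho (M : ModuleCat.{u} A) (m : M) (a : A) : mulA a ≫ rho M m = rho M (a • m) := by
  apply ModuleCat.hom_ext; apply LinearMap.ext; intro c
  show (a * c) • m = c • (a • m)
  rw [mul_comm, mul_smul]

lemma rho_comp (M N : ModuleCat.{u} A) (f : M ⟶ N) (m : M) : rho M m ≫ f = rho N (f.hom m) := by
  apply ModuleCat.hom_ext; apply LinearMap.ext; intro c
  show f.hom (c • m) = c • f.hom m
  exact map_smul _ _ _

lemma rho_eq_mulA (a : A) : rho (ModuleCat.of A A) a = mulA a := by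
  apply ModuleCat.hom_ext; apply LinearMap.ext; intro c
  show c * a = a * c
  exact mul_comm _ _

lemma mulA_one : mulA (1 : A) = 𝟙 (ModuleCat.of A A) := one_smul _ _

lemma mulA_mul (a b : A) : mulA (a * b) = mulA b ≫ mulA a := by
  apply ModuleCat.hom_ext; apply LinearMap.ext; intro c
  show (a * b) * c = a * (b * c)
  exact mul_assoc _ _ _

lemma mulA_zero : mulA (0 : A) = 0 := zero_smul _ _

lemma mulA_add (a b : A) : mulA (a + b) = mulA a + mulA b := add_smul _ _ _

variable (F : ModuleCat.{u} A ⥤ ModuleCat.{u} B)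

/-- The bimodule `F(A)`. -/
def K : Type u := F.obj (ModuleCat.of A A)

instance : AddCommGroup (K F) := inferInstanceAs (AddCommGroup (F.obj (ModuleCat.of A A)))
instance : Module B (K F) := inferInstanceAs (Module B (F.obj (ModuleCat.of A A)))

variable [F.Additive]

/-- the action of `A` on `F(A)`. -/
def actHom : A →+* Module.End B (K F) where
  toFun a := (F.map (mulA a)).hom
  map_one' := by
    show (F.map (mulA (1 : A))).hom = 1
    rw [mulA_one, F.map_id]; rfl
  map_mul' a b := by
    show (F.map (mulA (a * b))).hom = (F.map (mulA a)).hom * (F.map (mulA b)).hom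
    rw [mulA_mul, F.map_comp]; rfl
  map_zero' := by
    show (F.map (mulA (0 : A))).hom = 0
    rw [mulA_zero, F.map_zero]; rfl
  map_add' a b := by
    show (F.map (mulA (a + b))).hom = (F.map (mulA a)).hom + (F.map (mulA b)).hom
    rw [mulA_add, F.map_add]; rfl

instance instModA : Module A (K F) := Module.compHom (K F) (actHom F)

lemma smul_def (a : A) (k : K F) : a • k = (F.map (mulA a)).hom k := rfl

instance instSCC : SMulCommClass A B (K F) where
  smul_comm a b k := by
    show (F.map (mulA a)).hom (b • k) = b • (F.map (mulA a)).hom k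
    exact map_smul _ b k

/-- `(k, m) ↦ F(ρ_m)(k)`. -/
def etaFun (M : ModuleCat.{u} A) (k : K F) (m : M) : F.obj M := (F.map (rho M m)).hom k

lemma etaFun_add_right (M : ModuleCat.{u} A) (k : K F) (m m' : M) :
    etaFun F M k (m + m') = etaFun F M k m + etaFun F M k m' := by
  unfold etaFun
  rw [rho_add, F.map_add]; rfl

lemma etaFun_add_left (M : ModuleCat.{u} A) (k k' : K F) (m : M) :
    etaFun F M (k + k') m = etaFun F M k m + etaFun F M k' m :=
  map_add (F.map (rho M m)).hom k k'

lemma etaFun_smul (M : ModuleCat.{u} A) (a : A) (k : K F) (m : M) :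
    etaFun F M (a • k) m = etaFun F M k (a • m) := by
  unfold etaFun
  rw [← mulA_comp_rho, F.map_comp]; rfl

/-- the additive map `K ⊗ M → F M`. -/
def etaAdd (M : ModuleCat.{u} A) : K F ⊗[A] M →+ F.obj M :=
  TensorProduct.liftAddHom
    (AddMonoidHom.mk' (fun k => AddMonoidHom.mk' (fun m => etaFun F M k m) (etaFun_add_right F M k))
      (by
        intro k k'
        apply AddMonoidHom.ext
        intro m
        exact etaFun_add_left F M k k' m))
    (by intro a k m; exact etaFun_smul F M a k m)

lemma etaAdd_tmul (M : ModuleCat.{u} A) (k : K F) (m : M) :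
    etaAdd F M (k ⊗ₜ[A] m) = etaFun F M k m := by
  unfold etaAdd
  exact TensorProduct.liftAddHom_tmul _ _ k m

/-- the `B`-linear map `K ⊗ M → F M`. -/
def etaLin (M : ModuleCat.{u} A) : K F ⊗[A] M →ₗ[B] F.obj M where
  toFun := etaAdd F M
  map_add' := map_add _
  map_smul' b t := by
    induction t using TensorProduct.induction_on with
    | zero => simp
    | tmul k m =>
      show etaAdd F M (b • (k ⊗ₜ[A] m)) = b • etaAdd F M (k ⊗ₜ[A] m)
      rw [TensorProduct.smul_tmul', etaAdd_tmul, etaAdd_tmul]
      exact map_smul (F.map (rho M m)).hom b k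
    | add x y hx hy =>
      simp only [RingHom.id_apply] at hx hy ⊢
      rw [smul_add, map_add, map_add, hx, hy, smul_add]

lemma etaLin_tmul (M : ModuleCat.{u} A) (k : K F) (m : M) :
    etaLin F M (k ⊗ₜ[A] m) = (F.map (rho M m)).hom k := etaAdd_tmul F M k m

lemma eta_natural (M N : ModuleCat.{u} A) (f : M ⟶ N) (x : K F ⊗[A] M) :
    etaLin F N (LinearMap.lTensor (K F) f.hom x) = (F.map f).hom (etaLin F M x) := by
  induction x using TensorProduct.induction_on with
  | zero => simp
  | tmul k m =>
    rw [LinearMap.lTensor_tmul, etaLin_tmul, etaLin_tmul, ← rho_comp, F.map_comp]; rfl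
  | add x y hx hy => rw [map_add, map_add, map_add, map_add, hx, hy]

lemma eta_self_tmul (k : K F) (a : A) :
    etaLin F (ModuleCat.of A A) (k ⊗ₜ[A] a) = a • k := by
  rw [etaLin_tmul, rho_eq_mulA]; rfl

lemma eta_self_eq_rid (t : K F ⊗[A] (ModuleCat.of A A)) :
    etaLin F (ModuleCat.of A A) t = TensorProduct.rid A (K F) t := by
  induction t using TensorProduct.induction_on with
  | zero => exact (map_zero _).trans (map_zero _).symm
  | tmul k a =>
    have h1 : TensorProduct.rid A (K F) (k ⊗ₜ[A] a) = a • k := TensorProduct.rid_tmul k a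
    exact (eta_self_tmul F k a).trans h1.symm
  | add x y hx hy =>
    have h := congrArg₂ (fun (a b : K F) => a + b) hx hy
    exact (map_add _ x y).trans (h.trans (map_add _ x y).symm)

lemma eta_self_injective : Function.Injective (etaLin F (ModuleCat.of A A)) := by
  intro s t h
  rw [eta_self_eq_rid, eta_self_eq_rid] at h
  exact (TensorProduct.rid A (K F)).injective h

lemma eta_free_injective (I : Type u) :
    Function.Injective (etaLin F (ModuleCat.of A (I →₀ A))) := by
  classical
  rw [injective_iff_map_eq_zero]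
  intro t ht
  have hcoord : ∀ i : I,
      LinearMap.lTensor (K F) (Finsupp.lapply i : (I →₀ A) →ₗ[A] A) t = 0 := by
    intro i
    apply eta_self_injective F
    have h1 := eta_natural F (ModuleCat.of A (I →₀ A)) (ModuleCat.of A A)
      (ModuleCat.ofHom (Finsupp.lapply i)) t
    rw [ht, map_zero] at h1
    rw [map_zero]
    exact h1
  have key : ∀ (s : K F ⊗[A] (I →₀ A)) (i : I),
      (TensorProduct.finsuppScalarRight A A (K F) I s) i =
        TensorProduct.rid A (K F)
          (LinearMap.lTensor (K F) (Finsupp.lapply i : (I →₀ A) →ₗ[A] A) s) := by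
    intro s i
    induction s using TensorProduct.induction_on with
    | zero => simp
    | tmul k p =>
      rw [TensorProduct.finsuppScalarRight_apply_tmul_apply, LinearMap.lTensor_tmul,
        TensorProduct.rid_tmul]
      rfl
    | add x y hx hy =>
      rw [map_add, map_add, map_add, Finsupp.add_apply, hx, hy]
  apply (TensorProduct.finsuppScalarRight A A (K F) I).injective
  rw [map_zero]
  apply Finsupp.ext
  intro i
  rw [key, hcoord, map_zero]
  rfl

/-- In `ModuleCat B` the legs of a colimit cocone over a discrete diagram are jointly surjective. -/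
lemma iSup_range_eq_top {J : Type u} {X : J → ModuleCat.{u} B} (c : Cofan X)
    (hc : IsColimit c) :
    (⨆ j : J, LinearMap.range (c.inj j).hom) = ⊤ := by
  set S : Submodule B c.pt := ⨆ j : J, LinearMap.range (c.inj j).hom with hS
  have h0 : (ModuleCat.ofHom S.mkQ : c.pt ⟶ ModuleCat.of B (c.pt ⧸ S)) = 0 := by
    apply Cofan.IsColimit.hom_ext hc
    intro j
    rw [Limits.comp_zero]
    apply ModuleCat.hom_ext; apply LinearMap.ext; intro y
    show S.mkQ ((c.inj j).hom y) = 0
    rw [Submodule.mkQ_apply, Submodule.Quotient.mk_eq_zero]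
    exact (le_iSup (fun j : J => LinearMap.range (c.inj j).hom) j) ⟨y, rfl⟩
  have h1 : S.mkQ = 0 := congrArg ModuleCat.Hom.hom h0
  rw [← Submodule.ker_mkQ S, h1, LinearMap.ker_zero]

variable [PreservesFiniteColimits F]

lemma map_surjective_of_surjective {M N : ModuleCat.{u} A} (f : M ⟶ N)
    (hf : Function.Surjective f.hom) : Function.Surjective (F.map f).hom := by
  haveI : Epi f := (ModuleCat.epi_iff_surjective f).mpr hf
  haveI : Epi (F.map f) := inferInstance
  exact (ModuleCat.epi_iff_surjective (F.map f)).mp inferInstance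

/-- The cofan exhibiting `I →₀ A` as coproduct of copies of `A`. -/
abbrev freeCofan (A : Type u) [CommRing A] (I : Type u) : Cofan (fun _ : I => ModuleCat.of A A) :=
  Cofan.mk (ModuleCat.of A (I →₀ A)) (fun i => ModuleCat.ofHom (Finsupp.lsingle i))

/-- it is a colimit. -/
def freeCofanIsColimit (A : Type u) [CommRing A] (I : Type u) : IsColimit (freeCofan A I) :=
  Cofan.IsColimit.mk _
    (fun s => ModuleCat.ofHom (Finsupp.lsum A (fun i => (s.inj i).hom)))
    (fun s i => by
      apply ModuleCat.hom_ext; apply LinearMap.ext; intro a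
      show Finsupp.lsum A (fun i => (s.inj i).hom) (Finsupp.single i a) = (s.inj i).hom a
      simp)
    (fun s m hm => by
      apply ModuleCat.hom_ext
      apply Finsupp.lhom_ext
      intro i a
      have h1 : m.hom (Finsupp.single i a) = (s.inj i).hom a :=
        congrArg (fun g => g.hom a) (hm i)
      show m.hom (Finsupp.single i a) =
        Finsupp.lsum A (fun i => (s.inj i).hom) (Finsupp.single i a)
      rw [h1]; simp)

/-- the free cover of a module. -/
def freeCover (M : ModuleCat.{u} A) : ModuleCat.of A (M →₀ A) ⟶ M :=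
  ModuleCat.ofHom (Finsupp.linearCombination A (id : M → M))

lemma freeCover_single (M : ModuleCat.{u} A) (m : M) (a : A) :
    (freeCover M).hom (Finsupp.single m a) = a • m := by
  show Finsupp.linearCombination A (id : M → M) (Finsupp.single m a) = a • m
  rw [Finsupp.linearCombination_single]; rfl

lemma freeCover_surjective (M : ModuleCat.{u} A) : Function.Surjective (freeCover M).hom := by
  intro m
  exact ⟨Finsupp.single m 1, by rw [freeCover_single, one_smul]⟩

lemma rho_eq_inj_comp_freeCover (M : ModuleCat.{u} A) (m : M) :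
    rho M m = (freeCofan A M).inj m ≫ freeCover M := by
  apply ModuleCat.hom_ext; apply LinearMap.ext; intro a
  show a • m = (freeCover M).hom (Finsupp.single m a)
  rw [freeCover_single]

section Sum

variable (hsum : ∀ J : Type u, PreservesColimitsOfShape (Discrete J) F)
include hsum

lemma eta_surjective (M : ModuleCat.{u} A) : Function.Surjective (etaLin F M) := by
  have hFπ := map_surjective_of_surjective F (freeCover M) (freeCover_surjective M)
  haveI := hsum M
  have hcol : IsColimit (Cofan.mk (F.obj (ModuleCat.of A (M →₀ A)))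
      (fun j : M => F.map (ModuleCat.ofHom (Finsupp.lsingle (R := A) (M := A) j)))) :=
    isColimitCofanMkObjOfIsColimit F _ _ (freeCofanIsColimit A M)
  have htop := iSup_range_eq_top _ hcol
  intro y
  obtain ⟨z, rfl⟩ := hFπ y
  have hz : z ∈ (⨆ j : M, LinearMap.range
      (F.map (ModuleCat.ofHom (Finsupp.lsingle (R := A) (M := A) j))).hom) := by
    have h := htop
    simp only [Cofan.mk_pt] at h
    rw [show (⨆ j : M, LinearMap.range
      (F.map (ModuleCat.ofHom (Finsupp.lsingle (R := A) (M := A) j))).hom) = ⊤ from h]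
    trivial
  refine Submodule.iSup_induction
    (fun j : M => LinearMap.range
      (F.map (ModuleCat.ofHom (Finsupp.lsingle (R := A) (M := A) j))).hom)
    (motive := fun z => ∃ t, etaLin F M t = (F.map (freeCover M)).hom z) hz ?_ ?_ ?_
  · rintro j _ ⟨k, rfl⟩
    refine ⟨(k : K F) ⊗ₜ[A] (j : M), ?_⟩
    have e := etaLin_tmul F M (k : K F) j
    refine e.trans ?_
    rw [rho_eq_inj_comp_freeCover, F.map_comp]
    rfl
  · exact ⟨0, by simp⟩
  · rintro z₁ z₂ ⟨t₁, h₁⟩ ⟨t₂, h₂⟩
    exact ⟨t₁ + t₂, by rw [map_add, map_add, h₁, h₂]⟩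

/-- the relations map `A^(ker π) → A^(M)`. -/
def relMap (M : ModuleCat.{u} A) :
    ModuleCat.of A ((LinearMap.ker (freeCover M).hom) →₀ A) ⟶ ModuleCat.of A (M →₀ A) :=
  ModuleCat.ofHom (Finsupp.linearCombination A
    (fun r : LinearMap.ker (freeCover M).hom => (r : M →₀ A)))

omit hsum [PreservesFiniteColimits F] [F.Additive] in
lemma relMap_comp (M : ModuleCat.{u} A) : (freeCover M).hom ∘ₗ (relMap M).hom = 0 := by
  apply Finsupp.lhom_ext
  intro r a
  show (freeCover M).hom (Finsupp.linearCombination A
    (fun r : LinearMap.ker (freeCover M).hom => (r : M →₀ A)) (Finsupp.single r a)) = 0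
  rw [Finsupp.linearCombination_single, map_smul, LinearMap.mem_ker.mp r.2, smul_zero]

omit hsum [PreservesFiniteColimits F] [F.Additive] in
lemma ker_le_range_relMap (M : ModuleCat.{u} A) :
    LinearMap.ker (freeCover M).hom ≤ LinearMap.range (relMap M).hom := by
  intro r hr
  refine ⟨Finsupp.single ⟨r, hr⟩ 1, ?_⟩
  show Finsupp.linearCombination A
    (fun r : LinearMap.ker (freeCover M).hom => (r : M →₀ A)) (Finsupp.single ⟨r, hr⟩ 1) = r
  rw [Finsupp.linearCombination_single, one_smul]

lemma eta_injective (M : ModuleCat.{u} A) : Function.Injective (etaLin F M) := by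
  have hjπ : relMap M ≫ freeCover M = 0 := ModuleCat.hom_ext (relMap_comp M)
  let S : ShortComplex (ModuleCat.{u} A) := ShortComplex.mk (relMap M) (freeCover M) hjπ
  have hS : S.Exact :=
    (ShortComplex.moduleCat_exact_iff_ker_sub_range S).mpr (ker_le_range_relMap M)
  haveI : Epi S.g := (ModuleCat.epi_iff_surjective (freeCover M)).mpr (freeCover_surjective M)
  have hFS : (S.map F).Exact := hS.map_of_epi_of_preservesCokernel F inferInstance inferInstance
  have hker : LinearMap.ker (F.map (freeCover M)).hom ≤ LinearMap.range (F.map (relMap M)).hom :=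
    (ShortComplex.moduleCat_exact_iff_ker_sub_range (S.map F)).mp hFS
  rw [injective_iff_map_eq_zero]
  intro t ht
  obtain ⟨s, rfl⟩ := LinearMap.lTensor_surjective (K F) (freeCover_surjective M) t
  have h1 : (F.map (freeCover M)).hom (etaLin F _ s) = 0 := by
    rw [← eta_natural]; exact ht
  obtain ⟨z, hz⟩ := hker h1
  obtain ⟨r, rfl⟩ := eta_surjective F hsum _ z
  have h2 : etaLin F _ (LinearMap.lTensor (K F) (relMap M).hom r) = etaLin F _ s := by
    rw [eta_natural]; exact hz
  have h3 := eta_free_injective F M h2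
  rw [← h3, ← LinearMap.comp_apply, ← LinearMap.lTensor_comp, relMap_comp,
    LinearMap.lTensor_zero, LinearMap.zero_apply]

/-- The Eilenberg–Watts isomorphism. -/
def eta (M : ModuleCat.{u} A) : K F ⊗[A] M ≃ₗ[B] F.obj M :=
  LinearEquiv.ofBijective (etaLin F M) ⟨eta_injective F hsum M, eta_surjective F hsum M⟩

lemma eta_apply (M : ModuleCat.{u} A) (x : K F ⊗[A] M) : eta F hsum M x = etaLin F M x := rfl

end Sum

omit [F.Additive] in
lemma additive_of_preservesFiniteColimits : F.Additive := by
  haveI : F.PreservesZeroMorphisms := inferInstance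
  haveI := preservesBinaryBiproducts_of_preservesBinaryCoproducts F
  exact Functor.additive_of_preservesBinaryBiproducts F

omit [F.Additive] in
/-- Eilenberg–Watts, existence form (statement S2204). -/
theorem main2204 (hsum : ∀ J : Type u, PreservesColimitsOfShape (Discrete J) F) :
    ∃ (K : Type u) (_ : AddCommGroup K) (_ : Module A K) (_ : Module B K) (_ : SMulCommClass A B K)
      (η : ∀ M : ModuleCat.{u} A, (K ⊗[A] M) ≃ₗ[B] F.obj M),
      ∀ (M N : ModuleCat.{u} A) (f : M ⟶ N) (x : K ⊗[A] M),
        η N (LinearMap.lTensor K f.hom x) = F.map f (η M x) := by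
  haveI : F.Additive := additive_of_preservesFiniteColimits F
  exact ⟨K F, inferInstance, inferInstance, inferInstance, inferInstance, fun M => eta F hsum M,
    fun M N f x => eta_natural F M N f x⟩

section NatTrans

variable (F' : ModuleCat.{u} A ⥤ ModuleCat.{u} B) [F'.Additive] [PreservesFiniteColimits F']
variable (hsum : ∀ J : Type u, PreservesColimitsOfShape (Discrete J) F)
variable (hsum' : ∀ J : Type u, PreservesColimitsOfShape (Discrete J) F')

include hsum in
omit [F'.Additive] [PreservesFiniteColimits F'] in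
lemma natTrans_ext (t t' : F ⟶ F')
    (h : t.app (ModuleCat.of A A) = t'.app (ModuleCat.of A A)) : t = t' := by
  apply NatTrans.ext; funext M
  apply ModuleCat.hom_ext; apply LinearMap.ext; intro y
  obtain ⟨s, rfl⟩ := eta_surjective F hsum M y
  induction s using TensorProduct.induction_on with
  | zero => rw [map_zero, map_zero, map_zero]
  | tmul k m =>
    have n1 : (t.app M).hom ((F.map (rho M m)).hom k) =
        (F'.map (rho M m)).hom ((t.app (ModuleCat.of A A)).hom k) :=
      congrArg (fun g => g.hom k) (t.naturality (rho M m))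
    have n2 : (t'.app M).hom ((F.map (rho M m)).hom k) =
        (F'.map (rho M m)).hom ((t'.app (ModuleCat.of A A)).hom k) :=
      congrArg (fun g => g.hom k) (t'.naturality (rho M m))
    rw [etaLin_tmul, n1, n2, h]
  | add x y hx hy => rw [map_add, map_add, map_add, hx, hy]

variable (φ : F.obj (ModuleCat.of A A) ⟶ F'.obj (ModuleCat.of A A))
  (hφ : ∀ a : A, F.map (mulA a) ≫ φ = φ ≫ F'.map (mulA a))

omit [PreservesFiniteColimits F] [PreservesFiniteColimits F'] in
/-- `φ` as an `A`-linear map. -/
def phiA : K F →ₗ[A] K F' where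
  toFun := φ.hom
  map_add' := map_add φ.hom
  map_smul' a k := by
    show φ.hom ((F.map (mulA a)).hom k) = (F'.map (mulA a)).hom (φ.hom k)
    exact congrArg (fun g => g.hom k) (hφ a)

/-- `φ ⊗ id` as a `B`-linear map. -/
def psi (M : ModuleCat.{u} A) : K F ⊗[A] M →ₗ[B] K F' ⊗[A] M where
  toFun := LinearMap.rTensor M (phiA F F' φ hφ)
  map_add' := map_add _
  map_smul' b t := by
    induction t using TensorProduct.induction_on with
    | zero => simp
    | tmul k m =>
      show LinearMap.rTensor M (phiA F F' φ hφ) (b • (k ⊗ₜ[A] m)) =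
        b • LinearMap.rTensor M (phiA F F' φ hφ) (k ⊗ₜ[A] m)
      rw [TensorProduct.smul_tmul', LinearMap.rTensor_tmul, LinearMap.rTensor_tmul,
        TensorProduct.smul_tmul']
      congr 1
      exact map_smul φ.hom b k
    | add x y hx hy =>
      simp only [RingHom.id_apply] at hx hy ⊢
      rw [smul_add, map_add, map_add, hx, hy, smul_add]

lemma psi_apply (M : ModuleCat.{u} A) (x : K F ⊗[A] M) :
    psi F F' φ hφ M x = LinearMap.rTensor M (phiA F F' φ hφ) x := rfl

/-- the natural transformation with component `φ` at `A`. -/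
def tNat : F ⟶ F' where
  app M := ModuleCat.ofHom
    ((eta F' hsum' M).toLinearMap ∘ₗ psi F F' φ hφ M ∘ₗ (eta F hsum M).symm.toLinearMap)
  naturality M N f := by
    apply ModuleCat.hom_ext; apply LinearMap.ext; intro y
    obtain ⟨s, rfl⟩ := (eta F hsum M).surjective y
    show (eta F' hsum' N) (psi F F' φ hφ N ((eta F hsum N).symm
        ((F.map f).hom (eta F hsum M s)))) =
      (F'.map f).hom ((eta F' hsum' M) (psi F F' φ hφ M ((eta F hsum M).symm (eta F hsum M s))))
    rw [LinearEquiv.symm_apply_apply]
    have e1 : (F.map f).hom (eta F hsum M s) =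
        eta F hsum N (LinearMap.lTensor (K F) f.hom s) := (eta_natural F M N f s).symm
    rw [e1, LinearEquiv.symm_apply_apply]
    have e2 : psi F F' φ hφ N (LinearMap.lTensor (K F) f.hom s) =
        LinearMap.lTensor (K F') f.hom (psi F F' φ hφ M s) := by
      rw [psi_apply, psi_apply, ← LinearMap.comp_apply, ← LinearMap.comp_apply,
        LinearMap.rTensor_comp_lTensor, LinearMap.lTensor_comp_rTensor]
    rw [e2]
    exact eta_natural F' M N f _

lemma tNat_app_self : (tNat F F' hsum hsum' φ hφ).app (ModuleCat.of A A) = φ := by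
  apply ModuleCat.hom_ext; apply LinearMap.ext; intro k0
  obtain ⟨k, rfl⟩ : ∃ k : K F, k = k0 := ⟨k0, rfl⟩
  have hk : (eta F hsum (ModuleCat.of A A)).symm k = k ⊗ₜ[A] (1 : A) := by
    apply (eta F hsum _).injective
    have h1 := eta_self_tmul F k (1 : A)
    rw [one_smul] at h1
    exact ((eta F hsum (ModuleCat.of A A)).apply_symm_apply k).trans h1.symm
  show (eta F' hsum' _) (psi F F' φ hφ _ ((eta F hsum _).symm k)) = φ.hom k
  rw [hk, psi_apply, LinearMap.rTensor_tmul]
  have h2 := eta_self_tmul F' (phiA F F' φ hφ k) (1 : A)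
  rw [one_smul] at h2
  exact h2

include hsum hsum' in
lemma exists_natTrans_iff (φ : F.obj (ModuleCat.of A A) ⟶ F'.obj (ModuleCat.of A A)) :
    (∃ t : F ⟶ F', t.app (ModuleCat.of A A) = φ) ↔
      ∀ a : A, F.map (mulA a) ≫ φ = φ ≫ F'.map (mulA a) := by
  constructor
  · rintro ⟨t, rfl⟩ a
    exact t.naturality (mulA a)
  · intro hφ
    exact ⟨tNat F F' hsum hsum' φ hφ, tNat_app_self F F' hsum hsum' φ hφ⟩

end NatTrans

section Lin

open scoped ModuleCat.Algebra

omit [PreservesFiniteColimits F] in
lemma algebraMap_smul_K (R : Type u) [CommRing R] [Algebra R A] [Algebra R B] [F.Linear R]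
    (r : R) (x : K F) : algebraMap R A r • x = algebraMap R B r • x := by
  have h2 := F.map_smul r (𝟙 (ModuleCat.of A A))
  rw [F.map_id] at h2
  have h3 : ∀ (g : ModuleCat.of A A ⟶ ModuleCat.of A A)
      (g' : F.obj (ModuleCat.of A A) ⟶ F.obj (ModuleCat.of A A)), F.map g = g' →
      (∀ c, g.hom c = algebraMap R A r * c) → F.map (mulA (algebraMap R A r)) = g' := by
    intro g g' e hg
    rw [← e]
    congr 1
    apply ModuleCat.hom_ext; apply LinearMap.ext; intro c
    rw [hg, mulA_apply]
  have h4 := h3 _ _ h2 (fun c => rfl)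
  exact congrArg (fun g => g.hom x) h4

/-- Statement S6769. -/
theorem main6769
    (R : Type u) [CommRing R] (A B : Type u) [CommRing A] [CommRing B] [Algebra R A] [Algebra R B]
    (F F' : ModuleCat.{u} A ⥤ ModuleCat.{u} B) [F.Additive] [F.Linear R] [F'.Additive] [F'.Linear R]
    [PreservesFiniteColimits F] [∀ J : Type u, PreservesColimitsOfShape (Discrete J) F]
    [PreservesFiniteColimits F'] [∀ J : Type u, PreservesColimitsOfShape (Discrete J) F'] :
    (∃ (K : Type u) (_ : AddCommGroup K) (_ : Module A K) (_ : Module B K) (_ : SMulCommClass A B K),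
      (∀ (r : R) (x : K), algebraMap R A r • x = algebraMap R B r • x) ∧
      ∃ η : ∀ M : ModuleCat.{u} A, (K ⊗[A] M) ≃ₗ[B] F.obj M,
        ∀ (M N : ModuleCat.{u} A) (f : M ⟶ N) (x : K ⊗[A] M),
          η N (LinearMap.lTensor K f.hom x) = F.map f (η M x)) ∧
    (∀ t t' : F ⟶ F', t.app (ModuleCat.of A A) = t'.app (ModuleCat.of A A) → t = t') ∧
    (∀ φ : F.obj (ModuleCat.of A A) ⟶ F'.obj (ModuleCat.of A A),
      (∃ t : F ⟶ F', t.app (ModuleCat.of A A) = φ) ↔
        ∀ a : A, F.map (a • 𝟙 (ModuleCat.of A A)) ≫ φ = φ ≫ F'.map (a • 𝟙 (ModuleCat.of A A))) := by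
  have hsum : ∀ J : Type u, PreservesColimitsOfShape (Discrete J) F := fun J => inferInstance
  have hsum' : ∀ J : Type u, PreservesColimitsOfShape (Discrete J) F' := fun J => inferInstance
  refine ⟨⟨K F, inferInstance, instModA F, inferInstance, instSCC F, algebraMap_smul_K F R,
    fun M => eta F hsum M, fun M N f x => eta_natural F M N f x⟩, ?_, ?_⟩
  · intro t t' h
    exact natTrans_ext F F' hsum t t' h
  · intro φ
    exact exists_natTrans_iff F F' hsum hsum' φ

end Lin

end

end Groth.Agent.H86.EilWatts
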