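import Mathlib
import Groth.Prelude.Def_PBC
import Groth.Prelude.Def_EtCore
import Groth.Agent.S6642
import Groth.Agent.H24.EtCons.Defs
import Groth.Agent.H24.EtCons.E

/-!
# (P4) for helper24's S0127–S0130: adapted strata restrict to smaller opens.
-/

set_option autoImplicit false
universe u
open CategoryTheory CategoryTheory.Limits AlgebraicGeometry Topology
open Groth.Agent.H24.EtCons

namespace Groth.Agent.H86.EtCons_P4

theorem range_restrict {X T : Scheme.{u}} (g : T ⟶ X) (V : X.Opens) :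
    Set.range ((g ⁻¹ᵁ V).ι ≫ g) = Set.range g ∩ (V : Set X) := by
  ext x
  constructor
  · rintro ⟨t, rfl⟩
    rw [Scheme.Hom.comp_apply]
    exact ⟨⟨_, rfl⟩, t.2⟩
  · rintro ⟨⟨t, rfl⟩, hV⟩
    exact ⟨⟨t, hV⟩, Scheme.Hom.comp_apply _ _ _⟩

theorem adapted_of_le {X : Scheme.{u}} (F : EtCoh.Ab X) (U V : X.Opens) (hVU : V ≤ U)
    (h : EtPBC.AdaptedStrata F (U : Set X)) : EtPBC.AdaptedStrata F (V : Set X) := by
  obtain ⟨n, T, g, himm, hcons, hdisj, hunion, hflc⟩ := h
  have hVU' : (V : Set X) ⊆ (U : Set X) := hVU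
  refine ⟨n, fun i => (((g i) ⁻¹ᵁ V : (T i).Opens) : Scheme.{u}),
    fun i => ((g i) ⁻¹ᵁ V).ι ≫ g i, ?_, ?_, ?_, ?_, ?_⟩
  · intro i
    haveI := himm i
    infer_instance
  · intro i
    rw [range_restrict]
    have e : ((Subtype.val : ↥(V : Set X) → X) ⁻¹' (Set.range (g i) ∩ (V : Set X))) =
        (Set.inclusion hVU') ⁻¹' ((Subtype.val : ↥(U : Set X) → X) ⁻¹' Set.range (g i)) := by
      ext ⟨x, hx⟩
      constructor
      · intro h; exact h.1
      · intro h; exact ⟨h, hx⟩
    rw [e]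
    apply Topology.IsConstructible.preimage_of_isOpenEmbedding _ (hcons i)
    exact Topology.IsOpenEmbedding.inclusion hVU' (V.isOpen.preimage continuous_subtype_val)
  · intro i j hij
    have hd : Disjoint (Set.range (g i)) (Set.range (g j)) := hdisj hij
    show Disjoint (Set.range ((g i ⁻¹ᵁ V).ι ≫ g i)) (Set.range ((g j ⁻¹ᵁ V).ι ≫ g j))
    rw [range_restrict, range_restrict]
    exact hd.mono Set.inter_subset_left Set.inter_subset_left
  · have hr : ∀ i, Set.range ((g i ⁻¹ᵁ V).ι ≫ g i) = Set.range (g i) ∩ (V : Set X) :=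
      fun i => range_restrict _ _
    rw [Set.iUnion_congr hr, ← Set.iUnion_inter, hunion]
    exact Set.inter_eq_self_of_subset_right hVU'
  · intro i _
    exact flc_pull_comp F (g i) _ (hflc i)

end Groth.Agent.H86.EtCons_P4
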