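import Mathlib
import Groth.Prelude.Def_AlgSpModX
import Groth.Prelude.Def_AlgSp2
import Groth.Agent.H32.QCBC.EtSite
import Groth.Agent.H52.Topology
import Groth.Agent.H52.FQDecent

/-!
# (BCCOV) for helper32's S10577: every object of the small étale site of `X` is covered by affine
objects mapping to base changes of affine objects of the small étale site of `Y`.
-/

set_option autoImplicit false
universe u
open CategoryTheory Opposite Limits AlgebraicGeometry
open AlgSp

namespace Groth.Agent.H86.FPres_BCCOV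

open Groth.Agent.H32.QCBC

theorem exists_affine_over {S : Scheme.{u}} {X : AlgSp.Sp S} (E₀ V : EtOver X)
    (v : ↥V.obj.left.left) (u : ↥E₀.obj.left.left)
    (h : Points.ofPt E₀.obj.hom u = Points.ofPt V.obj.hom v) :
    ∃ (O : (EtOver.prodObj V E₀).obj.left.left.Opens), IsAffineOpen O ∧
      v ∈ Set.range (openObjι _ O ≫ EtOver.prodFst V E₀).hom.left.left := by
  have hsq : IsPullback ((yon S).map (E₀.property.1.fst' V.obj.hom))
      ((yon S).map (E₀.property.1.snd V.obj.hom)) E₀.obj.hom V.obj.hom := by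
    rw [Functor.relativelyRepresentable.map_fst']
    exact E₀.property.1.isPullback V.obj.hom
  obtain ⟨z, hz1, hz2⟩ := Groth.Agent.H52.exists_of_ofPt_eq_ofPt hsq u v h
  obtain ⟨O, hO, hzO, -⟩ := exists_isAffineOpen_mem_and_subset
    (X := (EtOver.prodObj V E₀).obj.left.left) (x := z) (U := ⊤) trivial
  exact ⟨O, hO, ⟨(⟨z, hzO⟩ : O), hz2⟩⟩

theorem exists_cover_bc {S : Scheme.{u}} {X Y : AlgSp.Sp S} {f : X ⟶ Y}
    (hf : AlgSp.Representable f) (hY : AlgSp.IsAlgSpace Y) (V : AlgSp.EtOver X) :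
    ∃ T ∈ AlgSp.etTop X V, ∀ ⦃V' : AlgSp.EtOver X⦄ (g : V' ⟶ V), T g →
      ∃ (Z : AlgSp.EtOver X) (a : V' ⟶ Z) (b : Z ⟶ V), a ≫ b = g ∧ IsAffine Z.obj.left.left ∧
        ∃ (E : AlgSp.EtOver Y), IsAffine E.obj.left.left ∧
          Nonempty (Z ⟶ (AlgSp.EtOver.bc hf).obj E) := by
  let ι := Σ E : {E : EtOver Y // IsAffine E.obj.left.left},
    {O : (EtOver.prodObj V ((EtOver.bc hf).obj E.1)).obj.left.left.Opens // IsAffineOpen O}
  let Z : ι → EtOver X := fun i => openObj _ i.2.1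
  let b : ∀ i : ι, Z i ⟶ V := fun i => openObjι _ i.2.1 ≫ EtOver.prodFst V _
  refine ⟨Sieve.ofArrows Z b, ofArrows_mem_etTop Z b ?_, ?_⟩
  · intro v
    obtain ⟨U, a, u, hU, ha, hy⟩ := Groth.Agent.H52.exists_affine_chart_at hY
      (Points.map f (Points.ofPt V.obj.hom v))
    let E : EtOver Y := EtOver.mk a ha
    have hsqE := hf.isPullback E.obj.hom
    have hxy : Points.map f (Points.ofPt V.obj.hom v) =
        Points.map E.obj.hom (Points.ofScheme E.obj.left u) := by
      rw [← Points.ofPt_eq_map_ofScheme]; exact hy.symm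
    obtain ⟨z, hz1, -⟩ := Groth.Agent.H52.exists_point_of_isPullback hsqE _ _ hxy
    obtain ⟨w, rfl⟩ := (Points.schemeEquiv _).surjective z
    have hw : Points.ofPt ((EtOver.bc hf).obj E).obj.hom w = Points.ofPt V.obj.hom v := by
      rw [Points.ofPt_eq_map_ofScheme]; exact hz1
    obtain ⟨O, hO, hv⟩ := exists_affine_over ((EtOver.bc hf).obj E) V v w hw
    exact ⟨⟨⟨E, hU⟩, ⟨O, hO⟩⟩, hv⟩
  · intro V' g hg
    obtain ⟨i, k, hk⟩ := (Sieve.mem_ofArrows_iff Z b g).1 hg
    exact ⟨Z i, k, b i, hk.symm, i.2.2, i.1.1, i.1.2,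
      ⟨openObjι _ i.2.1 ≫ EtOver.prodSnd V _⟩⟩

end Groth.Agent.H86.FPres_BCCOV
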