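import Mathlib
import Groth.Prelude.Def_AlgSpModX
import Groth.Prelude.Def_AlgSp2
import Groth.Agent.H32.QCBC.EtSite
import Groth.Agent.H52.Topology
import Groth.Agent.H52.FQDecent

/-!
# (QCCOV) for helper32's S10747: a quasi-compact sheaf `X` has finitely many affine étale charts
through which every object of the small étale site factors étale-locally.
-/

set_option autoImplicit false
universe u
open CategoryTheory Opposite Limits AlgebraicGeometry
open AlgSp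

namespace Groth.Agent.H86.FPres_QCCOV

open Groth.Agent.H32.QCBC

theorem exists_factor_through_open {S : Scheme.{u}} {X : AlgSp.Sp S} (E₀ V : EtOver X)
    (W : E₀.obj.left.left.Opens) (v : ↥V.obj.left.left) (u : ↥E₀.obj.left.left) (huW : u ∈ W)
    (h : Points.ofPt E₀.obj.hom u = Points.ofPt V.obj.hom v) :
    ∃ (O : (EtOver.prodObj V (openObj E₀ W)).obj.left.left.Opens), IsAffineOpen O ∧
      v ∈ Set.range (openObjι _ O ≫ EtOver.prodFst V (openObj E₀ W)).hom.left.left := by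
  have hsq : IsPullback ((yon S).map ((openObj E₀ W).property.1.fst' V.obj.hom))
      ((yon S).map ((openObj E₀ W).property.1.snd V.obj.hom)) (openObj E₀ W).obj.hom V.obj.hom := by
    rw [Functor.relativelyRepresentable.map_fst']
    exact (openObj E₀ W).property.1.isPullback V.obj.hom
  have hE : Points.ofPt (openObj E₀ W).obj.hom (⟨u, huW⟩ : W) = Points.ofPt V.obj.hom v := by
    have h1 := Groth.Agent.H52.ofPt_yon_map_comp
      (Groth.Agent.H52.overOfHom (U := E₀.obj.left) W.ι) E₀.obj.hom (⟨u, huW⟩ : W)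
    exact h1.trans h
  obtain ⟨z, hz1, hz2⟩ := Groth.Agent.H52.exists_of_ofPt_eq_ofPt hsq (⟨u, huW⟩ : W) v hE
  obtain ⟨O, hO, hzO, -⟩ := exists_isAffineOpen_mem_and_subset
    (X := (EtOver.prodObj V (openObj E₀ W)).obj.left.left) (x := z) (U := ⊤) trivial
  exact ⟨O, hO, ⟨(⟨z, hzO⟩ : O), hz2⟩⟩

theorem exists_finite_affine_cover {S : Scheme.{u}} (X : AlgSp.Sp S)
    (hqc : AlgSp.IsQuasiCompactSp X) :
    ∃ (r : ℕ) (E : Fin r → AlgSp.EtOver X), (∀ j, IsAffine (E j).obj.left.left) ∧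
      ∀ V : AlgSp.EtOver X, ∃ T ∈ AlgSp.etTop X V, ∀ ⦃V' : AlgSp.EtOver X⦄ (f : V' ⟶ V), T f →
        ∃ (Z : AlgSp.EtOver X) (a : V' ⟶ Z) (b : Z ⟶ V), a ≫ b = f ∧ IsAffine Z.obj.left.left ∧
          ∃ j : Fin r, Nonempty (Z ⟶ E j) := by
  obtain ⟨U, p, hp, hps, hc⟩ := hqc
  let E₀ : EtOver X := EtOver.mk p hp
  haveI : CompactSpace ↥E₀.obj.left.left := hc
  have key : ∀ x : ↥E₀.obj.left.left, ∃ W : E₀.obj.left.left.Opens, IsAffineOpen W ∧ x ∈ W := by
    intro x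
    obtain ⟨W, hW, hxW, -⟩ := exists_isAffineOpen_mem_and_subset (x := x) (U := ⊤) trivial
    exact ⟨W, hW, hxW⟩
  choose W hW hxW using key
  obtain ⟨t, ht⟩ := isCompact_univ.elim_finite_subcover
    (fun x => ((W x : E₀.obj.left.left.Opens) : Set ↥E₀.obj.left.left))
    (fun x => (W x).2) (fun x _ => Set.mem_iUnion.2 ⟨x, hxW x⟩)
  let e := t.equivFin
  refine ⟨t.card, fun j => openObj E₀ (W (e.symm j).1), fun j => hW _, fun V => ?_⟩
  let ι := Σ j : Fin t.card,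
    {O : (EtOver.prodObj V (openObj E₀ (W (e.symm j).1))).obj.left.left.Opens // IsAffineOpen O}
  let Z : ι → EtOver X := fun i => openObj _ i.2.1
  let b : ∀ i : ι, Z i ⟶ V := fun i => openObjι _ i.2.1 ≫ EtOver.prodFst V _
  refine ⟨Sieve.ofArrows Z b, ofArrows_mem_etTop Z b ?_, ?_⟩
  · intro v
    obtain ⟨u, hu⟩ := Groth.Agent.H52.surjective_ofPt_of_surjective p hps
      (Points.ofPt V.obj.hom v)
    obtain ⟨y, hy⟩ := Set.mem_iUnion.1 (ht (Set.mem_univ u))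
    obtain ⟨hyt, huW⟩ := Set.mem_iUnion.1 hy
    have hj : (e.symm (e ⟨y, hyt⟩)).1 = y := congrArg Subtype.val (e.symm_apply_apply ⟨y, hyt⟩)
    have huW' : u ∈ W (e.symm (e ⟨y, hyt⟩)).1 := by rw [hj]; exact huW
    obtain ⟨O, hO, hv⟩ := exists_factor_through_open E₀ V (W (e.symm (e ⟨y, hyt⟩)).1) v u huW' hu
    exact ⟨⟨e ⟨y, hyt⟩, ⟨O, hO⟩⟩, hv⟩
  · intro V' f hf
    obtain ⟨i, k, hk⟩ := (Sieve.mem_ofArrows_iff Z b f).1 hf
    exact ⟨Z i, k, b i, hk.symm, i.2.2, i.1, ⟨openObjι _ i.2.1 ≫ EtOver.prodSnd V _⟩⟩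

end Groth.Agent.H86.FPres_QCCOV
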