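import Mathlib.FieldTheory.IsAlgClosed.Basic
import Mathlib.RingTheory.Artinian.Module
import Mathlib.RingTheory.Ideal.Quotient.Operations
import Mathlib.RingTheory.Nilpotent.Lemmas
import Mathlib.Algebra.Algebra.Pi
import Mathlib.RingTheory.Spectrum.Maximal.Basic

/-!
Finite-dimensional commutative algebras over an algebraically closed field:
characters `A →ₐ[k] k`, their kernels, and the evaluation map `A → (E → k)`.
-/

set_option autoImplicit false
universe u v

namespace Groth.Agent.H86

variable (k : Type u) [Field k] (A : Type v) [CommRing A] [Algebra k A]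

/-- the kernel of a character is a maximal ideal -/
theorem ker_char_isMaximal (χ : A →ₐ[k] k) : (RingHom.ker χ).IsMaximal :=
  RingHom.ker_isMaximal_of_surjective (χ : A →+* k) (fun c => ⟨algebraMap k A c, by simp⟩)

variable {k A} in
/-- `a - χ a • 1` lies in the kernel of `χ` -/
theorem sub_algebraMap_mem_ker (χ : A →ₐ[k] k) (a : A) :
    a - algebraMap k A (χ a) ∈ RingHom.ker χ := by
  rw [RingHom.mem_ker, map_sub, AlgHom.commutes]
  simp

variable {k A} in
/-- characters with the same kernel coincide -/
theorem char_eq_of_ker_eq (χ ψ : A →ₐ[k] k) (h : RingHom.ker χ = RingHom.ker ψ) : χ = ψ := by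
  ext a
  have h1 : a - algebraMap k A (χ a) ∈ RingHom.ker ψ := h ▸ sub_algebraMap_mem_ker χ a
  rw [RingHom.mem_ker, map_sub, AlgHom.commutes] at h1
  have : ψ a = χ a := by simpa [sub_eq_zero] using h1
  exact this.symm

variable {k A} in
/-- distinct characters have coprime kernels -/
theorem ker_char_isCoprime (χ ψ : A →ₐ[k] k) (h : χ ≠ ψ) :
    IsCoprime (RingHom.ker χ) (RingHom.ker ψ) := by
  haveI := ker_char_isMaximal k A χ
  haveI := ker_char_isMaximal k A ψ
  exact Ideal.isCoprime_of_isMaximal (fun e => h (char_eq_of_ker_eq χ ψ e))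

section AlgClosed

variable [IsAlgClosed k] [Module.Finite k A]

/-- every maximal ideal is the kernel of a character -/
theorem exists_char_ker_eq (m : Ideal A) [hm : m.IsMaximal] :
    ∃ χ : A →ₐ[k] k, RingHom.ker χ = m := by
  letI : Field (A ⧸ m) := Ideal.Quotient.field m
  haveI : Module.Finite k (A ⧸ m) :=
    Module.Finite.of_surjective (Ideal.Quotient.mkₐ k m).toLinearMap
      (Ideal.Quotient.mkₐ_surjective k m)
  haveI : Algebra.IsIntegral k (A ⧸ m) := Algebra.IsIntegral.of_finite k (A ⧸ m)
  have hbij : Function.Bijective (algebraMap k (A ⧸ m)) :=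
    IsAlgClosed.algebraMap_bijective_of_isIntegral
  let e : k ≃ₐ[k] (A ⧸ m) := AlgEquiv.ofBijective (Algebra.ofId k (A ⧸ m)) hbij
  refine ⟨(e.symm : (A ⧸ m) →ₐ[k] k).comp (Ideal.Quotient.mkₐ k m), ?_⟩
  ext a
  rw [RingHom.mem_ker]
  change e.symm (Ideal.Quotient.mk m a) = 0 ↔ a ∈ m
  rw [map_eq_zero_iff _ e.symm.injective, Ideal.Quotient.eq_zero_iff_mem]

/-- the set of characters is finite -/
theorem finite_char : Finite (A →ₐ[k] k) := by
  haveI : IsArtinianRing A := IsArtinianRing.of_finite k A
  let f : (A →ₐ[k] k) → MaximalSpectrum A := fun χ => ⟨RingHom.ker χ, ker_char_isMaximal k A χ⟩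
  have hf : Function.Injective f := by
    intro χ ψ h
    exact char_eq_of_ker_eq χ ψ (congrArg MaximalSpectrum.asIdeal h)
  exact Finite.of_injective f hf

/-- the intersection of the kernels of all characters is the nilradical -/
theorem iInf_ker_char_eq_nilradical :
    (⨅ χ : A →ₐ[k] k, RingHom.ker χ) = nilradical A := by
  haveI : IsArtinianRing A := IsArtinianRing.of_finite k A
  rw [IsArtinianRing.nilradical_eq_iInf]
  apply le_antisymm
  · refine le_iInf fun m => ?_
    haveI := m.isMaximal
    obtain ⟨χ, hχ⟩ := exists_char_ker_eq k A m.asIdeal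
    exact (iInf_le _ χ).trans hχ.le
  · refine le_iInf fun χ => ?_
    exact iInf_le MaximalSpectrum.asIdeal ⟨RingHom.ker χ, ker_char_isMaximal k A χ⟩

/-- the kernel of the evaluation map is the nilradical -/
theorem ker_pi_char_eq_nilradical :
    RingHom.ker (AlgHom.pi (R := k) (fun f : A →ₐ[k] k => f)) = nilradical A := by
  rw [← iInf_ker_char_eq_nilradical k A]
  ext a
  simp only [RingHom.mem_ker, Ideal.mem_iInf]
  constructor
  · intro h χ
    exact congrFun h χ
  · intro h
    funext χ
    exact h χ

/-- the evaluation map is surjective -/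
theorem pi_char_surjective :
    Function.Surjective (AlgHom.pi (R := k) (fun f : A →ₐ[k] k => f)) := by
  haveI := finite_char k A
  intro φ
  have hcop : Pairwise (Function.onFun IsCoprime (fun χ : A →ₐ[k] k => RingHom.ker χ)) :=
    fun χ ψ h => ker_char_isCoprime χ ψ h
  obtain ⟨r, hr⟩ := Ideal.exists_forall_sub_mem_ideal hcop (fun χ => algebraMap k A (φ χ))
  refine ⟨r, ?_⟩
  funext χ
  have := hr χ
  rw [RingHom.mem_ker, map_sub, AlgHom.commutes] at this
  have h2 : χ r = φ χ := by simpa [sub_eq_zero] using this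
  exact h2

end AlgClosed

end Groth.Agent.H86
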