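import Groth.Agent.H86.FinAlg
import Mathlib.RingTheory.Idempotents
import Mathlib.RingTheory.Ideal.Quotient.Nilpotent

/-!
More on finite-dimensional commutative algebras over an algebraically closed field:
reduced ones are spanned by idempotents.
-/

set_option autoImplicit false
universe u v

namespace Groth.Agent.H86

/-- a reduced finite algebra over an algebraically closed field is spanned by idempotents -/
theorem mem_span_idempotents_of_isReduced (k : Type u) [Field k] [IsAlgClosed k]
    (C : Type v) [CommRing C] [Algebra k C] [Module.Finite k C] [IsReduced C] (c : C) :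
    c ∈ Submodule.span k {e : C | IsIdempotentElem e} := by
  classical
  haveI := finite_char k C
  haveI : Fintype (C →ₐ[k] k) := Fintype.ofFinite _
  have hker := ker_pi_char_eq_nilradical k C
  rw [nilradical_eq_zero] at hker
  have hevinj : Function.Injective (AlgHom.pi (R := k) (fun f : C →ₐ[k] k => f)) :=
    (RingHom.injective_iff_ker_eq_bot _).mpr hker
  have hevsurj := pi_char_surjective k C
  choose e he using fun χ : C →ₐ[k] k => hevsurj (Pi.single χ 1)
  have hidem : ∀ χ, e χ * e χ = e χ := by
    intro χ
    apply hevinj
    rw [map_mul, he]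
    funext ψ
    by_cases h : ψ = χ
    · subst h; simp
    · simp [Pi.single_eq_of_ne h]
  have hsum : c = ∑ χ : C →ₐ[k] k, χ c • e χ := by
    apply hevinj
    rw [map_sum]
    funext ψ
    rw [Finset.sum_apply]
    simp only [map_smul, he]
    change ψ c = ∑ χ : C →ₐ[k] k, (χ c • (Pi.single χ (1 : k) : (C →ₐ[k] k) → k)) ψ
    simp only [Pi.smul_apply, smul_eq_mul]
    rw [Finset.sum_eq_single ψ]
    · simp
    · intro χ _ hne
      rw [Pi.single_eq_of_ne (Ne.symm hne), mul_zero]
    · intro h; exact absurd (Finset.mem_univ ψ) h
  rw [hsum]
  exact Submodule.sum_mem _ fun χ _ => Submodule.smul_mem _ _ (Submodule.subset_span (hidem χ))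

/-- the quotient by the nilradical is reduced -/
theorem isReduced_quotient_nilradical (A : Type v) [CommRing A] : IsReduced (A ⧸ nilradical A) :=
  (Ideal.isRadical_iff_quotient_reduced _).mp (Ideal.radical_isRadical ⊥)

end Groth.Agent.H86
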