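import Mathlib

set_option autoImplicit false
universe u
open Module

namespace Groth.Agent.H86.FinOrdLattice

theorem exists_conj {R : Type u} [CommRing R] [IsDomain R] [IsPrincipalIdealRing R]
    {K : Type u} [Field K] [Algebra R K] [IsFractionRing R K] (N : ℕ)
    (g : Matrix.GeneralLinearGroup (Fin N) K) (hg : IsOfFinOrder g) :
    ∃ (h : Matrix.GeneralLinearGroup (Fin N) K) (g' : Matrix.GeneralLinearGroup (Fin N) R),
      h * g * h⁻¹ = Matrix.GeneralLinearGroup.map (algebraMap R K) g' := by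
  classical
  obtain ⟨m, hm0, hgm⟩ : ∃ m : ℕ, 0 < m ∧ g ^ m = 1 :=
    ⟨orderOf g, hg.orderOf_pos, pow_orderOf_eq_one g⟩
  have hinj : Function.Injective (algebraMap R K) := IsFractionRing.injective R K
  obtain ⟨gen, hgen⟩ : ∃ gen : Fin m × Fin N → (Fin N → K),
      ∀ p, gen p = (g ^ (p.1 : ℕ)).val.mulVec (Pi.single p.2 1) :=
    ⟨fun p => (g ^ (p.1 : ℕ)).val.mulVec (Pi.single p.2 1), fun p => rfl⟩
  obtain ⟨L, hL⟩ : ∃ L : Submodule R (Fin N → K), L = Submodule.span R (Set.range gen) :=
    ⟨_, rfl⟩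
  have hgL : ∀ v ∈ L, g.val.mulVec v ∈ L := by
    intro v hv
    rw [hL] at hv ⊢
    induction hv using Submodule.span_induction with
    | mem x hx =>
      obtain ⟨⟨i, j⟩, rfl⟩ := hx
      have h1 : g.val.mulVec (gen (i, j)) =
          (g ^ ((i : ℕ) + 1)).val.mulVec (Pi.single j 1) := by
        rw [hgen, Matrix.mulVec_mulVec, pow_succ', Units.val_mul]
      rw [h1]
      by_cases hi : (i : ℕ) + 1 < m
      · refine Submodule.subset_span ⟨(⟨(i : ℕ) + 1, hi⟩, j), ?_⟩
        rw [hgen]
      · have him : (i : ℕ) + 1 = m := by have := i.2; omega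
        rw [him, hgm]
        refine Submodule.subset_span ⟨(⟨0, hm0⟩, j), ?_⟩
        rw [hgen]
        show (g ^ 0).val.mulVec _ = _
        rw [pow_zero]
    | zero => rw [Matrix.mulVec_zero]; exact Submodule.zero_mem _
    | add x y _ _ hx hy => rw [Matrix.mulVec_add]; exact Submodule.add_mem _ hx hy
    | smul c x _ hx => rw [Matrix.mulVec_smul]; exact Submodule.smul_mem _ c hx
  have he : ∀ j : Fin N, (Pi.single j 1 : Fin N → K) ∈ L := by
    intro j
    rw [hL]
    refine Submodule.subset_span ⟨(⟨0, hm0⟩, j), ?_⟩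
    rw [hgen]
    show (g ^ 0).val.mulVec _ = _
    rw [pow_zero, Units.val_one, Matrix.one_mulVec]
  haveI : Module.Finite R L := by
    rw [hL]; exact Module.Finite.span_of_finite R (Set.finite_range gen)
  haveI : Module.IsTorsionFree R L := by
    apply Module.IsTorsionFree.of_smul_eq_zero
    intro c x hcx
    by_cases hc : c = 0
    · exact Or.inl hc
    · right
      apply Subtype.ext
      funext a
      have h1 : c • (x : Fin N → K) a = 0 := congrFun (congrArg Subtype.val hcx) a
      rw [Algebra.smul_def] at h1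
      rcases mul_eq_zero.mp h1 with h3 | h3
      · exact absurd (hinj (by rw [h3, map_zero])) hc
      · exact h3
  haveI : Module.Free R L := inferInstance
  obtain ⟨r, ⟨b⟩⟩ : ∃ r : ℕ, Nonempty (Basis (Fin r) R L) := ⟨_, ⟨Module.finBasis R L⟩⟩
  obtain ⟨bK, hbK⟩ : ∃ bK : Fin r → (Fin N → K), ∀ i, bK i = (b i : Fin N → K) :=
    ⟨fun i => (b i : Fin N → K), fun i => rfl⟩
  have hliR : LinearIndependent R bK := by
    have h0 := b.linearIndependent.map' L.subtype (Submodule.ker_subtype L)
    have hfun : bK = ⇑L.subtype ∘ ⇑b := funext hbK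
    rw [hfun]
    exact h0
  have hliK : LinearIndependent K bK := (LinearIndependent.iff_fractionRing R K).mp hliR
  have hsum : ∀ w : L, (w : Fin N → K) = ∑ i, (b.repr w i) • bK i := by
    intro w
    conv_lhs => rw [← b.sum_repr w]
    rw [Submodule.coe_sum]
    exact Finset.sum_congr rfl (fun i _ => by rw [Submodule.coe_smul, hbK])
  have hLspan : ∀ v (hv : v ∈ L), v ∈ Submodule.span K (Set.range bK) := by
    intro v hv
    have h2 := hsum ⟨v, hv⟩
    rw [show ((⟨v, hv⟩ : L) : Fin N → K) = v from rfl] at h2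
    rw [h2]
    refine Submodule.sum_mem _ (fun i _ => ?_)
    rw [← algebraMap_smul K (b.repr ⟨v, hv⟩ i) (bK i)]
    exact Submodule.smul_mem _ _ (Submodule.subset_span ⟨i, rfl⟩)
  have hspan : ⊤ ≤ Submodule.span K (Set.range bK) := by
    rw [← (Pi.basisFun K (Fin N)).span_eq]
    apply Submodule.span_le.mpr
    rintro _ ⟨j, rfl⟩
    rw [Pi.basisFun_apply]
    exact hLspan _ (he j)
  have hrN : N = r := by
    have h0 := Module.finrank_eq_card_basis (Basis.mk hliK hspan)
    rwa [Module.finrank_fin_fun, Fintype.card_fin] at h0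
  subst hrN
  obtain ⟨P, hP⟩ : ∃ P : Matrix (Fin N) (Fin N) K, ∀ a j, P a j = bK j a :=
    ⟨Matrix.of fun a j => bK j a, fun a j => rfl⟩
  have hPunit : IsUnit P := by
    rw [← Matrix.linearIndependent_cols_iff_isUnit]
    convert hliK using 1
    funext j a
    exact hP a j
  have hgb : ∀ j, g.val.mulVec (bK j) ∈ L := fun j => hgL _ (by rw [hbK]; exact (b j).2)
  obtain ⟨G', hG'⟩ : ∃ G' : Matrix (Fin N) (Fin N) R,
      ∀ i j, G' i j = b.repr ⟨g.val.mulVec (bK j), hgb j⟩ i :=
    ⟨Matrix.of fun i j => b.repr ⟨g.val.mulVec (bK j), hgb j⟩ i, fun i j => rfl⟩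
  have key : g.val * P = P * G'.map (algebraMap R K) := by
    ext a j
    rw [Matrix.mul_apply, Matrix.mul_apply]
    have h1 := congrFun (hsum ⟨g.val.mulVec (bK j), hgb j⟩) a
    rw [Finset.sum_apply] at h1
    calc ∑ c, g.val a c * P c j = (g.val.mulVec (bK j)) a := by
          simp only [Matrix.mulVec, dotProduct, hP]
      _ = ∑ i, ((b.repr ⟨g.val.mulVec (bK j), hgb j⟩ i) • bK i) a := h1
      _ = ∑ i, P a i * (G'.map (algebraMap R K)) i j := by
          refine Finset.sum_congr rfl (fun i _ => ?_)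
          rw [Matrix.map_apply, hG', hP, Pi.smul_apply, Algebra.smul_def, mul_comm]
  obtain ⟨Pu, hPu⟩ := hPunit
  have hγ : ((Pu⁻¹ * g * Pu : Matrix.GeneralLinearGroup (Fin N) K) :
      Matrix (Fin N) (Fin N) K) = G'.map (algebraMap R K) := by
    rw [Units.val_mul, Units.val_mul, mul_assoc, hPu, key, ← hPu, ← mul_assoc, ← Units.val_mul,
      inv_mul_cancel, Units.val_one, one_mul]
  have hG'pow : G' ^ m = 1 := by
    have hι : Function.Injective ((algebraMap R K).mapMatrix :
        Matrix (Fin N) (Fin N) R →+* Matrix (Fin N) (Fin N) K) := by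
      intro X Y hXY
      ext i j
      have h0 := congrFun (congrFun hXY i) j
      exact hinj h0
    apply hι
    rw [map_pow, map_one]
    have h1 : (algebraMap R K).mapMatrix G' =
        ((Pu⁻¹ * g * Pu : Matrix.GeneralLinearGroup (Fin N) K) :
          Matrix (Fin N) (Fin N) K) := hγ.symm
    rw [h1, ← Units.val_pow_eq_pow_val]
    have h2 : (Pu⁻¹ * g * Pu) ^ m = 1 := by
      have h3 := conj_pow (a := Pu⁻¹) (b := g) (i := m)
      rw [inv_inv] at h3
      rw [h3, hgm, mul_one, inv_mul_cancel]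
    rw [h2, Units.val_one]
  have hG'unit : IsUnit G' := IsUnit.of_pow_eq_one hG'pow hm0.ne'
  refine ⟨Pu⁻¹, hG'unit.unit, ?_⟩
  apply Units.ext
  rw [inv_inv, hγ]
  rfl

end Groth.Agent.H86.FinOrdLattice
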