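import Mathlib.FieldTheory.IsAlgClosed.Basic
import Mathlib.FieldTheory.Separable
import Mathlib.FieldTheory.Finite.Basic
import Mathlib.LinearAlgebra.FiniteDimensional.Lemmas
import Mathlib.LinearAlgebra.LinearIndependent.Lemmas
import Mathlib.Algebra.CharP.Lemmas
import Mathlib.Algebra.Polynomial.Splits
import Mathlib.Tactic.Ring
import Mathlib.Tactic.Linarith

/-!
# Frobenius-semilinear maps on finite-dimensional spaces over an algebraically closed field

`φ : V →+ V` with `φ (a • v) = a ^ q • φ v`, `q = p ^ ν`, `ν ≥ 1`, `char k = p`.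
-/

namespace Groth.Agent.H86.FrobSL

open Polynomial

universe u v

section Basic

variable {k : Type u} [Field k] {V : Type v} [AddCommGroup V] [Module k V]

lemma iterate_smul {q : ℕ} (φ : V →+ V) (hφ : ∀ (a : k) (v : V), φ (a • v) = a ^ q • φ v)
    (n : ℕ) (a : k) (v : V) : (⇑φ)^[n] (a • v) = a ^ (q ^ n) • (⇑φ)^[n] v := by
  induction n generalizing a v with
  | zero => simp
  | succ n ih =>
    rw [Function.iterate_succ_apply', Function.iterate_succ_apply', ih, hφ, ← pow_mul, pow_succ]

lemma map_sum_smul {q : ℕ} (φ : V →+ V) (hφ : ∀ (a : k) (v : V), φ (a • v) = a ^ q • φ v)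
    {ι : Type*} (s : Finset ι) (c : ι → k) (u : ι → V) :
    φ (∑ i ∈ s, c i • u i) = ∑ i ∈ s, (c i) ^ q • φ (u i) := by
  rw [map_sum]
  exact Finset.sum_congr rfl fun i _ => hφ _ _

lemma iterate_zero (φ : V →+ V) (n : ℕ) : (⇑φ)^[n] 0 = 0 := by
  induction n with
  | zero => rfl
  | succ n ih => rw [Function.iterate_succ_apply', ih, map_zero]

lemma iterate_add (φ : V →+ V) (n : ℕ) (x y : V) : (⇑φ)^[n] (x + y) = (⇑φ)^[n] x + (⇑φ)^[n] y := by
  induction n with
  | zero => rfl
  | succ n ih => rw [Function.iterate_succ_apply', ih, map_add, ← Function.iterate_succ_apply' φ,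
      ← Function.iterate_succ_apply' φ]

lemma iterate_sub (φ : V →+ V) (n : ℕ) (x y : V) : (⇑φ)^[n] (x - y) = (⇑φ)^[n] x - (⇑φ)^[n] y := by
  induction n with
  | zero => rfl
  | succ n ih => rw [Function.iterate_succ_apply', ih, map_sub, ← Function.iterate_succ_apply' φ,
      ← Function.iterate_succ_apply' φ]

end Basic

section Poly

variable {k : Type u} [Field k]

/-- The auxiliary polynomials `R 0 = a 0 X`, `R (i+1) = (R i)^q + a (i+1) X`. -/
noncomputable def auxR (q : ℕ) (a : ℕ → k) : ℕ → k[X]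
  | 0 => C (a 0) * X
  | (i + 1) => (auxR q a i) ^ q + C (a (i + 1)) * X

lemma X_dvd_auxR {q : ℕ} (hq : 1 ≤ q) (a : ℕ → k) (i : ℕ) : X ∣ auxR q a i := by
  induction i with
  | zero => exact Dvd.intro_left _ rfl
  | succ i ih =>
    rw [auxR]
    exact dvd_add (dvd_pow ih (by omega)) (Dvd.intro_left _ rfl)

lemma auxR_eq_zero {q : ℕ} (hq : 2 ≤ q) (a : ℕ → k) (i : ℕ) (h : auxR q a i = 0) :
    ∀ j ≤ i, a j = 0 := by
  induction i with
  | zero =>
    intro j hj
    have hj0 : j = 0 := by omega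
    subst hj0
    rw [auxR] at h
    have := congrArg (fun f => coeff f 1) h
    simpa using this
  | succ i ih =>
    have hXq : X ^ q ∣ (auxR q a i) ^ q := pow_dvd_pow_of_dvd (X_dvd_auxR (by omega) a i) q
    have hc1 : ((auxR q a i) ^ q).coeff 1 = 0 := (X_pow_dvd_iff.mp hXq) 1 (by omega)
    rw [auxR] at h
    have h1 := congrArg (fun f => coeff f 1) h
    simp only [coeff_add, hc1, coeff_C_mul, coeff_X_one, mul_one, zero_add, coeff_zero] at h1
    rw [h1, map_zero, zero_mul, add_zero] at h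
    have h2 : auxR q a i = 0 := pow_eq_zero_iff (by omega) |>.mp h
    intro j hj
    rcases Nat.lt_or_ge j (i + 1) with hlt | hge
    · exact ih h2 j (by omega)
    · have : j = i + 1 := by omega
      rw [this]; exact h1

lemma eval_auxR_zero (q : ℕ) (a : ℕ → k) (z : k) : (auxR q a 0).eval z = a 0 * z := by
  simp [auxR]

lemma eval_auxR_succ (q : ℕ) (a : ℕ → k) (i : ℕ) (z : k) :
    (auxR q a (i + 1)).eval z = ((auxR q a i).eval z) ^ q + a (i + 1) * z := by
  simp [auxR]

/-- Key root-existence: if `R ≠ 0` and `X ∣ R`, then `R^q - X` has a nonzero root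
(`k` algebraically closed, `q = 0` in `k`, `q ≥ 2`). -/
lemma exists_root_ne_zero [IsAlgClosed k] {q : ℕ} (hq : 2 ≤ q) (hqk : (q : k) = 0)
    (R : k[X]) (hR : R ≠ 0) (hX : X ∣ R) : ∃ z : k, z ≠ 0 ∧ (R.eval z) ^ q = z := by
  classical
  set G : k[X] := R ^ q - X with hG
  have hRdeg : 1 ≤ R.natDegree := by
    obtain ⟨S, rfl⟩ := hX
    have hS : S ≠ 0 := by rintro rfl; simp at hR
    rw [natDegree_X_mul hS]; omega
  have hdegpow : (R ^ q).natDegree = q * R.natDegree := natDegree_pow R q
  have hlt : (X : k[X]).natDegree < (R ^ q).natDegree := by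
    rw [natDegree_X, hdegpow]; nlinarith
  have hGdeg : G.natDegree = q * R.natDegree := by
    rw [hG, natDegree_sub_eq_left_of_natDegree_lt hlt, hdegpow]
  have hGdeg2 : 2 ≤ G.natDegree := by rw [hGdeg]; nlinarith
  have hder : derivative G = -1 := by
    rw [hG, derivative_sub, derivative_X, derivative_pow, hqk, map_zero, zero_mul, zero_mul,
      zero_sub]
  have hsep : G.Separable := by
    rw [separable_def, hder]
    exact isCoprime_one_right.neg_right
  have hsplit : G.Splits := IsAlgClosed.splits G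
  have hcard : G.roots.card = G.natDegree := hsplit.natDegree_eq_card_roots.symm
  have hnodup : G.roots.Nodup := nodup_roots hsep
  have hfin : 1 < G.roots.toFinset.card := by
    rw [Multiset.toFinset_card_of_nodup hnodup, hcard]; omega
  obtain ⟨z, hz, hz0⟩ := Finset.exists_mem_ne hfin 0
  refine ⟨z, hz0, ?_⟩
  have hG0 : G ≠ 0 := by
    intro h0; rw [h0, derivative_zero] at hder
    exact (by norm_num : (0 : k[X]) ≠ -1) hder
  have := (mem_roots hG0).mp (Multiset.mem_toFinset.mp hz)
  rw [IsRoot, hG, eval_sub, eval_pow, eval_X, sub_eq_zero] at this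
  exact this

end Poly

section FixedVector

variable {k : Type u} [Field k] [IsAlgClosed k] {V : Type v} [AddCommGroup V] [Module k V]

/-- **L1**: an injective `q`-semilinear endomorphism of a nonzero finite-dimensional space over an
algebraically closed field has a nonzero fixed vector. -/
theorem exists_fixed_ne_zero [FiniteDimensional k V] {q : ℕ} (hq : 2 ≤ q) (hqk : (q : k) = 0)
    (φ : V →+ V) (hφ : ∀ (a : k) (v : V), φ (a • v) = a ^ q • φ v)
    (hinj : Function.Injective φ) (v : V) (hv : v ≠ 0) : ∃ w : V, w ≠ 0 ∧ φ w = w := by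
  classical
  -- the minimal dependent length
  let P : ℕ → Prop := fun n => ¬ LinearIndependent k (fun i : Fin (n + 1) => (⇑φ)^[(i : ℕ)] v)
  have hex : ∃ n, P n := by
    refine ⟨Module.finrank k V, fun hli => ?_⟩
    have := hli.fintype_card_le_finrank
    simp at this
  have hP0 : ¬ P 0 := by
    intro h
    apply h
    have : (fun i : Fin 1 => (⇑φ)^[(i : ℕ)] v) = fun _ => v := by
      funext i; fin_cases i; rfl
    rw [this]
    haveI : Subsingleton (Fin (0 + 1)) := (inferInstance : Subsingleton (Fin 1))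
    exact LinearIndependent.of_subsingleton (0 : Fin (0 + 1)) hv
  have hn0 : Nat.find hex ≠ 0 := fun h => hP0 (h ▸ Nat.find_spec hex)
  obtain ⟨m, hm⟩ := Nat.exists_eq_succ_of_ne_zero hn0
  have hind : LinearIndependent k (fun i : Fin (m + 1) => (⇑φ)^[(i : ℕ)] v) := by
    have := Nat.find_min hex (m := m) (by omega)
    exact not_not.mp this
  have hdep : ¬ LinearIndependent k (fun i : Fin (m + 2) => (⇑φ)^[(i : ℕ)] v) := by
    have := Nat.find_spec hex
    rw [hm] at this
    exact this
  have hmem : (⇑φ)^[m + 1] v ∈ Submodule.span k (Set.range fun i : Fin (m + 1) => (⇑φ)^[(i : ℕ)] v) := by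
    by_contra hnot
    apply hdep
    have hinit : Fin.init (fun i : Fin (m + 2) => (⇑φ)^[(i : ℕ)] v) =
        fun i : Fin (m + 1) => (⇑φ)^[(i : ℕ)] v := by
      funext i; simp [Fin.init]
    rw [linearIndependent_finSucc', hinit]
    exact ⟨hind, by simpa using hnot⟩
  obtain ⟨c, hc⟩ := (Submodule.mem_span_range_iff_exists_fun k).mp hmem
  let a : ℕ → k := fun i => if h : i < m + 1 then c ⟨i, h⟩ else 0
  have hsum : ∑ i ∈ Finset.range (m + 1), a i • (⇑φ)^[i] v = (⇑φ)^[m + 1] v := by
    rw [← hc, ← Fin.sum_univ_eq_sum_range (fun i => a i • (⇑φ)^[i] v) (m + 1)]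
    refine Finset.sum_congr rfl fun i _ => ?_
    show (if h : (i : ℕ) < m + 1 then c ⟨i, h⟩ else 0) • _ = c i • _
    rw [dif_pos i.2]
  -- `R m ≠ 0`
  have hRm : auxR q a m ≠ 0 := by
    intro h0
    have ha := auxR_eq_zero hq a m h0
    have : (⇑φ)^[m + 1] v = 0 := by
      rw [← hsum]
      refine Finset.sum_eq_zero fun i hi => ?_
      rw [ha i (by have := Finset.mem_range.mp hi; omega), zero_smul]
    have hinj' := hinj.iterate (m + 1)
    exact hv (hinj' (this.trans (iterate_zero φ (m + 1)).symm))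
  obtain ⟨z, hz0, hz⟩ := exists_root_ne_zero hq hqk (auxR q a m) hRm (X_dvd_auxR (by omega) a m)
  let x : ℕ → k := fun i => (auxR q a i).eval z
  have hx0 : x 0 = a 0 * z := eval_auxR_zero q a z
  have hxs : ∀ i, x (i + 1) = (x i) ^ q + a (i + 1) * z := fun i => eval_auxR_succ q a i z
  have hxm : (x m) ^ q = z := hz
  refine ⟨∑ i ∈ Finset.range (m + 1), x i • (⇑φ)^[i] v, ?_, ?_⟩
  · intro hw0
    have h1 : ∑ i : Fin (m + 1), x i • (⇑φ)^[(i : ℕ)] v = 0 := by
      rw [Fin.sum_univ_eq_sum_range (fun i => x i • (⇑φ)^[i] v) (m + 1)]; exact hw0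
    have h2 := Fintype.linearIndependent_iff.mp hind (fun i => x i) h1 ⟨m, by omega⟩
    apply hz0
    rw [← hxm]
    have h3 : x m = 0 := h2
    rw [h3, zero_pow (by omega)]
  · rw [map_sum_smul φ hφ]
    have e1 : ∑ i ∈ Finset.range (m + 1), (x i) ^ q • φ ((⇑φ)^[i] v) =
        ∑ i ∈ Finset.range m, (x i) ^ q • (⇑φ)^[i + 1] v + z • ∑ i ∈ Finset.range (m + 1), a i • (⇑φ)^[i] v := by
      rw [Finset.sum_range_succ, hxm, hsum, Function.iterate_succ_apply']
      congr 1
      refine Finset.sum_congr rfl fun i _ => ?_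
      rw [Function.iterate_succ_apply']
    have e2 : ∑ i ∈ Finset.range (m + 1), x i • (⇑φ)^[i] v =
        ∑ i ∈ Finset.range m, (x i) ^ q • (⇑φ)^[i + 1] v + z • ∑ i ∈ Finset.range (m + 1), a i • (⇑φ)^[i] v := by
      rw [Finset.sum_range_succ' (fun i => x i • (⇑φ)^[i] v), Finset.sum_range_succ' (fun i => a i • (⇑φ)^[i] v),
        smul_add, Finset.smul_sum, hx0, ← add_assoc, ← Finset.sum_add_distrib]
      congr 1
      · refine Finset.sum_congr rfl fun i _ => ?_
        rw [hxs, add_smul, smul_smul, mul_comm z]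
      · rw [smul_smul, mul_comm z]
    rw [e1, e2]

end FixedVector

end Groth.Agent.H86.FrobSL
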