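import Groth.Agent.H86.FrobSL2

/-!
# Frobenius-semilinear maps, part 3: identification of the semisimple part, surjectivity of `φ - 1`,
independence of fixed vectors.
-/

namespace Groth.Agent.H86.FrobSL

open Polynomial

universe u v

variable {k : Type u} [Field k] [IsAlgClosed k] {V : Type v} [AddCommGroup V] [Module k V]

section Semisimple

variable {q : ℕ} (φ : V →+ V) (hφ : ∀ (a : k) (v : V), φ (a • v) = a ^ q • φ v)

include hφ in
/-- The span of the fixed vectors is the stable range. -/
theorem span_fixed_eq_rangeIter [FiniteDimensional k V] (hq : 2 ≤ q) (hqk : (q : k) = 0) {M : ℕ}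
    (hk : ∀ m, M ≤ m → kerIter φ hφ M = kerIter φ hφ m)
    (hr : ∀ m, M ≤ m → rangeIter φ hφ (by omega : 0 < q) M = rangeIter φ hφ (by omega : 0 < q) m) :
    Submodule.span k {v : V | φ v = v} = rangeIter φ hφ (by omega : 0 < q) M := by
  classical
  have hq0 : 0 < q := by omega
  set I := rangeIter φ hφ hq0 M with hI
  have hcompl := isCompl_of_stable φ hφ hq0 hk hr
  apply le_antisymm
  · rw [Submodule.span_le]
    intro v hv
    have hv' : φ v = v := hv
    exact ⟨v, Function.iterate_fixed hv' M⟩
  · -- restricted map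
    have hmaps : ∀ x ∈ I, φ x ∈ I := by
      rintro _ ⟨y, rfl⟩
      exact ⟨φ y, by rw [← Function.iterate_succ_apply, Function.iterate_succ_apply']⟩
    let φI : ↥I →+ ↥I :=
      { toFun := fun x => ⟨φ x, hmaps _ x.2⟩
        map_zero' := by apply Subtype.ext; simp
        map_add' := fun x y => by apply Subtype.ext; simp }
    have hφI : ∀ (a : k) (x : ↥I), φI (a • x) = a ^ q • φI x := by
      intro a x; apply Subtype.ext
      show φ ((a • x : ↥I) : V) = a ^ q • φ (x : V)
      rw [Submodule.coe_smul, hφ]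
    have hinj : Function.Injective φI := by
      rw [injective_iff_map_eq_zero]
      intro x hx
      have h0 : φ (x : V) = 0 := congrArg Subtype.val hx
      have h1 : (x : V) ∈ kerIter φ hφ 1 := by rw [mem_kerIter]; exact h0
      have h2 : (x : V) ∈ kerIter φ hφ M := by
        rw [hk (M + 1) (by omega)]
        exact kerIter_mono φ hφ (by omega : 1 ≤ M + 1) h1
      have h3 : (x : V) ∈ I ⊓ kerIter φ hφ M := ⟨x.2, h2⟩
      rw [hcompl.inf_eq_bot] at h3
      exact Subtype.ext ((Submodule.mem_bot k).mp h3)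
    have htop := span_fixed_eq_top φI hφI hq hqk hinj
    intro x hx
    have hx' : (⟨x, hx⟩ : ↥I) ∈ Submodule.span k {w : ↥I | φI w = w} := by rw [htop]; trivial
    have := Submodule.mem_map_of_mem (f := I.subtype) hx'
    rw [Submodule.map_span] at this
    refine Submodule.span_mono ?_ this
    rintro _ ⟨w, hw, rfl⟩
    exact congrArg Subtype.val (hw : φI w = w)

include hφ in
/-- **L4**: `φ - 1` is onto. -/
theorem sub_id_surjective [FiniteDimensional k V] (hq : 2 ≤ q) (hqk : (q : k) = 0) (v : V) :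
    ∃ u : V, φ u - u = v := by
  have hq0 : 0 < q := by omega
  obtain ⟨M, hk, hr⟩ := exists_stable φ hφ hq0
  have hcompl := isCompl_of_stable φ hφ hq0 hk hr
  have hv : v ∈ rangeIter φ hφ hq0 M ⊔ kerIter φ hφ M := by rw [hcompl.sup_eq_top]; trivial
  obtain ⟨x, hx, n, hn, rfl⟩ := Submodule.mem_sup.mp hv
  rw [← span_fixed_eq_rangeIter φ hφ hq hqk hk hr] at hx
  obtain ⟨u₁, -, hu₁⟩ := span_fixed_AS φ hφ hq x hx 1
  rw [one_smul] at hu₁
  refine ⟨u₁ + -(∑ i ∈ Finset.range M, (⇑φ)^[i] n), ?_⟩
  have hn' : (⇑φ)^[M] n = 0 := hn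
  have htel : φ (∑ i ∈ Finset.range M, (⇑φ)^[i] n) - ∑ i ∈ Finset.range M, (⇑φ)^[i] n = -n := by
    rw [map_sum, ← Finset.sum_sub_distrib]
    have : ∀ i ∈ Finset.range M, φ ((⇑φ)^[i] n) - (⇑φ)^[i] n = (⇑φ)^[i + 1] n - (⇑φ)^[i] n := by
      intro i _; rw [Function.iterate_succ_apply']
    rw [Finset.sum_congr rfl this, Finset.sum_range_sub (fun i => (⇑φ)^[i] n), hn']
    simp
  rw [map_add, map_neg]
  have : φ u₁ + -φ (∑ i ∈ Finset.range M, (⇑φ)^[i] n) - (u₁ + -(∑ i ∈ Finset.range M, (⇑φ)^[i] n)) =
      (φ u₁ - u₁) - (φ (∑ i ∈ Finset.range M, (⇑φ)^[i] n) - ∑ i ∈ Finset.range M, (⇑φ)^[i] n) := by abel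
  rw [this, hu₁, htel, sub_neg_eq_add]

end Semisimple

section Indep

variable (p : ℕ) [Fact p.Prime] [CharP k p]

omit [IsAlgClosed k] in
/-- **L5**: fixed vectors of a `p`-semilinear map that are independent over the prime field
are independent over `k`. -/
theorem linearIndependent_of_fixed {ι : Type*} [Fintype ι] (φ : V →+ V)
    (hφ : ∀ (a : k) (v : V), φ (a • v) = a ^ p • φ v) (w : ι → V) (hw : ∀ i, φ (w i) = w i)
    (H : ∀ c : ι → ℤ, (∑ i, c i • w i) = 0 → ∀ i, (p : ℤ) ∣ c i) :
    LinearIndependent k w := by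
  classical
  have key : ∀ (n : ℕ) (t : Finset ι) (g : ι → k), t.card = n → ∑ i ∈ t, g i • w i = 0 →
      ∀ i ∈ t, g i = 0 := by
    intro n
    induction n using Nat.strong_induction_on with
    | _ n ih =>
      intro t g ht hsum
      by_contra hcon
      push Not at hcon
      obtain ⟨i₀, hi₀t, hi₀⟩ := hcon
      set g' : ι → k := fun i => g i / g i₀ with hg'
      have hsum' : ∑ i ∈ t, g' i • w i = 0 := by
        have : ∑ i ∈ t, g' i • w i = (g i₀)⁻¹ • ∑ i ∈ t, g i • w i := by
          rw [Finset.smul_sum]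
          refine Finset.sum_congr rfl fun i _ => ?_
          rw [smul_smul]
          show (g i / g i₀) • w i = _
          rw [div_eq_inv_mul]
        rw [this, hsum, smul_zero]
      have hg'i₀ : g' i₀ = 1 := div_self hi₀
      have hφsum : ∑ i ∈ t, (g' i) ^ p • w i = 0 := by
        have := congrArg φ hsum'
        rw [map_sum_smul φ hφ, map_zero] at this
        rw [← this]
        exact Finset.sum_congr rfl fun i _ => by rw [hw i]
      have hdiff : ∑ i ∈ t.erase i₀, ((g' i) ^ p - g' i) • w i = 0 := by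
        have h1 : ∑ i ∈ t, ((g' i) ^ p - g' i) • w i = 0 := by
          simp only [sub_smul, Finset.sum_sub_distrib, hφsum, hsum', sub_self]
        rw [← Finset.add_sum_erase t _ hi₀t, hg'i₀, one_pow, sub_self, zero_smul, zero_add] at h1
        exact h1
      have hcard : (t.erase i₀).card < n := by
        rw [Finset.card_erase_of_mem hi₀t, ht]
        have : 0 < t.card := Finset.card_pos.mpr ⟨i₀, hi₀t⟩
        omega
      have hall := ih _ hcard (t.erase i₀) (fun i => (g' i) ^ p - g' i) rfl hdiff
      have hfp : ∀ i ∈ t, (g' i) ^ p = g' i := by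
        intro i hi
        by_cases h : i = i₀
        · rw [h, hg'i₀, one_pow]
        · exact sub_eq_zero.mp (hall i (Finset.mem_erase.mpr ⟨h, hi⟩))
      have hint : ∀ i ∈ t, ∃ m : ℤ, (m : k) = g' i := by
        intro i hi
        exact (mem_bot_iff_intCast p k).mp ((Subfield.mem_bot_iff_pow_eq_self k p).mpr (hfp i hi))
      choose! c hc using hint
      let c' : ι → ℤ := fun i => if i ∈ t then c i else 0
      have hzero : ∑ i, c' i • w i = 0 := by
        rw [← hsum', ← Finset.sum_subset (Finset.subset_univ t)]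
        · refine Finset.sum_congr rfl fun i hi => ?_
          simp only [c', if_pos hi]
          rw [← hc i hi, Int.cast_smul_eq_zsmul]
        · intro i _ hi
          simp only [c', if_neg hi, zero_smul]
      have hdvd := H c' hzero i₀
      simp only [c', if_pos hi₀t] at hdvd
      have : ((c i₀ : ℤ) : k) = 0 := (CharP.intCast_eq_zero_iff k p _).mpr hdvd
      rw [hc i₀ hi₀t, hg'i₀] at this
      exact one_ne_zero this
  rw [linearIndependent_iff']
  intro t g hsum i hi
  exact key t.card t g rfl hsum i hi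

end Indep

end Groth.Agent.H86.FrobSL
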