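import Groth.Agent.H86.FrobSL3
import Mathlib.FieldTheory.Finite.Basic
import Mathlib.FieldTheory.Perfect
import Mathlib.FieldTheory.IsSepClosed
import Mathlib.LinearAlgebra.Dimension.OrzechProperty
import Mathlib.RingTheory.Nakayama
import Mathlib.RingTheory.LocalRing.MaximalIdeal.Basic
import Mathlib.RingTheory.LocalRing.ResidueField.Basic
import Mathlib.Algebra.Module.Torsion.Basic
import Mathlib.Algebra.CharP.Basic
import Mathlib.Algebra.Algebra.ZMod
import Mathlib.LinearAlgebra.TensorProduct.Quotient
import Mathlib.LinearAlgebra.TensorProduct.Tower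
import Mathlib.RingTheory.LocalRing.Module

/-!
# Frobenius-semilinear maps, part 4: counting fixed points; surjective semilinear maps;
reduction from local rings to the residue field.
-/

namespace Groth.Agent.H86.FrobSL

universe u v

section General

variable {k : Type u} [Field k] {V : Type v} [AddCommGroup V] [Module k V]

/-- A surjective `q`-semilinear endomorphism of a nonzero finite-dimensional space forces the
ground field to have all `q`-th roots, and is injective. -/
theorem perfect_and_injective_of_surjective {q : ℕ} (φ : V →+ V)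
    (hφ : ∀ (a : k) (v : V), φ (a • v) = a ^ q • φ v) [FiniteDimensional k V] [Nontrivial V]
    (hq : 0 < q) (hsurj : Function.Surjective φ) :
    (∀ c : k, ∃ d : k, d ^ q = c) ∧ Function.Injective φ := by
  classical
  let b := Module.finBasis k V
  have hnpos : 0 < Module.finrank k V := Module.finrank_pos
  let w : Fin (Module.finrank k V) → V := fun i => φ (b i)
  have hφsum : ∀ u : V, φ u = ∑ i, (b.repr u i) ^ q • w i := by
    intro u
    conv_lhs => rw [← b.sum_repr u]
    exact map_sum_smul φ hφ _ _ _
  have hspan : ⊤ ≤ Submodule.span k (Set.range w) := by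
    intro v _
    obtain ⟨u, rfl⟩ := hsurj v
    rw [hφsum]
    exact Submodule.sum_mem _ fun i _ =>
      Submodule.smul_mem _ _ (Submodule.subset_span ⟨i, rfl⟩)
  have hli : LinearIndependent k w :=
    linearIndependent_of_top_le_span_of_card_eq_finrank hspan (Fintype.card_fin _)
  refine ⟨fun c => ?_, ?_⟩
  · let i0 : Fin (Module.finrank k V) := ⟨0, hnpos⟩
    obtain ⟨u, hu⟩ := hsurj (c • w i0)
    have hsum : ∑ i, (Pi.single i0 c : Fin (Module.finrank k V) → k) i • w i = c • w i0 := by
      rw [Finset.sum_eq_single i0]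
      · rw [Pi.single_eq_same]
      · intro j _ hj; rw [Pi.single_eq_of_ne hj, zero_smul]
      · intro h; exact absurd (Finset.mem_univ _) h
    have := hli.eq_coords_of_eq (f := fun i => (b.repr u i) ^ q)
      (g := (Pi.single i0 c : Fin (Module.finrank k V) → k))
      (by rw [hsum, ← hu]; exact (hφsum u).symm) i0
    exact ⟨b.repr u i0, by rw [this, Pi.single_eq_same]⟩
  · rw [injective_iff_map_eq_zero]
    intro u hu
    have h0 : ∑ i, (b.repr u i) ^ q • w i = ∑ i, (0 : k) • w i := by
      rw [← hφsum, hu]; simp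
    have hc : ∀ i, b.repr u i = 0 := fun i => by
      have := hli.eq_coords_of_eq (f := fun i => (b.repr u i) ^ q) (g := fun _ => (0 : k)) h0 i
      exact pow_eq_zero_iff hq.ne' |>.mp this
    rw [← b.sum_repr u]
    exact Finset.sum_eq_zero fun i _ => by rw [hc i, zero_smul]

/-- The number of fixed vectors of an injective `p`-semilinear map is `p ^ dim`. -/
theorem card_fixed (p : ℕ) [Fact p.Prime] [CharP k p] [IsAlgClosed k] [FiniteDimensional k V]
    (φ : V →+ V) (hφ : ∀ (a : k) (v : V), φ (a • v) = a ^ p • φ v)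
    (hinj : Function.Injective φ) :
    Nat.card {v : V // φ v = v} = p ^ Module.finrank k V := by
  classical
  have hp : p.Prime := Fact.out
  obtain ⟨bs, B, hBi, hBfix⟩ :=
    exists_basis_fixed φ hφ hp.two_le (CharP.cast_eq_zero k p) hinj
  haveI : Fintype bs := FiniteDimensional.fintypeBasisIndex B
  letI : Algebra (ZMod p) k := ZMod.algebra k p
  have hli : LinearIndependent k (fun i : bs => (i : V)) := by
    have : (fun i : bs => (i : V)) = ⇑B := funext fun i => (hBi i).symm
    rw [this]; exact B.linearIndependent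
  let Φ : (bs → ZMod p) → {v : V // φ v = v} := fun c =>
    ⟨∑ i, algebraMap (ZMod p) k (c i) • (i : V), by
      rw [map_sum_smul φ hφ]
      refine Finset.sum_congr rfl fun i _ => ?_
      rw [hBfix i, ← map_pow, ZMod.pow_card]⟩
  have hΦinj : Function.Injective Φ := by
    intro c c' h
    have h' : ∑ i, algebraMap (ZMod p) k (c i) • (i : V) =
        ∑ i, algebraMap (ZMod p) k (c' i) • (i : V) := congrArg Subtype.val h
    funext i
    exact (algebraMap (ZMod p) k).injective
      (hli.eq_coords_of_eq (f := fun i => algebraMap (ZMod p) k (c i))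
        (g := fun i => algebraMap (ZMod p) k (c' i)) h' i)
  have hΦsurj : Function.Surjective Φ := by
    rintro ⟨v, hv⟩
    have hrepr : v = ∑ i, B.repr v i • (i : V) := by
      conv_lhs => rw [← B.sum_repr v]
      exact Finset.sum_congr rfl fun i _ => by rw [hBi]
    have h1 : φ v = ∑ i, (B.repr v i) ^ p • (i : V) := by
      conv_lhs => rw [hrepr]
      rw [map_sum_smul φ hφ]
      exact Finset.sum_congr rfl fun i _ => by rw [hBfix i]
    have hfixc : ∀ i, (B.repr v i) ^ p = B.repr v i := by
      intro i
      refine hli.eq_coords_of_eq (f := fun i => (B.repr v i) ^ p) (g := fun i => B.repr v i) ?_ i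
      show ∑ i, (B.repr v i) ^ p • (i : V) = ∑ i, B.repr v i • (i : V)
      rw [← h1, hv]; exact hrepr
    have hint : ∀ i, ∃ n : ℤ, (n : k) = B.repr v i := fun i =>
      (mem_bot_iff_intCast p k).mp ((Subfield.mem_bot_iff_pow_eq_self k p).mpr (hfixc i))
    choose n hn using hint
    refine ⟨fun i => (n i : ZMod p), Subtype.ext ?_⟩
    show ∑ i, algebraMap (ZMod p) k ((n i : ZMod p)) • (i : V) = v
    rw [hrepr]
    refine Finset.sum_congr rfl fun i _ => ?_
    rw [map_intCast, hn]
  rw [Nat.card_congr (Equiv.ofBijective Φ ⟨hΦinj, hΦsurj⟩).symm, Nat.card_eq_fintype_card,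
    Fintype.card_fun, ZMod.card, Module.finrank_eq_card_basis B]

end General

section Residue

set_option backward.isDefEq.respectTransparency false in
theorem finrank_residueField_tensor (R : Type u) [CommRing R] [IsLocalRing R]
    (M : Type v) [AddCommGroup M] [Module R M] :
    Module.finrank (IsLocalRing.ResidueField R) (TensorProduct R (IsLocalRing.ResidueField R) M) =
      Module.finrank (R ⧸ IsLocalRing.maximalIdeal R)
        (M ⧸ (IsLocalRing.maximalIdeal R • (⊤ : Submodule R M))) := by
  let _ : Module (IsLocalRing.ResidueField R)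
      (M ⧸ (IsLocalRing.maximalIdeal R • (⊤ : Submodule R M))) :=
    inferInstanceAs (Module (R ⧸ IsLocalRing.maximalIdeal R) _)
  let _ : IsScalarTower R (IsLocalRing.ResidueField R)
      (M ⧸ (IsLocalRing.maximalIdeal R • (⊤ : Submodule R M))) :=
    inferInstanceAs (IsScalarTower R (R ⧸ IsLocalRing.maximalIdeal R) _)
  let e : TensorProduct R (IsLocalRing.ResidueField R) M ≃ₗ[IsLocalRing.ResidueField R]
      M ⧸ (IsLocalRing.maximalIdeal R • (⊤ : Submodule R M)) :=
    (TensorProduct.quotTensorEquivQuotSMul M (IsLocalRing.maximalIdeal R)).extendScalarsOfSurjective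
      IsLocalRing.residue_surjective
  exact e.finrank_eq

end Residue

section LocalRing

variable (p : ℕ) [Fact p.Prime] {R : Type u} [CommRing R] [IsLocalRing R] [IsNoetherianRing R]
  [CharP R p] [IsSepClosed (IsLocalRing.ResidueField R)]
  {M : Type v} [AddCommGroup M] [Module R M] [Module.Finite R M]

local notation "𝔪" => IsLocalRing.maximalIdeal R
local notation "P" => ((IsLocalRing.maximalIdeal R) • (⊤ : Submodule R M))
local notation "κ" => (R ⧸ IsLocalRing.maximalIdeal R)
local notation "V" => (M ⧸ ((IsLocalRing.maximalIdeal R) • (⊤ : Submodule R M)))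

set_option maxHeartbeats 400000 in
/-- A bijective Frobenius-semilinear map on a nonzero finite module over a Noetherian local ring of
characteristic `p` with separably closed residue field: `T - 1` is onto and there are
`p ^ dim (M/𝔪M)` fixed points (in fact `𝔪 M = 0` and the residue field is algebraically closed). -/
theorem frobMod_local (T : M →+ M) (hT : ∀ (r : R) (m : M), T (r • m) = r ^ p • T m)
    (hbij : Function.Bijective T) :
    Function.Surjective (fun m => T m - m) ∧
      Nat.card {m : M // T m = m} = p ^ Module.finrank κ V := by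
  classical
  have hp : p.Prime := Fact.out
  by_cases hM : Subsingleton M
  · refine ⟨fun y => ⟨0, Subsingleton.elim _ _⟩, ?_⟩
    haveI : Subsingleton V := by
      refine ⟨fun a b => ?_⟩
      obtain ⟨a, rfl⟩ := Submodule.Quotient.mk_surjective P a
      obtain ⟨b, rfl⟩ := Submodule.Quotient.mk_surjective P b
      rw [Subsingleton.elim a b]
    rw [Module.finrank_zero_of_subsingleton, pow_zero]
    exact Nat.card_of_subsingleton (⟨0, map_zero T⟩ : {m : M // T m = m})
  haveI : Nontrivial M := not_subsingleton_iff_nontrivial.mp hM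
  haveI : ExpChar R p := ExpChar.prime hp
  let Ts : M →ₛₗ[frobenius R p] M :=
    { toFun := T
      map_add' := map_add T
      map_smul' := fun r m => by rw [frobenius_def]; exact hT r m }
  have hTP : ∀ m ∈ P, T m ∈ 𝔪 • P := by
    intro m hm
    refine Submodule.smul_induction_on hm ?_ ?_
    · intro r hr n hn
      rw [hT]
      obtain ⟨j, hj⟩ : ∃ j, p = j + 2 := ⟨p - 2, by have := hp.two_le; omega⟩
      rw [hj, pow_succ, mul_smul]
      exact Submodule.smul_mem_smul (Ideal.pow_mem_of_mem 𝔪 hr (j + 1) (Nat.succ_pos j))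
        (Submodule.smul_mem_smul hr Submodule.mem_top)
    · intro x y hx hy
      rw [map_add]; exact Submodule.add_mem _ hx hy
  have hPT : P ≤ Submodule.comap Ts P := by
    intro m hm
    rw [Submodule.mem_comap]
    show T m ∈ P
    exact (Submodule.smul_le_right : 𝔪 • P ≤ P) (hTP m hm)
  let Tbar : V →+ V := (Submodule.mapQ P P Ts hPT).toAddMonoidHom
  have hTbar : ∀ m : M, Tbar (Submodule.Quotient.mk m) = Submodule.Quotient.mk (T m) :=
    fun m => rfl
  letI : Field κ := Ideal.Quotient.field 𝔪
  haveI : Module.Finite κ V := Module.Finite.of_restrictScalars_finite R κ V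
  have hsemi : ∀ (c : κ) (v : V), Tbar (c • v) = c ^ p • Tbar v := by
    intro c v
    obtain ⟨a, rfl⟩ := Ideal.Quotient.mk_surjective c
    obtain ⟨m, rfl⟩ := Submodule.Quotient.mk_surjective P v
    rw [Module.Quotient.mk_smul_mk, hTbar, hTbar, hT, ← map_pow, Module.Quotient.mk_smul_mk]
  have hsurj_bar : Function.Surjective Tbar := by
    intro v
    obtain ⟨m, rfl⟩ := Submodule.Quotient.mk_surjective P v
    obtain ⟨w, rfl⟩ := hbij.2 m
    exact ⟨Submodule.Quotient.mk w, hTbar w⟩
  have hPne : P ≠ ⊤ := by
    intro htop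
    have h0 : (⊤ : Submodule R M) = ⊥ :=
      Submodule.eq_bot_of_le_smul_of_le_jacobson_bot 𝔪 ⊤ Module.Finite.fg_top
        (by rw [htop]) (IsLocalRing.maximalIdeal_le_jacobson _)
    exact hM ⟨fun a b => by
      have ha : a ∈ (⊤ : Submodule R M) := trivial
      have hb : b ∈ (⊤ : Submodule R M) := trivial
      rw [h0, Submodule.mem_bot] at ha hb
      rw [ha, hb]⟩
  haveI : Nontrivial V := Submodule.Quotient.nontrivial_iff.mpr hPne
  obtain ⟨hperf, hinj_bar⟩ := perfect_and_injective_of_surjective Tbar hsemi hp.pos hsurj_bar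
  have hpκ : ((p : ℕ) : κ) = 0 := by
    rw [← map_natCast (Ideal.Quotient.mk 𝔪) p, CharP.cast_eq_zero R p, map_zero]
  haveI : CharP κ p := (CharP.charP_iff_prime_eq_zero hp).mpr hpκ
  haveI : ExpChar κ p := ExpChar.prime hp
  haveI : PerfectRing κ p := PerfectRing.ofSurjective κ p fun c => by
    obtain ⟨d, hd⟩ := hperf c
    exact ⟨d, by rw [frobenius_def, hd]⟩
  haveI : PerfectField κ := PerfectRing.toPerfectField κ p
  haveI : IsSepClosed κ := ‹IsSepClosed (IsLocalRing.ResidueField R)›
  haveI : IsAlgClosed κ := IsSepClosed.isAlgClosed_of_perfectField κ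
  have hP0 : P = ⊥ := by
    apply Submodule.eq_bot_of_le_smul_of_le_jacobson_bot 𝔪 P (IsNoetherian.noetherian P) ?_
      (IsLocalRing.maximalIdeal_le_jacobson _)
    intro y hy
    obtain ⟨w, rfl⟩ := hbij.2 y
    have hw : w ∈ P := by
      have h1 : Tbar (Submodule.Quotient.mk w) = 0 := by
        rw [hTbar, Submodule.Quotient.mk_eq_zero]; exact hy
      have h2 := hinj_bar (h1.trans (map_zero Tbar).symm)
      exact (Submodule.Quotient.mk_eq_zero P).mp h2
    exact hTP w hw
  have hmk_inj : ∀ x y : M, (Submodule.Quotient.mk x : V) = Submodule.Quotient.mk y → x = y := by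
    intro x y h
    have := (Submodule.Quotient.eq P).mp h
    rw [hP0, Submodule.mem_bot, sub_eq_zero] at this
    exact this
  refine ⟨?_, ?_⟩
  · intro y
    obtain ⟨u, hu⟩ := sub_id_surjective Tbar hsemi hp.two_le hpκ (Submodule.Quotient.mk y : V)
    obtain ⟨x, rfl⟩ := Submodule.Quotient.mk_surjective P u
    refine ⟨x, hmk_inj _ _ ?_⟩
    rw [Submodule.Quotient.mk_sub, ← hTbar]
    exact hu
  · have hcard := card_fixed p Tbar hsemi hinj_bar
    rw [← hcard]
    refine Nat.card_congr (Equiv.ofBijective
      (fun m : {m : M // T m = m} => (⟨Submodule.Quotient.mk m.1, by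
        rw [hTbar, m.2]⟩ : {v : V // Tbar v = v})) ⟨?_, ?_⟩)
    · intro a b h
      exact Subtype.ext (hmk_inj _ _ (congrArg Subtype.val h))
    · rintro ⟨v, hv⟩
      obtain ⟨m, rfl⟩ := Submodule.Quotient.mk_surjective P v
      rw [hTbar] at hv
      exact ⟨⟨m, hmk_inj _ _ hv⟩, rfl⟩

end LocalRing

end Groth.Agent.H86.FrobSL
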