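import Mathlib

/-!
# Serre's criterion for surjectivity onto `GL₂(ℤ_p)` (S15360)
-/

namespace Groth.Agent.H86.GL2Zp

open Matrix Filter Topology

variable {p : ℕ} [hp : Fact p.Prime]

abbrev M2 (R : Type*) := Matrix (Fin 2) (Fin 2) R

section mk2
variable {R : Type*}

lemma mk2_congr {a b c d a' b' c' d' : R} (h1 : a = a') (h2 : b = b') (h3 : c = c')
    (h4 : d = d') : !![a, b; c, d] = !![a', b'; c', d'] := by
  subst h1 h2 h3 h4; rfl

lemma mk2_add [Add R] (a b c d a' b' c' d' : R) :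
    !![a, b; c, d] + !![a', b'; c', d'] = !![a + a', b + b'; c + c', d + d'] := by
  ext i j; fin_cases i <;> fin_cases j <;> rfl

lemma mk2_smul [Mul R] (r a b c d : R) :
    r • !![a, b; c, d] = !![r * a, r * b; r * c, r * d] := by
  ext i j; fin_cases i <;> fin_cases j <;> rfl

lemma conj_fin_two [CommRing R] (a b c d a' b' c' d' x y z w : R) :
    !![a, b; c, d] * !![x, y; z, w] * !![a', b'; c', d'] =
      !![(a * x + b * z) * a' + (a * y + b * w) * c', (a * x + b * z) * b' + (a * y + b * w) * d';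
         (c * x + d * z) * a' + (c * y + d * w) * c', (c * x + d * z) * b' + (c * y + d * w) * d'] := by
  rw [Matrix.mul_fin_two, Matrix.mul_fin_two]

end mk2

/-- reduction mod p on matrices -/
noncomputable def red : M2 ℤ_[p] →+* M2 (ZMod p) := (PadicInt.toZMod (p := p)).mapMatrix

lemma red_apply (X : M2 ℤ_[p]) (i j : Fin 2) : red X i j = PadicInt.toZMod (X i j) := rfl

lemma red_mk2 (a b c d : ℤ_[p]) :
    red !![a, b; c, d] = !![PadicInt.toZMod a, PadicInt.toZMod b; PadicInt.toZMod c,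
      PadicInt.toZMod d] := by
  ext i j; fin_cases i <;> fin_cases j <;> rfl

lemma toZMod_eq_zero_iff (x : ℤ_[p]) : PadicInt.toZMod x = 0 ↔ (p : ℤ_[p]) ∣ x := by
  rw [← RingHom.mem_ker, PadicInt.ker_toZMod, PadicInt.maximalIdeal_eq_span_p,
    Ideal.mem_span_singleton]

lemma toZMod_p : PadicInt.toZMod ((p : ℤ_[p])) = 0 := by
  rw [map_natCast, ZMod.natCast_self]

lemma toZMod_p_pow {n : ℕ} (hn : 1 ≤ n) : PadicInt.toZMod ((p : ℤ_[p]) ^ n) = 0 := by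
  rw [map_pow, toZMod_p, zero_pow (by omega)]

lemma isUnit_of_toZMod_ne_zero {x : ℤ_[p]} (h : PadicInt.toZMod x ≠ 0) : IsUnit x := by
  by_contra hx
  apply h
  rw [← RingHom.mem_ker, PadicInt.ker_toZMod]
  exact (IsLocalRing.mem_maximalIdeal x).mpr hx

lemma red_smul (c : ℤ_[p]) (X : M2 ℤ_[p]) : red (c • X) = PadicInt.toZMod c • red X := by
  ext i j
  rw [red_apply, Matrix.smul_apply, Matrix.smul_apply, red_apply, smul_eq_mul, smul_eq_mul,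
    map_mul]

lemma red_pow_smul {n : ℕ} (hn : 1 ≤ n) (X : M2 ℤ_[p]) :
    red (((p : ℤ_[p]) ^ n) • X) = 0 := by
  rw [red_smul, toZMod_p_pow hn, zero_smul]

lemma red_eq_zero_iff (X : M2 ℤ_[p]) :
    red X = 0 ↔ ∃ Y : M2 ℤ_[p], X = (p : ℤ_[p]) • Y := by
  constructor
  · intro h
    have h' : ∀ i j, (p : ℤ_[p]) ∣ X i j := by
      intro i j
      rw [← toZMod_eq_zero_iff, ← red_apply, h]
      rfl
    choose Y hY using h'
    refine ⟨Matrix.of Y, ?_⟩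
    ext i j
    rw [Matrix.smul_apply, Matrix.of_apply, smul_eq_mul]
    exact hY i j
  · rintro ⟨Y, rfl⟩
    rw [red_smul, toZMod_p, zero_smul]

lemma coe_map_eq_red (h : GL (Fin 2) ℤ_[p]) :
    ((Matrix.GeneralLinearGroup.map (PadicInt.toZMod (p := p)) h : GL (Fin 2) (ZMod p)) :
      M2 (ZMod p)) = red (h : M2 ℤ_[p]) := rfl

/-! ### explicit elements of `GL₂(𝔽_p)` -/

def swapGL : GL (Fin 2) (ZMod p) :=
  ⟨!![0, 1; 1, 0], !![0, 1; 1, 0], by simp [Matrix.one_fin_two],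
    by simp [Matrix.one_fin_two]⟩

def upGL : GL (Fin 2) (ZMod p) :=
  ⟨!![1, 1; 0, 1], !![1, -1; 0, 1], by simp [Matrix.one_fin_two],
    by simp [Matrix.one_fin_two]⟩

def loGL : GL (Fin 2) (ZMod p) :=
  ⟨!![1, 0; 1, 1], !![1, 0; -1, 1], by simp [Matrix.one_fin_two],
    by simp [Matrix.one_fin_two]⟩

lemma swapGL_val : ((swapGL : GL (Fin 2) (ZMod p)) : M2 (ZMod p)) = !![0, 1; 1, 0] := rfl
lemma swapGL_inv_val :
    (((swapGL : GL (Fin 2) (ZMod p))⁻¹ : GL (Fin 2) (ZMod p)) : M2 (ZMod p)) = !![0, 1; 1, 0] :=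
  rfl
lemma upGL_val : ((upGL : GL (Fin 2) (ZMod p)) : M2 (ZMod p)) = !![1, 1; 0, 1] := rfl
lemma upGL_inv_val :
    (((upGL : GL (Fin 2) (ZMod p))⁻¹ : GL (Fin 2) (ZMod p)) : M2 (ZMod p)) = !![1, -1; 0, 1] :=
  rfl
lemma loGL_val : ((loGL : GL (Fin 2) (ZMod p)) : M2 (ZMod p)) = !![1, 0; 1, 1] := rfl
lemma loGL_inv_val :
    (((loGL : GL (Fin 2) (ZMod p))⁻¹ : GL (Fin 2) (ZMod p)) : M2 (ZMod p)) = !![1, 0; -1, 1] :=
  rfl

section Subgroup

variable (H : Subgroup (GL (Fin 2) ℤ_[p]))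

/-- The set `V_n` of reductions of `X` with `1 + p^n X ∈ H`. -/
def V (n : ℕ) : Set (M2 (ZMod p)) :=
  {Xb | ∃ h ∈ H, ∃ X : M2 ℤ_[p], (h : M2 ℤ_[p]) = 1 + ((p : ℤ_[p]) ^ n) • X ∧ red X = Xb}

lemma zero_mem_V (n : ℕ) : (0 : M2 (ZMod p)) ∈ V H n :=
  ⟨1, H.one_mem, 0, by simp, map_zero _⟩

lemma add_mem_V {n : ℕ} (hn : 1 ≤ n) {A B : M2 (ZMod p)} (hA : A ∈ V H n) (hB : B ∈ V H n) :
    A + B ∈ V H n := by
  obtain ⟨h1, hh1, X, hX, rfl⟩ := hA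
  obtain ⟨h2, hh2, Y, hY, rfl⟩ := hB
  refine ⟨h1 * h2, H.mul_mem hh1 hh2, X + Y + ((p : ℤ_[p]) ^ n) • (X * Y), ?_, ?_⟩
  · rw [Units.val_mul, hX, hY]
    simp only [mul_add, add_mul, mul_one, one_mul, smul_mul_assoc, mul_smul_comm, smul_add,
      smul_smul]
    abel
  · rw [map_add, map_add, red_pow_smul hn, add_zero]

lemma nsmul_mem_V {n : ℕ} (hn : 1 ≤ n) {A : M2 (ZMod p)} (hA : A ∈ V H n) (m : ℕ) :
    m • A ∈ V H n := by
  induction m with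
  | zero => rw [zero_smul]; exact zero_mem_V H n
  | succ m ih => rw [succ_nsmul]; exact add_mem_V H hn ih hA

lemma smul_mem_V {n : ℕ} (hn : 1 ≤ n) {A : M2 (ZMod p)} (hA : A ∈ V H n) (x : ZMod p) :
    x • A ∈ V H n := by
  have : x • A = x.val • A := by
    rw [← Nat.cast_smul_eq_nsmul (ZMod p), ZMod.natCast_zmod_val]
  rw [this]; exact nsmul_mem_V H hn hA _

lemma E_mem_V_of_form {n : ℕ} {h : GL (Fin 2) ℤ_[p]} (hh : h ∈ H) {a b c d : ℤ_[p]}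
    (hform : (h : M2 ℤ_[p]) =
      !![1 + (p : ℤ_[p]) ^ n * a, (p : ℤ_[p]) ^ (n + 1) * b;
         (p : ℤ_[p]) ^ (n + 1) * c, 1 + (p : ℤ_[p]) ^ (n + 1) * d]) :
    !![PadicInt.toZMod a, 0; 0, 0] ∈ V H n := by
  refine ⟨h, hh, !![a, (p : ℤ_[p]) * b; (p : ℤ_[p]) * c, (p : ℤ_[p]) * d], ?_, ?_⟩
  · rw [hform, Matrix.one_fin_two, mk2_smul, mk2_add]
    exact mk2_congr (by ring) (by ring) (by ring) (by ring)
  · rw [red_mk2]
    exact mk2_congr rfl (by rw [map_mul, toZMod_p, zero_mul]) (by rw [map_mul, toZMod_p, zero_mul])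
      (by rw [map_mul, toZMod_p, zero_mul])

variable (h1 : ∀ u : GL (Fin 2) (ZMod p),
  ∃ h ∈ H, Matrix.GeneralLinearGroup.map (PadicInt.toZMod (p := p)) h = u)

include h1 in
lemma conj_mem_V {n : ℕ} {A : M2 (ZMod p)} (hA : A ∈ V H n) (u : GL (Fin 2) (ZMod p)) :
    (u : M2 (ZMod p)) * A * ((u⁻¹ : GL (Fin 2) (ZMod p)) : M2 (ZMod p)) ∈ V H n := by
  obtain ⟨h, hh, X, hX, rfl⟩ := hA
  obtain ⟨g, hg, rfl⟩ := h1 u
  refine ⟨g * h * g⁻¹, H.mul_mem (H.mul_mem hg hh) (H.inv_mem hg),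
    (g : M2 ℤ_[p]) * X * ((g⁻¹ : GL (Fin 2) ℤ_[p]) : M2 ℤ_[p]), ?_, ?_⟩
  · rw [Units.val_mul, Units.val_mul, hX, mul_add, add_mul, mul_one, Units.mul_inv,
      mul_smul_comm, smul_mul_assoc]
  · rw [map_mul, map_mul, ← map_inv, coe_map_eq_red, coe_map_eq_red]

include h1 in
lemma mem_V_of_E {n : ℕ} (hn : 1 ≤ n) {a : ZMod p} (ha : a ≠ 0)
    (hE : !![a, 0; 0, 0] ∈ V H n) (A : M2 (ZMod p)) : A ∈ V H n := by
  have E11 : ∀ x : ZMod p, !![x, 0; 0, 0] ∈ V H n := by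
    intro x
    have h := smul_mem_V H hn hE (x * a⁻¹)
    have e : (x * a⁻¹) • !![a, 0; 0, 0] = !![x, 0; 0, 0] := by
      rw [mk2_smul]
      exact mk2_congr (by field_simp) (by ring) (by ring) (by ring)
    rwa [e] at h
  have E22 : ∀ x : ZMod p, !![0, 0; 0, x] ∈ V H n := by
    intro x
    have key : ((swapGL : GL (Fin 2) (ZMod p)) : M2 (ZMod p)) * !![x, 0; 0, 0] *
        (((swapGL : GL (Fin 2) (ZMod p))⁻¹ : GL (Fin 2) (ZMod p)) : M2 (ZMod p)) =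
        !![0, 0; 0, x] := by
      rw [swapGL_val, swapGL_inv_val, conj_fin_two]
      exact mk2_congr (by ring) (by ring) (by ring) (by ring)
    rw [← key]; exact conj_mem_V H h1 (E11 x) swapGL
  have E12 : ∀ y : ZMod p, !![0, y; 0, 0] ∈ V H n := by
    intro y
    have key : ((upGL : GL (Fin 2) (ZMod p)) : M2 (ZMod p)) * !![-y, 0; 0, 0] *
        (((upGL : GL (Fin 2) (ZMod p))⁻¹ : GL (Fin 2) (ZMod p)) : M2 (ZMod p)) =
        !![-y, y; 0, 0] := by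
      rw [upGL_val, upGL_inv_val, conj_fin_two]
      exact mk2_congr (by ring) (by ring) (by ring) (by ring)
    have h := add_mem_V H hn (conj_mem_V H h1 (E11 (-y)) upGL) (E11 y)
    rw [key, mk2_add] at h
    have e : !![-y + y, y + 0; (0 : ZMod p) + 0, 0 + 0] = !![0, y; 0, 0] :=
      mk2_congr (by ring) (by ring) (by ring) (by ring)
    rwa [e] at h
  have E21 : ∀ z : ZMod p, !![0, 0; z, 0] ∈ V H n := by
    intro z
    have key : ((loGL : GL (Fin 2) (ZMod p)) : M2 (ZMod p)) * !![z, 0; 0, 0] *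
        (((loGL : GL (Fin 2) (ZMod p))⁻¹ : GL (Fin 2) (ZMod p)) : M2 (ZMod p)) =
        !![z, 0; z, 0] := by
      rw [loGL_val, loGL_inv_val, conj_fin_two]
      exact mk2_congr (by ring) (by ring) (by ring) (by ring)
    have h := add_mem_V H hn (conj_mem_V H h1 (E11 z) loGL) (E11 (-z))
    rw [key, mk2_add] at h
    have e : !![z + -z, (0 : ZMod p) + 0; z + 0, 0 + 0] = !![0, 0; z, 0] :=
      mk2_congr (by ring) (by ring) (by ring) (by ring)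
    rwa [e] at h
  have hA : A = !![A 0 0, 0; 0, 0] + !![0, A 0 1; 0, 0] + !![0, 0; A 1 0, 0] +
      !![0, 0; 0, A 1 1] := by
    rw [mk2_add, mk2_add, mk2_add]
    conv_lhs => rw [Matrix.eta_fin_two A]
    exact mk2_congr (by ring) (by ring) (by ring) (by ring)
  rw [hA]
  exact add_mem_V H hn (add_mem_V H hn (add_mem_V H hn (E11 _) (E12 _)) (E21 _)) (E22 _)

include h1 in
theorem approx
    (h2 : ∀ n : ℕ, 1 ≤ n → ∃ h ∈ H, ∃ a b c d : ℤ_[p], ¬ ((p : ℤ_[p]) ∣ a) ∧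
      (h : M2 ℤ_[p]) =
        !![1 + (p : ℤ_[p]) ^ n * a, (p : ℤ_[p]) ^ (n + 1) * b;
           (p : ℤ_[p]) ^ (n + 1) * c, 1 + (p : ℤ_[p]) ^ (n + 1) * d])
    (γ : GL (Fin 2) ℤ_[p]) (n : ℕ) (hn : 1 ≤ n) :
    ∃ h ∈ H, ∃ Y : M2 ℤ_[p], (γ : M2 ℤ_[p]) = (h : M2 ℤ_[p]) + ((p : ℤ_[p]) ^ n) • Y := by
  induction n, hn using Nat.le_induction with
  | base =>
    obtain ⟨h, hh, hhγ⟩ := h1 (Matrix.GeneralLinearGroup.map (PadicInt.toZMod (p := p)) γ)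
    have h0 : red ((γ : M2 ℤ_[p]) - (h : M2 ℤ_[p])) = 0 := by
      rw [map_sub, ← coe_map_eq_red, ← coe_map_eq_red, hhγ, sub_self]
    obtain ⟨Y, hY⟩ := (red_eq_zero_iff _).mp h0
    refine ⟨h, hh, Y, ?_⟩
    rw [pow_one, ← hY]; abel
  | succ n hn ih =>
    obtain ⟨h, hh, Y, hY⟩ := ih
    obtain ⟨h0, hh0, a, b, c, d, ha, hform⟩ := h2 n hn
    have hE := E_mem_V_of_form H hh0 hform
    have ha' : PadicInt.toZMod a ≠ 0 := fun h0 => ha ((toZMod_eq_zero_iff a).mp h0)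
    obtain ⟨k, hk, X', hkX', hred⟩ := mem_V_of_E H h1 hn ha' hE
      (red (((h⁻¹ : GL (Fin 2) ℤ_[p]) : M2 ℤ_[p]) * Y))
    have h0' : red (((h⁻¹ : GL (Fin 2) ℤ_[p]) : M2 ℤ_[p]) * Y - X') = 0 := by
      rw [map_sub, hred, sub_self]
    obtain ⟨Z, hZ⟩ := (red_eq_zero_iff _).mp h0'
    refine ⟨h * k, H.mul_mem hh hk, (h : M2 ℤ_[p]) * Z, ?_⟩
    have hhX : (h : M2 ℤ_[p]) * (((h⁻¹ : GL (Fin 2) ℤ_[p]) : M2 ℤ_[p]) * Y) = Y := by
      rw [← mul_assoc, Units.mul_inv, one_mul]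
    have hX' : X' = ((h⁻¹ : GL (Fin 2) ℤ_[p]) : M2 ℤ_[p]) * Y - (p : ℤ_[p]) • Z := by
      rw [← hZ]; abel
    have e1 : (h : M2 ℤ_[p]) * (1 + (p : ℤ_[p]) ^ n •
        (((h⁻¹ : GL (Fin 2) ℤ_[p]) : M2 ℤ_[p]) * Y - (p : ℤ_[p]) • Z)) =
        (h : M2 ℤ_[p]) + (p : ℤ_[p]) ^ n • Y -
          (p : ℤ_[p]) ^ (n + 1) • ((h : M2 ℤ_[p]) * Z) := by
      rw [mul_add, mul_one, mul_smul_comm, mul_sub, hhX, mul_smul_comm, smul_sub, smul_smul,
        ← pow_succ]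
      abel
    rw [Units.val_mul, hkX', hX', e1, hY]
    abel

end Subgroup

theorem main (𝔊 : Type*) [Group 𝔊] [TopologicalSpace 𝔊] [CompactSpace 𝔊]
    (ϕ : 𝔊 →* GL (Fin 2) ℤ_[p])
    (hϕ : Continuous fun g => ((ϕ g : GL (Fin 2) ℤ_[p]) : Matrix (Fin 2) (Fin 2) ℤ_[p])) :
    Function.Surjective ϕ ↔
      (Function.Surjective ((Matrix.GeneralLinearGroup.map (n := Fin 2)
          (PadicInt.toZMod (p := p))).comp ϕ) ∧
        ∀ n : ℕ, 1 ≤ n → ∃ (g : 𝔊) (a b c d : ℤ_[p]), ¬ ((p : ℤ_[p]) ∣ a) ∧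
          ((ϕ g : GL (Fin 2) ℤ_[p]) : Matrix (Fin 2) (Fin 2) ℤ_[p]) =
            !![1 + (p : ℤ_[p]) ^ n * a, (p : ℤ_[p]) ^ (n + 1) * b;
               (p : ℤ_[p]) ^ (n + 1) * c, 1 + (p : ℤ_[p]) ^ (n + 1) * d]) := by
  constructor
  · intro hsurj
    refine ⟨?_, ?_⟩
    · intro u
      have hs : Function.Surjective (PadicInt.toZMod (p := p)) := ZMod.ringHom_surjective _
      choose f hf using hs
      set X : M2 ℤ_[p] := Matrix.of fun i j => f ((u : M2 (ZMod p)) i j) with hXdef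
      have hX : red X = (u : M2 (ZMod p)) := by
        ext i j
        exact hf _
      have hdet : PadicInt.toZMod X.det = (u : M2 (ZMod p)).det := by
        rw [RingHom.map_det]
        exact congrArg Matrix.det hX
      have hu : IsUnit (u : M2 (ZMod p)).det := (Matrix.isUnit_iff_isUnit_det _).mp u.isUnit
      have hXu : IsUnit X := by
        rw [Matrix.isUnit_iff_isUnit_det]
        apply isUnit_of_toZMod_ne_zero
        rw [hdet]
        exact hu.ne_zero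
      obtain ⟨g, hg⟩ := hsurj hXu.unit
      refine ⟨g, ?_⟩
      rw [MonoidHom.comp_apply, hg]
      apply Units.ext
      rw [coe_map_eq_red, IsUnit.unit_spec]
      exact hX
    · intro n hn
      have hD : IsUnit (!![1 + (p : ℤ_[p]) ^ n, 0; 0, 1] : M2 ℤ_[p]) := by
        rw [Matrix.isUnit_iff_isUnit_det, Matrix.det_fin_two_of]
        apply isUnit_of_toZMod_ne_zero
        rw [map_sub, map_mul, map_mul, map_add, map_one, map_zero, toZMod_p_pow hn]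
        simp
      obtain ⟨g, hg⟩ := hsurj hD.unit
      refine ⟨g, 1, 0, 0, 0, ?_, ?_⟩
      · intro h
        have := (toZMod_eq_zero_iff (1 : ℤ_[p])).mpr h
        rw [map_one] at this
        exact one_ne_zero this
      · rw [hg, IsUnit.unit_spec]
        exact mk2_congr (by ring) (by ring) (by ring) (by ring)
  · rintro ⟨hs1, hs2⟩ γ
    have h1 : ∀ u : GL (Fin 2) (ZMod p),
        ∃ h ∈ ϕ.range, Matrix.GeneralLinearGroup.map (PadicInt.toZMod (p := p)) h = u := by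
      intro u
      obtain ⟨g, hg⟩ := hs1 u
      exact ⟨ϕ g, ⟨g, rfl⟩, hg⟩
    have h2 : ∀ n : ℕ, 1 ≤ n → ∃ h ∈ ϕ.range, ∃ a b c d : ℤ_[p], ¬ ((p : ℤ_[p]) ∣ a) ∧
        (h : M2 ℤ_[p]) =
          !![1 + (p : ℤ_[p]) ^ n * a, (p : ℤ_[p]) ^ (n + 1) * b;
             (p : ℤ_[p]) ^ (n + 1) * c, 1 + (p : ℤ_[p]) ^ (n + 1) * d] := by
      intro n hn
      obtain ⟨g, a, b, c, d, ha, hform⟩ := hs2 n hn
      exact ⟨ϕ g, ⟨g, rfl⟩, a, b, c, d, ha, hform⟩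
    have key : ∀ n : ℕ, ∃ g : 𝔊, ∃ Y : M2 ℤ_[p],
        (γ : M2 ℤ_[p]) = ((ϕ g : GL (Fin 2) ℤ_[p]) : M2 ℤ_[p]) + ((p : ℤ_[p]) ^ (n + 1)) • Y := by
      intro n
      obtain ⟨h, ⟨g, rfl⟩, Y, hY⟩ := approx ϕ.range h1 h2 γ (n + 1) (by omega)
      exact ⟨g, Y, hY⟩
    choose g Y hgY using key
    have hS : IsClosed (Set.range fun g => ((ϕ g : GL (Fin 2) ℤ_[p]) : M2 ℤ_[p])) :=
      (isCompact_range hϕ).isClosed
    have hp1 : ((p : ℝ))⁻¹ < 1 :=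
      inv_lt_one_of_one_lt₀ (by exact_mod_cast (Fact.out : p.Prime).one_lt)
    have hp0 : (0 : ℝ) ≤ ((p : ℝ))⁻¹ := by positivity
    have ht : Tendsto (fun n => ((ϕ (g n) : GL (Fin 2) ℤ_[p]) : M2 ℤ_[p])) atTop
        (𝓝 (γ : M2 ℤ_[p])) := by
      have e : ∀ n, ((ϕ (g n) : GL (Fin 2) ℤ_[p]) : M2 ℤ_[p]) =
          (γ : M2 ℤ_[p]) - ((p : ℤ_[p]) ^ (n + 1)) • Y n := by
        intro n
        have := hgY n
        rw [this]; abel
      refine tendsto_pi_nhds.mpr fun i => tendsto_pi_nhds.mpr fun j => ?_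
      have hsmall : Tendsto (fun n => (p : ℤ_[p]) ^ (n + 1) * Y n i j) atTop (𝓝 0) := by
        have hnorm : ∀ n : ℕ, ‖(p : ℤ_[p]) ^ (n + 1) * Y n i j‖ ≤ ((p : ℝ)⁻¹) ^ (n + 1) := by
          intro n
          rw [norm_mul, norm_pow, PadicInt.norm_p]
          calc ((p : ℝ)⁻¹) ^ (n + 1) * ‖Y n i j‖ ≤ ((p : ℝ)⁻¹) ^ (n + 1) * 1 :=
                mul_le_mul_of_nonneg_left (PadicInt.norm_le_one _) (pow_nonneg hp0 _)
            _ = _ := mul_one _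
        have hlim : Tendsto (fun n : ℕ => ((p : ℝ)⁻¹) ^ (n + 1)) atTop (𝓝 0) :=
          (tendsto_pow_atTop_nhds_zero_of_lt_one hp0 hp1).comp (tendsto_add_atTop_nat 1)
        exact squeeze_zero_norm hnorm hlim
      have h3 := (tendsto_const_nhds (x := (γ : M2 ℤ_[p]) i j) (f := atTop)).sub hsmall
      rw [sub_zero] at h3
      refine h3.congr (fun n => ?_)
      rw [e n]
      rfl
    obtain ⟨g0, hg0⟩ := hS.mem_of_tendsto ht (Eventually.of_forall fun n => ⟨g n, rfl⟩)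
    exact ⟨g0, Units.ext hg0⟩

end Groth.Agent.H86.GL2Zp
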