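import Mathlib
import Groth.Prelude.Def_W4c5flasquetoriphsGLat

/-!
# Permutation covers with coflasque kernel (Colliot-Thélène–Sansuc)
-/

set_option autoImplicit false

namespace Groth.Agent.H86.GLatPerm

/-- `H¹(H, ℤ[ι]) = 0` for a permutation module over a finite group (function model, explicit
action). -/
theorem perm_h1 {G : Type*} [Group G] [Finite G] {ι : Type*} (act : G → ι → ι)
    (act_one : ∀ x, act 1 x = x) (act_mul : ∀ g h x, act (g * h) x = act g (act h x))
    (H : Subgroup G) (f : H → ι → ℤ)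
    (hf : ∀ (a b : H) (x : ι), f (a * b) x = f a x + f b (act (a : G)⁻¹ x)) :
    ∃ m : ι → ℤ, ∀ (a : H) (x : ι), f a x = m (act (a : G)⁻¹ x) - m x := by
  classical
  have f_one : ∀ x, f 1 x = 0 := by
    intro x
    have h := hf 1 1 x
    simp only [mul_one, Subgroup.coe_one, inv_one, act_one] at h
    linarith
  have stab : ∀ (k : H) (x : ι), act (k : G) x = x → f k x = 0 := by
    intro k x hk
    have hk' : act (k : G)⁻¹ x = x := by
      have h := act_mul (k : G)⁻¹ (k : G) x
      rw [inv_mul_cancel, act_one, hk] at h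
      exact h.symm
    have hpow : ∀ n : ℕ, f (k ^ n) x = n * f k x := by
      intro n
      induction n with
      | zero => simp [f_one]
      | succ n ih =>
        rw [pow_succ', hf, hk', ih]; push_cast; ring
    have hn : 0 < orderOf k := orderOf_pos k
    have h1 := hpow (orderOf k)
    rw [pow_orderOf_eq_one, f_one] at h1
    have h2 : (orderOf k : ℤ) ≠ 0 := by exact_mod_cast hn.ne'
    rcases mul_eq_zero.mp h1.symm with h | h
    · exact absurd h h2
    · exact h
  let s : Setoid ι :=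
    { r := fun x y => ∃ h : H, act (h : G) x = y
      iseqv := ⟨fun x => ⟨1, by rw [Subgroup.coe_one, act_one]⟩,
        fun {x y} ⟨h, hh⟩ => ⟨h⁻¹, by
          rw [← hh, Subgroup.coe_inv, ← act_mul, inv_mul_cancel, act_one]⟩,
        fun {x y z} ⟨h₁, hh₁⟩ ⟨h₂, hh₂⟩ => ⟨h₂ * h₁, by
          rw [Subgroup.coe_mul, act_mul, hh₁, hh₂]⟩⟩ }
  obtain ⟨r, hrdef⟩ : ∃ r : ι → ι, ∀ x, r x = (Quotient.mk s x).out := ⟨_, fun _ => rfl⟩
  have hr : ∀ x, ∃ h : H, act (h : G) (r x) = x := fun x => by
    rw [hrdef]; exact Quotient.mk_out (s := s) x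
  choose a ha using hr
  have hr_eq : ∀ (h : H) (x : ι), r (act (h : G) x) = r x := by
    intro h x
    rw [hrdef, hrdef]
    have h1 : Quotient.mk s (act (h : G) x) = Quotient.mk s x :=
      Quotient.sound (show s.r _ _ from ⟨h⁻¹, by
        rw [Subgroup.coe_inv, ← act_mul, inv_mul_cancel, act_one]⟩)
    rw [h1]
  have hainv : ∀ x, r x = act ((a x : H) : G)⁻¹ x := by
    intro x
    have h := act_mul ((a x : H) : G)⁻¹ ((a x : H) : G) (r x)
    rw [inv_mul_cancel, act_one, ha x] at h
    exact h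
  have key : ∀ (x : ι) (b : H), act (b : G) (r x) = x → f b x = f (a x) x := by
    intro x b hb
    have hk : act (((a x)⁻¹ * b : H) : G) (r x) = r x := by
      rw [Subgroup.coe_mul, Subgroup.coe_inv, act_mul, hb]
      exact (hainv x).symm
    have h1 : b = a x * ((a x)⁻¹ * b) := by group
    have h2 := hf (a x) ((a x)⁻¹ * b) x
    rw [← h1] at h2
    rw [h2, ← hainv x, stab _ _ hk, add_zero]
  refine ⟨fun x => - f (a x) x, fun h x => ?_⟩
  obtain ⟨y, hy⟩ : ∃ y, y = act (h : G)⁻¹ x := ⟨_, rfl⟩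
  show f h x = - f (a (act (h : G)⁻¹ x)) (act (h : G)⁻¹ x) - - f (a x) x
  rw [← hy]
  have hxy : act (h : G) y = x := by rw [hy, ← act_mul, mul_inv_cancel, act_one]
  have hry : r y = r x := by
    have h0 := hr_eq h⁻¹ x
    rw [Subgroup.coe_inv, ← hy] at h0
    exact h0
  have hb : act ((h⁻¹ * a x : H) : G) (r y) = y := by
    rw [hry, Subgroup.coe_mul, Subgroup.coe_inv, act_mul, ha x, hy]
  have h3 := key y (h⁻¹ * a x) hb
  have h4 := hf h⁻¹ (a x) y
  rw [Subgroup.coe_inv, inv_inv, hxy] at h4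
  have h5 := hf h h⁻¹ x
  rw [mul_inv_cancel, f_one, ← hy] at h5
  linarith

/-- The index set of the permutation cover. -/
abbrev Idx (G : Type) [Group G] {A : Type} (S : Subgroup G → Finset A) : Type :=
  Σ H : Subgroup G, {a // a ∈ S H} × (G ⧸ H)

/-- The action on the index set. -/
def act {G : Type} [Group G] {A : Type} (S : Subgroup G → Finset A) (g : G) (i : Idx G S) :
    Idx G S :=
  ⟨i.1, (i.2.1, g • i.2.2)⟩

theorem act_one {G : Type} [Group G] {A : Type} (S : Subgroup G → Finset A) (x : Idx G S) :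
    act S 1 x = x := by
  rcases x with ⟨H, a, x⟩
  simp only [act, one_smul]

theorem act_mul {G : Type} [Group G] {A : Type} (S : Subgroup G → Finset A) (g h : G)
    (x : Idx G S) : act S (g * h) x = act S g (act S h x) := by
  rcases x with ⟨H, a, x⟩
  show (⟨H, (a, (g * h) • x)⟩ : Idx G S) = ⟨H, (a, g • h • x)⟩
  rw [mul_smul]

/-- The permutation representation on functions. -/
def tau {G : Type} [Group G] {A : Type} (S : Subgroup G → Finset A) :
    Representation ℤ G (Idx G S → ℤ) where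
  toFun g := LinearMap.funLeft ℤ ℤ (act S g⁻¹)
  map_one' := by
    refine LinearMap.ext fun φ => funext fun x => ?_
    show φ (act S (1 : G)⁻¹ x) = φ x
    rw [inv_one, act_one]
  map_mul' g h := by
    refine LinearMap.ext fun φ => funext fun x => ?_
    show φ (act S (g * h)⁻¹ x) = φ (act S h⁻¹ (act S g⁻¹ x))
    rw [mul_inv_rev, act_mul]

theorem tau_apply {G : Type} [Group G] {A : Type} (S : Subgroup G → Finset A) (g : G)
    (φ : Idx G S → ℤ) (x : Idx G S) : tau S g φ x = φ (act S g⁻¹ x) := rfl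

theorem tau_single {G : Type} [Group G] {A : Type} (S : Subgroup G → Finset A)
    [DecidableEq (Idx G S)] (g : G) (i : Idx G S) :
    tau S g (Pi.single i 1) = Pi.single (act S g i) 1 := by
  funext x
  rw [tau_apply, Pi.single_apply, Pi.single_apply]
  refine if_congr ?_ rfl rfl
  constructor
  · intro h; rw [← h, ← act_mul, mul_inv_cancel, act_one]
  · intro h; rw [h, ← act_mul, inv_mul_cancel, act_one]


theorem main (G : Type) [Group G] [Finite G]
    (A : Type) [AddCommGroup A] [Module.Finite ℤ A] (ρ : Representation ℤ G A) :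
    ∃ (Q : Type) (_ : AddCommGroup Q) (P : Type) (_ : AddCommGroup P)
      (_ : Module.Finite ℤ Q) (_ : Module.Free ℤ Q) (_ : Module.Finite ℤ P) (_ : Module.Free ℤ P)
      (σ : Representation ℤ G Q) (τ : Representation ℤ G P) (i : Q →ₗ[ℤ] P) (π : P →ₗ[ℤ] A),
      GLat.IsEquivariant σ τ i ∧ GLat.IsEquivariant τ ρ π ∧ Function.Injective i ∧ Function.Surjective π ∧
      LinearMap.range i = LinearMap.ker π ∧ GLat.IsPermutation τ ∧ GLat.IsCoflasque σ := by
  classical
  let inv : Subgroup G → Submodule ℤ A := fun H =>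
    { carrier := {a | ∀ h : H, ρ (h : G) a = a}
      add_mem' := fun {a b} ha hb h => by
        show ρ (h : G) (a + b) = a + b
        rw [map_add, ha h, hb h]
      zero_mem' := fun h => map_zero _
      smul_mem' := fun n a ha h => by
        show ρ (h : G) (n • a) = n • a
        rw [map_smul, ha h] }
  have hinv : ∀ (H : Subgroup G) (a : A), a ∈ inv H ↔ ∀ h : H, ρ (h : G) a = a :=
    fun _ _ => Iff.rfl
  have hfg : ∀ H, ∃ S : Finset A, Submodule.span ℤ (S : Set A) = inv H := fun H =>
    IsNoetherian.noetherian (inv H)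
  choose S hS using hfg
  have hSinv : ∀ (H : Subgroup G) (a : {a // a ∈ S H}), (a : A) ∈ inv H := fun H a => by
    rw [← hS H]; exact Submodule.subset_span (Finset.mem_coe.mpr a.2)
  have hcoset : ∀ (H : Subgroup G) (a : A), a ∈ inv H → ∀ k k' : G,
      (k : G ⧸ H) = (k' : G ⧸ H) → ρ k' a = ρ k a := by
    intro H a ha k k' hkk'
    have hmem : k⁻¹ * k' ∈ H := QuotientGroup.eq.mp hkk'
    have h1 : ρ (k⁻¹ * k') a = a := (hinv H a).mp ha ⟨_, hmem⟩
    have h2 : k' = k * (k⁻¹ * k') := by group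
    calc ρ k' a = ρ (k * (k⁻¹ * k')) a := by rw [← h2]
      _ = ρ k (ρ (k⁻¹ * k') a) := by rw [map_mul]; rfl
      _ = ρ k a := by rw [h1]
  have : Finite (Idx G S) := inferInstance
  let _ : Fintype (Idx G S) := Fintype.ofFinite _
  obtain ⟨v, hv⟩ : ∃ v : Idx G S → A, ∀ i, v i = ρ (Quotient.out i.2.2) (i.2.1 : A) :=
    ⟨_, fun _ => rfl⟩
  obtain ⟨π, hπ, hπ1⟩ : ∃ π : (Idx G S → ℤ) →ₗ[ℤ] A, (∀ φ, π φ = ∑ i, φ i • v i) ∧
      ∀ i, π (Pi.single i 1) = v i :=
    ⟨Fintype.linearCombination ℤ v, fun φ => Fintype.linearCombination_apply ℤ v φ,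
      fun i => by rw [Fintype.linearCombination_apply_single, one_smul]⟩
  have hvact : ∀ g i, v (act S g i) = ρ g (v i) := by
    intro g i
    rcases i with ⟨H, a, x⟩
    rw [hv, hv]
    show ρ (Quotient.out (g • x)) (a : A) = ρ g (ρ (Quotient.out x) (a : A))
    have h1 : ((g * Quotient.out x : G) : G ⧸ H) = ((Quotient.out (g • x) : G) : G ⧸ H) := by
      rw [QuotientGroup.out_eq', ← smul_eq_mul, ← MulAction.Quotient.smul_coe,
        QuotientGroup.out_eq']
    rw [hcoset H a (hSinv H a) _ _ h1, map_mul]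
    rfl
  have hπτ : ∀ g φ, π (tau S g φ) = ρ g (π φ) := by
    intro g φ
    rw [hπ, hπ, map_sum]
    let e : Idx G S ≃ Idx G S :=
      { toFun := act S g, invFun := act S g⁻¹
        left_inv := fun x => by rw [← act_mul, inv_mul_cancel, act_one]
        right_inv := fun x => by rw [← act_mul, mul_inv_cancel, act_one] }
    rw [← Equiv.sum_comp e]
    refine Finset.sum_congr rfl fun i _ => ?_
    show tau S g φ (act S g i) • v (act S g i) = ρ g (φ i • v i)
    rw [tau_apply, ← act_mul, inv_mul_cancel, act_one, hvact, map_smul]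
  have hF3 : ∀ (H : Subgroup G) (a : A), a ∈ inv H →
      ∃ p : Idx G S → ℤ, (∀ h : H, tau S (h : G) p = p) ∧ π p = a := by
    intro H a ha
    let fixP : Submodule ℤ (Idx G S → ℤ) :=
      { carrier := {p | ∀ h : H, tau S (h : G) p = p}
        add_mem' := fun {p q} hp hq h => by
          show tau S (h : G) (p + q) = p + q
          rw [map_add, hp h, hq h]
        zero_mem' := fun h => map_zero _
        smul_mem' := fun n p hp h => by
          show tau S (h : G) (n • p) = n • p
          rw [map_smul, hp h] }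
    have hle : inv H ≤ fixP.map π := by
      rw [← hS H, Submodule.span_le]
      intro a haS
      have haS' : a ∈ S H := Finset.mem_coe.mp haS
      obtain ⟨i₀, hi₀⟩ : ∃ i₀ : Idx G S, i₀ = ⟨H, (⟨a, haS'⟩, ((1 : G) : G ⧸ H))⟩ := ⟨_, rfl⟩
      refine ⟨Pi.single i₀ 1, fun h => ?_, ?_⟩
      · rw [tau_single]
        congr 1
        rw [hi₀]
        show (⟨H, (⟨a, haS'⟩, (h : G) • ((1 : G) : G ⧸ H))⟩ : Idx G S) =
          ⟨H, (⟨a, haS'⟩, ((1 : G) : G ⧸ H))⟩
        have h1 : (h : G) • ((1 : G) : G ⧸ H) = ((1 : G) : G ⧸ H) := by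
          rw [MulAction.Quotient.smul_coe, smul_eq_mul, mul_one, QuotientGroup.eq, mul_one]
          exact H.inv_mem h.2
        rw [h1]
      · rw [hπ1, hv, hi₀]
        show ρ (Quotient.out ((1 : G) : G ⧸ H)) a = a
        have h1 : (((1 : G) : G ⧸ H)) = ((Quotient.out ((1 : G) : G ⧸ H) : G) : G ⧸ H) :=
          (QuotientGroup.out_eq' _).symm
        rw [hcoset H a (hSinv H ⟨a, haS'⟩) _ _ h1, map_one]
        rfl
    obtain ⟨p, hp, hpa⟩ := hle ha
    exact ⟨p, hp, hpa⟩
  have hker_inv : ∀ g, ∀ x ∈ LinearMap.ker π, tau S g x ∈ LinearMap.ker π := by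
    intro g x hx
    rw [LinearMap.mem_ker] at hx ⊢
    rw [hπτ, hx, map_zero]
  let σ : Representation ℤ G (LinearMap.ker π) :=
    { toFun := fun g => (tau S g).restrict (hker_inv g)
      map_one' := by
        refine LinearMap.ext fun x => Subtype.ext ?_
        show tau S 1 (x : Idx G S → ℤ) = x
        rw [map_one]; rfl
      map_mul' := fun g h => by
        refine LinearMap.ext fun x => Subtype.ext ?_
        show tau S (g * h) (x : Idx G S → ℤ) = tau S g (tau S h x)
        rw [map_mul]; rfl }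
  have hσ : ∀ g (x : LinearMap.ker π), ((σ g x : LinearMap.ker π) : Idx G S → ℤ) = tau S g x :=
    fun _ _ => rfl
  refine ⟨LinearMap.ker π, inferInstance, Idx G S → ℤ, inferInstance, inferInstance, inferInstance,
    inferInstance, inferInstance, σ, tau S, (LinearMap.ker π).subtype, π, ?_, ?_, ?_, ?_, ?_, ?_, ?_⟩
  · intro g x; exact hσ g x
  · intro g φ; exact hπτ g φ
  · exact Subtype.coe_injective
  · intro a
    have ha : a ∈ inv ⊥ := by
      refine (hinv _ _).mpr fun h => ?_
      have h1 : (h : G) = 1 := Subgroup.mem_bot.mp h.2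
      rw [h1, map_one]; rfl
    obtain ⟨p, -, hp⟩ := hF3 ⊥ a ha
    exact ⟨p, hp⟩
  · exact Submodule.range_subtype _
  · exact ⟨Idx G S, Pi.basisFun ℤ _, fun g i => ⟨act S g i, by
      rw [Pi.basisFun_apply, Pi.basisFun_apply]; exact tau_single S g i⟩⟩
  · intro H f hf
    obtain ⟨m, hm⟩ := perm_h1 (act S) (act_one S) (act_mul S) H
      (fun a => ((f a : LinearMap.ker π) : Idx G S → ℤ))
      (fun a b x => by
        have h := congrArg (fun q : LinearMap.ker π => (q : Idx G S → ℤ) x) (hf a b)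
        exact h)
    have hfm : ∀ a : H, ((f a : LinearMap.ker π) : Idx G S → ℤ) = tau S (a : G) m - m := by
      intro a; funext x; rw [hm a x]; rfl
    have hπm : π m ∈ inv H := by
      refine (hinv _ _).mpr fun h => ?_
      rw [← hπτ]
      have h1 : tau S (h : G) m = m + (f h : Idx G S → ℤ) := by rw [hfm]; abel
      rw [h1, map_add]
      have h2 : π (f h : Idx G S → ℤ) = 0 := LinearMap.mem_ker.mp (f h).2
      rw [h2, add_zero]
    obtain ⟨p', hp', hp'π⟩ := hF3 H (π m) hπm
    have hq : m - p' ∈ LinearMap.ker π := by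
      rw [LinearMap.mem_ker, map_sub, hp'π, sub_self]
    refine ⟨⟨m - p', hq⟩, fun a => ?_⟩
    apply Subtype.ext
    show ((f a : LinearMap.ker π) : Idx G S → ℤ) = tau S (a : G) (m - p') - (m - p')
    rw [hfm, map_sub, hp' a]
    abel


end Groth.Agent.H86.GLatPerm
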