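import Mathlib
import Groth.Prelude.Def_W4c5flasquetoriphsGLat
import Groth.Agent.H86.GLatPerm

/-!
# Flasque resolutions of lattices over a finite group (Colliot-Thélène–Sansuc)
-/

set_option autoImplicit false

namespace Groth.Agent.H86.GLatFlasque

open Groth.Agent.H86.GLatPerm

/-- An element of a lattice all of whose coordinates (under every functional) are divisible by `n`
is divisible by `n`. -/
theorem dvd_lemma {M : Type*} [AddCommGroup M] [Module.Finite ℤ M] [Module.Free ℤ M] (n : ℤ)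
    (m : M) (h : ∀ φ : M →ₗ[ℤ] ℤ, n ∣ φ m) : ∃ m' : M, m = n • m' := by
  classical
  let b := Module.Free.chooseBasis ℤ M
  have hc : ∀ j, ∃ c : ℤ, b.repr m j = n * c := fun j => by
    have := h (b.coord j)
    rw [Module.Basis.coord_apply] at this
    exact this
  choose c hc using hc
  refine ⟨∑ j, c j • b j, ?_⟩
  rw [Finset.smul_sum]
  conv_lhs => rw [← b.sum_repr m]
  refine Finset.sum_congr rfl fun j _ => ?_
  rw [hc j, mul_smul]

/-- `Ĥ⁻¹(H, ℤ[ι]) = 0` for a permutation module (function model, explicit action). -/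
theorem perm_hm1 {G : Type*} [Group G] {ι : Type*} [Fintype ι] [DecidableEq ι]
    (act : G → ι → ι)
    (act_one : ∀ x, act 1 x = x) (act_mul : ∀ g h x, act (g * h) x = act g (act h x))
    (H : Subgroup G) [Fintype H] (p : ι → ℤ)
    (hp : ∀ x, ∑ h : H, p (act (h : G)⁻¹ x) = 0) :
    p ∈ Submodule.span ℤ
      {q : ι → ℤ | ∃ (h : H) (y : ι → ℤ), q = (fun x => y (act (h : G)⁻¹ x)) - y} := by
  classical
  let K : Submodule ℤ (ι → ℤ) :=
    { carrier := {w | ∀ x, ∑ h : H, w (act (h : G)⁻¹ x) = 0}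
      add_mem' := fun {u v} hu hv x => by
        show ∑ h : H, (u (act (h : G)⁻¹ x) + v (act (h : G)⁻¹ x)) = 0
        rw [Finset.sum_add_distrib, hu x, hv x, add_zero]
      zero_mem' := fun x => Finset.sum_const_zero
      smul_mem' := fun c u hu x => by
        show ∑ h : H, c • u (act (h : G)⁻¹ x) = 0
        rw [← Finset.smul_sum, hu x, smul_zero] }
  have hK : ∀ w, w ∈ K ↔ ∀ x, ∑ h : H, w (act (h : G)⁻¹ x) = 0 := fun _ => Iff.rfl
  obtain ⟨X, hX⟩ : ∃ X : Set (ι → ℤ), X =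
    {q : ι → ℤ | ∃ (h : H) (y : ι → ℤ), q = (fun x => y (act (h : G)⁻¹ x)) - y} := ⟨_, rfl⟩
  rw [← hX]
  have hXK : Submodule.span ℤ X ≤ K := by
    rw [Submodule.span_le, hX]
    rintro q ⟨h₀, y, rfl⟩
    refine (hK _).mpr fun x => ?_
    show ∑ h : H, (y (act (h₀ : G)⁻¹ (act (h : G)⁻¹ x)) - y (act (h : G)⁻¹ x)) = 0
    rw [Finset.sum_sub_distrib, sub_eq_zero]
    refine Fintype.sum_equiv (Equiv.mulRight h₀) _ _ fun h => ?_
    show y (act (h₀ : G)⁻¹ (act (h : G)⁻¹ x)) = y (act ((h * h₀ : H) : G)⁻¹ x)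
    rw [Subgroup.coe_mul, mul_inv_rev, act_mul]
  let s : Setoid ι :=
    { r := fun x y => ∃ h : H, act (h : G) x = y
      iseqv := ⟨fun x => ⟨1, by rw [Subgroup.coe_one, act_one]⟩,
        fun {x y} ⟨h, hh⟩ => ⟨h⁻¹, by
          rw [← hh, Subgroup.coe_inv, ← act_mul, inv_mul_cancel, act_one]⟩,
        fun {x y z} ⟨h₁, hh₁⟩ ⟨h₂, hh₂⟩ => ⟨h₂ * h₁, by
          rw [Subgroup.coe_mul, act_mul, hh₁, hh₂]⟩⟩ }
  obtain ⟨r, hrdef⟩ : ∃ r : ι → ι, ∀ x, r x = (Quotient.mk s x).out := ⟨_, fun _ => rfl⟩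
  have hr : ∀ x, ∃ h : H, act (h : G) (r x) = x := fun x => by
    rw [hrdef]; exact Quotient.mk_out (s := s) x
  choose a ha using hr
  have hr_eq : ∀ (h : H) (x : ι), r (act (h : G) x) = r x := by
    intro h x
    rw [hrdef, hrdef]
    have h1 : Quotient.mk s (act (h : G) x) = Quotient.mk s x :=
      Quotient.sound (show s.r _ _ from ⟨h⁻¹, by
        rw [Subgroup.coe_inv, ← act_mul, inv_mul_cancel, act_one]⟩)
    rw [h1]
  have hainv : ∀ x, r x = act ((a x : H) : G)⁻¹ x := by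
    intro x
    have h := act_mul ((a x : H) : G)⁻¹ ((a x : H) : G) (r x)
    rw [inv_mul_cancel, act_one, ha x] at h
    exact h
  have hrr : ∀ x, r (r x) = r x := by
    intro x
    have h := hr_eq (a x) (r x)
    rw [ha x] at h
    exact h.symm
  have hstep : ∀ (x : ι) (c : ℤ), Pi.single x c - Pi.single (r x) c ∈ Submodule.span ℤ X := by
    intro x c
    refine Submodule.subset_span ?_
    rw [hX]
    refine ⟨a x, Pi.single (r x) c, ?_⟩
    congr 1
    funext z
    show (Pi.single x c : ι → ℤ) z = (Pi.single (r x) c : ι → ℤ) (act ((a x : H) : G)⁻¹ z)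
    rw [Pi.single_apply, Pi.single_apply]
    refine if_congr ?_ rfl rfl
    constructor
    · intro h
      rw [h]
      exact (hainv x).symm
    · intro h
      have h' := congrArg (act ((a x : H) : G)) h
      rw [← act_mul, mul_inv_cancel, act_one, ha x] at h'
      exact h'
  obtain ⟨q, hq⟩ : ∃ q : ι → ℤ, q = ∑ x, Pi.single (r x) (p x) := ⟨_, rfl⟩
  have hpq : p - q ∈ Submodule.span ℤ X := by
    have h1 : p - q = ∑ x, (Pi.single x (p x) - Pi.single (r x) (p x)) := by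
      rw [Finset.sum_sub_distrib, Finset.univ_sum_single, hq]
    rw [h1]
    exact Submodule.sum_mem _ fun x _ => hstep x (p x)
  have hqK : q ∈ K := by
    have h1 : p ∈ K := (hK p).mpr hp
    have h2 := hXK hpq
    have h3 := K.sub_mem h1 h2
    rwa [sub_sub_cancel] at h3
  have hqz : ∀ z, q z = ∑ x, if z = r x then p x else 0 := by
    intro z
    rw [hq, Finset.sum_apply]
    refine Finset.sum_congr rfl fun x _ => ?_
    rw [Pi.single_apply]
  have hsupp : ∀ z, r z ≠ z → q z = 0 := by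
    intro z hne
    rw [hqz]
    refine Finset.sum_eq_zero fun x _ => ?_
    rw [if_neg]
    intro hz
    apply hne
    rw [hz, hrr]
  have hq0 : q = 0 := by
    funext z
    show q z = 0
    by_cases hz : r z = z
    · have h0 := (hK q).mp hqK z
      have hterm : ∀ h : H, q (act (h : G)⁻¹ z) = if act (h : G)⁻¹ z = z then q z else 0 := by
        intro h
        by_cases hh : act (h : G)⁻¹ z = z
        · rw [if_pos hh, hh]
        · rw [if_neg hh]
          apply hsupp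
          have h1 : r (act (h : G)⁻¹ z) = z := by
            have h2 := hr_eq h⁻¹ z
            rw [Subgroup.coe_inv] at h2
            rw [h2, hz]
          rw [h1]
          exact fun h' => hh h'.symm
      rw [Finset.sum_congr rfl (fun h _ => hterm h), Finset.sum_ite, Finset.sum_const_zero,
        add_zero, Finset.sum_const, nsmul_eq_mul, mul_eq_zero] at h0
      rcases h0 with h0 | h0
      · exfalso
        have hcard : (Finset.filter (fun h : H => act (h : G)⁻¹ z = z) Finset.univ).card = 0 := by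
          exact_mod_cast h0
        have hempty := Finset.card_eq_zero.mp hcard
        have h1 : (1 : H) ∈ Finset.filter (fun h : H => act (h : G)⁻¹ z = z) Finset.univ :=
          Finset.mem_filter.mpr ⟨Finset.mem_univ _, by rw [Subgroup.coe_one, inv_one, act_one]⟩
        rw [hempty] at h1
        exact absurd h1 (Finset.notMem_empty _)
      · exact h0
    · exact hsupp z hz
  have hfinal : p = p - q := by rw [hq0, sub_zero]
  rw [hfinal]
  exact hpq

/-- Injectivity of `Ĥ⁰(H, A) → Hom(Ĥ⁰(H, A°), ℤ/|H|)` for a lattice `A`, in elementary form. -/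
theorem tate0_inj {G : Type*} [Group G] {A : Type*} [AddCommGroup A] [Module.Finite ℤ A]
    [Module.Free ℤ A] (ρ : Representation ℤ G A) (H : Subgroup G) [Fintype H] (a : A)
    (ha : ∀ h : H, ρ (h : G) a = a)
    (hdiv : ∀ φ : A →ₗ[ℤ] ℤ, (∀ (h : H) (x : A), φ (ρ (h : G) x) = φ x) →
      (Fintype.card H : ℤ) ∣ φ a) :
    ∃ b : A, a = ∑ h : H, ρ (h : G) b := by
  classical
  obtain ⟨N, hN⟩ : ∃ N : A →ₗ[ℤ] A, ∀ x, N x = ∑ h : H, ρ (h : G) x :=
    ⟨∑ h : H, ρ (h : G), fun x => by rw [LinearMap.sum_apply]⟩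
  have hNρ : ∀ (h₀ : H) (x : A), N (ρ (h₀ : G) x) = N x := by
    intro h₀ x
    rw [hN, hN]
    refine Fintype.sum_equiv (Equiv.mulRight h₀) _ _ fun h => ?_
    show ρ (h : G) (ρ (h₀ : G) x) = ρ ((h * h₀ : H) : G) x
    rw [Subgroup.coe_mul, map_mul]; rfl
  have hNa : N a = (Fintype.card H : ℤ) • a := by
    rw [hN, Finset.sum_congr rfl (fun h _ => ha h), Finset.sum_const, Finset.card_univ,
      natCast_zsmul]
  have hmem : N a ∈ LinearMap.range N := ⟨a, rfl⟩
  obtain ⟨m', hm'⟩ := dvd_lemma (M := LinearMap.range N) (Fintype.card H : ℤ) ⟨N a, hmem⟩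
    (fun ψ => by
      have h1 := hdiv (ψ ∘ₗ N.rangeRestrict) (fun h x => by
        show ψ (N.rangeRestrict (ρ (h : G) x)) = ψ (N.rangeRestrict x)
        congr 1
        apply Subtype.ext
        exact hNρ h x)
      exact h1)
  obtain ⟨b, hb⟩ := LinearMap.mem_range.mp m'.2
  refine ⟨b, ?_⟩
  have h2 : N a = (Fintype.card H : ℤ) • N b := by
    have h3 := congrArg Subtype.val hm'
    rw [hb]; exact h3
  rw [hNa] at h2
  have hcard : (Fintype.card H : ℤ) ≠ 0 := by exact_mod_cast Fintype.card_ne_zero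
  rw [← hN]
  exact smul_right_injective A hcard h2

/-- Flasque resolution of a lattice: `0 → A → P → F → 0` with `P` permutation, `F` flasque. -/
theorem flasque_res (G : Type) [Group G] [Finite G]
    (A : Type) [AddCommGroup A] [Module.Finite ℤ A] [Module.Free ℤ A] (ρ : Representation ℤ G A) :
    ∃ (P : Type) (_ : AddCommGroup P) (F : Type) (_ : AddCommGroup F)
      (_ : Module.Finite ℤ P) (_ : Module.Free ℤ P) (_ : Module.Finite ℤ F) (_ : Module.Free ℤ F)
      (σ : Representation ℤ G P) (τ : Representation ℤ G F) (i : A →ₗ[ℤ] P) (π : P →ₗ[ℤ] F),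
      GLat.IsEquivariant ρ σ i ∧ GLat.IsEquivariant σ τ π ∧ Function.Injective i ∧
      Function.Surjective π ∧
      LinearMap.range i = LinearMap.ker π ∧ GLat.IsPermutation σ ∧ GLat.IsFlasque τ := by
  classical
  let invD : Subgroup G → Submodule ℤ (A →ₗ[ℤ] ℤ) := fun H =>
    { carrier := {φ | ∀ (h : H) (x : A), φ (ρ (h : G) x) = φ x}
      add_mem' := fun {φ ψ} hφ hψ h x => by
        show φ (ρ (h : G) x) + ψ (ρ (h : G) x) = φ x + ψ x
        rw [hφ h x, hψ h x]
      zero_mem' := fun h x => rfl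
      smul_mem' := fun n φ hφ h x => by
        show n • φ (ρ (h : G) x) = n • φ x
        rw [hφ h x] }
  have hinvD : ∀ (H : Subgroup G) (φ : A →ₗ[ℤ] ℤ),
      φ ∈ invD H ↔ ∀ (h : H) (x : A), φ (ρ (h : G) x) = φ x := fun _ _ => Iff.rfl
  have hfg : ∀ H, ∃ S : Finset (A →ₗ[ℤ] ℤ),
      Submodule.span ℤ (S : Set (A →ₗ[ℤ] ℤ)) = invD H := fun H =>
    IsNoetherian.noetherian (invD H)
  choose S hS using hfg
  have hSinv : ∀ (H : Subgroup G) (φ : {φ // φ ∈ S H}), (φ : A →ₗ[ℤ] ℤ) ∈ invD H :=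
    fun H φ => by
      rw [← hS H]; exact Submodule.subset_span (Finset.mem_coe.mpr φ.2)
  have hbot : ∀ φ : A →ₗ[ℤ] ℤ, φ ∈ invD ⊥ := by
    intro φ
    refine (hinvD _ _).mpr fun h x => ?_
    have h1 : (h : G) = 1 := Subgroup.mem_bot.mp h.2
    rw [h1, map_one]; rfl
  have hcoset : ∀ (H : Subgroup G) (φ : A →ₗ[ℤ] ℤ), φ ∈ invD H → ∀ k k' : G,
      (k : G ⧸ H) = (k' : G ⧸ H) → ∀ x : A, φ (ρ k'⁻¹ x) = φ (ρ k⁻¹ x) := by
    intro H φ hφ k k' hkk' x
    have hmem : k⁻¹ * k' ∈ H := QuotientGroup.eq.mp hkk'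
    have hmem' : (k⁻¹ * k')⁻¹ ∈ H := H.inv_mem hmem
    have h1 := (hinvD H φ).mp hφ ⟨_, hmem'⟩ (ρ k⁻¹ x)
    have h2 : k'⁻¹ = (k⁻¹ * k')⁻¹ * k⁻¹ := by group
    rw [h2, map_mul]
    exact h1
  have : Finite (Idx G S) := inferInstance
  let _ : Fintype (Idx G S) := Fintype.ofFinite _
  obtain ⟨i, hi⟩ : ∃ i : A →ₗ[ℤ] (Idx G S → ℤ), ∀ (a : A) (x : Idx G S),
      i a x = (x.2.1 : A →ₗ[ℤ] ℤ) (ρ (Quotient.out x.2.2)⁻¹ a) :=
    ⟨LinearMap.pi fun x => (x.2.1 : A →ₗ[ℤ] ℤ) ∘ₗ ρ (Quotient.out x.2.2)⁻¹, fun a x => rfl⟩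
  have hik : ∀ (H : Subgroup G) (φ : {φ // φ ∈ S H}) (k : G) (a : A),
      i a ⟨H, (φ, (k : G ⧸ H))⟩ = (φ : A →ₗ[ℤ] ℤ) (ρ k⁻¹ a) := by
    intro H φ k a
    rw [hi]
    show (φ : A →ₗ[ℤ] ℤ) (ρ (Quotient.out (k : G ⧸ H))⁻¹ a) = _
    exact hcoset H φ (hSinv H φ) k (Quotient.out (k : G ⧸ H)) (QuotientGroup.out_eq' _).symm a
  have hiτ : ∀ g a, i (ρ g a) = tau S g (i a) := by
    intro g a
    funext x
    rcases x with ⟨H, φ, y⟩
    obtain ⟨k, rfl⟩ := QuotientGroup.mk_surjective y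
    rw [tau_apply]
    show i (ρ g a) ⟨H, (φ, (k : G ⧸ H))⟩ = i a ⟨H, (φ, g⁻¹ • (k : G ⧸ H))⟩
    rw [MulAction.Quotient.smul_coe, smul_eq_mul, hik, hik, mul_inv_rev, inv_inv, map_mul]
    rfl
  have hdivS : ∀ (n : ℤ) (H : Subgroup G) (a : A),
      (∀ φ : {φ // φ ∈ S H}, n ∣ (φ : A →ₗ[ℤ] ℤ) a) → ∀ φ ∈ invD H, n ∣ φ a := by
    intro n H a h φ hφ
    let Dn : Submodule ℤ (A →ₗ[ℤ] ℤ) :=
      { carrier := {φ | n ∣ φ a}
        add_mem' := fun {φ ψ} hφ hψ => by
          show n ∣ φ a + ψ a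
          exact dvd_add hφ hψ
        zero_mem' := by
          show n ∣ (0 : A →ₗ[ℤ] ℤ) a
          exact dvd_zero n
        smul_mem' := fun c φ hφ => by
          show n ∣ c • φ a
          rw [smul_eq_mul]
          exact Dvd.dvd.mul_left hφ c }
    have hle : invD H ≤ Dn := by
      rw [← hS H, Submodule.span_le]
      intro φ hφ
      exact h ⟨φ, Finset.mem_coe.mp hφ⟩
    exact hle hφ
  have hinj : Function.Injective i := by
    rw [← LinearMap.ker_eq_bot, LinearMap.ker_eq_bot']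
    intro a ha
    rw [← Module.forall_dual_apply_eq_zero_iff ℤ a]
    intro φ
    have h1 : ∀ φ : {φ // φ ∈ S ⊥}, (0 : ℤ) ∣ (φ : A →ₗ[ℤ] ℤ) a := by
      intro φ
      have h2 := hik ⊥ φ 1 a
      rw [ha, inv_one, map_one] at h2
      rw [zero_dvd_iff]
      exact h2.symm
    have h3 := hdivS 0 ⊥ a h1 φ (hbot φ)
    exact zero_dvd_iff.mp h3
  obtain ⟨R, hR⟩ : ∃ R : Submodule ℤ (Idx G S → ℤ), R = LinearMap.range i := ⟨_, rfl⟩
  have hstab : ∀ g, R ≤ R.comap (tau S g) := by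
    intro g x hx
    rw [hR] at hx ⊢
    obtain ⟨a, rfl⟩ := hx
    exact ⟨ρ g a, hiτ g a⟩
  let τ : Representation ℤ G ((Idx G S → ℤ) ⧸ R) :=
    { toFun := fun g => R.mapQ R (tau S g) (hstab g)
      map_one' := by
        refine LinearMap.ext fun x => ?_
        obtain ⟨p, rfl⟩ := Submodule.Quotient.mk_surjective R x
        show Submodule.Quotient.mk (tau S 1 p) = Submodule.Quotient.mk p
        rw [map_one]; rfl
      map_mul' := fun g h => by
        refine LinearMap.ext fun x => ?_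
        obtain ⟨p, rfl⟩ := Submodule.Quotient.mk_surjective R x
        show Submodule.Quotient.mk (tau S (g * h) p) =
          Submodule.Quotient.mk (tau S g (tau S h p))
        rw [map_mul]; rfl }
  have hτmk : ∀ (g : G) (p : Idx G S → ℤ),
      τ g (Submodule.Quotient.mk p) = Submodule.Quotient.mk (tau S g p) := fun _ _ => rfl
  haveI : Module.IsTorsionFree ℤ ((Idx G S → ℤ) ⧸ R) := by
    refine Module.IsTorsionFree.of_smul_eq_zero fun n m hnm => ?_
    by_cases hn : n = 0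
    · exact Or.inl hn
    · right
      obtain ⟨p, rfl⟩ := Submodule.Quotient.mk_surjective R m
      rw [← Submodule.Quotient.mk_smul, Submodule.Quotient.mk_eq_zero, hR] at hnm
      obtain ⟨a, ha⟩ := hnm
      have h1 : ∀ φ : {φ // φ ∈ S ⊥}, n ∣ (φ : A →ₗ[ℤ] ℤ) a := by
        intro φ
        have h2 := hik ⊥ φ 1 a
        rw [ha, inv_one, map_one] at h2
        exact ⟨p ⟨⊥, (φ, ((1 : G) : G ⧸ (⊥ : Subgroup G)))⟩, h2.symm⟩
      obtain ⟨a', ha'⟩ := dvd_lemma n a (fun φ => hdivS n ⊥ a h1 φ (hbot φ))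
      rw [Submodule.Quotient.mk_eq_zero, hR]
      refine ⟨a', ?_⟩
      have h3 : n • i a' = n • p := by rw [← map_smul, ← ha', ha]
      exact smul_right_injective _ hn h3
  refine ⟨Idx G S → ℤ, inferInstance, (Idx G S → ℤ) ⧸ R, inferInstance, inferInstance,
    inferInstance, inferInstance, inferInstance, tau S, τ, i, R.mkQ, ?_, ?_, ?_, ?_, ?_, ?_, ?_⟩
  · intro g a; exact hiτ g a
  · intro g p; rfl
  · exact hinj
  · exact Submodule.mkQ_surjective R
  · rw [Submodule.ker_mkQ, hR]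
  · exact ⟨Idx G S, Pi.basisFun ℤ _, fun g i => ⟨act S g i, by
      rw [Pi.basisFun_apply, Pi.basisFun_apply]; exact tau_single S g i⟩⟩
  · intro H m hm
    haveI : Fintype H := Fintype.ofFinite _
    obtain ⟨p, rfl⟩ := Submodule.Quotient.mk_surjective R m
    rw [finsum_eq_sum_of_fintype] at hm
    have hsum : ∑ h : H, τ (h : G) (Submodule.Quotient.mk p) =
        (Submodule.Quotient.mk (∑ h : H, tau S (h : G) p) : (Idx G S → ℤ) ⧸ R) := by
      rw [show (Submodule.Quotient.mk (∑ h : H, tau S (h : G) p) : (Idx G S → ℤ) ⧸ R) =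
        R.mkQ (∑ h : H, tau S (h : G) p) from rfl, map_sum]
      rfl
    rw [hsum, Submodule.Quotient.mk_eq_zero, hR] at hm
    obtain ⟨a, ha⟩ := hm
    have hNτ : ∀ h₀ : H, tau S (h₀ : G) (∑ h : H, tau S (h : G) p) =
        ∑ h : H, tau S (h : G) p := by
      intro h₀
      rw [map_sum]
      refine Fintype.sum_equiv (Equiv.mulLeft h₀) _ _ fun h => ?_
      show tau S (h₀ : G) (tau S (h : G) p) = tau S ((h₀ * h : H) : G) p
      rw [Subgroup.coe_mul, map_mul]; rfl
    have haH : ∀ h : H, ρ (h : G) a = a := fun h => hinj (by rw [hiτ, ha, hNτ])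
    have hdivH : ∀ φ : {φ // φ ∈ S H}, (Fintype.card H : ℤ) ∣ (φ : A →ₗ[ℤ] ℤ) a := by
      intro φ
      have h2 := hik H φ 1 a
      rw [ha, inv_one, map_one] at h2
      refine ⟨p ⟨H, (φ, ((1 : G) : G ⧸ H))⟩, ?_⟩
      have h3 : (∑ h : H, tau S (h : G) p) ⟨H, (φ, ((1 : G) : G ⧸ H))⟩ =
          (Fintype.card H : ℤ) * p ⟨H, (φ, ((1 : G) : G ⧸ H))⟩ := by
        rw [Finset.sum_apply]
        have h4 : ∀ h : H, tau S (h : G) p ⟨H, (φ, ((1 : G) : G ⧸ H))⟩ =
            p ⟨H, (φ, ((1 : G) : G ⧸ H))⟩ := by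
          intro h
          rw [tau_apply]
          congr 1
          show (⟨H, (φ, (h : G)⁻¹ • ((1 : G) : G ⧸ H))⟩ : Idx G S) =
            ⟨H, (φ, ((1 : G) : G ⧸ H))⟩
          have h1 : (h : G)⁻¹ • ((1 : G) : G ⧸ H) = ((1 : G) : G ⧸ H) := by
            rw [MulAction.Quotient.smul_coe, smul_eq_mul, mul_one, QuotientGroup.eq, mul_one]
            exact H.inv_mem (H.inv_mem h.2)
          rw [h1]
        rw [Finset.sum_congr rfl (fun h _ => h4 h), Finset.sum_const, Finset.card_univ,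
          nsmul_eq_mul]
      rw [← h3]
      exact h2.symm
    obtain ⟨b, hb⟩ := tate0_inj ρ H a haH
      (fun φ hφ => hdivS _ H a hdivH φ ((hinvD H φ).mpr hφ))
    have hN0 : ∀ x, ∑ h : H, (p - i b) (act S (h : G)⁻¹ x) = 0 := by
      intro x
      have h1 : ∑ h : H, tau S (h : G) (p - i b) = 0 := by
        simp only [map_sub, Finset.sum_sub_distrib]
        rw [← ha, sub_eq_zero, hb, map_sum]
        exact Finset.sum_congr rfl fun h _ => hiτ _ _
      have h2 := congrFun h1 x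
      rw [Finset.sum_apply] at h2
      exact h2
    have hmem := perm_hm1 (act S) (act_one S) (act_mul S) H (p - i b) hN0
    have hmk : (Submodule.Quotient.mk p : (Idx G S → ℤ) ⧸ R) = R.mkQ (p - i b) := by
      rw [Submodule.mkQ_apply, Submodule.Quotient.mk_sub]
      have h5 : (Submodule.Quotient.mk (i b) : (Idx G S → ℤ) ⧸ R) = 0 := by
        rw [Submodule.Quotient.mk_eq_zero, hR]; exact ⟨b, rfl⟩
      rw [h5, sub_zero]
    rw [hmk]
    have h4 := Submodule.apply_mem_span_image_of_mem_span R.mkQ hmem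
    refine Submodule.span_mono ?_ h4
    rintro _ ⟨q, ⟨h, y, rfl⟩, rfl⟩
    exact ⟨h, R.mkQ y, rfl⟩

end Groth.Agent.H86.GLatFlasque
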