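import Mathlib
import Groth.Prelude.Def_W4c5flasquetoriphsGLat
import Groth.Agent.H86.GLatPerm
import Groth.Agent.H86.GLatFlasque

/-!
# Permutation lattices are flasque and coflasque; extensions; coflasque resolutions and
flasque covers (Colliot-Thélène–Sansuc, Lemme 3 / Lemma 0.6)
-/

set_option autoImplicit false

namespace Groth.Agent.H86.GLatExt

open Groth.Agent.H86

section Perm

variable {G : Type*} [Group G] [Finite G] {M : Type*} [AddCommGroup M] [Module.Finite ℤ M]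
  (ρ : Representation ℤ G M)

theorem perm_data (hρ : GLat.IsPermutation ρ) :
    ∃ (ι : Type) (_ : Fintype ι) (b : Module.Basis ι ℤ M) (act : G → ι → ι),
      (∀ x, act 1 x = x) ∧ (∀ g h x, act (g * h) x = act g (act h x)) ∧
      (∀ g i, ρ g (b i) = b (act g i)) ∧
      (∀ (g : G) (v : M) (x : ι), b.repr (ρ g v) x = b.repr v (act g⁻¹ x)) := by
  classical
  obtain ⟨ι, b, hperm⟩ := hρ
  haveI : Finite ι := Module.Finite.finite_basis b
  choose act hact using hperm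
  have act_one : ∀ x, act 1 x = x := by
    intro x
    apply b.injective
    rw [← hact, map_one]; rfl
  have act_mul : ∀ g h x, act (g * h) x = act g (act h x) := by
    intro g h x
    apply b.injective
    rw [← hact, map_mul, ← hact, ← hact]; rfl
  have hkey : ∀ (g : G) (v : M) (x : ι), b.repr (ρ g v) x = b.repr v (act g⁻¹ x) := by
    intro g v x
    have h1 : (b.coord x) ∘ₗ (ρ g) = b.coord (act g⁻¹ x) := by
      apply b.ext
      intro i
      show b.coord x (ρ g (b i)) = b.coord (act g⁻¹ x) (b i)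
      rw [hact, Module.Basis.coord_apply, Module.Basis.coord_apply, Module.Basis.repr_self,
        Module.Basis.repr_self, Finsupp.single_apply, Finsupp.single_apply]
      refine if_congr ?_ rfl rfl
      constructor
      · intro h; rw [← h, ← act_mul, inv_mul_cancel, act_one]
      · intro h; rw [h, ← act_mul, mul_inv_cancel, act_one]
    exact LinearMap.congr_fun h1 v
  exact ⟨ι, Fintype.ofFinite ι, b, act, act_one, act_mul, hact, hkey⟩

theorem isCoflasque_of_isPermutation (hρ : GLat.IsPermutation ρ) : GLat.IsCoflasque ρ := by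
  classical
  obtain ⟨ι, _, b, act, act_one, act_mul, hact, hkey⟩ := perm_data ρ hρ
  intro H f hf
  obtain ⟨m₀, hm₀⟩ := GLatPerm.perm_h1 act act_one act_mul H (fun a x => b.repr (f a) x)
    (fun a c x => by
      show b.repr (f (a * c)) x = b.repr (f a) x + b.repr (f c) (act (a : G)⁻¹ x)
      rw [hf, map_add, Finsupp.add_apply, hkey])
  have h1 : ∀ (w : ι → ℤ) (y : ι), b.repr (b.equivFun.symm w) y = w y := by
    intro w y
    exact congrFun (b.equivFun.apply_symm_apply w) y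
  refine ⟨b.equivFun.symm m₀, fun a => ?_⟩
  apply b.ext_elem
  intro x
  rw [map_sub, Finsupp.sub_apply, hkey, h1, h1]
  exact hm₀ a x

theorem isFlasque_of_isPermutation (hρ : GLat.IsPermutation ρ) : GLat.IsFlasque ρ := by
  classical
  obtain ⟨ι, _, b, act, act_one, act_mul, hact, hkey⟩ := perm_data ρ hρ
  intro H m hm
  haveI : Fintype H := Fintype.ofFinite _
  rw [finsum_eq_sum_of_fintype] at hm
  have h1 : ∀ (w : ι → ℤ) (y : ι), b.repr (b.equivFun.symm w) y = w y := by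
    intro w y
    exact congrFun (b.equivFun.apply_symm_apply w) y
  have hp : ∀ x, ∑ h : H, (b.equivFun m) (act (h : G)⁻¹ x) = 0 := by
    intro x
    have h2 := congrArg (b.coord x) hm
    rw [map_sum, map_zero] at h2
    rw [← h2]
    exact Finset.sum_congr rfl fun h _ => (hkey (h : G) m x).symm
  have hmem := GLatFlasque.perm_hm1 act act_one act_mul H (b.equivFun m) hp
  have h4 := Submodule.apply_mem_span_image_of_mem_span
    (b.equivFun.symm : (ι → ℤ) →ₗ[ℤ] M) hmem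
  have h5 : (b.equivFun.symm : (ι → ℤ) →ₗ[ℤ] M) (b.equivFun m) = m :=
    b.equivFun.symm_apply_apply m
  rw [h5] at h4
  refine Submodule.span_mono ?_ h4
  rintro _ ⟨q, ⟨h, y, rfl⟩, rfl⟩
  refine ⟨h, b.equivFun.symm y, ?_⟩
  show b.equivFun.symm ((fun x => y (act (h : G)⁻¹ x)) - y) =
    ρ (h : G) (b.equivFun.symm y) - b.equivFun.symm y
  rw [map_sub]
  congr 1
  apply b.ext_elem
  intro x
  rw [hkey, h1, h1]

end Perm

section Ext

variable {G : Type*} [Group G] {M' M M'' : Type*} [AddCommGroup M'] [AddCommGroup M]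
  [AddCommGroup M'']
  (ρ' : Representation ℤ G M') (ρ : Representation ℤ G M) (ρ'' : Representation ℤ G M'')
  (i : M' →ₗ[ℤ] M) (π : M →ₗ[ℤ] M'')

theorem coflasque_ext
    (hi : GLat.IsEquivariant ρ' ρ i) (hπ : GLat.IsEquivariant ρ ρ'' π)
    (hinj : Function.Injective i) (hsurj : Function.Surjective π)
    (hex : LinearMap.range i = LinearMap.ker π)
    (h' : GLat.IsCoflasque ρ') (h'' : GLat.IsCoflasque ρ'') : GLat.IsCoflasque ρ := by
  have hi' : ∀ g x, i (ρ' g x) = ρ g (i x) := hi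
  have hπ' : ∀ g x, π (ρ g x) = ρ'' g (π x) := hπ
  intro H f hf
  obtain ⟨m'', hm''⟩ := h'' H (fun a => π (f a)) (fun a c => by
    show π (f (a * c)) = π (f a) + ρ'' (a : G) (π (f c))
    rw [hf, map_add, hπ'])
  obtain ⟨e, he⟩ := hsurj m''
  have hker : ∀ a : H, f a - (ρ (a : G) e - e) ∈ LinearMap.range i := by
    intro a
    rw [hex, LinearMap.mem_ker, map_sub, map_sub, hπ', he, sub_eq_zero]
    exact hm'' a
  choose w hw using hker
  obtain ⟨q, hq⟩ := h' H w (fun a c => by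
    apply hinj
    rw [map_add, hi', hw, hw, hw, hf, Subgroup.coe_mul, map_mul]
    simp only [map_sub, Module.End.mul_apply]
    abel)
  refine ⟨e + i q, fun a => ?_⟩
  have h1 := hw a
  rw [hq a, map_sub, hi'] at h1
  have h2 : f a = (ρ (a : G) (i q) - i q) + (ρ (a : G) e - e) := by rw [h1]; abel
  rw [h2, map_add]; abel

theorem flasque_ext [Finite G]
    (hi : GLat.IsEquivariant ρ' ρ i) (hπ : GLat.IsEquivariant ρ ρ'' π)
    (hinj : Function.Injective i) (hsurj : Function.Surjective π)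
    (hex : LinearMap.range i = LinearMap.ker π)
    (h' : GLat.IsFlasque ρ') (h'' : GLat.IsFlasque ρ'') : GLat.IsFlasque ρ := by
  classical
  have hi' : ∀ g x, i (ρ' g x) = ρ g (i x) := hi
  have hπ' : ∀ g x, π (ρ g x) = ρ'' g (π x) := hπ
  intro H m hm
  haveI : Fintype H := Fintype.ofFinite _
  rw [finsum_eq_sum_of_fintype] at hm
  obtain ⟨X, hX⟩ : ∃ X : Set M, X = {x : M | ∃ (h : H) (y : M), x = ρ (h : G) y - y} :=
    ⟨_, rfl⟩
  rw [← hX]
  obtain ⟨Nm, hNm⟩ : ∃ N : M →ₗ[ℤ] M, ∀ x, N x = ∑ h : H, ρ (h : G) x :=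
    ⟨∑ h : H, ρ (h : G), fun x => by rw [LinearMap.sum_apply]⟩
  have hnorm : Submodule.span ℤ X ≤ LinearMap.ker Nm := by
    rw [Submodule.span_le, hX]
    rintro _ ⟨h₀, y, rfl⟩
    show Nm (ρ (h₀ : G) y - y) = 0
    rw [map_sub, sub_eq_zero, hNm, hNm]
    refine Fintype.sum_equiv (Equiv.mulRight h₀) _ _ fun h => ?_
    show ρ (h : G) (ρ (h₀ : G) y) = ρ ((h * h₀ : H) : G) y
    rw [Subgroup.coe_mul, map_mul]; rfl
  have hπm : (∑ᶠ h : H, ρ'' (h : G) (π m)) = 0 := by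
    rw [finsum_eq_sum_of_fintype]
    have h0 := congrArg π hm
    rw [map_sum, map_zero] at h0
    rw [← h0]
    exact Finset.sum_congr rfl fun h _ => (hπ' _ _).symm
  have h1 := h'' H (π m) hπm
  have hX'' : Submodule.span ℤ {x : M'' | ∃ (h : H) (y : M''), x = ρ'' (h : G) y - y} ≤
      (Submodule.span ℤ X).map π := by
    rw [Submodule.span_le]
    rintro _ ⟨h, y'', rfl⟩
    obtain ⟨y, rfl⟩ := hsurj y''
    exact Submodule.mem_map.mpr ⟨ρ (h : G) y - y,
      Submodule.subset_span (by rw [hX]; exact ⟨h, y, rfl⟩), by rw [map_sub, hπ']⟩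
  obtain ⟨z, hz, hzm⟩ := Submodule.mem_map.mp (hX'' h1)
  have hker : m - z ∈ LinearMap.range i := by
    rw [hex, LinearMap.mem_ker, map_sub, hzm, sub_self]
  obtain ⟨m', hm'⟩ := hker
  have hm'0 : (∑ᶠ h : H, ρ' (h : G) m') = 0 := by
    rw [finsum_eq_sum_of_fintype]
    apply hinj
    rw [map_sum, map_zero]
    have h2 : ∑ h : H, i (ρ' (h : G) m') = Nm (m - z) := by
      rw [hNm, ← hm']
      exact Finset.sum_congr rfl fun h _ => hi' _ _
    rw [h2, map_sub, LinearMap.mem_ker.mp (hnorm hz), sub_zero, hNm, hm]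
  have h3 := h' H m' hm'0
  have hX' : Submodule.span ℤ {x : M' | ∃ (h : H) (y : M'), x = ρ' (h : G) y - y} ≤
      (Submodule.span ℤ X).comap i := by
    rw [Submodule.span_le]
    rintro _ ⟨h, y', rfl⟩
    show i (ρ' (h : G) y' - y') ∈ Submodule.span ℤ X
    refine Submodule.subset_span ?_
    rw [hX]
    exact ⟨h, i y', by rw [map_sub, hi']⟩
  have h4 : i m' ∈ Submodule.span ℤ X := hX' h3
  have h5 : m = z + i m' := by rw [hm']; abel
  rw [h5]
  exact Submodule.add_mem _ hz h4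

theorem torsionFree_ext (hinj : Function.Injective i)
    (hex : LinearMap.range i = LinearMap.ker π)
    [Module.IsTorsionFree ℤ M'] [Module.IsTorsionFree ℤ M''] : Module.IsTorsionFree ℤ M := by
  refine Module.IsTorsionFree.of_smul_eq_zero fun n m hnm => ?_
  by_cases hn : n = 0
  · exact Or.inl hn
  · right
    have h1 : π m = 0 := by
      have h0 : n • π m = 0 := by rw [← map_smul, hnm, map_zero]
      exact (smul_eq_zero.mp h0).resolve_left hn
    have h2 : m ∈ LinearMap.range i := by rw [hex]; exact h1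
    obtain ⟨m', rfl⟩ := h2
    have h3 : n • m' = 0 := hinj (by rw [map_smul, hnm, map_zero])
    rw [(smul_eq_zero.mp h3).resolve_left hn, map_zero]

end Ext

/-- Coflasque resolution of a lattice: `0 → A → Q → P → 0`, `Q` coflasque, `P` permutation. -/
theorem coflasque_res (G : Type) [Group G] [Finite G]
    (A : Type) [AddCommGroup A] [Module.Finite ℤ A] [Module.Free ℤ A] (ρ : Representation ℤ G A) :
    ∃ (Q : Type) (_ : AddCommGroup Q) (P : Type) (_ : AddCommGroup P)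
      (_ : Module.Finite ℤ Q) (_ : Module.Free ℤ Q) (_ : Module.Finite ℤ P) (_ : Module.Free ℤ P)
      (σ : Representation ℤ G Q) (τ : Representation ℤ G P) (i : A →ₗ[ℤ] Q) (π : Q →ₗ[ℤ] P),
      GLat.IsEquivariant ρ σ i ∧ GLat.IsEquivariant σ τ π ∧ Function.Injective i ∧
      Function.Surjective π ∧
      LinearMap.range i = LinearMap.ker π ∧ GLat.IsCoflasque σ ∧ GLat.IsPermutation τ := by
  obtain ⟨P₁, iP₁, F, iF, fP₁, frP₁, fF, frF, σ₁, τF, i₁, π₁, hi₁, hπ₁, hinj₁, hsurj₁, hex₁,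
    hperm₁, -⟩ := GLatFlasque.flasque_res G A ρ
  obtain ⟨Q₂, iQ₂, P₂, iP₂, fQ₂, frQ₂, fP₂, frP₂, σQ, τP, i₂, π₂, hi₂, hπ₂, hinj₂, hsurj₂, hex₂,
    hperm₂, hcofl₂⟩ := GLatPerm.main G F τF
  have hπ₁' : ∀ g x, π₁ (σ₁ g x) = τF g (π₁ x) := hπ₁
  have hπ₂' : ∀ g y, π₂ (τP g y) = τF g (π₂ y) := hπ₂
  have hi₁' : ∀ g a, i₁ (ρ g a) = σ₁ g (i₁ a) := hi₁
  have hi₂' : ∀ g q, i₂ (σQ g q) = τP g (i₂ q) := hi₂
  have hπi₁ : ∀ a, π₁ (i₁ a) = 0 := fun a => by
    have h : i₁ a ∈ LinearMap.ker π₁ := by rw [← hex₁]; exact ⟨a, rfl⟩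
    exact h
  have hπi₂ : ∀ q, π₂ (i₂ q) = 0 := fun q => by
    have h : i₂ q ∈ LinearMap.ker π₂ := by rw [← hex₂]; exact ⟨q, rfl⟩
    exact h
  obtain ⟨φ, hφ⟩ : ∃ φ : P₁ × P₂ →ₗ[ℤ] F, ∀ z, φ z = π₁ z.1 - π₂ z.2 :=
    ⟨π₁ ∘ₗ LinearMap.fst ℤ P₁ P₂ - π₂ ∘ₗ LinearMap.snd ℤ P₁ P₂, fun z => rfl⟩
  obtain ⟨σpr, hσpr⟩ : ∃ σpr : G → (P₁ × P₂ →ₗ[ℤ] P₁ × P₂),
      ∀ g z, σpr g z = (σ₁ g z.1, τP g z.2) :=
    ⟨fun g => (σ₁ g).prodMap (τP g), fun g z => rfl⟩
  have hstab : ∀ g, ∀ z ∈ LinearMap.ker φ, σpr g z ∈ LinearMap.ker φ := by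
    intro g z hz
    rw [LinearMap.mem_ker, hφ] at hz ⊢
    rw [hσpr]
    show π₁ (σ₁ g z.1) - π₂ (τP g z.2) = 0
    rw [hπ₁', hπ₂', ← map_sub, hz, map_zero]
  let σE : Representation ℤ G (LinearMap.ker φ) :=
    { toFun := fun g => (σpr g).restrict (hstab g)
      map_one' := by
        refine LinearMap.ext fun x => Subtype.ext ?_
        show σpr 1 (x : P₁ × P₂) = x
        rw [hσpr, map_one, map_one]; rfl
      map_mul' := fun g h => by
        refine LinearMap.ext fun x => Subtype.ext ?_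
        show σpr (g * h) (x : P₁ × P₂) = σpr g (σpr h x)
        rw [hσpr, hσpr, hσpr, map_mul, map_mul]; rfl }
  have hσE : ∀ g (e : LinearMap.ker φ), ((σE g e : LinearMap.ker φ) : P₁ × P₂) = σpr g e :=
    fun _ _ => rfl
  let j : A →ₗ[ℤ] LinearMap.ker φ :=
    (LinearMap.inl ℤ P₁ P₂ ∘ₗ i₁).codRestrict (LinearMap.ker φ) (fun a => by
      rw [LinearMap.mem_ker, hφ]
      show π₁ (i₁ a) - π₂ 0 = 0
      rw [hπi₁, map_zero, sub_zero])
  have hj : ∀ a, ((j a : LinearMap.ker φ) : P₁ × P₂) = (i₁ a, 0) := fun a => rfl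
  let prE : LinearMap.ker φ →ₗ[ℤ] P₂ := LinearMap.snd ℤ P₁ P₂ ∘ₗ (LinearMap.ker φ).subtype
  have hprE : ∀ e : LinearMap.ker φ, prE e = (e : P₁ × P₂).2 := fun e => rfl
  let iE : Q₂ →ₗ[ℤ] LinearMap.ker φ :=
    (LinearMap.inr ℤ P₁ P₂ ∘ₗ i₂).codRestrict (LinearMap.ker φ) (fun q => by
      rw [LinearMap.mem_ker, hφ]
      show π₁ 0 - π₂ (i₂ q) = 0
      rw [hπi₂, map_zero, sub_zero])
  have hiE : ∀ q, ((iE q : LinearMap.ker φ) : P₁ × P₂) = (0, i₂ q) := fun q => rfl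
  let pr1 : LinearMap.ker φ →ₗ[ℤ] P₁ := LinearMap.fst ℤ P₁ P₂ ∘ₗ (LinearMap.ker φ).subtype
  have hpr1 : ∀ e : LinearMap.ker φ, pr1 e = (e : P₁ × P₂).1 := fun e => rfl
  have hcofl : GLat.IsCoflasque σE := by
    refine coflasque_ext σQ σE σ₁ iE pr1 ?_ ?_ ?_ ?_ ?_ hcofl₂
      (isCoflasque_of_isPermutation σ₁ hperm₁)
    · intro g q
      apply Subtype.ext
      rw [hσE, hiE, hiE, hσpr, hi₂']
      show ((0 : P₁), τP g (i₂ q)) = (σ₁ g 0, τP g (i₂ q))
      rw [map_zero]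
    · intro g e
      rw [hpr1, hpr1, hσE, hσpr]
    · intro q q' h
      have h1 := congrArg (fun e : LinearMap.ker φ => (e : P₁ × P₂).2) h
      exact hinj₂ h1
    · intro x
      obtain ⟨y, hy⟩ := hsurj₂ (π₁ x)
      exact ⟨⟨(x, y), by
        rw [LinearMap.mem_ker, hφ]
        show π₁ x - π₂ y = 0
        rw [hy, sub_self]⟩, rfl⟩
    · ext e
      constructor
      · rintro ⟨q, rfl⟩
        exact LinearMap.mem_ker.mpr rfl
      · intro he
        have he1 : (e : P₁ × P₂).1 = 0 := LinearMap.mem_ker.mp he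
        have he2 := e.2
        rw [LinearMap.mem_ker, hφ, he1, map_zero, zero_sub, neg_eq_zero] at he2
        have h3 : (e : P₁ × P₂).2 ∈ LinearMap.range i₂ := by rw [hex₂]; exact he2
        obtain ⟨q, hq⟩ := h3
        exact ⟨q, Subtype.ext (Prod.ext he1.symm hq)⟩
  refine ⟨LinearMap.ker φ, inferInstance, P₂, inferInstance, inferInstance, inferInstance,
    inferInstance, inferInstance, σE, τP, j, prE, ?_, ?_, ?_, ?_, ?_, hcofl, hperm₂⟩
  · intro g a
    apply Subtype.ext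
    rw [hσE, hj, hj, hσpr, hi₁']
    show (σ₁ g (i₁ a), (0 : P₂)) = (σ₁ g (i₁ a), τP g 0)
    rw [map_zero]
  · intro g e
    rw [hprE, hprE, hσE, hσpr]
  · intro a a' h
    have h1 := congrArg (fun e : LinearMap.ker φ => (e : P₁ × P₂).1) h
    exact hinj₁ h1
  · intro y
    obtain ⟨x, hx⟩ := hsurj₁ (π₂ y)
    exact ⟨⟨(x, y), by
      rw [LinearMap.mem_ker, hφ]
      show π₁ x - π₂ y = 0
      rw [hx, sub_self]⟩, rfl⟩
  · ext e
    constructor
    · rintro ⟨a, rfl⟩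
      exact LinearMap.mem_ker.mpr rfl
    · intro he
      have he1 : (e : P₁ × P₂).2 = 0 := LinearMap.mem_ker.mp he
      have he2 := e.2
      rw [LinearMap.mem_ker, hφ, he1, map_zero, sub_zero] at he2
      have h3 : (e : P₁ × P₂).1 ∈ LinearMap.range i₁ := by rw [hex₁]; exact he2
      obtain ⟨a, ha⟩ := h3
      exact ⟨a, Subtype.ext (Prod.ext ha he1.symm)⟩

/-- Flasque cover with permutation kernel: `0 → P → F → A → 0`. -/
theorem perm_flasque_cover (G : Type) [Group G] [Finite G]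
    (A : Type) [AddCommGroup A] [Module.Finite ℤ A] (ρ : Representation ℤ G A) :
    ∃ (P : Type) (_ : AddCommGroup P) (F : Type) (_ : AddCommGroup F)
      (_ : Module.Finite ℤ P) (_ : Module.Free ℤ P) (_ : Module.Finite ℤ F) (_ : Module.Free ℤ F)
      (σ : Representation ℤ G P) (τ : Representation ℤ G F) (i : P →ₗ[ℤ] F) (π : F →ₗ[ℤ] A),
      GLat.IsEquivariant σ τ i ∧ GLat.IsEquivariant τ ρ π ∧ Function.Injective i ∧
      Function.Surjective π ∧
      LinearMap.range i = LinearMap.ker π ∧ GLat.IsPermutation σ ∧ GLat.IsFlasque τ := by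
  obtain ⟨Q, iQ, P₀, iP₀, fQ, frQ, fP₀, frP₀, σQ, τ₀, i₀, π₀, hi₀, hπ₀, hinj₀, hsurj₀, hex₀,
    hperm₀, -⟩ := GLatPerm.main G A ρ
  obtain ⟨P, iP, F', iF', fP, frP, fF', frF', σP, τF', i₁, π₁, hi₁, hπ₁, hinj₁, hsurj₁, hex₁,
    hperm₁, hfl₁⟩ := GLatFlasque.flasque_res G Q σQ
  have hi₀' : ∀ g q, i₀ (σQ g q) = τ₀ g (i₀ q) := hi₀
  have hπ₀' : ∀ g x, π₀ (τ₀ g x) = ρ g (π₀ x) := hπ₀
  have hi₁' : ∀ g q, i₁ (σQ g q) = σP g (i₁ q) := hi₁
  have hπ₁' : ∀ g y, π₁ (σP g y) = τF' g (π₁ y) := hπ₁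
  have hπ₀i₀ : ∀ q, π₀ (i₀ q) = 0 := fun q => by
    have h : i₀ q ∈ LinearMap.ker π₀ := by rw [← hex₀]; exact ⟨q, rfl⟩
    exact h
  have hπ₁i₁ : ∀ q, π₁ (i₁ q) = 0 := fun q => by
    have h : i₁ q ∈ LinearMap.ker π₁ := by rw [← hex₁]; exact ⟨q, rfl⟩
    exact h
  obtain ⟨δ, hδ⟩ : ∃ δ : Q →ₗ[ℤ] P₀ × P, ∀ q, δ q = (i₀ q, - i₁ q) :=
    ⟨i₀.prod (-i₁), fun q => rfl⟩
  obtain ⟨R, hR⟩ : ∃ R : Submodule ℤ (P₀ × P), R = LinearMap.range δ := ⟨_, rfl⟩
  have hRmem : ∀ z : P₀ × P, z ∈ R ↔ ∃ q, (i₀ q, - i₁ q) = z := by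
    intro z
    rw [hR, LinearMap.mem_range]
    simp only [hδ]
  obtain ⟨σpr, hσpr⟩ : ∃ σpr : G → (P₀ × P →ₗ[ℤ] P₀ × P),
      ∀ g z, σpr g z = (τ₀ g z.1, σP g z.2) :=
    ⟨fun g => (τ₀ g).prodMap (σP g), fun g z => rfl⟩
  have hstab : ∀ g, R ≤ R.comap (σpr g) := by
    intro g z hz
    rw [Submodule.mem_comap]
    obtain ⟨q, rfl⟩ := (hRmem z).mp hz
    rw [hRmem, hσpr]
    refine ⟨σQ g q, ?_⟩
    show (i₀ (σQ g q), - i₁ (σQ g q)) = (τ₀ g (i₀ q), σP g (- i₁ q))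
    rw [hi₀', hi₁', map_neg]
  let τ : Representation ℤ G ((P₀ × P) ⧸ R) :=
    { toFun := fun g => R.mapQ R (σpr g) (hstab g)
      map_one' := by
        refine LinearMap.ext fun x => ?_
        obtain ⟨z, rfl⟩ := Submodule.Quotient.mk_surjective R x
        show Submodule.Quotient.mk (σpr 1 z) = Submodule.Quotient.mk z
        rw [hσpr, map_one, map_one]; rfl
      map_mul' := fun g h => by
        refine LinearMap.ext fun x => ?_
        obtain ⟨z, rfl⟩ := Submodule.Quotient.mk_surjective R x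
        show Submodule.Quotient.mk (σpr (g * h) z) = Submodule.Quotient.mk (σpr g (σpr h z))
        rw [hσpr, hσpr, hσpr, map_mul, map_mul]; rfl }
  have hτ : ∀ (g : G) (z : P₀ × P),
      τ g (Submodule.Quotient.mk z) = Submodule.Quotient.mk (σpr g z) := fun _ _ => rfl
  let ιP : P →ₗ[ℤ] (P₀ × P) ⧸ R := R.mkQ ∘ₗ LinearMap.inr ℤ P₀ P
  have hιP : ∀ y, ιP y = Submodule.Quotient.mk ((0 : P₀), y) := fun y => rfl
  let ι₀ : P₀ →ₗ[ℤ] (P₀ × P) ⧸ R := R.mkQ ∘ₗ LinearMap.inl ℤ P₀ P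
  have hι₀ : ∀ x, ι₀ x = Submodule.Quotient.mk (x, (0 : P)) := fun x => rfl
  let πA : (P₀ × P) ⧸ R →ₗ[ℤ] A := R.liftQ (π₀ ∘ₗ LinearMap.fst ℤ P₀ P) (by
    intro z hz
    obtain ⟨q, rfl⟩ := (hRmem z).mp hz
    rw [LinearMap.mem_ker]
    show π₀ (i₀ q) = 0
    exact hπ₀i₀ q)
  have hπA : ∀ z : P₀ × P, πA (Submodule.Quotient.mk z) = π₀ z.1 := fun z => rfl
  let π' : (P₀ × P) ⧸ R →ₗ[ℤ] F' := R.liftQ (π₁ ∘ₗ LinearMap.snd ℤ P₀ P) (by
    intro z hz
    obtain ⟨q, rfl⟩ := (hRmem z).mp hz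
    rw [LinearMap.mem_ker]
    show π₁ (- i₁ q) = 0
    rw [map_neg, hπ₁i₁, neg_zero])
  have hπ' : ∀ z : P₀ × P, π' (Submodule.Quotient.mk z) = π₁ z.2 := fun z => rfl
  have hιPinj : Function.Injective ιP := by
    rw [← LinearMap.ker_eq_bot, LinearMap.ker_eq_bot']
    intro y hy
    rw [hιP, Submodule.Quotient.mk_eq_zero, hRmem] at hy
    obtain ⟨q, hq⟩ := hy
    have h1 : i₀ q = 0 := congrArg Prod.fst hq
    have h2 : - i₁ q = y := congrArg Prod.snd hq
    have h3 : q = 0 := hinj₀ (by rw [h1, map_zero])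
    rw [← h2, h3, map_zero, neg_zero]
  have hexA : LinearMap.range ιP = LinearMap.ker πA := by
    ext m
    obtain ⟨z, rfl⟩ := Submodule.Quotient.mk_surjective R m
    constructor
    · rintro ⟨y, hy⟩
      rw [LinearMap.mem_ker, ← hy, hιP, hπA]
      exact map_zero _
    · intro hz
      rw [LinearMap.mem_ker, hπA] at hz
      have h1 : z.1 ∈ LinearMap.range i₀ := by rw [hex₀]; exact hz
      obtain ⟨q, hq⟩ := h1
      refine ⟨z.2 + i₁ q, ?_⟩
      rw [hιP, Submodule.Quotient.eq, hRmem]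
      refine ⟨-q, ?_⟩
      apply Prod.ext
      · show i₀ (-q) = (0 : P₀) - z.1
        rw [map_neg, hq, zero_sub]
      · show - i₁ (-q) = (z.2 + i₁ q) - z.2
        rw [map_neg, neg_neg]; abel
  have hι₀inj : Function.Injective ι₀ := by
    rw [← LinearMap.ker_eq_bot, LinearMap.ker_eq_bot']
    intro x hx
    rw [hι₀, Submodule.Quotient.mk_eq_zero, hRmem] at hx
    obtain ⟨q, hq⟩ := hx
    have h1 : i₀ q = x := congrArg Prod.fst hq
    have h2 : - i₁ q = 0 := congrArg Prod.snd hq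
    have h3 : q = 0 := hinj₁ (by rw [neg_eq_zero.mp h2, map_zero])
    rw [← h1, h3, map_zero]
  have hπ'surj : Function.Surjective π' := by
    intro f
    obtain ⟨y, rfl⟩ := hsurj₁ f
    exact ⟨Submodule.Quotient.mk ((0 : P₀), y), rfl⟩
  have hex' : LinearMap.range ι₀ = LinearMap.ker π' := by
    ext m
    obtain ⟨z, rfl⟩ := Submodule.Quotient.mk_surjective R m
    constructor
    · rintro ⟨x, hx⟩
      rw [LinearMap.mem_ker, ← hx, hι₀, hπ']
      exact map_zero _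
    · intro hz
      rw [LinearMap.mem_ker, hπ'] at hz
      have h1 : z.2 ∈ LinearMap.range i₁ := by rw [hex₁]; exact hz
      obtain ⟨q, hq⟩ := h1
      refine ⟨z.1 + i₀ q, ?_⟩
      rw [hι₀, Submodule.Quotient.eq, hRmem]
      refine ⟨q, ?_⟩
      apply Prod.ext
      · show i₀ q = (z.1 + i₀ q) - z.1
        abel
      · show - i₁ q = (0 : P) - z.2
        rw [hq, zero_sub]
  have hι₀eq : GLat.IsEquivariant τ₀ τ ι₀ := by
    intro g x
    rw [hι₀, hι₀, hτ, hσpr]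
    show (Submodule.Quotient.mk (τ₀ g x, (0 : P)) : (P₀ × P) ⧸ R) =
      Submodule.Quotient.mk (τ₀ g x, σP g 0)
    rw [map_zero]
  have hπ'eq : GLat.IsEquivariant τ τF' π' := by
    intro g m
    obtain ⟨z, rfl⟩ := Submodule.Quotient.mk_surjective R m
    rw [hτ, hπ', hπ', hσpr]
    exact hπ₁' g z.2
  have hfl : GLat.IsFlasque τ :=
    flasque_ext τ₀ τ τF' ι₀ π' hι₀eq hπ'eq hι₀inj hπ'surj hex'
      (isFlasque_of_isPermutation τ₀ hperm₀) hfl₁
  haveI : Module.IsTorsionFree ℤ ((P₀ × P) ⧸ R) := torsionFree_ext ι₀ π' hι₀inj hex'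
  refine ⟨P, inferInstance, (P₀ × P) ⧸ R, inferInstance, inferInstance, inferInstance,
    inferInstance, inferInstance, σP, τ, ιP, πA, ?_, ?_, hιPinj, ?_, hexA, hperm₁, hfl⟩
  · intro g y
    rw [hιP, hιP, hτ, hσpr]
    show (Submodule.Quotient.mk ((0 : P₀), σP g y) : (P₀ × P) ⧸ R) =
      Submodule.Quotient.mk (τ₀ g 0, σP g y)
    rw [map_zero]
  · intro g m
    obtain ⟨z, rfl⟩ := Submodule.Quotient.mk_surjective R m
    rw [hτ, hπA, hπA, hσpr]
    exact hπ₀' g z.1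
  · intro a
    obtain ⟨x, rfl⟩ := hsurj₀ a
    exact ⟨Submodule.Quotient.mk (x, (0 : P)), rfl⟩

end Groth.Agent.H86.GLatExt
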