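import Mathlib

/-!
# Coflasque lattices: sections of permutation extensions and the induced extension of a cocycle
-/

set_option autoImplicit false

namespace Groth.Agent.H86.GalLat

open scoped MonoidAlgebra

section SectionLemma

theorem module_int_eq {M : Type*} [AddCommGroup M] (i : Module ℤ M) :
    i = AddCommGroup.toIntModule M := by
  haveI : Unique (Module ℤ M) := AddCommGroup.uniqueIntModule
  exact Subsingleton.elim _ _

/-- An additive map between `ℤ`-modules (with arbitrary module instances) is `ℤ`-linear. -/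
def toLin {M N : Type*} [AddCommGroup M] [AddCommGroup N] {iM : Module ℤ M} {iN : Module ℤ N}
    (f : M →+ N) : M →ₗ[ℤ] N where
  toFun := f
  map_add' := f.map_add
  map_smul' := by
    intro n v
    have hM := module_int_eq iM
    have hN := module_int_eq iN
    subst hM hN
    exact map_zsmul f n v

@[simp] theorem toLin_apply {M N : Type*} [AddCommGroup M] [AddCommGroup N] {iM : Module ℤ M}
    {iN : Module ℤ N} (f : M →+ N) (x : M) : toLin (iM := iM) (iN := iN) f x = f x := rfl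

theorem zsmul_single_one {X : Type*} (m : X) (n : ℤ) :
    n • (MonoidAlgebra.single m (1 : ℤ)) = MonoidAlgebra.single m n := by
  rw [MonoidAlgebra.smul_single, smul_eq_mul, mul_one]

/-- If `H¹(H, V₁) = 0` for all subgroups `H`, every extension of a permutation module by `V₁`
has an equivariant section (canonical `ℤ`-module instances). -/
theorem exists_section_aux {Γ : Type*} [Group Γ] {X : Type*} [MulAction Γ X]
    {V₁ V₂ : Type*} [AddCommGroup V₁] [AddCommGroup V₂]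
    (ρ₁ : Representation ℤ Γ V₁) (ρ₂ : Representation ℤ Γ V₂)
    (f : V₁ →+ V₂) (g : V₂ →+ MonoidAlgebra ℤ X)
    (hf : ∀ γ v, f (ρ₁ γ v) = ρ₂ γ (f v))
    (hg : ∀ γ v, g (ρ₂ γ v) = Representation.ofMulAction ℤ Γ X γ (g v))
    (hinj : Function.Injective f) (hsurj : Function.Surjective g)
    (hgf : ∀ v, g (f v) = 0) (hex : ∀ v, g v = 0 → ∃ u, f u = v)
    (hH1 : ∀ (H : Subgroup Γ) (c : H → V₁), (∀ a b : H, c (a * b) = ρ₁ (a : Γ) (c b) + c a) →
      ∃ m : V₁, ∀ a : H, c a = ρ₁ (a : Γ) m - m) :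
    ∃ s : MonoidAlgebra ℤ X →+ V₂,
      (∀ γ ξ, s (Representation.ofMulAction ℤ Γ X γ ξ) = ρ₂ γ (s ξ)) ∧ ∀ ξ, g (s ξ) = ξ := by
  classical
  have hρ₂ : ∀ (a b : Γ) (v : V₂), ρ₂ (a * b) v = ρ₂ a (ρ₂ b v) := fun a b v => by
    rw [map_mul]; rfl
  have step1 : ∀ x : X, ∃ w : V₂, g w = MonoidAlgebra.single x 1 ∧
      ∀ h : Γ, h • x = x → ρ₂ h w = w := by
    intro x
    obtain ⟨w', hw'⟩ := hsurj (MonoidAlgebra.single x 1)
    obtain ⟨H, hHdef⟩ : ∃ H : Subgroup Γ, H = MulAction.stabilizer Γ x := ⟨_, rfl⟩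
    have hH : ∀ h : H, (h : Γ) • x = x := by
      subst hHdef
      exact fun h => MulAction.mem_stabilizer_iff.mp h.2
    have hker : ∀ h : H, g (ρ₂ (h : Γ) w' - w') = 0 := by
      intro h
      rw [map_sub, hg, hw', Representation.ofMulAction_single, hH h, sub_self]
    choose c hc using fun h : H => hex _ (hker h)
    have hcoc : ∀ a b : H, c (a * b) = ρ₁ (a : Γ) (c b) + c a := by
      intro a b
      apply hinj
      rw [map_add, hf, hc, hc, hc, Subgroup.coe_mul, hρ₂, map_sub]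
      abel
    obtain ⟨m, hm⟩ := hH1 H c hcoc
    refine ⟨w' - f m, ?_, ?_⟩
    · rw [map_sub, hgf, sub_zero, hw']
    · intro h hh
      have hmem : h ∈ H := by rw [hHdef]; exact MulAction.mem_stabilizer_iff.mpr hh
      have h1 : f (c ⟨h, hmem⟩) = ρ₂ h w' - w' := hc ⟨h, hmem⟩
      have h2 : c ⟨h, hmem⟩ = ρ₁ h m - m := hm ⟨h, hmem⟩
      rw [h2, map_sub, hf] at h1
      rw [map_sub]
      calc ρ₂ h w' - ρ₂ h (f m) = (ρ₂ h w' - w') - (ρ₂ h (f m) - f m) + (w' - f m) := by abel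
        _ = w' - f m := by rw [h1]; abel
  choose w hw1 hw2 using step1
  -- orbit representatives
  let st : Setoid X :=
    { r := fun x y => ∃ γ : Γ, γ • x = y
      iseqv := ⟨fun x => ⟨1, one_smul _ _⟩,
        fun {x y} ⟨γ, hγ⟩ => ⟨γ⁻¹, by rw [← hγ, inv_smul_smul]⟩,
        fun {x y z} ⟨γ₁, h₁⟩ ⟨γ₂, h₂⟩ => ⟨γ₂ * γ₁, by rw [mul_smul, h₁, h₂]⟩⟩ }
  obtain ⟨r, hrdef⟩ : ∃ r : X → X, ∀ x, r x = (Quotient.mk st x).out := ⟨_, fun _ => rfl⟩
  have hr : ∀ x, ∃ γ : Γ, γ • r x = x := fun x => by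
    rw [hrdef]; exact Quotient.mk_out (s := st) x
  choose t ht using hr
  have hr_eq : ∀ (γ : Γ) (x : X), r (γ • x) = r x := by
    intro γ x
    rw [hrdef, hrdef]
    have h1 : Quotient.mk st (γ • x) = Quotient.mk st x :=
      Quotient.sound (show st.r _ _ from ⟨γ⁻¹, inv_smul_smul _ _⟩)
    rw [h1]
  obtain ⟨v, hvdef⟩ : ∃ v : X → V₂, ∀ x, v x = ρ₂ (t x) (w (r x)) := ⟨_, fun _ => rfl⟩
  have hv_g : ∀ x, g (v x) = MonoidAlgebra.single x 1 := by
    intro x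
    rw [hvdef, hg, hw1, Representation.ofMulAction_single, ht x]
  have hv_eq : ∀ γ x, v (γ • x) = ρ₂ γ (v x) := by
    intro γ x
    rw [hvdef, hvdef, hr_eq γ x]
    have h1 : t (γ • x) • r x = γ • x := by
      have := ht (γ • x); rw [hr_eq γ x] at this; exact this
    have hk : ((γ * t x)⁻¹ * t (γ • x)) • r x = r x := by
      rw [mul_smul, h1, mul_inv_rev, mul_smul, inv_smul_smul, inv_smul_eq_iff]
      exact (ht x).symm
    have h2 := hw2 (r x) _ hk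
    have h3 : t (γ • x) = (γ * t x) * ((γ * t x)⁻¹ * t (γ • x)) := by group
    rw [h3, hρ₂, h2, hρ₂]
  let s : MonoidAlgebra ℤ X →ₗ[ℤ] V₂ :=
    (Finsupp.linearCombination ℤ v) ∘ₗ (MonoidAlgebra.coeffLinearEquiv ℤ).toLinearMap
  have hs_single : ∀ (x : X) (n : ℤ), s (MonoidAlgebra.single x n) = n • v x := by
    intro x n
    show Finsupp.linearCombination ℤ v ((MonoidAlgebra.single x n).coeff) = _
    rw [MonoidAlgebra.coeff_single]
    refine (Finsupp.linearCombination_single _ _ _).trans ?_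
    first | rfl | exact int_smul_eq_zsmul _ _ _ | exact (int_smul_eq_zsmul _ _ _).symm
  have P1 : ∀ γ ξ, s (Representation.ofMulAction ℤ Γ X γ ξ) = ρ₂ γ (s ξ) := by
    intro γ ξ
    induction ξ using MonoidAlgebra.induction_linear with
    | zero => simp only [map_zero]
    | add x y hx hy => simp only [map_add, hx, hy]
    | single m n =>
      rw [Representation.ofMulAction_single, hs_single, hs_single, hv_eq]
      first | rw [map_zsmul] | rw [map_smul]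
  have P2 : ∀ ξ, g (s ξ) = ξ := by
    intro ξ
    induction ξ using MonoidAlgebra.induction_linear with
    | zero => simp only [map_zero]
    | add x y hx hy => simp only [map_add, hx, hy]
    | single m n =>
      rw [hs_single, map_zsmul, hv_g]
      first | exact zsmul_single_one m n | simp
  exact ⟨s.toAddMonoidHom, P1, P2⟩

/-- General-instance version of `exists_section_aux`. -/
theorem exists_section {Γ : Type*} [Group Γ] {X : Type*} [MulAction Γ X]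
    {V₁ V₂ : Type*} [AddCommGroup V₁] [i₁ : Module ℤ V₁] [AddCommGroup V₂] [i₂ : Module ℤ V₂]
    (ρ₁ : Representation ℤ Γ V₁) (ρ₂ : Representation ℤ Γ V₂)
    (f : V₁ →+ V₂) (g : V₂ →+ MonoidAlgebra ℤ X)
    (hf : ∀ γ v, f (ρ₁ γ v) = ρ₂ γ (f v))
    (hg : ∀ γ v, g (ρ₂ γ v) = Representation.ofMulAction ℤ Γ X γ (g v))
    (hinj : Function.Injective f) (hsurj : Function.Surjective g)
    (hgf : ∀ v, g (f v) = 0) (hex : ∀ v, g v = 0 → ∃ u, f u = v)
    (hH1 : ∀ (H : Subgroup Γ) (c : H → V₁), (∀ a b : H, c (a * b) = ρ₁ (a : Γ) (c b) + c a) →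
      ∃ m : V₁, ∀ a : H, c a = ρ₁ (a : Γ) m - m) :
    ∃ s : MonoidAlgebra ℤ X →+ V₂,
      (∀ γ ξ, s (Representation.ofMulAction ℤ Γ X γ ξ) = ρ₂ γ (s ξ)) ∧ ∀ ξ, g (s ξ) = ξ := by
  have h₁ := module_int_eq i₁
  have h₂ := module_int_eq i₂
  subst h₁ h₂
  exact exists_section_aux ρ₁ ρ₂ f g hf hg hinj hsurj hgf hex hH1

end SectionLemma

section Ext

variable {Γ : Type*} [Group Γ] (Γ' : Subgroup Γ) {V : Type*} [AddCommGroup V]
  (ρ : Representation ℤ Γ V) (c : Γ' → V)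

open Classical in
/-- A set-theoretic section of `Γ → Γ ⧸ Γ'` sending the trivial coset to `1`. -/
noncomputable def sec (x : Γ ⧸ Γ') : Γ :=
  if x = QuotientGroup.mk 1 then 1 else Quotient.out x

theorem mk_sec (x : Γ ⧸ Γ') : (QuotientGroup.mk (sec Γ' x) : Γ ⧸ Γ') = x := by
  unfold sec
  split_ifs with h
  · exact h.symm
  · exact QuotientGroup.out_eq' x

theorem sec_one : sec Γ' (QuotientGroup.mk 1 : Γ ⧸ Γ') = 1 := by
  unfold sec; rw [if_pos rfl]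

theorem mem_aux (γ : Γ) (x : Γ ⧸ Γ') : (sec Γ' (γ • x))⁻¹ * γ * sec Γ' x ∈ Γ' := by
  rw [mul_assoc, ← QuotientGroup.eq, mk_sec, ← smul_eq_mul, ← MulAction.Quotient.smul_coe, mk_sec]

open Classical in
/-- Extension of `c` by zero to `Γ`. -/
noncomputable def ctil (k : Γ) : V := if h : k ∈ Γ' then c ⟨k, h⟩ else 0

theorem ctil_of_mem (k : Γ) (h : k ∈ Γ') : ctil Γ' c k = c ⟨k, h⟩ := by
  unfold ctil; rw [dif_pos h]

/-- The induced "cocycle" on `Γ × Γ ⧸ Γ'`. -/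
noncomputable def cc (γ : Γ) (x : Γ ⧸ Γ') : V :=
  ρ (sec Γ' (γ • x)) (ctil Γ' c ((sec Γ' (γ • x))⁻¹ * γ * sec Γ' x))

/-- The off-diagonal part of the extension. -/
noncomputable def T (γ : Γ) : MonoidAlgebra ℤ (Γ ⧸ Γ') →ₗ[ℤ] V :=
  (Finsupp.linearCombination ℤ (cc Γ' ρ c γ)) ∘ₗ (MonoidAlgebra.coeffLinearEquiv ℤ).toLinearMap

theorem T_single (γ : Γ) (x : Γ ⧸ Γ') (n : ℤ) :
    T Γ' ρ c γ (MonoidAlgebra.single x n) = n • cc Γ' ρ c γ x := by
  show Finsupp.linearCombination ℤ (cc Γ' ρ c γ) ((MonoidAlgebra.single x n).coeff) = _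
  rw [MonoidAlgebra.coeff_single]
  refine (Finsupp.linearCombination_single _ _ _).trans ?_
  first | rfl | exact int_smul_eq_zsmul _ _ _ | exact (int_smul_eq_zsmul _ _ _).symm

variable (hc : ∀ a b : Γ', c (a * b) = ρ (a : Γ) (c b) + c a)
include hc

theorem c_one : c 1 = 0 := by
  have h := hc 1 1
  rw [mul_one, Subgroup.coe_one, map_one, Module.End.one_apply] at h
  have h' : c 1 + 0 = c 1 + c 1 := by rw [add_zero]; exact h
  exact (add_left_cancel h').symm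

theorem ctil_mul (a b : Γ) (ha : a ∈ Γ') (hb : b ∈ Γ') :
    ctil Γ' c (a * b) = ρ a (ctil Γ' c b) + ctil Γ' c a := by
  rw [ctil_of_mem Γ' c _ (Γ'.mul_mem ha hb), ctil_of_mem Γ' c _ ha, ctil_of_mem Γ' c _ hb]
  exact hc ⟨a, ha⟩ ⟨b, hb⟩

theorem cc_one (x : Γ ⧸ Γ') : cc Γ' ρ c 1 x = 0 := by
  unfold cc
  rw [one_smul, mul_one, inv_mul_cancel, ctil_of_mem Γ' c 1 Γ'.one_mem]
  show ρ _ (c 1) = 0
  rw [c_one Γ' ρ c hc, map_zero]

theorem cc_mul (γ₁ γ₂ : Γ) (x : Γ ⧸ Γ') :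
    cc Γ' ρ c (γ₁ * γ₂) x = ρ γ₁ (cc Γ' ρ c γ₂ x) + cc Γ' ρ c γ₁ (γ₂ • x) := by
  have hρ : ∀ (a b : Γ) (v : V), ρ a (ρ b v) = ρ (a * b) v := fun a b v => by
    rw [map_mul]; rfl
  unfold cc
  rw [mul_smul]
  have h1 := mem_aux Γ' γ₁ (γ₂ • x)
  have h2 := mem_aux Γ' γ₂ x
  generalize sec Γ' (γ₁ • γ₂ • x) = s₁₂ at h1 ⊢
  generalize sec Γ' (γ₂ • x) = s₂ at h1 h2 ⊢
  generalize sec Γ' x = s₀ at h2 ⊢
  have e : s₁₂⁻¹ * (γ₁ * γ₂) * s₀ = (s₁₂⁻¹ * γ₁ * s₂) * (s₂⁻¹ * γ₂ * s₀) := by group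
  have e2 : s₁₂ * (s₁₂⁻¹ * γ₁ * s₂) = γ₁ * s₂ := by group
  rw [e, ctil_mul Γ' ρ c hc _ _ h1 h2, map_add, hρ, hρ, e2]

theorem T_one (ξ : MonoidAlgebra ℤ (Γ ⧸ Γ')) : T Γ' ρ c 1 ξ = 0 := by
  induction ξ using MonoidAlgebra.induction_linear with
  | zero => exact map_zero _
  | add x y hx hy => rw [map_add, hx, hy, add_zero]
  | single m r =>
    rw [T_single, cc_one Γ' ρ c hc]
    first | rw [smul_zero] | rw [zsmul_zero]

theorem T_mul (γ₁ γ₂ : Γ) (ξ : MonoidAlgebra ℤ (Γ ⧸ Γ')) :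
    T Γ' ρ c (γ₁ * γ₂) ξ =
      ρ γ₁ (T Γ' ρ c γ₂ ξ) + T Γ' ρ c γ₁ (Representation.ofMulAction ℤ Γ (Γ ⧸ Γ') γ₂ ξ) := by
  induction ξ using MonoidAlgebra.induction_linear with
  | zero => simp only [map_zero, add_zero]
  | add x y hx hy => simp only [map_add, hx, hy]; abel
  | single m r =>
    rw [Representation.ofMulAction_single, T_single, T_single, T_single, cc_mul Γ' ρ c hc]
    first | rw [smul_add] | rw [zsmul_add]
    first | rw [map_zsmul] | rw [map_smul]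

/-- The extension of the permutation module `ℤ[Γ ⧸ Γ']` by `V` attached to the cocycle `c`. -/
noncomputable def rhoE : @Representation ℤ Γ (V × MonoidAlgebra ℤ (Γ ⧸ Γ')) _ _ _
    (AddCommGroup.toIntModule _) where
  toFun γ := AddMonoidHom.toIntLinearMap
    { toFun := fun p => (ρ γ p.1 + T Γ' ρ c γ p.2,
        Representation.ofMulAction ℤ Γ (Γ ⧸ Γ') γ p.2)
      map_zero' := by
        refine Prod.ext ?_ ?_
        · show ρ γ 0 + T Γ' ρ c γ 0 = 0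
          rw [map_zero, map_zero, add_zero]
        · show Representation.ofMulAction ℤ Γ (Γ ⧸ Γ') γ 0 = 0
          rw [map_zero]
      map_add' := fun p q => by
        refine Prod.ext ?_ ?_
        · show ρ γ (p.1 + q.1) + T Γ' ρ c γ (p.2 + q.2) =
            (ρ γ p.1 + T Γ' ρ c γ p.2) + (ρ γ q.1 + T Γ' ρ c γ q.2)
          rw [map_add, map_add]; abel
        · show Representation.ofMulAction ℤ Γ (Γ ⧸ Γ') γ (p.2 + q.2) =
            Representation.ofMulAction ℤ Γ (Γ ⧸ Γ') γ p.2 +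
              Representation.ofMulAction ℤ Γ (Γ ⧸ Γ') γ q.2
          rw [map_add] }
  map_one' := by
    refine LinearMap.ext fun p => ?_
    rcases p with ⟨v, ξ⟩
    refine Prod.ext ?_ ?_
    · show ρ 1 v + T Γ' ρ c 1 ξ = v
      rw [T_one Γ' ρ c hc, add_zero, map_one]; rfl
    · show Representation.ofMulAction ℤ Γ (Γ ⧸ Γ') 1 ξ = ξ
      rw [map_one]; rfl
  map_mul' γ₁ γ₂ := by
    refine LinearMap.ext fun p => ?_
    rcases p with ⟨v, ξ⟩
    refine Prod.ext ?_ ?_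
    · show ρ (γ₁ * γ₂) v + T Γ' ρ c (γ₁ * γ₂) ξ =
        ρ γ₁ (ρ γ₂ v + T Γ' ρ c γ₂ ξ) +
          T Γ' ρ c γ₁ (Representation.ofMulAction ℤ Γ (Γ ⧸ Γ') γ₂ ξ)
      rw [T_mul Γ' ρ c hc, map_add, map_mul, Module.End.mul_apply]; abel
    · show Representation.ofMulAction ℤ Γ (Γ ⧸ Γ') (γ₁ * γ₂) ξ =
        Representation.ofMulAction ℤ Γ (Γ ⧸ Γ') γ₁
          (Representation.ofMulAction ℤ Γ (Γ ⧸ Γ') γ₂ ξ)
      rw [map_mul]; rfl

theorem rhoE_apply (γ : Γ) (p : V × MonoidAlgebra ℤ (Γ ⧸ Γ')) :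
    rhoE Γ' ρ c hc γ p =
      (ρ γ p.1 + T Γ' ρ c γ p.2, Representation.ofMulAction ℤ Γ (Γ ⧸ Γ') γ p.2) := rfl

omit hc in
theorem smul_mk_one (a : Γ') :
    (a : Γ) • (QuotientGroup.mk 1 : Γ ⧸ Γ') = QuotientGroup.mk 1 := by
  rw [MulAction.Quotient.smul_coe, smul_eq_mul, mul_one, QuotientGroup.eq, mul_one]
  exact Γ'.inv_mem a.2

/-- A `Γ'`-fixed lift of the base point shows that `c` is a coboundary. -/
theorem coboundary_of_fixed (p : V × MonoidAlgebra ℤ (Γ ⧸ Γ'))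
    (hp2 : p.2 = MonoidAlgebra.single (QuotientGroup.mk 1 : Γ ⧸ Γ') (1 : ℤ))
    (hfix : ∀ a : Γ', rhoE Γ' ρ c hc (a : Γ) p = p) :
    ∃ m : V, ∀ a : Γ', c a = ρ (a : Γ) m - m := by
  refine ⟨-p.1, fun a => ?_⟩
  have hax := smul_mk_one Γ' a
  have h2 : (rhoE Γ' ρ c hc (a : Γ) p).1 = p.1 := congrArg Prod.fst (hfix a)
  have h3 : (rhoE Γ' ρ c hc (a : Γ) p).1 = ρ (a : Γ) p.1 + T Γ' ρ c (a : Γ) p.2 := rfl
  rw [h3, hp2, T_single] at h2
  have h4 : cc Γ' ρ c (a : Γ) (QuotientGroup.mk 1 : Γ ⧸ Γ') = c a := by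
    unfold cc
    rw [hax, sec_one, inv_one, one_mul, mul_one, map_one, Module.End.one_apply,
      ctil_of_mem Γ' c _ a.2]
  rw [h4] at h2
  have h2' : ρ (a : Γ) p.1 + c a = p.1 := by
    have e : (1 : ℤ) • c a = c a := by first | exact one_smul _ _ | exact one_zsmul _
    rw [e] at h2; exact h2
  rw [map_neg]
  have h5 : c a = p.1 - ρ (a : Γ) p.1 := by
    rw [eq_sub_iff_add_eq, add_comm]; exact h2'
  rw [h5]; abel

end Ext

section Split

/-- If every extension of `ℤ[Γ ⧸ Γ']` by `V` admits an equivariant set-theoretic section,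
then every 1-cocycle `Γ' → V` is a coboundary. -/
theorem coboundary_of_split {Γ : Type} [Group Γ] (Γ' : Subgroup Γ) {V : Type} [AddCommGroup V]
    [i : Module ℤ V] (ρ : Representation ℤ Γ V) (c : Γ' → V)
    (hc : ∀ a b : Γ', c (a * b) = ρ (a : Γ) (c b) + c a)
    (hsplit : ∀ (W : Type) [AddCommGroup W] (σ : Representation ℤ Γ W) (f : V →+ W)
      (g : W →+ MonoidAlgebra ℤ (Γ ⧸ Γ')),
      (∀ γ v, f (ρ γ v) = σ γ (f v)) →
      (∀ γ w, g (σ γ w) = Representation.ofMulAction ℤ Γ (Γ ⧸ Γ') γ (g w)) →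
      Function.Injective f → Function.Surjective g → (∀ v, g (f v) = 0) →
      (∀ w, g w = 0 → ∃ v, f v = w) →
      ∃ s : MonoidAlgebra ℤ (Γ ⧸ Γ') → W,
        (∀ γ ξ, s (Representation.ofMulAction ℤ Γ (Γ ⧸ Γ') γ ξ) = σ γ (s ξ)) ∧
          ∀ ξ, g (s ξ) = ξ) :
    ∃ m : V, ∀ a : Γ', c a = ρ (a : Γ) m - m := by
  have h₁ := module_int_eq i
  subst h₁
  have k1 : ∀ γ v, AddMonoidHom.inl V (MonoidAlgebra ℤ (Γ ⧸ Γ')) (ρ γ v) =
      rhoE Γ' ρ c hc γ (AddMonoidHom.inl V (MonoidAlgebra ℤ (Γ ⧸ Γ')) v) := by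
    intro γ v
    refine Prod.ext ?_ ?_
    · show ρ γ v = ρ γ v + T Γ' ρ c γ 0
      rw [map_zero, add_zero]
    · show (0 : MonoidAlgebra ℤ (Γ ⧸ Γ')) = Representation.ofMulAction ℤ Γ (Γ ⧸ Γ') γ 0
      rw [map_zero]
  have k2 : ∀ γ w, AddMonoidHom.snd V (MonoidAlgebra ℤ (Γ ⧸ Γ')) (rhoE Γ' ρ c hc γ w) =
      Representation.ofMulAction ℤ Γ (Γ ⧸ Γ') γ
        (AddMonoidHom.snd V (MonoidAlgebra ℤ (Γ ⧸ Γ')) w) := fun γ w => rfl
  have k3 : Function.Injective (AddMonoidHom.inl V (MonoidAlgebra ℤ (Γ ⧸ Γ'))) :=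
    fun a b h => congrArg Prod.fst h
  have k4 : Function.Surjective (AddMonoidHom.snd V (MonoidAlgebra ℤ (Γ ⧸ Γ'))) :=
    fun ξ => ⟨(0, ξ), rfl⟩
  have k5 : ∀ v, AddMonoidHom.snd V (MonoidAlgebra ℤ (Γ ⧸ Γ'))
      (AddMonoidHom.inl V (MonoidAlgebra ℤ (Γ ⧸ Γ')) v) = 0 := fun v => rfl
  have k6 : ∀ w, AddMonoidHom.snd V (MonoidAlgebra ℤ (Γ ⧸ Γ')) w = 0 →
      ∃ v, AddMonoidHom.inl V (MonoidAlgebra ℤ (Γ ⧸ Γ')) v = w :=
    fun w hw => ⟨w.1, Prod.ext rfl (Eq.symm hw)⟩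
  obtain ⟨s, hs1, hs2⟩ := hsplit (V × MonoidAlgebra ℤ (Γ ⧸ Γ')) (rhoE Γ' ρ c hc)
    (AddMonoidHom.inl V (MonoidAlgebra ℤ (Γ ⧸ Γ')))
    (AddMonoidHom.snd V (MonoidAlgebra ℤ (Γ ⧸ Γ'))) k1 k2 k3 k4 k5 k6
  refine coboundary_of_fixed Γ' ρ c hc
    (s (MonoidAlgebra.single (QuotientGroup.mk 1 : Γ ⧸ Γ') (1 : ℤ))) (hs2 _) (fun a => ?_)
  have h := hs1 (a : Γ) (MonoidAlgebra.single (QuotientGroup.mk 1 : Γ ⧸ Γ') (1 : ℤ))
  rw [Representation.ofMulAction_single, smul_mk_one Γ' a] at h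
  exact h.symm

end Split

section Main

open CategoryTheory groupCohomology

attribute [local instance 1100] Rep.hV2

theorem main
    (Γ : Type) [Group Γ] [Finite Γ] (Λ : Rep ℤ Γ) :
    (∀ Γ' : Subgroup Γ, Limits.IsZero (groupCohomology (Rep.res Γ'.subtype Λ) 1)) ↔
      ∀ (X : Type) [MulAction Γ X] [Finite X] (E : ShortComplex (Rep ℤ Γ)),
        E.ShortExact → Nonempty (E.X₁ ≅ Λ) → Nonempty (E.X₃ ≅ Rep.ofMulAction ℤ Γ X) →
          Nonempty E.Splitting := by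
  constructor
  · intro h X _ _ E hE hα hβ
    obtain ⟨α⟩ := hα
    obtain ⟨β⟩ := hβ
    have hΛ : ∀ (H : Subgroup Γ) (c : H → Λ.V),
        (∀ a b : H, c (a * b) = Λ.ρ (a : Γ) (c b) + c a) →
        ∃ m : Λ.V, ∀ a : H, c a = Λ.ρ (a : Γ) m - m := by
      intro H c hc
      have hmem : c ∈ cocycles₁ (Rep.res H.subtype Λ) := (mem_cocycles₁_iff _).mpr hc
      haveI : Subsingleton (groupCohomology (Rep.res H.subtype Λ) 1) :=
        ModuleCat.subsingleton_of_isZero (h H)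
      have h0 : H1π (Rep.res H.subtype Λ) (⟨c, hmem⟩ : cocycles₁ (Rep.res H.subtype Λ)) = 0 :=
        Subsingleton.elim _ _
      have h1 : ∃ m : Λ.V, (d₀₁ (Rep.res H.subtype Λ)).hom m = c :=
        (H1π_eq_zero_iff _).mp h0
      obtain ⟨m, hm⟩ := h1
      exact ⟨m, fun a => (congrFun hm a).symm⟩
    have hH1 : ∀ (H : Subgroup Γ) (c : H → E.X₁.V),
        (∀ a b : H, c (a * b) = E.X₁.ρ (a : Γ) (c b) + c a) →
        ∃ m : E.X₁.V, ∀ a : H, c a = E.X₁.ρ (a : Γ) m - m := by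
      intro H c hc
      obtain ⟨m', hm'⟩ := hΛ H (fun a => α.hom.hom (c a)) (fun a b => by
        show α.hom.hom (c (a * b)) = Λ.ρ (a : Γ) (α.hom.hom (c b)) + α.hom.hom (c a)
        rw [hc, map_add, Rep.hom_comm_apply])
      refine ⟨α.inv.hom m', fun a => ?_⟩
      have h1 : α.inv.hom (α.hom.hom (c a)) = c a := Rep.inv_hom_apply _ _ α (c a)
      have h2 : α.hom.hom (c a) = Λ.ρ (a : Γ) m' - m' := hm' a
      rw [← h1, h2, map_sub, Rep.hom_comm_apply]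
    obtain ⟨f₀, hf₀⟩ : ∃ f₀ : E.X₁.V →+ E.X₂.V, ∀ v, f₀ v = E.f.hom v :=
      ⟨{ toFun := fun v => E.f.hom v
         map_zero' := map_zero E.f.hom
         map_add' := map_add E.f.hom }, fun _ => rfl⟩
    obtain ⟨g₀, hg₀⟩ : ∃ g₀ : E.X₂.V →+ MonoidAlgebra ℤ X, ∀ v, g₀ v = β.hom.hom (E.g.hom v) :=
      ⟨{ toFun := fun v => β.hom.hom (E.g.hom v)
         map_zero' := by rw [map_zero, map_zero]
         map_add' := fun a b => by rw [map_add, map_add] }, fun _ => rfl⟩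
    have hf : ∀ γ v, f₀ (E.X₁.ρ γ v) = E.X₂.ρ γ (f₀ v) := fun γ v => by
      rw [hf₀, hf₀]; exact Rep.hom_comm_apply E.f γ v
    have hg : ∀ γ v, g₀ (E.X₂.ρ γ v) = Representation.ofMulAction ℤ Γ X γ (g₀ v) := fun γ v => by
      rw [hg₀, hg₀, Rep.hom_comm_apply E.g]
      exact Rep.hom_comm_apply β.hom γ (E.g.hom v)
    have hinj : Function.Injective f₀ := fun a b hab => by
      rw [hf₀, hf₀] at hab
      exact (Rep.mono_iff_injective E.f).mp hE.mono_f hab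
    have hβinj : ∀ y : (Rep.ofMulAction ℤ Γ X).V, β.hom.hom (β.inv.hom y) = y :=
      fun y => Rep.hom_inv_apply _ _ β y
    have hsurj : Function.Surjective g₀ := fun y => by
      obtain ⟨v, hv⟩ := (Rep.epi_iff_surjective E.g).mp hE.epi_g (β.inv.hom y)
      exact ⟨v, by rw [hg₀, hv]; exact hβinj y⟩
    have hzero : ∀ v, E.g.hom (E.f.hom v) = 0 := fun v =>
      calc E.g.hom (E.f.hom v) = (E.f ≫ E.g).hom v := rfl
        _ = (0 : E.X₁ ⟶ E.X₃).hom v := by rw [E.zero]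
        _ = 0 := rfl
    have hgf : ∀ v, g₀ (f₀ v) = 0 := fun v => by
      rw [hg₀, hf₀, hzero, map_zero]
    have hex : ∀ v, g₀ v = 0 → ∃ u, f₀ u = v := fun v hv => by
      rw [hg₀] at hv
      have h1 : E.g.hom v = 0 := by
        have h2 := congrArg β.inv.hom hv
        rw [Rep.inv_hom_apply, map_zero] at h2
        exact h2
      have hexact : (E.map (forget₂ (Rep ℤ Γ) (ModuleCat ℤ))).Exact :=
        (ShortComplex.exact_map_iff_of_faithful E (forget₂ (Rep ℤ Γ) (ModuleCat ℤ))).mpr hE.exact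
      obtain ⟨u, hu⟩ := (ShortComplex.moduleCat_exact_iff _).mp hexact v h1
      exact ⟨u, (hf₀ u).trans hu⟩
    obtain ⟨s, hs1, hs2⟩ := exists_section (i₁ := E.X₁.hV2) (i₂ := E.X₂.hV2) E.X₁.ρ E.X₂.ρ
      f₀ g₀ hf hg hinj hsurj hgf hex hH1
    let l : (Rep.ofMulAction ℤ Γ X).ρ.IntertwiningMap E.X₂.ρ :=
      ⟨toLin s, fun γ => DFunLike.ext _ _ fun ξ => hs1 γ ξ⟩
    let t : Rep.ofMulAction ℤ Γ X ⟶ E.X₂ := ConcreteCategory.ofHom (C := Rep ℤ Γ) l
    have hsg : (β.hom ≫ t) ≫ E.g = 𝟙 E.X₃ := by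
      refine Rep.hom_ext (DFunLike.ext _ _ fun y => ?_)
      show E.g.hom (s (β.hom.hom y)) = y
      have h1 : β.hom.hom (E.g.hom (s (β.hom.hom y))) = β.hom.hom y := by
        rw [← hg₀]; exact hs2 (β.hom.hom y)
      have h2 := congrArg β.inv.hom h1
      rw [Rep.inv_hom_apply, Rep.inv_hom_apply] at h2
      exact h2
    exact ⟨ShortComplex.Splitting.ofExactOfSection E hE.exact (β.hom ≫ t) hsg hE.mono_f⟩
  · intro h Γ'
    have hsub : ∀ x : groupCohomology (Rep.res Γ'.subtype Λ) 1, x = 0 := by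
      intro x
      refine H1_induction_on x (fun a => ?_)
      rw [H1π_eq_zero_iff]
      have hc : ∀ p q : Γ', a (p * q) = Λ.ρ (p : Γ) (a q) + a p :=
        (mem_cocycles₁_iff _).mp a.2
      have hsplit : ∀ (W : Type) [AddCommGroup W] (σ : Representation ℤ Γ W) (f : Λ.V →+ W)
          (g : W →+ MonoidAlgebra ℤ (Γ ⧸ Γ')),
          (∀ γ v, f (Λ.ρ γ v) = σ γ (f v)) →
          (∀ γ w, g (σ γ w) = Representation.ofMulAction ℤ Γ (Γ ⧸ Γ') γ (g w)) →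
          Function.Injective f → Function.Surjective g → (∀ v, g (f v) = 0) →
          (∀ w, g w = 0 → ∃ v, f v = w) →
          ∃ s : MonoidAlgebra ℤ (Γ ⧸ Γ') → W,
            (∀ γ ξ, s (Representation.ofMulAction ℤ Γ (Γ ⧸ Γ') γ ξ) = σ γ (s ξ)) ∧
              ∀ ξ, g (s ξ) = ξ := by
        intro W _ σ f g hf hg hinj hsurj hgf hex
        let lf : Λ.ρ.IntertwiningMap σ :=
          ⟨toLin f, fun γ => DFunLike.ext _ _ fun v => hf γ v⟩
        let lg : σ.IntertwiningMap (Representation.ofMulAction ℤ Γ (Γ ⧸ Γ')) :=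
          ⟨toLin g, fun γ => DFunLike.ext _ _ fun w => hg γ w⟩
        let F : Λ ⟶ Rep.of σ := ConcreteCategory.ofHom (C := Rep ℤ Γ) lf
        let G : Rep.of σ ⟶ Rep.ofMulAction ℤ Γ (Γ ⧸ Γ') :=
          ConcreteCategory.ofHom (C := Rep ℤ Γ) lg
        have hFG : F ≫ G = 0 := Rep.hom_ext (DFunLike.ext _ _ fun v => hgf v)
        let E : ShortComplex (Rep ℤ Γ) := ShortComplex.mk F G hFG
        have hE : E.ShortExact := by
          refine ShortComplex.ShortExact.mk' ?_ ?_ ?_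
          · refine (ShortComplex.exact_map_iff_of_faithful E
              (forget₂ (Rep ℤ Γ) (ModuleCat ℤ))).mp ?_
            refine (ShortComplex.moduleCat_exact_iff _).mpr fun x hx => ?_
            obtain ⟨u, hu⟩ := hex x hx
            exact ⟨u, hu⟩
          · exact (Rep.mono_iff_injective F).mpr fun a b hab => hinj hab
          · exact (Rep.epi_iff_surjective G).mpr fun y => hsurj y
        obtain ⟨sp⟩ := h (Γ ⧸ Γ') E hE ⟨Iso.refl _⟩ ⟨Iso.refl _⟩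
        refine ⟨fun ξ => sp.s.hom ξ, fun γ ξ => ?_, fun ξ => ?_⟩
        · exact Rep.hom_comm_apply sp.s γ ξ
        · exact congrArg (fun φ : E.X₃ ⟶ E.X₃ => φ.hom ξ) sp.s_g
      obtain ⟨m, hm⟩ := coboundary_of_split Γ' (i := Λ.hV2) Λ.ρ (fun p => a p) hc hsplit
      have hmem : ∃ m : Λ.V, (d₀₁ (Rep.res Γ'.subtype Λ)).hom m = ⇑a :=
        ⟨m, funext fun p => (hm p).symm⟩
      exact hmem
    haveI : Subsingleton (groupCohomology (Rep.res Γ'.subtype Λ) 1) :=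
      ⟨fun x y => (hsub x).trans (hsub y).symm⟩
    exact ModuleCat.isZero_of_subsingleton _

end Main



end Groth.Agent.H86.GalLat
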