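import Groth.Statements.S16269
import Mathlib

set_option autoImplicit false
universe u w
open CategoryTheory CategoryTheory.Limits AlgebraicGeometry Opposite
open EtCore

namespace Groth.Agent.H86.GaloisCover

/-- `S16268` (helper81) with only the injectivity half of the product hypothesis; forward
direction. -/
theorem aux (X : Scheme.{u}) (Y : X.Etale) {G : Type u} [Group G] (σ : G →* Aut Y)
    (P : X.Etaleᵒᵖ ⥤ Type w)
    (hP : Function.Injective (fun s : P.obj (op (Y ⨯ Y)) =>
      fun g : G => P.map (prod.lift (𝟙 Y) (σ g).hom).op s))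
    (H : Presieve.IsSheafFor P (Presieve.singleton ((EtCore.topIsTerminal X).from Y))) :
    Function.Injective (P.map ((EtCore.topIsTerminal X).from Y).op) ∧
      Set.range (P.map ((EtCore.topIsTerminal X).from Y).op) =
        {s | ∀ g : G, P.map (σ g).hom.op s = s} := by
  rw [Presieve.isSheafFor_singleton] at H
  have hterm : ∀ {Z : X.Etale} (a b : Z ⟶ EtCoh.top X), a = b :=
    fun a b => (EtCore.topIsTerminal X).hom_ext a b
  have hcompat : ∀ s : P.obj (op Y),
      (∀ {Z : X.Etale} (p₁ p₂ : Z ⟶ Y), p₁ ≫ (EtCore.topIsTerminal X).from Y =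
        p₂ ≫ (EtCore.topIsTerminal X).from Y → P.map p₁.op s = P.map p₂.op s) ↔
      ∀ g : G, P.map (σ g).hom.op s = s := by
    intro s
    constructor
    · intro h g
      have h1 := h (σ g).hom (𝟙 Y) (hterm _ _)
      rw [h1]; simp
    · intro h Z p₁ p₂ _
      have hfs : P.map (prod.fst : Y ⨯ Y ⟶ Y).op s = P.map (prod.snd : Y ⨯ Y ⟶ Y).op s := by
        apply hP
        funext g
        simp only
        rw [← Functor.map_comp_apply, ← Functor.map_comp_apply, ← op_comp, ← op_comp,
          prod.lift_fst, prod.lift_snd, h g]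
        simp
      calc P.map p₁.op s = P.map (prod.lift p₁ p₂ ≫ prod.fst).op s := by rw [prod.lift_fst]
        _ = P.map (prod.lift p₁ p₂).op (P.map prod.fst.op s) := by
          rw [op_comp, Functor.map_comp_apply]
        _ = P.map (prod.lift p₁ p₂).op (P.map prod.snd.op s) := by rw [hfs]
        _ = P.map (prod.lift p₁ p₂ ≫ prod.snd).op s := by
          rw [op_comp, Functor.map_comp_apply]
        _ = P.map p₂.op s := by rw [prod.lift_snd]
  have hinvt : ∀ (t : P.obj (op (EtCoh.top X))) (g : G),
      P.map (σ g).hom.op (P.map ((EtCore.topIsTerminal X).from Y).op t) =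
        P.map ((EtCore.topIsTerminal X).from Y).op t := by
    intro t g
    rw [← Functor.map_comp_apply, ← op_comp, hterm ((σ g).hom ≫ (EtCore.topIsTerminal X).from Y)
      ((EtCore.topIsTerminal X).from Y)]
  refine ⟨?_, ?_⟩
  · intro t t' htt'
    obtain ⟨y, -, hy⟩ := H (P.map ((EtCore.topIsTerminal X).from Y).op t)
      ((hcompat _).mpr (hinvt t))
    rw [hy t rfl, hy t' htt'.symm]
  · ext s
    constructor
    · rintro ⟨t, rfl⟩ g
      exact hinvt t g
    · intro hs
      obtain ⟨y, hy, -⟩ := H s ((hcompat s).mpr hs)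
      exact ⟨y, hy⟩

/-- The injections of a colimit cofan in the small étale site are jointly surjective. -/
theorem iUnion_range_eq_univ (X : Scheme.{u}) {ι : Type*} (W : X.Etale) (Z : ι → X.Etale)
    (f : ∀ i, Z i ⟶ W) (hc : IsColimit (Cofan.mk W f)) :
    ⋃ i, Set.range (f i).left = Set.univ := by
  let U : W.left.Opens := ⟨⋃ i, Set.range (f i).left,
    isOpen_iUnion fun i => (f i).left.isOpenMap.isOpen_range⟩
  haveI hUι : IsOpenImmersion U.ι := inferInstance
  let W' : X.Etale := Scheme.Etale.mk (U.ι ≫ W.hom)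
  let j : W' ⟶ W := MorphismProperty.Over.homMk U.ι rfl trivial
  have hfac : ∀ i, Set.range (f i).left ⊆ Set.range U.ι := by
    intro i
    rw [Scheme.Opens.range_ι]
    exact Set.subset_iUnion (fun i => Set.range (f i).left) i
  let l : ∀ i, (Z i).left ⟶ (U : Scheme.{u}) := fun i =>
    IsOpenImmersion.lift U.ι (f i).left (hfac i)
  have hl : ∀ i, l i ≫ U.ι = (f i).left := fun i => IsOpenImmersion.lift_fac _ _ _
  let f' : ∀ i, Z i ⟶ W' := fun i =>
    MorphismProperty.Over.homMk (l i) (by
      show l i ≫ (U.ι ≫ W.hom) = (Z i).hom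
      rw [← Category.assoc, hl]
      exact MorphismProperty.Over.w (f i)) trivial
  have hf' : ∀ i, f' i ≫ j = f i := fun i => by
    apply MorphismProperty.Over.Hom.ext
    show l i ≫ U.ι = (f i).left
    exact hl i
  let r : W ⟶ W' := Cofan.IsColimit.desc hc f'
  have hr : r ≫ j = 𝟙 W := by
    apply Cofan.IsColimit.hom_ext hc
    intro i
    show f i ≫ r ≫ j = f i ≫ 𝟙 W
    have h1 : f i ≫ r = f' i := Cofan.IsColimit.fac hc f' i
    rw [← Category.assoc, h1, hf', Category.comp_id]
  apply Set.eq_univ_of_forall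
  intro w
  have hw : j.left (r.left w) = w := by
    have h2 : r.left ≫ j.left = 𝟙 W.left := by
      have := congrArg (fun m => m.left) hr
      exact this
    rw [← Scheme.Hom.comp_apply, h2]
    rfl
  have hmem : j.left (r.left w) ∈ Set.range U.ι := ⟨_, rfl⟩
  rw [Scheme.Opens.range_ι, hw] at hmem
  exact hmem

theorem injective_of_jointly_surjective (X : Scheme.{u}) (F : EtCoh.Ab X) {ι : Type*}
    (W : X.Etale) (Z : ι → X.Etale) (f : ∀ i, Z i ⟶ W)
    (hsurj : ⋃ i, Set.range (f i).left = Set.univ) :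
    Function.Injective (fun s : (F.obj ⋙ forget AddCommGrpCat).obj (op W) =>
      fun i => (F.obj ⋙ forget AddCommGrpCat).map (f i).op s) := by
  intro s t hst
  have hsh : Presieve.IsSheaf X.smallEtaleTopology (F.obj ⋙ forget AddCommGrpCat) :=
    (isSheaf_iff_isSheaf_of_type _ _).1
      ((Presheaf.isSheaf_iff_isSheaf_forget X.smallEtaleTopology F.obj
        (forget AddCommGrpCat)).1 F.property)
  have hcov : Sieve.generate (Presieve.ofArrows Z f) ∈ X.smallEtaleTopology W :=
    (Scheme.ofArrows_mem_smallEtaleTopology_iff f).mpr hsurj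
  have hsep := (hsh.isSheafFor (Presieve.ofArrows Z f) hcov).isSeparatedFor
  apply hsep.ext
  rintro _ _ ⟨i⟩
  exact congrFun hst i

theorem main (X : Scheme.{u})
    (Y : X.Etale) (hY : Function.Surjective Y.hom.base)
    {G : Type u} [Group G] [Finite G] (σ : G →* Aut Y)
    (hgal : Nonempty (IsColimit (Cofan.mk (Y ⨯ Y) (fun g : G => prod.lift (𝟙 Y) (σ g).hom))))
    (F : EtCoh.Ab X) :
    Function.Injective (F.obj.map ((EtCore.topIsTerminal X).from Y).op) ∧
      Set.range (F.obj.map ((EtCore.topIsTerminal X).from Y).op) =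
        {s : EtCoh.sect F Y | ∀ g : G, F.obj.map (σ g).hom.op s = s} := by
  obtain ⟨hc⟩ := hgal
  have hsurj := iUnion_range_eq_univ X (Y ⨯ Y) (fun _ : G => Y)
    (fun g => prod.lift (𝟙 Y) (σ g).hom) hc
  have hinj := injective_of_jointly_surjective X F (Y ⨯ Y) (fun _ : G => Y) _ hsurj
  have hsh : Presieve.IsSheaf X.smallEtaleTopology (F.obj ⋙ forget AddCommGrpCat) :=
    (isSheaf_iff_isSheaf_of_type _ _).1
      ((Presheaf.isSheaf_iff_isSheaf_forget X.smallEtaleTopology F.obj
        (forget AddCommGrpCat)).1 F.property)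
  have hleft : ((EtCore.topIsTerminal X).from Y).left = Y.hom := by
    have := MorphismProperty.Over.w ((EtCore.topIsTerminal X).from Y)
    rw [show (EtCoh.top X).hom = 𝟙 X from rfl] at this
    rw [← this]
    exact (Category.comp_id _).symm
  have hcov0 : Sieve.generate (Presieve.singleton ((EtCore.topIsTerminal X).from Y)) ∈
      X.smallEtaleTopology (EtCoh.top X) := by
    rw [← Presieve.ofArrows_pUnit.{0}]
    refine (Scheme.ofArrows_mem_smallEtaleTopology_iff
      (fun _ : PUnit.{1} => (EtCore.topIsTerminal X).from Y)).mpr ?_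
    apply Set.eq_univ_of_forall
    intro x
    obtain ⟨y, hy⟩ := hY x
    refine Set.mem_iUnion.mpr ⟨PUnit.unit, y, ?_⟩
    rw [hleft]
    exact hy
  have hsheaf := hsh.isSheafFor (Presieve.singleton ((EtCore.topIsTerminal X).from Y)) hcov0
  exact aux X Y σ (F.obj ⋙ forget AddCommGrpCat) hinj hsheaf

end Groth.Agent.H86.GaloisCover
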