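import Groth.Statements.S16124
import Groth.Agent.H18.FinPtsAmple
import Mathlib

set_option autoImplicit false
universe u
open CategoryTheory CategoryTheory.Limits AlgebraicGeometry TopologicalSpace

namespace Groth.Agent.H86.GammaStable

/-- A separated scheme over a field carrying a relatively ample module, with a finite group
acting: every point has a stable affine open neighbourhood. -/
theorem main (k : Type u) [Field k]
    (X : Over (Spec (CommRingCat.of k))) [IsSeparated X.hom]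
    (hX : RelProj.IsQuasiProjective X.hom)
    (Γgrp : Type u) [Group Γgrp] [Finite Γgrp] (ρ : Γgrp →* Aut X.left) (x : ↥X.left) :
    ∃ U : X.left.Opens, x ∈ U ∧ IsAffineOpen U ∧ ∀ σ : Γgrp, (ρ σ).hom ⁻¹ᵁ U = U := by
  obtain ⟨-, -, L, -, hL⟩ := hX
  have hLtop := hL ⟨⊤, isAffineOpen_top _⟩
  have hWtop : ∀ y : X.left, y ∈ X.hom ⁻¹ᵁ (⊤ : (Spec (CommRingCat.of k)).Opens) :=
    fun y => trivial
  let E : Set X.left := Set.range fun σ : Γgrp => (ρ σ).hom x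
  have hE : E.Finite := Set.finite_range _
  have hE' : ((X.hom ⁻¹ᵁ (⊤ : (Spec (CommRingCat.of k)).Opens)).ι ⁻¹' E).Finite :=
    hE.preimage (Set.injOn_of_injective
      (X.hom ⁻¹ᵁ (⊤ : (Spec (CommRingCat.of k)).Opens)).ι.isOpenEmbedding.injective)
  obtain ⟨W₀, hW₀, hEW₀, -⟩ := Groth.Agent.H18.FinPtsAmple.exists_affine_of_finite hLtop ⊤
    ((X.hom ⁻¹ᵁ (⊤ : (Spec (CommRingCat.of k)).Opens)).ι ⁻¹' E) hE' (fun _ _ => trivial)
  let U₀ : X.left.Opens := (X.hom ⁻¹ᵁ (⊤ : (Spec (CommRingCat.of k)).Opens)).ι ''ᵁ W₀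
  have hU₀ : IsAffineOpen U₀ := hW₀.image_of_isOpenImmersion _
  have hEU₀ : E ⊆ U₀ := by
    intro e he
    exact ⟨⟨e, hWtop e⟩,
      hEW₀ (show (X.hom ⁻¹ᵁ (⊤ : (Spec (CommRingCat.of k)).Opens)).ι ⟨e, hWtop e⟩ ∈ E from he),
      rfl⟩
  have hcomp : ∀ σ τ : Γgrp, ∀ y : X.left,
      (ρ (σ * τ)).hom y = (ρ σ).hom ((ρ τ).hom y) := by
    intro σ τ y
    have hmul : (ρ (σ * τ)).hom = (ρ τ).hom ≫ (ρ σ).hom := by
      rw [map_mul]
      rfl
    rw [hmul, Scheme.Hom.comp_apply]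
  haveI : IsAffineHom (pullback.diagonal X.hom) := inferInstance
  have hinf : ∀ U V : X.left.Opens, IsAffineOpen U → IsAffineOpen V → IsAffineOpen (U ⊓ V) :=
    fun U V hU hV => (isAffineHom_diagonal_iff (f := X.hom)).mp inferInstance ⊤
      (isAffineOpen_top _) U (by simp) V (by simp) hU hV
  let U : X.left.Opens := ⨅ σ : Γgrp, (ρ σ).hom ⁻¹ᵁ U₀
  have hUaff : IsAffineOpen U :=
    InfClosed.iInf_mem_of_nonempty (s := Set.ofPred IsAffineOpen)
      (fun _ h _ h' ↦ hinf _ _ h h') (fun σ => by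
        haveI : IsIso (ρ σ).hom := Iso.isIso_hom (ρ σ)
        exact hU₀.preimage_of_isIso (ρ σ).hom)
  have hmem : ∀ y : X.left, y ∈ U ↔ ∀ σ : Γgrp, (ρ σ).hom y ∈ U₀ := by
    intro y
    show y ∈ ((⨅ σ : Γgrp, (ρ σ).hom ⁻¹ᵁ U₀ : X.left.Opens) : Set X.left) ↔ _
    rw [Opens.coe_iInf, Set.mem_iInter]
    rfl
  refine ⟨U, (hmem x).mpr fun σ => hEU₀ ⟨σ, rfl⟩, hUaff, fun τ => ?_⟩
  ext y
  show (ρ τ).hom y ∈ U ↔ y ∈ U
  rw [hmem, hmem]
  constructor
  · intro H σ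
    have h1 := H (σ * τ⁻¹)
    rwa [← hcomp, inv_mul_cancel_right] at h1
  · intro H σ
    rw [← hcomp]
    exact H _

end Groth.Agent.H86.GammaStable
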