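import Mathlib
import Groth.Prelude

/-!
# (R2) `CurvSt.GeomFib` of the classifying object of a scheme over a field, in scheme terms

For `p : X ⟶ Spec k` and `t : Spec k ⟶ S`, the geometric fibres (in the sheaf sense of
`CurvSt.GeomFib`) of the unpointed family `h_X → h_{Spec k}` are exactly the scheme-theoretic
base changes of `p` along `Spec Ω ⟶ Spec k`, since `AlgSp.yon S` is fully faithful and preserves
and reflects fibre products, and `Over.forget S` preserves and reflects fibre products.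
-/

set_option autoImplicit false
universe u
open CategoryTheory CategoryTheory.Limits AlgebraicGeometry Opposite

namespace Groth.Agent.H86.GeomFib_R2

/-- General form over an arbitrary morphism `f : B ⟶ T` of schemes over `S`. -/
theorem aux (S : Scheme.{u}) (B T : Over S) (f : B ⟶ T)
    (P : ∀ (Ω : Type u) [Field Ω] [IsAlgClosed Ω] (X' : Scheme.{u}),
      (X' ⟶ Spec (CommRingCat.of Ω)) → Prop) :
    (∀ (Ω : Type u) [Field Ω] [IsAlgClosed Ω] (s : Spec (CommRingCat.of Ω) ⟶ T.left)
        (X' : Scheme.{u}) (q : X' ⟶ Spec (CommRingCat.of Ω))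
        (i : (AlgSp.yon S).obj (Over.mk ((q ≫ s) ≫ T.hom)) ⟶ (AlgSp.yon S).obj B),
        IsPullback i
          ((AlgSp.yon S).map
            (Over.homMk q (by simp only [Over.mk_hom, Category.assoc]) :
              (Over.mk ((q ≫ s) ≫ T.hom) : Over S) ⟶ Over.mk (s ≫ T.hom)))
          ((AlgSp.yon S).map f)
          ((AlgSp.yon S).map (Over.homMk s rfl : (Over.mk (s ≫ T.hom) : Over S) ⟶ T)) →
        P Ω X' q) ↔
      ∀ (Ω : Type u) [Field Ω] [IsAlgClosed Ω] (s : Spec (CommRingCat.of Ω) ⟶ T.left)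
        (X' : Scheme.{u}) (fst : X' ⟶ B.left) (q : X' ⟶ Spec (CommRingCat.of Ω)),
        IsPullback fst q f.left s → P Ω X' q := by
  constructor
  · intro G Ω _ _ s X' fst q hpb
    have hw : fst ≫ B.hom = (q ≫ s) ≫ T.hom := by
      rw [← Over.w f, ← Category.assoc, hpb.w]
    let top : (Over.mk ((q ≫ s) ≫ T.hom) : Over S) ⟶ B := Over.homMk fst hw
    have hO : IsPullback top
        (Over.homMk q (by simp only [Over.mk_hom, Category.assoc]) :
              (Over.mk ((q ≫ s) ≫ T.hom) : Over S) ⟶ Over.mk (s ≫ T.hom))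
        f (Over.homMk s rfl : (Over.mk (s ≫ T.hom) : Over S) ⟶ T) :=
      IsPullback.of_map (Over.forget S) (Over.OverMorphism.ext hpb.w) hpb
    exact G Ω s X' q ((AlgSp.yon S).map top) (hO.map (AlgSp.yon S))
  · intro H Ω _ _ s X' q i hP
    let i' : (Over.mk ((q ≫ s) ≫ T.hom) : Over S) ⟶ B := (AlgSp.yon S).preimage i
    have hi : (AlgSp.yon S).map i' = i := (AlgSp.yon S).map_preimage i
    rw [← hi] at hP
    have hcomm : i' ≫ f =
        (Over.homMk q (by simp only [Over.mk_hom, Category.assoc]) :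
              (Over.mk ((q ≫ s) ≫ T.hom) : Over S) ⟶ Over.mk (s ≫ T.hom)) ≫
          (Over.homMk s rfl : (Over.mk (s ≫ T.hom) : Over S) ⟶ T) := by
      apply (AlgSp.yon S).map_injective
      rw [Functor.map_comp, Functor.map_comp]
      exact hP.w
    have hO := IsPullback.of_map (AlgSp.yon S) hcomm hP
    have hS := hO.map (Over.forget S)
    exact H Ω s X' i'.left q hS

theorem geomFib_toSpFam_iff (S : Scheme.{u}) (k : Type u) [Field k]
    (t : Spec (CommRingCat.of k) ⟶ S) (X : Scheme.{u}) (p : X ⟶ Spec (CommRingCat.of k))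
    (P : ∀ (Ω : Type u) [Field Ω] [IsAlgClosed Ω] (X' : Scheme.{u}),
      (X' ⟶ Spec (CommRingCat.of Ω)) → Prop) :
    CurvSt.GeomFib (fun Ω _ _ X' q _ => P Ω X' q)
        ((CurvSt.toSpFam S 0).obj ⟨Over.mk t, X, p, Fin.elim0, fun i => i.elim0⟩) ↔
      ∀ (Ω : Type u) [Field Ω] [IsAlgClosed Ω]
        (s : Spec (CommRingCat.of Ω) ⟶ Spec (CommRingCat.of k))
        (X' : Scheme.{u}) (fst : X' ⟶ X) (q : X' ⟶ Spec (CommRingCat.of Ω)),
        IsPullback fst q p s → P Ω X' q :=
  aux S (Over.mk (p ≫ t)) (Over.mk t) (Over.homMk p rfl) P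

end Groth.Agent.H86.GeomFib_R2
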