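import Mathlib
import Groth.Agent.H37.GeomDescentFlat

/-!
# (R1) geometric reducedness over a field is tested on algebraically closed fields
-/

set_option autoImplicit false
universe u
open CategoryTheory CategoryTheory.Limits AlgebraicGeometry

namespace Groth.Agent.H86.GeomRed_R1

theorem geomReduced_iff_algClosed {Y : Scheme.{u}} {X : Scheme.{u}} (p : X ⟶ Y) :
    GeometricallyReduced p ↔
      ∀ (Ω : Type u) [Field Ω] [IsAlgClosed Ω] (s : Spec (CommRingCat.of Ω) ⟶ Y)
        (X' : Scheme.{u}) (fst : X' ⟶ X) (q : X' ⟶ Spec (CommRingCat.of Ω)),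
        IsPullback fst q p s → IsReduced X' := by
  constructor
  · intro h Ω _ _ s X' fst q hpb
    exact h.geometrically_isReduced s fst q hpb
  · intro H
    refine ⟨?_⟩
    intro K _ y Z fst snd hZ
    let Ω := AlgebraicClosure K
    let g : Spec (CommRingCat.of Ω) ⟶ Spec (CommRingCat.of K) :=
      Spec.map (CommRingCat.ofHom (algebraMap K Ω))
    have hbig : IsPullback (pullback.fst snd g ≫ fst) (pullback.snd snd g) p (g ≫ y) :=
      (IsPullback.of_hasPullback snd g).paste_horiz hZ
    haveI : IsReduced (pullback snd g) := H Ω (g ≫ y) _ _ _ hbig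
    haveI : Flat g := Groth.Agent.H37.flat_to_spec_field K g
    haveI : Surjective g := Groth.Agent.H37.surjective_specMap_field
    haveI : Flat (pullback.fst snd g) := inferInstance
    haveI : Surjective (pullback.fst snd g) := inferInstance
    exact Groth.Agent.H37.isReduced_of_flat_surjective (pullback.fst snd g)

end Groth.Agent.H86.GeomRed_R1
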