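import Mathlib

/-!
# Rescaling a graded ring map into a ramified DVR extension (S14123)
-/

namespace Groth.Agent.H86.GmQuotDVR

open Polynomial

universe u v

section Eisenstein

variable {R : Type v} [CommRing R] [IsDomain R] [IsDiscreteValuationRing R]

abbrev Rext (π : R) (D : ℕ) : Type v := AdjoinRoot (X ^ D - C π : R[X])

noncomputable abbrev rt (π : R) (D : ℕ) : Rext π D := AdjoinRoot.root (X ^ D - C π : R[X])

lemma fpoly_monic (π : R) {D : ℕ} (hD : 0 < D) : (X ^ D - C π : R[X]).Monic :=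
  monic_X_pow_sub_C π hD.ne'

lemma fpoly_natDegree (π : R) (D : ℕ) : (X ^ D - C π : R[X]).natDegree = D :=
  natDegree_X_pow_sub_C

lemma fpoly_irreducible {π : R} (hπ : Irreducible π) {D : ℕ} (hD : 0 < D) :
    Irreducible (X ^ D - C π : R[X]) := by
  have hmax : (Ideal.span {π}).IsPrime := (Ideal.span_singleton_prime hπ.ne_zero).mpr hπ.prime
  refine Polynomial.IsEisensteinAt.irreducible (𝓟 := Ideal.span {π}) ?_ hmax
    (fpoly_monic π hD).isPrimitive (by rw [fpoly_natDegree π D]; exact hD)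
  refine ⟨?_, ?_, ?_⟩
  · rw [(fpoly_monic π hD).leadingCoeff]
    exact fun h => hmax.ne_top ((Ideal.eq_top_iff_one _).mpr h)
  · intro n hn
    rw [fpoly_natDegree π D] at hn
    rw [coeff_sub, coeff_X_pow, if_neg hn.ne, coeff_C]
    split_ifs
    · rw [zero_sub]; exact neg_mem (Ideal.mem_span_singleton_self π)
    · rw [sub_zero]; exact zero_mem _
  · rw [coeff_sub, coeff_X_pow, if_neg (by omega : ¬ (0 = D)), coeff_C_zero, zero_sub,
      Ideal.span_singleton_pow, Ideal.mem_span_singleton]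
    rintro ⟨c, hc⟩
    have h0 : π * (1 + π * c) = 0 := by linear_combination (-1 : R) * hc
    have h1 : 1 + π * c = 0 := (mul_eq_zero.mp h0).resolve_left hπ.ne_zero
    exact hπ.not_isUnit (IsUnit.of_mul_eq_one (-c) (by linear_combination (-1 : R) * h1))

lemma root_pow (π : R) (D : ℕ) : (rt π D) ^ D = AdjoinRoot.of _ π := by
  have h := AdjoinRoot.mk_self (f := (X ^ D - C π : R[X]))
  rw [map_sub, map_pow, AdjoinRoot.mk_X, AdjoinRoot.mk_C] at h
  exact sub_eq_zero.mp h

lemma rext_isDomain {π : R} (hπ : Irreducible π) {D : ℕ} (hD : 0 < D) : IsDomain (Rext π D) :=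
  AdjoinRoot.isDomain_of_prime (fpoly_irreducible hπ hD).prime

lemma of_injective (π : R) {D : ℕ} (hD : 0 < D) :
    Function.Injective (AdjoinRoot.of (X ^ D - C π : R[X])) :=
  AdjoinRoot.of.injective_of_degree_ne_zero (by
    rw [degree_eq_natDegree (fpoly_monic π hD).ne_zero, fpoly_natDegree π D]
    exact_mod_cast hD.ne')

lemma rext_finite (π : R) {D : ℕ} (hD : 0 < D) : Module.Finite R (Rext π D) :=
  (AdjoinRoot.powerBasis' (fpoly_monic π hD)).finite

lemma root_mem_of_isMaximal {π : R} (hπ : Irreducible π) {D : ℕ} (hD : 0 < D)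
    (I : Ideal (Rext π D)) [hI : I.IsMaximal] : rt π D ∈ I := by
  haveI : Module.Finite R (Rext π D) := rext_finite π hD
  haveI : Algebra.IsIntegral R (Rext π D) := Algebra.IsIntegral.of_finite R _
  have hmax : (I.comap (algebraMap R (Rext π D))).IsMaximal :=
    Ideal.isMaximal_comap_of_isIntegral_of_isMaximal I
  have heq : I.comap (algebraMap R (Rext π D)) = IsLocalRing.maximalIdeal R :=
    IsLocalRing.eq_maximalIdeal hmax
  have hπmem : π ∈ I.comap (algebraMap R (Rext π D)) := by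
    rw [heq, hπ.maximalIdeal_eq]; exact Ideal.mem_span_singleton_self π
  have h2 : AdjoinRoot.of (X ^ D - C π : R[X]) π ∈ I := by
    have := hπmem
    rwa [Ideal.mem_comap, AdjoinRoot.algebraMap_eq] at this
  have h3 : (rt π D) ^ D ∈ I := by rw [root_pow]; exact h2
  exact hI.isPrime.mem_of_pow_mem D h3

lemma root_not_isUnit {π : R} (hπ : Irreducible π) {D : ℕ} (hD : 0 < D) :
    ¬ IsUnit (rt π D) := by
  haveI := rext_isDomain hπ hD
  obtain ⟨I, hI⟩ := Ideal.exists_maximal (Rext π D)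
  haveI := hI
  intro hu
  exact hI.ne_top (Ideal.eq_top_of_isUnit_mem _ (root_mem_of_isMaximal hπ hD I) hu)

lemma root_ne_zero {π : R} (hπ : Irreducible π) {D : ℕ} (hD : 0 < D) : rt π D ≠ 0 := by
  intro h
  have := root_pow π D
  rw [h, zero_pow hD.ne'] at this
  exact hπ.ne_zero (of_injective π hD (by rw [← this, map_zero]))

lemma isUnit_of_not_mem_span_root {π : R} (hπ : Irreducible π) {D : ℕ} (hD : 0 < D)
    {y : Rext π D} (hy : y ∉ Ideal.span {rt π D}) : IsUnit y := by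
  obtain ⟨P, rfl⟩ := AdjoinRoot.mk_surjective y
  have hP : AdjoinRoot.mk (X ^ D - C π : R[X]) P =
      AdjoinRoot.of _ (P.coeff 0) + rt π D * AdjoinRoot.mk _ P.divX := by
    conv_lhs => rw [← Polynomial.divX_mul_X_add P]
    rw [map_add, map_mul, AdjoinRoot.mk_X, AdjoinRoot.mk_C]
    ring
  have hp0 : IsUnit (P.coeff 0) := by
    by_contra hnu
    have hmem : P.coeff 0 ∈ IsLocalRing.maximalIdeal R := (IsLocalRing.mem_maximalIdeal _).mpr hnu
    rw [hπ.maximalIdeal_eq, Ideal.mem_span_singleton] at hmem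
    obtain ⟨c, hc⟩ := hmem
    apply hy
    rw [hP, hc, map_mul, ← root_pow]
    refine Ideal.add_mem _ (Ideal.mul_mem_right _ _ ?_)
      (Ideal.mul_mem_right _ _ (Ideal.mem_span_singleton_self _))
    exact Ideal.pow_mem_of_mem _ (Ideal.mem_span_singleton_self _) D hD
  have hjac : rt π D ∈ Ideal.jacobson (⊥ : Ideal (Rext π D)) := by
    rw [Ideal.jacobson, Ideal.mem_sInf]
    rintro J ⟨-, hJ⟩
    haveI := hJ
    exact root_mem_of_isMaximal hπ hD J
  rw [hP]
  obtain ⟨u, hu⟩ := hp0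
  have hunit := (Ideal.mem_jacobson_bot.mp hjac)
    (AdjoinRoot.mk _ P.divX * AdjoinRoot.of _ ((↑u⁻¹ : R)))
  have h1 : AdjoinRoot.of (X ^ D - C π : R[X]) (u : R) * AdjoinRoot.of _ ((↑u⁻¹ : R)) = 1 := by
    rw [← map_mul, Units.mul_inv, map_one]
  have key : AdjoinRoot.of _ (P.coeff 0) + rt π D * AdjoinRoot.mk _ P.divX =
      AdjoinRoot.of (X ^ D - C π : R[X]) (u : R) *
        (rt π D * (AdjoinRoot.mk _ P.divX * AdjoinRoot.of _ ((↑u⁻¹ : R))) + 1) := by
    rw [← hu]
    linear_combination (-(rt π D * AdjoinRoot.mk _ P.divX)) * h1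
  rw [key]
  exact ((u.isUnit.map (AdjoinRoot.of _))).mul hunit

lemma span_root_isMaximal {π : R} (hπ : Irreducible π) {D : ℕ} (hD : 0 < D) :
    (Ideal.span {rt π D}).IsMaximal := by
  rw [Ideal.isMaximal_iff]
  refine ⟨fun h => root_not_isUnit hπ hD
    (Ideal.span_singleton_eq_top.mp ((Ideal.eq_top_iff_one _).mpr h)), ?_⟩
  intro J y _ hy hyJ
  have hu := isUnit_of_not_mem_span_root hπ hD hy
  have : J = ⊤ := Ideal.eq_top_of_isUnit_mem _ hyJ hu
  rw [this]; trivial

lemma rext_isLocalRing {π : R} (hπ : Irreducible π) {D : ℕ} (hD : 0 < D) :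
    IsLocalRing (Rext π D) := by
  refine IsLocalRing.of_unique_max_ideal ⟨Ideal.span {rt π D}, span_root_isMaximal hπ hD, ?_⟩
  intro I hI
  haveI : I.IsMaximal := hI
  have hle : Ideal.span {rt π D} ≤ I :=
    (Ideal.span_singleton_le_iff_mem _).mpr (root_mem_of_isMaximal hπ hD I)
  exact ((span_root_isMaximal hπ hD).eq_of_le hI.ne_top hle).symm

lemma rext_isDVR {π : R} (hπ : Irreducible π) {D : ℕ} (hD : 0 < D) :
    @IsDiscreteValuationRing (Rext π D) _ (rext_isDomain hπ hD) := by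
  haveI := rext_isDomain hπ hD
  haveI := rext_isLocalRing hπ hD
  have hmax : IsLocalRing.maximalIdeal (Rext π D) = Ideal.span {rt π D} :=
    (IsLocalRing.eq_maximalIdeal (span_root_isMaximal hπ hD)).symm
  have hnf : ¬ IsField (Rext π D) := by
    intro hf
    obtain ⟨b, hb⟩ := hf.mul_inv_cancel (root_ne_zero hπ hD)
    exact root_not_isUnit hπ hD (IsUnit.of_mul_eq_one b hb)
  exact ((IsDiscreteValuationRing.TFAE (Rext π D) hnf).out 0 4).mpr
    (by rw [hmax]; exact ⟨⟨_, rfl⟩⟩)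

lemma rext_isLocalHom {π : R} (hπ : Irreducible π) {D : ℕ} (hD : 0 < D) :
    IsLocalHom (algebraMap R (Rext π D)) := by
  constructor
  intro r hr
  by_contra hnu
  have hmem : r ∈ IsLocalRing.maximalIdeal R := (IsLocalRing.mem_maximalIdeal _).mpr hnu
  rw [hπ.maximalIdeal_eq, Ideal.mem_span_singleton] at hmem
  obtain ⟨c, rfl⟩ := hmem
  rw [map_mul, AdjoinRoot.algebraMap_eq, ← root_pow] at hr
  have h1 : IsUnit ((rt π D) ^ D) := isUnit_of_mul_isUnit_left hr
  exact root_not_isUnit hπ hD ((isUnit_pow_iff hD.ne').mp h1)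

end Eisenstein

theorem main {A : Type u} [CommRing A] (𝒜 : ℤ → AddSubgroup A) [GradedRing 𝒜]
    (hfg : (Ideal.span {a : A | ∃ d : ℤ, 0 < d ∧ a ∈ 𝒜 d}).FG)
    (R : Type v) [CommRing R] [IsDomain R] [IsDiscreteValuationRing R]
    (K : Type v) [Field K] [Algebra R K] [IsFractionRing R K]
    (φ : A →+* R)
    (hle : Ideal.map φ (Ideal.span {a : A | ∃ d : ℤ, 0 < d ∧ a ∈ 𝒜 d}) ≤ IsLocalRing.maximalIdeal R)
    (hne : Ideal.map φ (Ideal.span {a : A | ∃ d : ℤ, 0 < d ∧ a ∈ 𝒜 d}) ≠ ⊥) :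
    ∃ (R' : Type v) (_ : CommRing R') (_ : IsDomain R') (_ : IsDiscreteValuationRing R')
      (K' : Type v) (_ : Field K') (_ : Algebra R' K') (_ : IsFractionRing R' K')
      (_ : Algebra R R') (_ : Algebra K K') (_ : Algebra R K')
      (_ : IsScalarTower R R' K') (_ : IsScalarTower R K K')
      (_ : Module.Finite K K') (_ : IsLocalHom (algebraMap R R'))
      (ϖ : R') (g : A →+* R'),
      ϖ ≠ 0 ∧ ϖ ∈ IsLocalRing.maximalIdeal R' ∧
      (∀ (d : ℤ) (a : A), a ∈ 𝒜 d →
        algebraMap R' K' (g a) * algebraMap R' K' ϖ ^ d = algebraMap R K' (φ a)) ∧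
      Ideal.map g (Ideal.span {a : A | ∃ d : ℤ, 0 < d ∧ a ∈ 𝒜 d}) = ⊤ := by
  classical
  obtain ⟨π, hπ⟩ := IsDiscreteValuationRing.exists_irreducible R
  obtain ⟨T, hTS, hspan⟩ := (Submodule.fg_span_iff_fg_span_finset_subset _).mp hfg
  have hdeg : ∀ f ∈ T, ∃ d : ℤ, 0 < d ∧ f ∈ 𝒜 d := fun f hf => hTS hf
  choose! deg hdegpos hdegmem using hdeg
  have hval : ∀ f : A, φ f ≠ 0 → ∃ (n : ℕ) (u : Rˣ), φ f = u * π ^ n :=
    fun f hf => IsDiscreteValuationRing.eq_unit_mul_pow_irreducible hf hπ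
  choose! nv uv hnv using hval
  have hT' : (T.filter (fun f => φ f ≠ 0)).Nonempty := by
    rw [Finset.nonempty_iff_ne_empty]
    intro hemp
    apply hne
    have hspan' : Ideal.span {a : A | ∃ d : ℤ, 0 < d ∧ a ∈ 𝒜 d} = Ideal.span (T : Set A) := hspan
    rw [hspan', Ideal.map_span, Ideal.span_eq_bot]
    rintro _ ⟨f, hf, rfl⟩
    by_contra h0
    have : f ∈ T.filter (fun f => φ f ≠ 0) := Finset.mem_filter.mpr ⟨hf, h0⟩
    rw [hemp] at this
    simp at this
  obtain ⟨f₀, hf₀T', hmin⟩ :=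
    Finset.exists_min_image _ (fun f => (nv f : ℚ) / (deg f : ℚ)) hT'
  have hf₀T : f₀ ∈ T := (Finset.mem_filter.mp hf₀T').1
  have hφf₀ : φ f₀ ≠ 0 := (Finset.mem_filter.mp hf₀T').2
  have hf₀S : f₀ ∈ {a : A | ∃ d : ℤ, 0 < d ∧ a ∈ 𝒜 d} := hTS hf₀T
  obtain ⟨s, hs_def⟩ : ∃ s : ℕ, s = nv f₀ := ⟨_, rfl⟩
  obtain ⟨D, hD_def⟩ : ∃ D : ℕ, D = (deg f₀).toNat := ⟨_, rfl⟩
  have hD : 0 < D := by have := hdegpos f₀ hf₀T; omega
  have hDcast : (D : ℤ) = deg f₀ := by
    rw [hD_def]; exact Int.toNat_of_nonneg (hdegpos f₀ hf₀T).le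
  have hφf₀' : φ f₀ = (uv f₀ : R) * π ^ s := by rw [hs_def]; exact hnv f₀ hφf₀
  have hs : 0 < s := by
    rw [Nat.pos_iff_ne_zero]
    intro hs0
    have hmem : φ f₀ ∈ IsLocalRing.maximalIdeal R :=
      hle (Ideal.mem_map_of_mem φ (Ideal.subset_span hf₀S))
    rw [hφf₀', hs0, pow_zero, mul_one] at hmem
    exact (IsLocalRing.mem_maximalIdeal _).mp hmem (uv f₀).isUnit
  have cast_toNat : ∀ z : ℤ, 0 ≤ z → ((z.toNat : ℕ) : ℚ) = (z : ℚ) := fun z hz => by
    rw [← Int.cast_natCast, Int.toNat_of_nonneg hz]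
  have hcross : ∀ f ∈ T, φ f ≠ 0 → s * (deg f).toNat ≤ nv f * D := by
    intro f hf hφf
    have h1 := hmin f (Finset.mem_filter.mpr ⟨hf, hφf⟩)
    have hd0 : (0 : ℚ) < (deg f₀ : ℚ) := by exact_mod_cast hdegpos f₀ hf₀T
    have hd1 : (0 : ℚ) < (deg f : ℚ) := by exact_mod_cast hdegpos f hf
    rw [div_le_div_iff₀ hd0 hd1] at h1
    have h2 : (s : ℚ) * (((deg f).toNat : ℕ) : ℚ) ≤ (nv f : ℚ) * ((D : ℕ) : ℚ) := by
      rw [cast_toNat _ (hdegpos f hf).le, hD_def, cast_toNat _ (hdegpos f₀ hf₀T).le, hs_def]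
      exact h1
    exact_mod_cast h2
  -- the extension
  haveI hdom : IsDomain (Rext π D) := rext_isDomain hπ hD
  haveI hloc : IsLocalRing (Rext π D) := rext_isLocalRing hπ hD
  haveI hdvr : IsDiscreteValuationRing (Rext π D) := rext_isDVR hπ hD
  obtain ⟨x, hx_def⟩ : ∃ x : Rext π D, x = rt π D := ⟨_, rfl⟩
  have hxD : x ^ D = algebraMap R (Rext π D) π := by
    rw [AdjoinRoot.algebraMap_eq, hx_def]; exact root_pow π D
  have hx0 : x ≠ 0 := by rw [hx_def]; exact root_ne_zero hπ hD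
  have hxnu : ¬ IsUnit x := by rw [hx_def]; exact root_not_isUnit hπ hD
  let φ' : A →+* Rext π D := (algebraMap R (Rext π D)).comp φ
  have hφ' : ∀ a, φ' a = algebraMap R (Rext π D) (φ a) := fun a => rfl
  have hgen : ∀ f ∈ T, x ^ (s * (deg f).toNat) ∣ φ' f := by
    intro f hf
    by_cases hφf : φ f = 0
    · have : φ' f = 0 := by rw [hφ', hφf, map_zero]
      rw [this]; exact dvd_zero _
    · have h1 : φ' f = algebraMap R (Rext π D) (uv f : R) * x ^ (D * nv f) := by
        rw [hφ', hnv f hφf, map_mul, map_pow, ← hxD, ← pow_mul]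
      rw [h1]
      exact Dvd.dvd.mul_left (pow_dvd_pow x (by rw [mul_comm D]; exact hcross f hf hφf)) _
  have hstar : ∀ m : ℕ, ∀ d : ℤ, d.toNat ≤ m → ∀ a ∈ 𝒜 d, x ^ (s * d.toNat) ∣ φ' a := by
    intro m
    induction m with
    | zero =>
      intro d hd a _
      have : d.toNat = 0 := by omega
      rw [this, mul_zero, pow_zero]; exact one_dvd _
    | succ m ih =>
      intro d hd a ha
      by_cases hd0 : d ≤ 0
      · have : d.toNat = 0 := by omega
        rw [this, mul_zero, pow_zero]; exact one_dvd _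
      · push_neg at hd0
        have haS : a ∈ Ideal.span {a : A | ∃ d : ℤ, 0 < d ∧ a ∈ 𝒜 d} :=
          Ideal.subset_span ⟨d, hd0, ha⟩
        have haT : a ∈ Submodule.span A (T : Set A) := by
          have h := haS
          rw [show Ideal.span {a : A | ∃ d : ℤ, 0 < d ∧ a ∈ 𝒜 d} =
            Submodule.span A (T : Set A) from hspan] at h
          exact h
        obtain ⟨c, -, hc⟩ := Submodule.mem_span_finset.mp haT
        have hproj : a = ∑ f ∈ T, (DirectSum.decompose 𝒜 (c f) (d - deg f) : A) * f := by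
          have h1 : GradedRing.proj 𝒜 d a = a := by
            rw [GradedRing.proj_apply]; exact DirectSum.decompose_of_mem_same 𝒜 ha
          calc a = GradedRing.proj 𝒜 d a := h1.symm
            _ = GradedRing.proj 𝒜 d (∑ f ∈ T, c f • f) := by rw [hc]
            _ = ∑ f ∈ T, GradedRing.proj 𝒜 d (c f • f) := map_sum _ _ _
            _ = _ := Finset.sum_congr rfl (fun f hf => ?_)
          rw [GradedRing.proj_apply, smul_eq_mul]
          have h2 : d = (d - deg f) + deg f := by ring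
          conv_lhs => rw [h2]
          exact DirectSum.coe_decompose_mul_add_of_right_mem 𝒜 (hdegmem f hf)
        rw [hproj, map_sum]
        refine Finset.dvd_sum (fun f hf => ?_)
        rw [map_mul]
        have hdf := hdegpos f hf
        have h1 := ih (d - deg f) (by omega) _
          (SetLike.coe_mem (DirectSum.decompose 𝒜 (c f) (d - deg f)))
        have h2 := hgen f hf
        have h3 : x ^ (s * d.toNat) ∣
            x ^ (s * (d - deg f).toNat) * x ^ (s * (deg f).toNat) := by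
          rw [← pow_add, ← mul_add]
          exact pow_dvd_pow x (Nat.mul_le_mul_left s (by omega))
        exact h3.trans (mul_dvd_mul h1 h2)
  have hstar' : ∀ (d : ℤ) (a : A), a ∈ 𝒜 d → x ^ (s * d.toNat) ∣ φ' a :=
    fun d a ha => hstar d.toNat d le_rfl a ha
  -- the fraction field
  have hofinj : Function.Injective (algebraMap R (Rext π D)) := by
    rw [AdjoinRoot.algebraMap_eq]; exact of_injective π hD
  have hinj : Function.Injective (algebraMap R (FractionRing (Rext π D))) := by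
    rw [IsScalarTower.algebraMap_eq R (Rext π D) (FractionRing (Rext π D))]
    exact (IsFractionRing.injective (Rext π D) (FractionRing (Rext π D))).comp hofinj
  letI algKK' : Algebra K (FractionRing (Rext π D)) := (IsFractionRing.lift hinj).toAlgebra
  haveI hST : IsScalarTower R K (FractionRing (Rext π D)) :=
    IsScalarTower.of_algebraMap_eq (fun r => (IsFractionRing.lift_algebraMap hinj r).symm)
  haveI : Module.Finite R (Rext π D) := rext_finite π hD
  haveI : FaithfulSMul R (Rext π D) := (faithfulSMul_iff_algebraMap_injective R _).mpr hofinj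
  haveI : Algebra.IsIntegral R (Rext π D) := Algebra.IsIntegral.of_finite R _
  haveI hfin : Module.Finite K (FractionRing (Rext π D)) :=
    Module.Finite.of_isLocalization R (Rext π D) (nonZeroDivisors R)
  let ι' : Rext π D →+* FractionRing (Rext π D) := algebraMap _ _
  have ι'inj : Function.Injective ι' := IsFractionRing.injective _ _
  have hu0 : ι' (x ^ s) ≠ 0 := fun h => (pow_ne_zero s hx0) (ι'inj (by rw [h, map_zero]))
  let ψ : A →+* FractionRing (Rext π D) := ι'.comp φ'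
  have hψ : ∀ a, ψ a = ι' (φ' a) := fun a => rfl
  let fd : ∀ d : ℤ, 𝒜 d →+ FractionRing (Rext π D) := fun d =>
    (AddMonoidHom.mulRight ((ι' (x ^ s)) ^ (-d))).comp (ψ.toAddMonoidHom.comp (𝒜 d).subtype)
  have fd_apply : ∀ (d : ℤ) (a : 𝒜 d), fd d a = ψ a * (ι' (x ^ s)) ^ (-d) := fun d a => rfl
  let G : (DirectSum ℤ fun d => 𝒜 d) →+* FractionRing (Rext π D) :=
    DirectSum.toSemiring fd
      (by rw [fd_apply, SetLike.coe_gOne, map_one, neg_zero, zpow_zero, mul_one])
      (by intro i j ai aj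
          rw [fd_apply, fd_apply, fd_apply, SetLike.coe_gMul, map_mul, neg_add, zpow_add₀ hu0]
          ring)
  have hG : ∀ (d : ℤ) (a : 𝒜 d), G (DirectSum.of (fun d => 𝒜 d) d a) = fd d a :=
    fun d a => DirectSum.toSemiring_of fd _ _ d a
  let g' : A →+* FractionRing (Rext π D) := G.comp (DirectSum.decomposeRingEquiv 𝒜).toRingHom
  have g'_hom : ∀ (d : ℤ) (a : A), a ∈ 𝒜 d → g' a = ψ a * (ι' (x ^ s)) ^ (-d) := by
    intro d a ha
    show G (DirectSum.decompose 𝒜 a) = _
    rw [DirectSum.decompose_of_mem 𝒜 ha, hG]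
    exact fd_apply d ⟨a, ha⟩
  have hhom_range : ∀ (d : ℤ) (a : A), a ∈ 𝒜 d → ∃ y, ι' y = g' a := by
    intro d a ha
    rw [g'_hom d a ha, hψ]
    by_cases hd0 : 0 ≤ d
    · obtain ⟨n, rfl⟩ := Int.eq_ofNat_of_zero_le hd0
      obtain ⟨q, hq⟩ := hstar' (n : ℤ) a ha
      rw [Int.toNat_natCast] at hq
      refine ⟨q, ?_⟩
      rw [hq, pow_mul, map_mul, map_pow, zpow_neg, zpow_natCast,
        mul_comm ((ι' (x ^ s)) ^ n) (ι' q), mul_assoc,
        mul_inv_cancel₀ (pow_ne_zero n hu0), mul_one]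
    · push_neg at hd0
      obtain ⟨n, hn⟩ : ∃ n : ℕ, d = -(n : ℤ) := ⟨(-d).toNat, by omega⟩
      subst hn
      refine ⟨φ' a * (x ^ s) ^ n, ?_⟩
      rw [neg_neg, zpow_natCast, map_mul, map_pow]
  have hrange : ∀ a : A, ∃ y, ι' y = g' a := by
    intro a
    have hsum := DirectSum.sum_support_decompose 𝒜 a
    have hmem : g' a ∈ ι'.range := by
      rw [← hsum, map_sum]
      refine Subring.sum_mem _ (fun d _ => ?_)
      obtain ⟨y, hy⟩ := hhom_range d _ (SetLike.coe_mem (DirectSum.decompose 𝒜 a d))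
      exact ⟨y, hy⟩
    exact RingHom.mem_range.mp hmem
  choose g0 hg0 using hrange
  let g : A →+* Rext π D :=
    { toFun := g0
      map_one' := ι'inj (by rw [hg0, map_one, map_one])
      map_mul' := fun a b => ι'inj (by rw [hg0, map_mul, map_mul, hg0, hg0])
      map_zero' := ι'inj (by rw [hg0, map_zero, map_zero])
      map_add' := fun a b => ι'inj (by rw [hg0, map_add, map_add, hg0, hg0]) }
  have hg : ∀ a, ι' (g a) = g' a := hg0
  have c3 : ∀ (d : ℤ) (a : A), a ∈ 𝒜 d →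
      ι' (g a) * ι' (x ^ s) ^ d = algebraMap R (FractionRing (Rext π D)) (φ a) := by
    intro d a ha
    rw [hg, g'_hom d a ha, mul_assoc, ← zpow_add₀ hu0, neg_add_cancel, zpow_zero, mul_one]
    exact (IsScalarTower.algebraMap_apply R (Rext π D) _ (φ a)).symm
  have hgf₀ : g f₀ = algebraMap R (Rext π D) (uv f₀ : R) := by
    apply ι'inj
    have e : φ' f₀ = algebraMap R (Rext π D) (uv f₀ : R) * (x ^ s) ^ D := by
      rw [hφ', hφf₀', map_mul, map_pow, ← hxD, ← pow_mul, ← pow_mul, mul_comm D s]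
    rw [hg, g'_hom (deg f₀) f₀ (hdegmem f₀ hf₀T), hψ, e, map_mul, map_pow, ← hDcast, zpow_neg,
      zpow_natCast, mul_assoc, mul_inv_cancel₀ (pow_ne_zero D hu0), mul_one]
  have c4 : Ideal.map g (Ideal.span {a : A | ∃ d : ℤ, 0 < d ∧ a ∈ 𝒜 d}) = ⊤ :=
    Ideal.eq_top_of_isUnit_mem _ (Ideal.mem_map_of_mem g (Ideal.subset_span hf₀S))
      (by rw [hgf₀]; exact (uv f₀).isUnit.map _)
  have c2 : x ^ s ∈ IsLocalRing.maximalIdeal (Rext π D) :=
    Ideal.pow_mem_of_mem _ ((IsLocalRing.mem_maximalIdeal x).mpr hxnu) s hs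
  exact ⟨Rext π D, inferInstance, hdom, hdvr, FractionRing (Rext π D), inferInstance,
    inferInstance, inferInstance, inferInstance, algKK', inferInstance, inferInstance, hST, hfin,
    rext_isLocalHom hπ hD, x ^ s, g, pow_ne_zero s hx0, c2, c3, c4⟩

end Groth.Agent.H86.GmQuotDVR
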