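import Mathlib
import Groth.Prelude.Def_DCoh4
import Groth.Prelude.Def_ClSub2
import Groth.Prelude.Def_Omega2
import Groth.Agent.H22.LocHilb_HDL
import Groth.Agent.H22.IdealSeqCI

/-!
# (HDL2) `H⁰(N_i) ≃+ Hom(I, O_Y/I)` for a general closed immersion `i`, compatible with `k`

Squad piece for helper61's S12265 (adapts helper22's `LocHilb_HDL` / `LocHilb_HD2`).
-/

set_option autoImplicit false
set_option linter.style.haveILetI false
universe u
open CategoryTheory CategoryTheory.Limits AlgebraicGeometry TensorProduct Opposite MonoidalCategory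
open Groth.Agent.H22.LocHilbHDL

namespace Groth.Agent.H86.HilbTanHDL2

variable {X Y : Scheme.{u}}

lemma homCongrAdd_refl_comp {C : Type*} [Category C] [Preadditive C] {A B B₁ : C} (β : B ≅ B₁)
    (f : A ⟶ B) (m : B ⟶ B) :
    homCongrAdd (Iso.refl A) β (f ≫ m) =
      homCongrAdd (Iso.refl A) β f ≫ (β.inv ≫ m ≫ β.hom) := by
  simp [homCongrAdd, Iso.homCongr]

/-- step 4+5 for a general closed immersion -/
noncomputable def e45' (i : X ⟶ Y) [IsClosedImmersion i] :
    ((Scheme.Modules.pullback i).obj (ClSub.idealMod i.ker) ⟶ Coh.structureModule X) ≃+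
      (ClSub.idealMod i.ker ⟶ ClSub.quotMod i.ker) :=
  ((Scheme.Modules.pullbackPushforwardAdjunction i).homAddEquiv
    (ClSub.idealMod i.ker) (Coh.structureModule X)).trans
    (homCongrAdd (Iso.refl _) (asIso (Groth.Agent.H22.IdealSeqCI.cmp i)).symm)

lemma e45'_comp (i : X ⟶ Y) [IsClosedImmersion i]
    (χ : (Scheme.Modules.pullback i).obj (ClSub.idealMod i.ker) ⟶ Coh.structureModule X)
    (m : Coh.structureModule X ⟶ Coh.structureModule X) :
    e45' i (χ ≫ m) = e45' i χ ≫ (Groth.Agent.H22.IdealSeqCI.cmp i ≫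
      (Scheme.Modules.pushforward i).map m ≫ inv (Groth.Agent.H22.IdealSeqCI.cmp i)) := by
  unfold e45'
  simp only [AddEquiv.trans_apply]
  rw [step4, homCongrAdd_refl_comp]
  rfl

/-- the chain of (HD2), as an additive equivalence -/
noncomputable def chain2 (i : X ⟶ Y) [IsClosedImmersion i]
    [DCoh.HasSheafHom (Omega.conormal i)] :
    Coh.HH X ((DCoh.sheafHom (Omega.conormal i)).obj (Coh.structureModule X)) 0 ≃+
      (ClSub.idealMod i.ker ⟶ ClSub.quotMod i.ker) :=
  (hh0AddEquiv X _).trans <| (e23 (Omega.conormal i)).trans (e45' i)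

lemma chain2_smul (i : X ⟶ Y) [IsClosedImmersion i]
    [DCoh.HasSheafHom (Omega.conormal i)] (r : Coh.Γtop X)
    (h : Coh.HH X ((DCoh.sheafHom (Omega.conormal i)).obj (Coh.structureModule X)) 0) :
    chain2 i (r • h) = chain2 i h ≫ (Groth.Agent.H22.IdealSeqCI.cmp i ≫
      (Scheme.Modules.pushforward i).map (Formal.smulModΓ (Coh.structureModule X) r) ≫
        inv (Groth.Agent.H22.IdealSeqCI.cmp i)) := by
  change e45' i (e23 (Omega.conormal i) (hh0AddEquiv X _ (r • h))) =
    e45' i (e23 (Omega.conormal i) (hh0AddEquiv X _ h)) ≫ _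
  rw [hh0AddEquiv_smul, e23_smul]
  exact e45'_comp i _ _

/-- (HDL2) -/
theorem HDL2 {k : Type u} [Field k] {X Y : Scheme.{u}} (y : Y ⟶ Spec (CommRingCat.of k))
    [X.Over (Spec (CommRingCat.of k))] (i : X ⟶ Y) [IsClosedImmersion i]
    (hi : i ≫ y = X ↘ (Spec (CommRingCat.of k)))
    [DCoh.HasSheafHom (Omega.conormal i)] :
    ∃ e : Coh.HH X ((DCoh.sheafHom (Omega.conormal i)).obj (Coh.structureModule X)) 0 ≃+
        (ClSub.idealMod i.ker ⟶ ClSub.quotMod i.ker),
      ∀ (c : k) (h : Coh.HH X ((DCoh.sheafHom (Omega.conormal i)).obj (Coh.structureModule X)) 0)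
        (U : Y.Opens) (t : Γ(ClSub.idealMod i.ker, U)),
        (e (c • h)).app U t =
          ((y.appLE ⊤ U le_top).hom ((Scheme.ΓSpecIso (CommRingCat.of k)).inv.hom c)) •
            ((e h).app U t) := by
  refine ⟨chain2 i, fun c h U t => ?_⟩
  change (chain2 i ((Coh.toGlobal (X ↘ Spec (CommRingCat.of k)) c) • h)).app U t = _
  rw [chain2_smul, ← hi, toGlobal_comp, Groth.Agent.S0835.pushforward_smulModΓ]
  have hconj : Groth.Agent.H22.IdealSeqCI.cmp i ≫
      Formal.smulModΓ ((Scheme.Modules.pushforward i).obj (Coh.structureModule X))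
        (Coh.toGlobal y c) ≫ inv (Groth.Agent.H22.IdealSeqCI.cmp i) =
      Formal.smulModΓ (ClSub.quotMod i.ker) (Coh.toGlobal y c) := by
    rw [← Category.assoc, ← Groth.Agent.S0835.smulModΓ_naturality, Category.assoc,
      IsIso.hom_inv_id, Category.comp_id]
  rw [hconj]
  change (Formal.smulModΓ _ _).app U ((chain2 i h).app U t) = _
  rw [Groth.Agent.S0835.smulModΓ_app, resTop_toGlobal]

end Groth.Agent.H86.HilbTanHDL2
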