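import Mathlib
import Groth.Agent.H61.HilbTanDefs
import Groth.Prelude.Def_DCoh4
import Groth.Prelude.Def_ClSub2
import Groth.Prelude.Def_Omega2

/-!
# (TSa) tangent-space dimension of an augmented local `k`-algebra

Squad piece for helper61's S12265: the `k[ε]`-points of an augmented local ring `(R, s, e)`,
with the vector-space structure coming from `plus` and `scale`, have dimension the embedding
dimension of `R`.
-/

set_option autoImplicit false
universe u v
open CategoryTheory CategoryTheory.Limits AlgebraicGeometry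
open ArtFun ArtFun.Art
open Groth.Agent.H61.HilbTan

namespace Groth.Agent.H86.HilbTanTSa

section Basic

variable {k : Type u} [Field k] {R : Type u} [CommRing R] [IsLocalRing R]

lemma e_s (s : k →+* R) (e : R →+* k) (hes : e.comp s = RingHom.id k) (c : k) : e (s c) = c :=
  RingHom.congr_fun hes c

lemma mem_max_iff (s : k →+* R) (e : R →+* k) (hes : e.comp s = RingHom.id k) (x : R) :
    x ∈ IsLocalRing.maximalIdeal R ↔ e x = 0 := by
  have hsurj : Function.Surjective e := fun c => ⟨s c, e_s s e hes c⟩
  have hker : RingHom.ker e = IsLocalRing.maximalIdeal R :=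
    IsLocalRing.eq_maximalIdeal (RingHom.ker_isMaximal_of_surjective e hsurj)
  rw [← hker, RingHom.mem_ker]

lemma sub_mem' (s : k →+* R) (e : R →+* k) (hes : e.comp s = RingHom.id k) (r : R) :
    r - s (e r) ∈ IsLocalRing.maximalIdeal R := by
  rw [mem_max_iff s e hes, map_sub, e_s s e hes, sub_self]

/-- the class of `r - s (e r)` in the cotangent space -/
noncomputable def pi (s : k →+* R) (e : R →+* k) (hes : e.comp s = RingHom.id k) (r : R) :
    IsLocalRing.CotangentSpace R :=
  (IsLocalRing.maximalIdeal R).toCotangent ⟨r - s (e r), sub_mem' s e hes r⟩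

lemma pi_def (s : k →+* R) (e : R →+* k) (hes : e.comp s = RingHom.id k) (r : R) :
    pi s e hes r =
      (IsLocalRing.maximalIdeal R).toCotangent ⟨r - s (e r), sub_mem' s e hes r⟩ := rfl

lemma pi_add (s : k →+* R) (e : R →+* k) (hes : e.comp s = RingHom.id k) (r r' : R) :
    pi s e hes (r + r') = pi s e hes r + pi s e hes r' := by
  rw [pi_def, pi_def, pi_def, ← map_add]
  congr 1
  apply Subtype.ext
  show (r + r') - s (e (r + r')) = (r - s (e r)) + (r' - s (e r'))
  rw [map_add, map_add]
  ring

lemma pi_s (s : k →+* R) (e : R →+* k) (hes : e.comp s = RingHom.id k) (c : k) :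
    pi s e hes (s c) = 0 := by
  rw [pi_def, Ideal.toCotangent_eq_zero]
  show s c - s (e (s c)) ∈ _
  rw [e_s s e hes, sub_self]
  exact zero_mem _

lemma pi_zero (s : k →+* R) (e : R →+* k) (hes : e.comp s = RingHom.id k) :
    pi s e hes 0 = 0 := by
  have h := pi_s s e hes 0
  rwa [map_zero] at h

lemma pi_one (s : k →+* R) (e : R →+* k) (hes : e.comp s = RingHom.id k) :
    pi s e hes 1 = 0 := by
  have h := pi_s s e hes 1
  rwa [map_one] at h

lemma pi_of_mem (s : k →+* R) (e : R →+* k) (hes : e.comp s = RingHom.id k)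
    (x : IsLocalRing.maximalIdeal R) :
    pi s e hes (x : R) = (IsLocalRing.maximalIdeal R).toCotangent x := by
  rw [pi_def]
  congr 1
  apply Subtype.ext
  show (x : R) - s (e x) = x
  rw [(mem_max_iff s e hes x).1 x.2, map_zero, sub_zero]

end Basic

section Main

variable {k : Type u} [Field k] {R : Type u} [CommRing R] [IsLocalRing R]
  [Module k (IsLocalRing.CotangentSpace R)]

lemma pi_mul (s : k →+* R) (e : R →+* k) (hes : e.comp s = RingHom.id k)
    (hsm : ∀ (c : k) (w : IsLocalRing.CotangentSpace R), c • w = s c • w) (r r' : R) :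
    pi s e hes (r * r') = e r • pi s e hes r' + e r' • pi s e hes r := by
  rw [hsm, hsm, pi_def, pi_def, pi_def]
  have key : (IsLocalRing.maximalIdeal R).toCotangent
        ⟨r * r' - s (e (r * r')), sub_mem' s e hes (r * r')⟩ =
      (IsLocalRing.maximalIdeal R).toCotangent
        (s (e r) • (⟨r' - s (e r'), sub_mem' s e hes r'⟩ : IsLocalRing.maximalIdeal R) +
          s (e r') • (⟨r - s (e r), sub_mem' s e hes r⟩ : IsLocalRing.maximalIdeal R)) := by
    rw [Ideal.toCotangent_eq]
    have h : (r * r' - s (e (r * r'))) -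
        (s (e r) * (r' - s (e r')) + s (e r') * (r - s (e r))) =
        (r - s (e r)) * (r' - s (e r')) := by
      rw [map_mul, map_mul]; ring
    show (r * r' - s (e (r * r'))) -
        (s (e r) * (r' - s (e r')) + s (e r') * (r - s (e r))) ∈ _
    rw [h, pow_two]
    exact Ideal.mul_mem_mul (sub_mem' s e hes r) (sub_mem' s e hes r')
  rw [key, map_add, map_smul, map_smul]

variable {N : Type u} [AddCommGroup N] [Module k N] [Module kᵐᵒᵖ N] [SMulCommClass k kᵐᵒᵖ N]
  [IsCentralScalar k N]

/-- the ring map `r ↦ (e r, d (π r))` -/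
noncomputable def theta (s : k →+* R) (e : R →+* k) (hes : e.comp s = RingHom.id k)
    (hsm : ∀ (c : k) (w : IsLocalRing.CotangentSpace R), c • w = s c • w)
    (d : IsLocalRing.CotangentSpace R →ₗ[k] N) : R →+* TrivSqZeroExt k N where
  toFun r := (e r, d (pi s e hes r))
  map_one' := TrivSqZeroExt.ext (map_one e) (by
    show d (pi s e hes 1) = 0
    rw [pi_one, map_zero])
  map_mul' r r' := TrivSqZeroExt.ext (map_mul e r r') (by
    show d (pi s e hes (r * r')) =
      e r • d (pi s e hes r') + MulOpposite.op (e r') • d (pi s e hes r)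
    rw [pi_mul s e hes hsm, map_add, map_smul, map_smul, op_smul_eq_smul])
  map_zero' := TrivSqZeroExt.ext (map_zero e) (by
    show d (pi s e hes 0) = 0
    rw [pi_zero, map_zero])
  map_add' r r' := TrivSqZeroExt.ext (map_add e r r') (by
    show d (pi s e hes (r + r')) = d (pi s e hes r) + d (pi s e hes r')
    rw [pi_add, map_add])

lemma theta_apply (s : k →+* R) (e : R →+* k) (hes : e.comp s = RingHom.id k)
    (hsm : ∀ (c : k) (w : IsLocalRing.CotangentSpace R), c • w = s c • w)
    (d : IsLocalRing.CotangentSpace R →ₗ[k] N) (r : R) :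
    theta s e hes hsm d r = (e r, d (pi s e hes r)) := rfl

lemma theta_s (s : k →+* R) (e : R →+* k) (hes : e.comp s = RingHom.id k)
    (hsm : ∀ (c : k) (w : IsLocalRing.CotangentSpace R), c • w = s c • w)
    (d : IsLocalRing.CotangentSpace R →ₗ[k] N) (c : k) :
    theta s e hes hsm d (s c) = TrivSqZeroExt.inl c := by
  refine TrivSqZeroExt.ext ?_ ?_
  · exact e_s s e hes c
  · show d (pi s e hes (s c)) = 0
    rw [pi_s, map_zero]

/-- the `k[ε]`-point attached to a functional on the cotangent space -/
noncomputable def Psi (s : k →+* R) (e : R →+* k) (hes : e.comp s = RingHom.id k)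
    (hsm : ∀ (c : k) (w : IsLocalRing.CotangentSpace R), c • w = s c • w)
    (d : Module.Dual k (IsLocalRing.CotangentSpace R)) : DPt s e (dual k k) :=
  ⟨theta s e hes hsm d, RingHom.ext fun c => (theta_s s e hes hsm d c).trans (by rfl),
    RingHom.ext fun r => rfl⟩

/-- the `k[ε₁, ε₂]`-point attached to a pair of functionals on the cotangent space -/
noncomputable def Z (s : k →+* R) (e : R →+* k) (hes : e.comp s = RingHom.id k)
    (hsm : ∀ (c : k) (w : IsLocalRing.CotangentSpace R), c • w = s c • w)
    (d₁ d₂ : Module.Dual k (IsLocalRing.CotangentSpace R)) : DPt s e (dual2 k k) :=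
  ⟨theta s e hes hsm (d₁.prod d₂),
    RingHom.ext fun c => (theta_s s e hes hsm (d₁.prod d₂) c).trans (by rfl),
    RingHom.ext fun r => rfl⟩

lemma Z_pr₁ (s : k →+* R) (e : R →+* k) (hes : e.comp s = RingHom.id k)
    (hsm : ∀ (c : k) (w : IsLocalRing.CotangentSpace R), c • w = s c • w)
    (d₁ d₂ : Module.Dual k (IsLocalRing.CotangentSpace R)) :
    DPt.map pr₁ (Z s e hes hsm d₁ d₂) = Psi s e hes hsm d₁ :=
  Subtype.ext (RingHom.ext fun r => rfl)

lemma Z_pr₂ (s : k →+* R) (e : R →+* k) (hes : e.comp s = RingHom.id k)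
    (hsm : ∀ (c : k) (w : IsLocalRing.CotangentSpace R), c • w = s c • w)
    (d₁ d₂ : Module.Dual k (IsLocalRing.CotangentSpace R)) :
    DPt.map pr₂ (Z s e hes hsm d₁ d₂) = Psi s e hes hsm d₂ :=
  Subtype.ext (RingHom.ext fun r => rfl)

lemma Z_plus (s : k →+* R) (e : R →+* k) (hes : e.comp s = RingHom.id k)
    (hsm : ∀ (c : k) (w : IsLocalRing.CotangentSpace R), c • w = s c • w)
    (d₁ d₂ : Module.Dual k (IsLocalRing.CotangentSpace R)) :
    DPt.map plus (Z s e hes hsm d₁ d₂) = Psi s e hes hsm (d₁ + d₂) :=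
  Subtype.ext (RingHom.ext fun r => rfl)

lemma Psi_scale (s : k →+* R) (e : R →+* k) (hes : e.comp s = RingHom.id k)
    (hsm : ∀ (c : k) (w : IsLocalRing.CotangentSpace R), c • w = s c • w)
    (c : k) (d : Module.Dual k (IsLocalRing.CotangentSpace R)) :
    DPt.map (scale c) (Psi s e hes hsm d) = Psi s e hes hsm (c • d) :=
  Subtype.ext (RingHom.ext fun r => rfl)

lemma Psi_injective (s : k →+* R) (e : R →+* k) (hes : e.comp s = RingHom.id k)
    (hsm : ∀ (c : k) (w : IsLocalRing.CotangentSpace R), c • w = s c • w) :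
    Function.Injective (Psi s e hes hsm) := by
  intro d d' h
  apply LinearMap.ext
  intro w
  obtain ⟨x, rfl⟩ := Ideal.toCotangent_surjective _ w
  have h1 : theta s e hes hsm d (x : R) = theta s e hes hsm d' (x : R) :=
    RingHom.congr_fun (congrArg Subtype.val h) (x : R)
  have h2 := congrArg TrivSqZeroExt.snd h1
  rw [← pi_of_mem s e hes x]
  exact h2

/-- every augmented ring map to the dual numbers comes from a functional -/
lemma exists_dual_of_hom (s : k →+* R) (e : R →+* k) (hes : e.comp s = RingHom.id k)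
    (hsm : ∀ (c : k) (w : IsLocalRing.CotangentSpace R), c • w = s c • w)
    (ψ : R →+* TrivSqZeroExt k k)
    (h1 : ∀ c, ψ (s c) = TrivSqZeroExt.inl c) (h2 : ∀ r, (ψ r).fst = e r) :
    ∃ d : Module.Dual k (IsLocalRing.CotangentSpace R), ∀ r, (ψ r).snd = d (pi s e hes r) := by
  classical
  have hδadd : ∀ r r', (ψ (r + r')).snd = (ψ r).snd + (ψ r').snd := fun r r' => by
    rw [map_add, TrivSqZeroExt.snd_add]
  have hδmul : ∀ r r', (ψ (r * r')).snd = e r * (ψ r').snd + e r' * (ψ r).snd := by
    intro r r'
    rw [map_mul, TrivSqZeroExt.snd_mul, h2, h2, op_smul_eq_smul, smul_eq_mul, smul_eq_mul]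
  have hδs : ∀ c, (ψ (s c)).snd = 0 := fun c => by rw [h1, TrivSqZeroExt.snd_inl]
  have hle : IsLocalRing.maximalIdeal R ^ 2 ≤ RingHom.ker ψ := by
    rw [pow_two, Ideal.mul_le]
    intro a ha b hb
    rw [RingHom.mem_ker]
    have ha0 : e a = 0 := (mem_max_iff s e hes a).1 ha
    have hb0 : e b = 0 := (mem_max_iff s e hes b).1 hb
    refine TrivSqZeroExt.ext ?_ ?_
    · rw [map_mul, TrivSqZeroExt.fst_mul, h2, ha0, zero_mul, TrivSqZeroExt.fst_zero]
    · rw [hδmul, ha0, hb0, zero_mul, zero_mul, add_zero, TrivSqZeroExt.snd_zero]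
  let dfun : IsLocalRing.CotangentSpace R → k := fun w =>
    (ψ ((Classical.choose (Ideal.toCotangent_surjective (IsLocalRing.maximalIdeal R) w) :
      IsLocalRing.maximalIdeal R) : R)).snd
  have hkey : ∀ x : IsLocalRing.maximalIdeal R,
      dfun ((IsLocalRing.maximalIdeal R).toCotangent x) = (ψ (x : R)).snd := by
    intro x
    have hy := Classical.choose_spec
      (Ideal.toCotangent_surjective (IsLocalRing.maximalIdeal R)
        ((IsLocalRing.maximalIdeal R).toCotangent x))
    have hyx := (Ideal.toCotangent_eq _).1 hy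
    have h0 := (RingHom.mem_ker).1 (hle hyx)
    rw [map_sub] at h0
    exact congrArg TrivSqZeroExt.snd (sub_eq_zero.1 h0)
  let d : Module.Dual k (IsLocalRing.CotangentSpace R) :=
    { toFun := dfun
      map_add' := by
        intro w w'
        obtain ⟨x, rfl⟩ := Ideal.toCotangent_surjective _ w
        obtain ⟨x', rfl⟩ := Ideal.toCotangent_surjective _ w'
        rw [← map_add, hkey, hkey, hkey]
        exact hδadd _ _
      map_smul' := by
        intro c w
        obtain ⟨x, rfl⟩ := Ideal.toCotangent_surjective _ w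
        rw [hsm, ← map_smul, hkey, hkey]
        show (ψ (s c * (x : R))).snd = c * (ψ (x : R)).snd
        rw [hδmul, e_s s e hes, (mem_max_iff s e hes x).1 x.2, zero_mul, add_zero] }
  refine ⟨d, fun r => ?_⟩
  show (ψ r).snd = dfun (pi s e hes r)
  rw [pi_def, hkey]
  show (ψ r).snd = (ψ (r - s (e r))).snd
  rw [map_sub, TrivSqZeroExt.snd_sub, hδs, sub_zero]

lemma Psi_surjective (s : k →+* R) (e : R →+* k) (hes : e.comp s = RingHom.id k)
    (hsm : ∀ (c : k) (w : IsLocalRing.CotangentSpace R), c • w = s c • w) :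
    Function.Surjective (Psi s e hes hsm) := by
  intro φ
  let ψ : R →+* TrivSqZeroExt k k := φ.1
  have h1 : ∀ c, ψ (s c) = TrivSqZeroExt.inl c := fun c =>
    (RingHom.congr_fun φ.2.1 c).trans (by rfl)
  have h2 : ∀ r, (ψ r).fst = e r := fun r => RingHom.congr_fun φ.2.2 r
  obtain ⟨d, hd⟩ := exists_dual_of_hom s e hes hsm ψ h1 h2
  refine ⟨d, ?_⟩
  apply Subtype.ext
  refine RingHom.ext fun r => ?_
  exact TrivSqZeroExt.ext (h2 r).symm (hd r).symm

end Main

theorem TSa {k : Type u} [Field k] {R : Type u} [CommRing R] [IsLocalRing R] [IsNoetherianRing R]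
    (s : k →+* R) (e : R →+* k) (hes : e.comp s = RingHom.id k) (he : IsLocalHom e)
    {V : Type v} [AddCommGroup V] [Module k V]
    (f : DPt s e (dual k k) → V) (hf : Function.Bijective f)
    (hadd : ∀ z : DPt s e (dual2 k k), f (DPt.map plus z) = f (DPt.map pr₁ z) + f (DPt.map pr₂ z))
    (hsmul : ∀ (c : k) (t : DPt s e (dual k k)), f (DPt.map (scale c) t) = c • f t) :
    Module.finrank (IsLocalRing.ResidueField R) (IsLocalRing.CotangentSpace R) = Module.finrank k V := by
  classical
  letI instW : Module k (IsLocalRing.CotangentSpace R) :=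
    Module.compHom (IsLocalRing.CotangentSpace R) s
  have hsm : ∀ (c : k) (w : IsLocalRing.CotangentSpace R), c • w = s c • w := fun _ _ => rfl
  -- step 1 : change of scalars along `k ≃ κ(R)`
  have hrank : Module.rank k (IsLocalRing.CotangentSpace R) =
      Module.rank (IsLocalRing.ResidueField R) (IsLocalRing.CotangentSpace R) := by
    refine rank_eq_of_equiv_equiv (fun c => IsLocalRing.residue R (s c))
      (AddEquiv.refl (IsLocalRing.CotangentSpace R)) ⟨?_, ?_⟩ ?_
    · exact RingHom.injective ((IsLocalRing.residue R).comp s)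
    · intro y
      obtain ⟨r, rfl⟩ := IsLocalRing.residue_surjective y
      refine ⟨e r, ?_⟩
      exact ((Ideal.Quotient.eq).2 (sub_mem' s e hes r)).symm
    · intro c w
      show s c • w = IsLocalRing.residue R (s c) • w
      exact (algebraMap_smul (IsLocalRing.ResidueField R) (s c) w).symm
  have h1 : Module.finrank (IsLocalRing.ResidueField R) (IsLocalRing.CotangentSpace R) =
      Module.finrank k (IsLocalRing.CotangentSpace R) :=
    (congrArg Cardinal.toNat hrank).symm
  -- step 2 : the dual has the same dimension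
  have h2 : Module.finrank k (Module.Dual k (IsLocalRing.CotangentSpace R)) =
      Module.finrank k (IsLocalRing.CotangentSpace R) := Subspace.dual_finrank_eq
  -- step 3 : `f ∘ Ψ` is a linear bijection
  let G : Module.Dual k (IsLocalRing.CotangentSpace R) →ₗ[k] V :=
    { toFun := fun d => f (Psi s e hes hsm d)
      map_add' := by
        intro d₁ d₂
        have h := hadd (Z s e hes hsm d₁ d₂)
        rw [Z_plus, Z_pr₁, Z_pr₂] at h
        exact h
      map_smul' := by
        intro c d
        have h := hsmul c (Psi s e hes hsm d)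
        rw [Psi_scale] at h
        exact h }
  have hG : Function.Bijective G :=
    hf.comp ⟨Psi_injective s e hes hsm, Psi_surjective s e hes hsm⟩
  have h3 := (LinearEquiv.ofBijective G hG).finrank_eq
  rw [h1, ← h2, h3]

end Groth.Agent.H86.HilbTanTSa
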