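import Mathlib

/-!
# Lifting a point with values in an algebraically closed field along an integral ring map
-/

set_option autoImplicit false
universe u

namespace Groth.Agent.H86.IntLift

theorem exists_lift_of_integral {P Q K : Type u} [CommRing P] [CommRing Q] [Field K] [IsAlgClosed K]
    (Θ : P →+* Q) (hΘ : Θ.IsIntegral) (χ : P →+* K) (hker : RingHom.ker Θ ≤ RingHom.ker χ) :
    ∃ ψ : Q →+* K, ψ.comp Θ = χ := by
  letI : Algebra P Q := Θ.toAlgebra
  haveI : Algebra.IsIntegral P Q := ⟨hΘ⟩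
  haveI hp : (RingHom.ker χ).IsPrime := RingHom.ker_isPrime χ
  have hle : (⊥ : Ideal Q).comap (algebraMap P Q) ≤ RingHom.ker χ := by
    intro a ha
    refine hker ?_
    rw [RingHom.mem_ker]
    exact ha
  obtain ⟨q, -, hq, hqc⟩ :=
    Ideal.exists_ideal_over_prime_of_isIntegral (RingHom.ker χ) (⊥ : Ideal Q) hle
  haveI := hq
  have hmem : ∀ a : P, a ∈ q.comap (algebraMap P Q) ↔ χ a = 0 := by
    intro a
    rw [hqc, RingHom.mem_ker]
  let χ' : P ⧸ q.comap (algebraMap P Q) →+* K :=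
    Ideal.Quotient.lift (q.comap (algebraMap P Q)) χ (fun a ha => (hmem a).mp ha)
  have hχ'inj : Function.Injective χ' := by
    rw [injective_iff_map_eq_zero]
    intro a
    obtain ⟨a, rfl⟩ := Ideal.Quotient.mk_surjective a
    intro h
    have h' : χ a = 0 := h
    rw [Ideal.Quotient.eq_zero_iff_mem]
    exact (hmem a).mpr h'
  letI : Algebra (P ⧸ q.comap (algebraMap P Q)) K := χ'.toAlgebra
  haveI : IsDomain (P ⧸ q.comap (algebraMap P Q)) := Ideal.Quotient.isDomain _
  haveI : IsDomain (Q ⧸ q) := Ideal.Quotient.isDomain q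
  haveI : Module.IsTorsionFree (P ⧸ q.comap (algebraMap P Q)) (Q ⧸ q) :=
    Module.isTorsionFree_iff_algebraMap_injective.mpr Ideal.algebraMap_quotient_injective
  haveI : Module.IsTorsionFree (P ⧸ q.comap (algebraMap P Q)) K :=
    Module.isTorsionFree_iff_algebraMap_injective.mpr hχ'inj
  haveI : Algebra.IsAlgebraic (P ⧸ q.comap (algebraMap P Q)) (Q ⧸ q) :=
    Algebra.IsIntegral.isAlgebraic
  let φ : (Q ⧸ q) →ₐ[P ⧸ q.comap (algebraMap P Q)] K := IsAlgClosed.lift
  refine ⟨φ.toRingHom.comp (Ideal.Quotient.mk q), ?_⟩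
  ext a
  show φ (algebraMap (P ⧸ q.comap (algebraMap P Q)) (Q ⧸ q)
    (Ideal.Quotient.mk (q.comap (algebraMap P Q)) a)) = χ a
  rw [φ.commutes]
  rfl

end Groth.Agent.H86.IntLift
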