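import Mathlib
import Groth.Prelude.Def_CoactBr
import Groth.Agent.H86.CoactGrpd
import Groth.Agent.H86.CoactKN4
import Groth.Agent.H86.CoactKN12
import Groth.Agent.H86.IntLift
import Groth.Agent.H49.ThetaSurj

/-!
# The orbit theorem for a finite locally free group scheme acting on an affine scheme

Two points of `Spec B` with values in an algebraically closed field which agree on the invariants
`B^A` are conjugate under a point of `Spec A`.
-/

set_option autoImplicit false
universe u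
open TensorProduct CategoryTheory AlgebraicGeometry

namespace Groth.Agent.H86.OrbitPt

open Groth.Agent.H86.CoactGrpd Groth.Agent.H86.IntLift

section KN
variable (R A B : Type u) [CommRing R] [CommRing A] [HopfAlgebra R A]
  [CommRing B] [Algebra R B] [HopfRep.Comod R A B] [GLin.IsCoactAlg R A B]

/-- the kernel of `B ⊗_{B^A} B → B ⊗ A` is nil, elementwise form -/
theorem ker_nil [Module.Finite R A] [Module.Projective R A]
    (K : Type u) [CommRing K] [IsReduced K] (x₁ x₂ : B →+* K)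
    (hx : ∀ b ∈ GLin.invariants R A B, x₁ b = x₂ b)
    (m : ℕ) (a a' : Fin m → B)
    (h0 : ∑ j, t R A B (a j) * s R A B (a' j) = 0) :
    ∑ j, x₁ (a j) * x₂ (a' j) = 0 :=
  Groth.Agent.H86.CoactKN4.ker_nil_of R A B (Groth.Agent.H86.CoactKN12.P1 R A B)
    (Groth.Agent.H86.CoactKN12.P2 R A B) K x₁ x₂ hx m a a' h0
end KN

section ORB
variable (R A B : Type u) [CommRing R] [CommRing A] [HopfAlgebra R A]
  [Module.Finite R A] [Module.Projective R A]
  [CommRing B] [Algebra R B] [HopfRep.Comod R A B] [GLin.IsCoactAlg R A B]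

/-- the map `(x, g) ↦ (x, x·g)` on coordinate rings: `b ⊗ b' ↦ (b ⊗ 1) * ρ b'` -/
noncomputable def Θ : B ⊗[R] B →ₐ[R] B ⊗[R] A :=
  Algebra.TensorProduct.lift (Algebra.TensorProduct.includeLeft : B →ₐ[R] B ⊗[R] A)
    (GLin.coactAlgHom R A B) (fun _ _ => .all _ _)

lemma Θ_tmul (b b' : B) : Θ R A B (b ⊗ₜ[R] b') = s R A B b * t R A B b' := by
  simp [Θ, s_apply, t_apply]

lemma Θ_isIntegral : (Θ R A B).toRingHom.IsIntegral := by
  have h1 : (algebraMap B (B ⊗[R] A)).IsIntegral :=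
    algebraMap_isIntegral_iff.mpr inferInstance
  have h2 : (Θ R A B).toRingHom.comp
      (Algebra.TensorProduct.includeLeft : B →ₐ[R] B ⊗[R] B).toRingHom = algebraMap B (B ⊗[R] A) := by
    ext b
    show Θ R A B (b ⊗ₜ[R] (1 : B)) = b ⊗ₜ[R] (1 : A)
    rw [Θ_tmul, s_apply, t_apply, map_one, mul_one]
  rw [← h2] at h1
  exact RingHom.IsIntegral.tower_top _ _ h1

/-- (ORB') two geometric points with the same image in the quotient are conjugate -/
theorem exists_orbit_pt (K : Type u) [Field K] [IsAlgClosed K] [Algebra R K]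
    (x₁ x₂ : B →ₐ[R] K) (hx : ∀ b ∈ GLin.invariants R A B, x₁ b = x₂ b) :
    ∃ gm : A →ₐ[R] K, x₁ = (Algebra.TensorProduct.lift x₂ gm (fun _ _ => .all _ _)).comp
      (GLin.coactAlgHom R A B) := by
  let χ : B ⊗[R] B →ₐ[R] K := Algebra.TensorProduct.lift x₂ x₁ (fun _ _ => .all _ _)
  have hχ : ∀ b b' : B, χ (b ⊗ₜ[R] b') = x₂ b * x₁ b' := fun b b' => by simp [χ]
  have hker : RingHom.ker (Θ R A B).toRingHom ≤ RingHom.ker χ.toRingHom := by
    intro z hz
    rw [RingHom.mem_ker] at hz ⊢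
    obtain ⟨m, a', a, rfl⟩ := Groth.Agent.H49.ThetaSurj.tensor_exists_fin z
    have h0 : ∑ j, t R A B (a j) * s R A B (a' j) = 0 := by
      have : (Θ R A B) (∑ j, a' j ⊗ₜ[R] a j) = 0 := hz
      rw [map_sum] at this
      rw [← this]
      refine Finset.sum_congr rfl fun j _ => ?_
      rw [Θ_tmul, mul_comm]
    have h1 := ker_nil R A B K x₁.toRingHom x₂.toRingHom hx m a a' h0
    show χ (∑ j, a' j ⊗ₜ[R] a j) = 0
    rw [map_sum]
    rw [← h1]
    refine Finset.sum_congr rfl fun j _ => ?_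
    rw [hχ, mul_comm]
    rfl
  obtain ⟨ψ, hψ⟩ := exists_lift_of_integral (Θ R A B).toRingHom (Θ_isIntegral R A B) χ.toRingHom hker
  have hψ' : ∀ z, ψ (Θ R A B z) = χ z := fun z => congrArg (fun f => f z) hψ
  let gm : A →ₐ[R] K :=
    { toRingHom := ψ.comp (Algebra.TensorProduct.includeRight : A →ₐ[R] B ⊗[R] A).toRingHom
      commutes' := fun r => by
        show ψ ((1 : B) ⊗ₜ[R] algebraMap R A r) = algebraMap R K r
        have h1 : (1 : B) ⊗ₜ[R] algebraMap R A r = Θ R A B (algebraMap R (B ⊗[R] B) r) := by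
          rw [AlgHom.commutes, Algebra.TensorProduct.algebraMap_apply', ]
        rw [h1, hψ', AlgHom.commutes] }
  have hgm : ∀ a, gm a = ψ ((1 : B) ⊗ₜ[R] a) := fun a => rfl
  have hψ2 : ∀ z : B ⊗[R] A, ψ z = Algebra.TensorProduct.lift x₂ gm (fun _ _ => .all _ _) z := by
    intro z
    induction z using TensorProduct.induction_on with
    | zero => simp
    | tmul b a =>
      have h1 : b ⊗ₜ[R] a = Θ R A B (b ⊗ₜ[R] (1 : B)) * ((1 : B) ⊗ₜ[R] a) := by
        rw [Θ_tmul, s_apply, t_apply, map_one, mul_one, Algebra.TensorProduct.tmul_mul_tmul,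
          mul_one, one_mul]
      have h2 : ψ (b ⊗ₜ[R] a) = x₂ b * gm a := by
        rw [h1, map_mul, hψ', hχ, map_one, mul_one, hgm]
      rw [h2, Algebra.TensorProduct.lift_tmul]
    | add z w hz hw => rw [map_add, map_add, hz, hw]
  refine ⟨gm, ?_⟩
  ext b
  have h1 : x₁ b = χ ((1 : B) ⊗ₜ[R] b) := by rw [hχ, map_one, one_mul]
  have h2 : Θ R A B ((1 : B) ⊗ₜ[R] b) = GLin.coactAlgHom R A B b := by
    rw [Θ_tmul, s_apply, t_apply]
    rw [← Algebra.TensorProduct.one_def, one_mul]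
  rw [h1, ← hψ', h2, hψ2]
  rfl

end ORB

end Groth.Agent.H86.OrbitPt
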