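import Mathlib
import Groth.Prelude.Def_CoactBr
import Groth.Agent.H86.OrbitPt
import Groth.Agent.H86.CoactCmpDesc

set_option autoImplicit false
universe u
open CategoryTheory MonoidalCategory CartesianMonoidalCategory MonObj AlgebraicGeometry
open CoactBr

namespace Groth.Agent.H86.InertiaConj

open Groth.Agent.H86.OrbitPt Groth.Agent.H86.CoactCmpDesc

section Act
variable {R A B : Type u} [CommRing R] [CommRing A] [HopfAlgebra R A]
  [CommRing B] [Algebra R B] [HopfRep.Comod R A B] [GLin.IsCoactAlg R A B]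
  {T : Over (Spec (CommRingCat.of R))}

theorem lift_mul_action (g h : T ⟶ sp R A) (x : T ⟶ sp R B) :
    lift (g * h) x ≫ (action R A B).act =
      lift g (lift h x ≫ (action R A B).act) ≫ (action R A B).act := by
  simp only [lift_action_act]
  rw [lift_ract_ract, _root_.mul_inv_rev]

theorem lift_one_action (x : T ⟶ sp R B) :
    lift (1 : T ⟶ sp R A) x ≫ (action R A B).act = x := by
  rw [lift_action_act, inv_one, lift_one_ract]

/-- `k` fixes `g·ζ` iff `g⁻¹ k g` fixes `ζ`. -/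
theorem fix_conj_iff (g k : T ⟶ sp R A) (ζ : T ⟶ sp R B) :
    lift k (lift g ζ ≫ (action R A B).act) ≫ (action R A B).act = lift g ζ ≫ (action R A B).act ↔
      lift (g⁻¹ * k * g) ζ ≫ (action R A B).act = ζ := by
  constructor
  · intro h
    rw [lift_mul_action, lift_mul_action, h, ← lift_mul_action, inv_mul_cancel, lift_one_action]
  · intro h
    rw [← lift_mul_action]
    have e1 : k * g = g * (g⁻¹ * k * g) := by group
    rw [e1, lift_mul_action, h]

end Act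

section Main
variable (R A B K : Type u) [CommRing R] [CommRing A] [HopfAlgebra R A]
  [Module.Finite R A] [Module.Projective R A]
  [CommRing B] [Algebra R B] [HopfRep.Comod R A B] [GLin.IsCoactAlg R A B]

/-- general form of S14980: two geometric points which agree on the invariants have conjugate
inertia. -/
theorem main80g [Field K] [IsAlgClosed K] [Algebra R K] (x₁ x₂ : B →ₐ[R] K)
    (hx : ∀ b ∈ GLin.invariants R A B, x₁ b = x₂ b) :
    ∃ g : CoactBr.sp R K ⟶ CoactBr.sp R A,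
      ∀ (T : Over (Spec (CommRingCat.of R))) (h : T ⟶ CoactBr.sp R K) (k : T ⟶ CoactBr.sp R A),
        lift k (h ≫ CoactBr.pt x₁) ≫ (CoactBr.action R A B).act = h ≫ CoactBr.pt x₁ ↔
          lift ((h ≫ g)⁻¹ * k * (h ≫ g)) (h ≫ CoactBr.pt x₂) ≫ (CoactBr.action R A B).act =
            h ≫ CoactBr.pt x₂ := by
  obtain ⟨gm, hgm⟩ := exists_orbit_pt R A B K x₁ x₂ hx
  have key : lift (pt gm)⁻¹ (pt x₂) ≫ (action R A B).act = pt x₁ := by
    rw [lift_action_act, inv_inv, lift_pt_ract, ← hgm]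
  refine ⟨(pt gm)⁻¹, fun T h k => ?_⟩
  have e1 : h ≫ pt x₁ = lift (h ≫ (pt gm)⁻¹) (h ≫ pt x₂) ≫ (action R A B).act := by
    rw [← comp_lift, Category.assoc, key]
  rw [e1]
  exact fix_conj_iff _ _ _

theorem main80 (hC : Function.Bijective (algebraMap R (GLin.invariants R A B)))
    [Field K] [IsAlgClosed K] [Algebra R K] (x₁ x₂ : B →ₐ[R] K) :
    ∃ g : CoactBr.sp R K ⟶ CoactBr.sp R A,
      ∀ (T : Over (Spec (CommRingCat.of R))) (h : T ⟶ CoactBr.sp R K) (k : T ⟶ CoactBr.sp R A),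
        lift k (h ≫ CoactBr.pt x₁) ≫ (CoactBr.action R A B).act = h ≫ CoactBr.pt x₁ ↔
          lift ((h ≫ g)⁻¹ * k * (h ≫ g)) (h ≫ CoactBr.pt x₂) ≫ (CoactBr.action R A B).act =
            h ≫ CoactBr.pt x₂ := by
  refine main80g R A B K x₁ x₂ ?_
  intro b hb
  obtain ⟨r, hr⟩ := hC.2 ⟨b, hb⟩
  have hb' : b = algebraMap R B r := by
    have := congrArg Subtype.val hr
    exact this.symm
  rw [hb', AlgHom.commutes, AlgHom.commutes]

/-- a common algebraically closed overfield, compatible on the invariants -/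
theorem exists_common (K₁ K₂ : Type u) [Field K₁] [Algebra R K₁] [Field K₂] [Algebra R K₂]
    (x₁ : B →ₐ[R] K₁) (x₂ : B →ₐ[R] K₂)
    (hq : ∀ b ∈ GLin.invariants R A B, x₁ b = 0 ↔ x₂ b = 0) :
    ∃ (K : Type u) (_ : Field K) (_ : IsAlgClosed K) (_ : Algebra R K)
      (j₁ : K₁ →ₐ[R] K) (j₂ : K₂ →ₐ[R] K),
      ∀ b ∈ GLin.invariants R A B, j₁ (x₁ b) = j₂ (x₂ b) := by
  let C := GLin.invariants R A B
  let f₁ : C →+* K₁ := x₁.toRingHom.comp C.val.toRingHom
  let f₂ : C →+* K₂ := x₂.toRingHom.comp C.val.toRingHom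
  letI a₁ : Algebra C K₁ := f₁.toAlgebra
  letI a₂ : Algebra C K₂ := f₂.toAlgebra
  have hker : RingHom.ker (algebraMap C K₁) = RingHom.ker (algebraMap C K₂) := by
    ext b
    rw [RingHom.mem_ker, RingHom.mem_ker]
    exact hq b.1 b.2
  obtain ⟨K, iF, iC, iA, ⟨j₁⟩, ⟨j₂⟩⟩ := exists_algClosed_compositum C K₁ K₂ hker
  letI : Algebra R K := (j₁.toRingHom.comp (algebraMap R K₁)).toAlgebra
  have hcomm : ∀ b (hb : b ∈ C), j₁ (x₁ b) = j₂ (x₂ b) := by
    intro b hb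
    have e1 : j₁ (algebraMap C K₁ ⟨b, hb⟩) = algebraMap C K ⟨b, hb⟩ := j₁.commutes _
    have e2 : j₂ (algebraMap C K₂ ⟨b, hb⟩) = algebraMap C K ⟨b, hb⟩ := j₂.commutes _
    exact e1.trans e2.symm
  refine ⟨K, iF, iC, inferInstance,
    { toRingHom := j₁.toRingHom, commutes' := fun r => rfl },
    { toRingHom := j₂.toRingHom, commutes' := fun r => ?_ }, fun b hb => hcomm b hb⟩
  have h1 : algebraMap R K₂ r = x₂ (algebraMap R B r) := (x₂.commutes r).symm
  have h2 : algebraMap R K₁ r = x₁ (algebraMap R B r) := (x₁.commutes r).symm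
  show j₂ (algebraMap R K₂ r) = j₁ (algebraMap R K₁ r)
  rw [h1, h2]
  exact (hcomm _ (Subalgebra.algebraMap_mem C r)).symm

/-- general form of S14981 -/
theorem main81g (K₁ K₂ : Type u) [Field K₁] [Algebra R K₁] [Field K₂] [Algebra R K₂]
    (x₁ : B →ₐ[R] K₁) (x₂ : B →ₐ[R] K₂)
    (hq : ∀ b ∈ GLin.invariants R A B, x₁ b = 0 ↔ x₂ b = 0)
    (h₁ : ∀ (T : Over (Spec (CommRingCat.of R))) (h : T ⟶ CoactBr.sp R K₁) (g : T ⟶ CoactBr.sp R A),
      lift g (h ≫ CoactBr.pt x₁) ≫ (CoactBr.action R A B).act = h ≫ CoactBr.pt x₁ → g = 1)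
    (T : Over (Spec (CommRingCat.of R))) (h : T ⟶ CoactBr.sp R K₂) (g : T ⟶ CoactBr.sp R A)
    (hg : lift g (h ≫ CoactBr.pt x₂) ≫ (CoactBr.action R A B).act = h ≫ CoactBr.pt x₂) :
    g = 1 := by
  obtain ⟨K, _, _, _, j₁, j₂, hj⟩ := exists_common R A B K₁ K₂ x₁ x₂ hq
  obtain ⟨g₀, hconj⟩ := main80g R A B K (j₁.comp x₁) (j₂.comp x₂) (fun b hb => hj b hb)
  obtain ⟨T', p, h', hp, hph⟩ := exists_epi_cover j₂ T h
  have hfix : lift (p ≫ g) (h' ≫ pt (j₂.comp x₂)) ≫ (action R A B).act = h' ≫ pt (j₂.comp x₂) := by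
    rw [pt_comp, ← Category.assoc, ← hph, Category.assoc, ← comp_lift, Category.assoc, hg]
  set g' := h' ≫ g₀ with hg'
  have hk := (hconj T' h' (g' * (p ≫ g) * g'⁻¹)).mpr (by
    have e1 : g'⁻¹ * (g' * (p ≫ g) * g'⁻¹) * g' = p ≫ g := by group
    rw [e1]; exact hfix)
  have hk1 : g' * (p ≫ g) * g'⁻¹ = 1 := by
    refine h₁ T' (h' ≫ pt j₁) _ ?_
    rw [Category.assoc, ← pt_comp]
    exact hk
  have hpg : p ≫ g = 1 := by
    have e2 : p ≫ g = g'⁻¹ * (g' * (p ≫ g) * g'⁻¹) * g' := by group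
    rw [e2, hk1]; group
  have hp1 : p ≫ (1 : T ⟶ sp R A) = 1 := by
    rw [Hom.one_def, Hom.one_def, ← Category.assoc, comp_toUnit]
  haveI := hp
  exact (cancel_epi p).mp (hpg.trans hp1.symm)

theorem main81 (K₁ K₂ : Type u) (hC : Function.Bijective (algebraMap R (GLin.invariants R A B)))
    [Field K₁] [Algebra R K₁] [Field K₂] [Algebra R K₂]
    (hq : RingHom.ker (algebraMap R K₁) = RingHom.ker (algebraMap R K₂))
    (x₁ : B →ₐ[R] K₁) (x₂ : B →ₐ[R] K₂)
    (h₁ : ∀ (T : Over (Spec (CommRingCat.of R))) (h : T ⟶ CoactBr.sp R K₁) (g : T ⟶ CoactBr.sp R A),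
      lift g (h ≫ CoactBr.pt x₁) ≫ (CoactBr.action R A B).act = h ≫ CoactBr.pt x₁ → g = 1)
    (T : Over (Spec (CommRingCat.of R))) (h : T ⟶ CoactBr.sp R K₂) (g : T ⟶ CoactBr.sp R A)
    (hg : lift g (h ≫ CoactBr.pt x₂) ≫ (CoactBr.action R A B).act = h ≫ CoactBr.pt x₂) :
    g = 1 := by
  refine main81g R A B K₁ K₂ x₁ x₂ ?_ h₁ T h g hg
  intro b hb
  obtain ⟨r, hr⟩ := hC.2 ⟨b, hb⟩
  have hb' : b = algebraMap R B r := by
    have := congrArg Subtype.val hr
    exact this.symm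
  rw [hb', AlgHom.commutes, AlgHom.commutes, ← RingHom.mem_ker, ← RingHom.mem_ker, hq]

end Main

end Groth.Agent.H86.InertiaConj
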