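import Mathlib
import Groth.Prelude.Def_CoactBr
import Groth.Agent.H86.InertiaConj
import Groth.Agent.H86.CoactInt
import Groth.Agent.H86.CoactStab
import Groth.Agent.H86.CoactTP
import Groth.Agent.H86.CoactBack

set_option autoImplicit false
universe u
open CategoryTheory MonoidalCategory CartesianMonoidalCategory MonObj AlgebraicGeometry
open CoactBr TensorProduct

namespace Groth.Agent.H86.Inertia82

open Groth.Agent.H86.InertiaConj Groth.Agent.H86.CoactInt Groth.Agent.H86.CoactStab
  Groth.Agent.H86.CoactTP Groth.Agent.H86.CoactBack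

section
variable {R A B : Type u} [CommRing R] [CommRing A] [HopfAlgebra R A]
  [CommRing B] [Algebra R B] [HopfRep.Comod R A B] [GLin.IsCoactAlg R A B]

/-- the unit `D`-point of `Spec A` -/
noncomputable abbrev unitPt (R A D : Type u) [CommRing R] [CommRing A] [HopfAlgebra R A]
    [CommRing D] [Algebra R D] : A →ₐ[R] D :=
  (Algebra.ofId R D).comp (Bialgebra.counitAlgHom R A)

/-- A `T`-point fixing `ζ` is trivial as soon as the corresponding ring-level statement holds
over a universal ring-valued point `w`. -/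
theorem eq_one_of_ring {T : Over (Spec (CommRingCat.of R))} {D : Type u} [CommRing D] [Algebra R D]
    (w : T ⟶ sp R D) (g : T ⟶ sp R A) (ζ : T ⟶ sp R B)
    (hA : ∃ gm : A →ₐ[R] D, g = w ≫ pt gm)
    (z : B →ₐ[R] D) (hz : ζ = w ≫ pt z)
    (huniq : ∀ φ φ' : B →ₐ[R] D, w ≫ pt φ = w ≫ pt φ' → φ = φ')
    (hg : lift g ζ ≫ (action R A B).act = ζ)
    (hD : ∀ g' : A →ₐ[R] D, (Algebra.TensorProduct.lift z g' (fun _ _ => .all _ _)).comp
      (GLin.coactAlgHom R A B) = z → g' = unitPt R A D) :
    g = 1 := by
  obtain ⟨gm, hgm⟩ := hA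
  have hinv : g⁻¹ = w ≫ pt (gm.comp (HopfAlgebra.antipodeAlgHom R A)) := by
    rw [hgm, ← pt_inv, GrpObj.comp_inv]
  have h1 : lift g ζ ≫ (action R A B).act =
      w ≫ pt ((Algebra.TensorProduct.lift z (gm.comp (HopfAlgebra.antipodeAlgHom R A))
        (fun _ _ => .all _ _)).comp (GLin.coactAlgHom R A B)) := by
    rw [lift_action_act, hinv, hz, ← comp_lift, Category.assoc, lift_pt_ract]
  have h2 := huniq _ _ ((h1.symm.trans hg).trans hz)
  have h3 := hD _ h2
  have h4 : g⁻¹ = 1 := by
    rw [hinv, h3]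
    have : pt (unitPt R A D) = (1 : sp R D ⟶ sp R A) := (one_eq_pt (R := R) (A := A) (K := D)).symm
    rw [this, Hom.one_def, Hom.one_def, ← Category.assoc, comp_toUnit]
  exact inv_eq_one.mp h4

/-- ring-level triviality of the inertia at a point `x` -/
def RTriv (R A B : Type u) [CommRing R] [CommRing A] [HopfAlgebra R A]
    [CommRing B] [Algebra R B] [HopfRep.Comod R A B] [GLin.IsCoactAlg R A B]
    {K : Type u} [CommRing K] [Algebra R K] (x : B →ₐ[R] K) : Prop :=
  ∀ (D : Type u) [CommRing D] [Algebra R D] (j : K →ₐ[R] D) (g : A →ₐ[R] D),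
    (Algebra.TensorProduct.lift (j.comp x) g (fun _ _ => .all _ _)).comp
      (GLin.coactAlgHom R A B) = j.comp x → g = unitPt R A D

/-- scheme-level triviality of the inertia at a point `x` -/
def TTriv (R A B : Type u) [CommRing R] [CommRing A] [HopfAlgebra R A]
    [CommRing B] [Algebra R B] [HopfRep.Comod R A B] [GLin.IsCoactAlg R A B]
    {K : Type u} [CommRing K] [Algebra R K] (x : B →ₐ[R] K) : Prop :=
  ∀ (T : Over (Spec (CommRingCat.of R))) (h : T ⟶ sp R K) (g : T ⟶ sp R A),
    lift g (h ≫ pt x) ≫ (action R A B).act = h ≫ pt x → g = 1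

theorem rtriv_of_ttriv {K : Type u} [CommRing K] [Algebra R K] (x : B →ₐ[R] K)
    (h : TTriv R A B x) : RTriv R A B x := by
  intro D _ _ j g hfix
  have h1 : lift (pt g)⁻¹ (pt j ≫ pt x) ≫ (action R A B).act = pt j ≫ pt x := by
    rw [lift_action_act, inv_inv, ← pt_comp, lift_pt_ract, hfix]
  have h2 := h (sp R D) (pt j) (pt g)⁻¹ h1
  have h3 : pt g = (1 : sp R D ⟶ sp R A) := inv_eq_one.mp h2
  rw [one_eq_pt] at h3
  exact pt_injective h3

theorem ttriv_of_rtriv {K : Type u} [CommRing K] [Algebra R K] (x : B →ₐ[R] K)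
    (h : RTriv R A B x) : TTriv R A B x := by
  intro T hh g hg
  obtain ⟨D, _, _, w, -, hB⟩ := exists_univ_pt R T
  obtain ⟨gm, hgm, -⟩ := hB A g
  obtain ⟨jj, hjj, -⟩ := hB K hh
  refine eq_one_of_ring w g (hh ≫ pt x) ⟨gm, hgm⟩ (jj.comp x) ?_ ?_ hg ?_
  · rw [pt_comp, ← Category.assoc, ← hjj]
  · intro φ φ' hφ
    obtain ⟨φ₀, -, hu⟩ := hB B (w ≫ pt φ)
    exact (hu φ rfl).trans (hu φ' hφ).symm
  · intro g' hg'
    exact h D jj g' hg'

end

section
variable (R A B : Type u) [CommRing R] [CommRing A] [HopfAlgebra R A]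
  [Module.Finite R A] [Module.Projective R A]
  [CommRing B] [Algebra R B] [HopfRep.Comod R A B] [GLin.IsCoactAlg R A B]

/-- the stabiliser ideal of `B ⊗ A` -/
noncomputable def J : Ideal (B ⊗[R] A) :=
  Ideal.span (Set.range fun b : B => GLin.coactAlgHom R A B b - b ⊗ₜ[R] (1 : A))

/-- the ideal of functions killing the augmentation ideal of the stabiliser -/
noncomputable def killIdeal : Ideal B where
  carrier := {f | ∀ a : A, f ⊗ₜ[R] (a - algebraMap R A (Coalgebra.counit (R := R) a)) ∈ J R A B}
  add_mem' {f f'} hf hf' := fun a => by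
    rw [TensorProduct.add_tmul]; exact Ideal.add_mem _ (hf a) (hf' a)
  zero_mem' := fun a => by rw [TensorProduct.zero_tmul]; exact Ideal.zero_mem _
  smul_mem' c {f} hf := fun a => by
    have : (c • f) ⊗ₜ[R] (a - algebraMap R A (Coalgebra.counit (R := R) a)) =
        (c ⊗ₜ[R] (1 : A)) * (f ⊗ₜ[R] (a - algebraMap R A (Coalgebra.counit (R := R) a))) := by
      rw [Algebra.TensorProduct.tmul_mul_tmul, _root_.one_mul, smul_eq_mul]
    rw [this]
    exact Ideal.mul_mem_left _ _ (hf a)

lemma exists_inv_mem {R B : Type u} [CommRing R] [CommRing B] [Algebra R B] (C : Subalgebra R B)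
    [Algebra.IsIntegral C B] (I : Ideal B) (p : Ideal C) [p.IsPrime]
    (h : ∀ p' : Ideal B, p'.IsPrime → p'.comap (algebraMap C B) = p → ¬ I ≤ p') :
    ∃ f : C, (f : B) ∈ I ∧ f ∉ p := by
  by_contra hcon
  push_neg at hcon
  have hle : I.comap (algebraMap C B) ≤ p := fun f hf => hcon f hf
  obtain ⟨Q, hQ, hQp, hQc⟩ := Ideal.exists_ideal_over_prime_of_isIntegral p I hle
  exact h Q hQp hQc hQ

/-- ring-level core of S14982 (⟹) -/
theorem exists_invariant_unit {K : Type u} [Field K] [Algebra R K] (x : B →ₐ[R] K)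
    (htp : TTriv R A B x) :
    ∃ f ∈ GLin.invariants R A B, x f ≠ 0 ∧
      ∀ (D : Type u) [CommRing D] [Algebra R D] (z : B →ₐ[R] D) (g : A →ₐ[R] D), IsUnit (z f) →
        (Algebra.TensorProduct.lift z g (fun _ _ => .all _ _)).comp (GLin.coactAlgHom R A B) = z →
        g = unitPt R A D := by
  let C := GLin.invariants R A B
  haveI : Algebra.IsIntegral C B := isIntegral_invariants R A B
  let py : Ideal C := RingHom.ker (x.toRingHom.comp C.val.toRingHom)
  haveI : py.IsPrime := RingHom.ker_isPrime _
  have hmem : ∀ c : C, c ∈ py ↔ x c = 0 := fun c => RingHom.mem_ker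
  have hkey : ∀ p' : Ideal B, p'.IsPrime → p'.comap (algebraMap C B) = py →
      ¬ killIdeal R A B ≤ p' := by
    intro p' hp' hcomap hle
    haveI := hp'
    let K' := p'.ResidueField
    letI : Algebra R K' := ((algebraMap B K').comp (algebraMap R B)).toAlgebra
    let x' : B →ₐ[R] K' := { toRingHom := algebraMap B K', commutes' := fun r => rfl }
    have hx' : ∀ b, x' b = 0 ↔ b ∈ p' := fun b => Ideal.algebraMap_residueField_eq_zero
    have hq : ∀ b ∈ GLin.invariants R A B, x b = 0 ↔ x' b = 0 := by
      intro b hb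
      rw [hx', ← hmem ⟨b, hb⟩, ← hcomap]
      rfl
    have ht' : TTriv R A B x' := fun T h g hg => main81g R A B K K' x x' hq htp T h g hg
    obtain ⟨f, hf0, hfJ⟩ := exists_kill_of_trivial R A B x' (rtriv_of_ttriv x' ht')
    exact hf0 ((hx' f).mpr (hle hfJ))
  obtain ⟨f, hfI, hfp⟩ := exists_inv_mem C (killIdeal R A B) py hkey
  refine ⟨f.1, f.2, fun h0 => hfp ((hmem f).mpr h0), ?_⟩
  intro D _ _ z g hu hfix
  let L : B ⊗[R] A →ₐ[R] D := Algebra.TensorProduct.lift z g (fun _ _ => .all _ _)
  have hLρ : ∀ b, L (GLin.coactAlgHom R A B b) = z b := fun b => congrArg (fun φ => φ b) hfix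
  have hJ : J R A B ≤ RingHom.ker L.toRingHom := by
    refine Ideal.span_le.mpr ?_
    rintro _ ⟨b, rfl⟩
    show L (GLin.coactAlgHom R A B b - b ⊗ₜ[R] (1 : A)) = 0
    rw [map_sub, hLρ, Algebra.TensorProduct.lift_tmul, map_one, _root_.mul_one, sub_self]
  ext a
  have h1 : L ((f : B) ⊗ₜ[R] (a - algebraMap R A (Coalgebra.counit (R := R) a))) = 0 :=
    hJ (hfI a)
  rw [Algebra.TensorProduct.lift_tmul, map_sub, AlgHom.commutes] at h1
  have h2 := (hu.mul_right_eq_zero).mp h1
  have h3 : g a = algebraMap R D (Coalgebra.counit (R := R) a) := sub_eq_zero.mp h2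
  rw [h3]
  rfl

end

section Final
variable (R A B K : Type u) [CommRing R] [CommRing A] [HopfAlgebra R A]
  [Module.Finite R A] [Module.Projective R A]
  [CommRing B] [Algebra R B] [HopfRep.Comod R A B] [GLin.IsCoactAlg R A B]
  [Field K] [Algebra R K]

theorem main82 (x : B →ₐ[R] K) :
    (∀ (T : Over (Spec (CommRingCat.of R))) (h : T ⟶ CoactBr.sp R K) (g : T ⟶ CoactBr.sp R A),
        lift g (h ≫ CoactBr.pt x) ≫ (CoactBr.action R A B).act = h ≫ CoactBr.pt x → g = 1) ↔
      ∃ (Y' : Scheme.{u}) (c : Y' ⟶ Spec (CommRingCat.of (GLin.invariants R A B))),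
        Flat c ∧ LocallyOfFinitePresentation c ∧
        (∃ y' : Y', c.base y' =
          (Spec.map (CommRingCat.ofHom (x.toRingHom.comp (GLin.invariants R A B).val.toRingHom))).base
            (IsLocalRing.closedPoint K)) ∧
        ∀ (T : Over (Spec (CommRingCat.of R))) (ζ : T ⟶ CoactBr.sp R B),
          (∃ t : T.left ⟶ Y', t ≫ c = ζ.left ≫ Spec.map (CommRingCat.ofHom (GLin.invariants R A B).val.toRingHom)) →
          ∀ g : T ⟶ CoactBr.sp R A, lift g ζ ≫ (CoactBr.action R A B).act = ζ → g = 1 := by
  constructor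
  · intro htp
    obtain ⟨f, hfC, hxf, hfree⟩ := exists_invariant_unit R A B x htp
    let C := GLin.invariants R A B
    let fC : C := ⟨f, hfC⟩
    refine ⟨Spec (CommRingCat.of (Localization.Away fC)),
      Spec.map (CommRingCat.ofHom (algebraMap C (Localization.Away fC))),
      inferInstance, inferInstance, ?_, ?_⟩
    · have hy : ((Spec.map (CommRingCat.ofHom
            (x.toRingHom.comp (GLin.invariants R A B).val.toRingHom))).base
            (IsLocalRing.closedPoint K)) ∈
          Set.range (PrimeSpectrum.comap (algebraMap C (Localization.Away fC))) := by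
        rw [PrimeSpectrum.localization_away_comap_range (Localization.Away fC) fC]
        show fC ∉ ((PrimeSpectrum.comap (x.toRingHom.comp C.val.toRingHom))
          (IsLocalRing.closedPoint K)).asIdeal
        rw [PrimeSpectrum.comap_asIdeal, Ideal.mem_comap]
        show ¬ (x f ∈ IsLocalRing.maximalIdeal K)
        rw [IsLocalRing.maximalIdeal_eq_bot, Ideal.mem_bot]
        exact hxf
      obtain ⟨y', hy'⟩ := hy
      exact ⟨y', hy'⟩
    · rintro T ζ ⟨t, ht⟩ g hg
      obtain ⟨D, _, _, w, hP, hB⟩ := exists_univ_pt R T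
      obtain ⟨z, hz, -⟩ := hB B ζ
      obtain ⟨gm, hgm, -⟩ := hB A g
      obtain ⟨τ, hτ, -⟩ := hP (Localization.Away fC) t
      have hcomp : τ.comp (algebraMap C (Localization.Away fC)) =
          z.toRingHom.comp C.val.toRingHom := by
        obtain ⟨φ, -, huniq⟩ := hP C (t ≫ Spec.map (CommRingCat.ofHom
          (algebraMap C (Localization.Away fC))))
        have e1 : Spec.map (CommRingCat.ofHom (τ.comp (algebraMap C (Localization.Away fC)))) =
            Spec.map (CommRingCat.ofHom τ) ≫
              Spec.map (CommRingCat.ofHom (algebraMap C (Localization.Away fC))) := by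
          rw [CommRingCat.ofHom_comp (algebraMap C (Localization.Away fC)) τ, Spec.map_comp]
        have e2 : Spec.map (CommRingCat.ofHom (z.toRingHom.comp C.val.toRingHom)) =
            Spec.map (CommRingCat.ofHom z.toRingHom) ≫
              Spec.map (CommRingCat.ofHom C.val.toRingHom) := by
          rw [CommRingCat.ofHom_comp C.val.toRingHom z.toRingHom, Spec.map_comp]
        have h1 := huniq (τ.comp (algebraMap C (Localization.Away fC)))
          (calc t ≫ Spec.map (CommRingCat.ofHom (algebraMap C (Localization.Away fC)))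
              = (w.left ≫ Spec.map (CommRingCat.ofHom τ)) ≫
                  Spec.map (CommRingCat.ofHom (algebraMap C (Localization.Away fC))) :=
                congrArg (· ≫ Spec.map (CommRingCat.ofHom (algebraMap C (Localization.Away fC)))) hτ
            _ = w.left ≫ (Spec.map (CommRingCat.ofHom τ) ≫
                  Spec.map (CommRingCat.ofHom (algebraMap C (Localization.Away fC)))) :=
                Category.assoc w.left (Spec.map (CommRingCat.ofHom τ))
                  (Spec.map (CommRingCat.ofHom (algebraMap C (Localization.Away fC))))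
            _ = w.left ≫ Spec.map (CommRingCat.ofHom
                  (τ.comp (algebraMap C (Localization.Away fC)))) :=
                congrArg (w.left ≫ ·) e1.symm)
        have h2 := huniq (z.toRingHom.comp C.val.toRingHom)
          (calc t ≫ Spec.map (CommRingCat.ofHom (algebraMap C (Localization.Away fC)))
              = ζ.left ≫ Spec.map (CommRingCat.ofHom C.val.toRingHom) := ht
            _ = (w ≫ pt z).left ≫ Spec.map (CommRingCat.ofHom C.val.toRingHom) := by rw [hz]
            _ = w.left ≫ (Spec.map (CommRingCat.ofHom z.toRingHom) ≫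
                  Spec.map (CommRingCat.ofHom C.val.toRingHom)) :=
                Category.assoc w.left (Spec.map (CommRingCat.ofHom z.toRingHom))
                  (Spec.map (CommRingCat.ofHom C.val.toRingHom))
            _ = w.left ≫ Spec.map (CommRingCat.ofHom (z.toRingHom.comp C.val.toRingHom)) :=
                congrArg (w.left ≫ ·) e2.symm)
        exact h1.trans h2.symm
      have hu : IsUnit (z f) := by
        have e1 : z f = τ (algebraMap C (Localization.Away fC) fC) :=
          (congrArg (fun φ => φ fC) hcomp).symm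
        rw [e1]
        exact (IsLocalization.Away.algebraMap_isUnit fC).map τ
      refine eq_one_of_ring w g ζ ⟨gm, hgm⟩ z hz ?_ hg ?_
      · intro φ φ' hφ
        obtain ⟨φ₀, -, hu'⟩ := hB B (w ≫ pt φ)
        exact (hu' φ rfl).trans (hu' φ' hφ).symm
      · intro g' hg'
        exact hfree D z g' hu hg'
  · rintro ⟨Y', c, hflat, -, ⟨y', hy'⟩, hfree⟩ T h g hg
    have := hflat
    exact trivial_of_exists_free R A B K x Y' c y' hy' hfree T h g hg

end Final

end Groth.Agent.H86.Inertia82
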