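import Mathlib
import Groth.Prelude.Def_CoactBr
import Groth.Agent.H86.Inertia82

set_option autoImplicit false
universe u
open CategoryTheory MonoidalCategory CartesianMonoidalCategory MonObj AlgebraicGeometry
open CoactBr TensorProduct

namespace Groth.Agent.H86.Inertia79

open Groth.Agent.H86.Inertia82 Groth.Agent.H86.CoactTP

theorem main79 (R A B K : Type u) [CommRing R] [IsLocalRing R] [CommRing A] [HopfAlgebra R A]
    [Module.Flat R A] [Module.Finite R A]
    [CommRing B] [Algebra R B] [HopfRep.Comod R A B] [GLin.IsCoactAlg R A B]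
    (hC : Function.Bijective (algebraMap R (GLin.invariants R A B)))
    [Field K] [Algebra R K] (hK : RingHom.ker (algebraMap R K) = IsLocalRing.maximalIdeal R)
    (x : B →ₐ[R] K) :
    (∀ (T : Over (Spec (CommRingCat.of R))) (ζ : T ⟶ CoactBr.sp R B) (g : T ⟶ CoactBr.sp R A),
        lift g ζ ≫ (CoactBr.action R A B).act = ζ → g = 1) ↔
      ∀ (T : Over (Spec (CommRingCat.of R))) (h : T ⟶ CoactBr.sp R K) (g : T ⟶ CoactBr.sp R A),
        lift g (h ≫ CoactBr.pt x) ≫ (CoactBr.action R A B).act = h ≫ CoactBr.pt x → g = 1 := by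
  haveI : Module.Free R A := Module.free_of_flat_of_isLocalRing
  constructor
  · intro hfree T h g hg
    exact hfree T (h ≫ pt x) g hg
  · intro htp T ζ g hg
    obtain ⟨f, hfC, hxf, hfreeD⟩ := exists_invariant_unit R A B x htp
    obtain ⟨r, hr⟩ := hC.2 ⟨f, hfC⟩
    have hf : f = algebraMap R B r := by
      have := congrArg Subtype.val hr
      exact this.symm
    have hrunit : IsUnit r := by
      by_contra hnu
      have hmem : r ∈ IsLocalRing.maximalIdeal R := (IsLocalRing.mem_maximalIdeal r).mpr hnu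
      rw [← hK, RingHom.mem_ker] at hmem
      apply hxf
      rw [hf, AlgHom.commutes]
      exact hmem
    obtain ⟨D, _, _, w, -, hB⟩ := exists_univ_pt R T
    obtain ⟨z, hz, -⟩ := hB B ζ
    obtain ⟨gm, hgm, -⟩ := hB A g
    have hu : IsUnit (z f) := by
      rw [hf, AlgHom.commutes]
      exact hrunit.map (algebraMap R D)
    refine eq_one_of_ring w g ζ ⟨gm, hgm⟩ z hz ?_ hg ?_
    · intro φ φ' hφ
      obtain ⟨φ₀, -, hu'⟩ := hB B (w ≫ pt φ)
      exact (hu' φ rfl).trans (hu' φ' hφ).symm
    · intro g' hg'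
      exact hfreeD D z g' hu hg'

end Groth.Agent.H86.Inertia79
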