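import Groth.Prelude.Def_W4c6modpairsegaMP
import Mathlib

/-!
# Integral closedness of `O_X` in `O_{X°}` passes to étale covers (modulus pairs)

* `RL`: ring lemma — for `A → B` smooth, `A` integrally closed in `A_f` implies `B` integrally
  closed in `B_f` (through `TensorProduct.toIntegralClosure_bijective_of_smooth`).
* `main`: the sheaf-level statement, obtained affine-locally and glued.
-/

set_option autoImplicit false
universe u

noncomputable section

namespace Groth.Agent.H86.IntClosedEtale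

open CategoryTheory AlgebraicGeometry TopologicalSpace Opposite TensorProduct

/-! ### Ring lemmas -/

theorem isIntegralElem_of_square {A B A' B' : Type*} [CommRing A] [CommRing B] [CommRing A']
    [CommRing B'] (ρ : A →+* A') (ρ' : B →+* B') (r : A →+* B) (r' : A' →+* B')
    (h : r'.comp ρ = ρ'.comp r) {t : A'} (ht : ρ.IsIntegralElem t) : ρ'.IsIntegralElem (r' t) := by
  obtain ⟨p, hp, hpt⟩ := ht
  refine ⟨p.map r, hp.map r, ?_⟩
  rw [Polynomial.eval₂_map, ← h, ← Polynomial.hom_eval₂, hpt, map_zero]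

theorem RL {A B A' B' : Type*} [CommRing A] [CommRing B] [CommRing A'] [CommRing B']
    [Algebra A B] [Algebra A A'] [Algebra B B'] [Algebra.Smooth A B] (f : A)
    [IsLocalization.Away f A'] [IsLocalization.Away (algebraMap A B f) B']
    (h : ∀ s : A', IsIntegral A s → s ∈ Set.range (algebraMap A A')) (t : B')
    (ht : IsIntegral B t) : t ∈ Set.range (algebraMap B B') := by
  have hpow : Algebra.algebraMapSubmonoid B (Submonoid.powers f) =
      Submonoid.powers (algebraMap A B f) := by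
    simp [Algebra.algebraMapSubmonoid, Submonoid.map_powers]
  haveI h1 : IsLocalization (Algebra.algebraMapSubmonoid B (Submonoid.powers f)) (B ⊗[A] A') :=
    inferInstance
  haveI h2 : IsLocalization (Algebra.algebraMapSubmonoid B (Submonoid.powers f)) B' := by
    rw [hpow]
    infer_instance
  let e : (B ⊗[A] A') ≃ₐ[B] B' :=
    IsLocalization.algEquiv (Algebra.algebraMapSubmonoid B (Submonoid.powers f)) _ _
  have ht' : IsIntegral B (e.symm t) := ht.map e.symm.toAlgHom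
  obtain ⟨z, hz⟩ := (TensorProduct.toIntegralClosure_bijective_of_smooth
    (R := A) (S := B) (B := A')).2 ⟨e.symm t, ht'⟩
  have hz' : (Algebra.TensorProduct.map (AlgHom.id B B) (integralClosure A A').val) z =
      e.symm t := by
    have h3 := congrArg Subtype.val hz
    simpa [TensorProduct.toIntegralClosure] using h3
  have key : ∀ z : B ⊗[A] integralClosure A A',
      (Algebra.TensorProduct.map (AlgHom.id B B) (integralClosure A A').val) z ∈
        Set.range (algebraMap B (B ⊗[A] A')) := by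
    intro z
    induction z using TensorProduct.induction_on with
    | zero => exact ⟨0, by simp⟩
    | tmul b w =>
      obtain ⟨a, ha⟩ := h w.1 w.2
      refine ⟨b * algebraMap A B a, ?_⟩
      have e1 : (w : A') = a • (1 : A') := by rw [← ha, Algebra.algebraMap_eq_smul_one]
      have e2 : b * algebraMap A B a = a • b := by rw [Algebra.smul_def, mul_comm]
      rw [Algebra.TensorProduct.algebraMap_apply, Algebra.TensorProduct.map_tmul, e2]
      show (a • b) ⊗ₜ[A] (1 : A') = b ⊗ₜ[A] (w : A')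
      rw [e1, TensorProduct.smul_tmul]
    | add x y hx hy =>
      obtain ⟨p, hp⟩ := hx
      obtain ⟨q, hq⟩ := hy
      exact ⟨p + q, by rw [map_add, map_add, hp, hq]⟩
  obtain ⟨b, hb⟩ := key z
  refine ⟨b, ?_⟩
  have h4 : e (algebraMap B (B ⊗[A] A') b) = t := by
    rw [hb, hz', AlgEquiv.apply_symm_apply]
  rw [← h4, AlgEquiv.commutes]

/-! ### Scheme lemmas -/

theorem res_res {Y : Scheme.{u}} {A B C : Y.Opens} (h1 : B ≤ A) (h2 : C ≤ B) (s : Γ(Y, A)) :
    (Y.presheaf.map (homOfLE h2).op).hom ((Y.presheaf.map (homOfLE h1).op).hom s) =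
      (Y.presheaf.map (homOfLE (h2.trans h1)).op).hom s := by
  have h : (homOfLE h1).op ≫ (homOfLE h2).op = (homOfLE (h2.trans h1)).op := rfl
  rw [← h, Y.presheaf.map_comp, CommRingCat.hom_comp, RingHom.comp_apply]

theorem inf_interior_eq_basicOpen {X : Scheme.{u}} (IX : X.IdealSheafData) (U : X.affineOpens)
    (f : Γ(X, U.1)) (hI : IX.ideal U = Ideal.span {f}) :
    U.1 ⊓ ModPair.interior IX = X.basicOpen f := by
  have hsupp := IX.coe_support_inter U
  rw [Set.ext_iff] at hsupp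
  ext x
  constructor
  · rintro ⟨hxU, hxint⟩
    by_contra hxf
    have h1 : x ∈ X.zeroLocus (U := U.1) (IX.ideal U) := by
      rw [hI, Scheme.zeroLocus_span, Scheme.zeroLocus_singleton]
      exact hxf
    exact hxint ((hsupp x).mpr ⟨h1, hxU⟩).1
  · intro hxf
    have hxU : x ∈ U.1 := X.basicOpen_le f hxf
    refine ⟨hxU, ?_⟩
    intro hxs
    have h1 : x ∈ X.zeroLocus (U := U.1) (IX.ideal U) := ((hsupp x).mp ⟨hxs, hxU⟩).1
    rw [hI, Scheme.zeroLocus_span, Scheme.zeroLocus_singleton] at h1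
    exact h1 hxf

theorem inf_preimage_interior_eq_basicOpen {X Y : Scheme.{u}} (g : Y ⟶ X)
    (IX : X.IdealSheafData) (U : X.affineOpens) (f : Γ(X, U.1))
    (hI : IX.ideal U = Ideal.span {f}) {V' : Y.Opens} (hle : V' ≤ g ⁻¹ᵁ U.1) :
    V' ⊓ g ⁻¹ᵁ ModPair.interior IX = Y.basicOpen ((g.appLE U.1 V' hle).hom f) := by
  have h0 : (g.appLE U.1 V' hle).hom f =
      (Y.presheaf.map (homOfLE hle).op).hom ((g.app U.1).hom f) := rfl
  have h1 : Y.basicOpen ((g.appLE U.1 V' hle).hom f) = V' ⊓ g ⁻¹ᵁ X.basicOpen f := by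
    rw [h0]
    exact (Scheme.basicOpen_res _ _ _).trans
      (congrArg (fun Z => V' ⊓ Z) (Scheme.preimage_basicOpen g f).symm)
  rw [h1, ← inf_interior_eq_basicOpen IX U f hI]
  ext y
  constructor
  · rintro ⟨h1, h2⟩
    exact ⟨h1, hle h1, h2⟩
  · rintro ⟨h1, -, h2⟩
    exact ⟨h1, h2⟩

theorem local_analysis {X Y : Scheme.{u}}
    (IX : X.IdealSheafData) (hX : BlowUp.IsEffCartierIdeal IX)
    (hint : ∀ U ∈ X.affineOpens, ∀ s : Γ(X, U ⊓ ModPair.interior IX),
      (X.presheaf.map (homOfLE (inf_le_left : U ⊓ ModPair.interior IX ≤ U)).op).hom.IsIntegralElem s →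
        s ∈ Set.range (X.presheaf.map (homOfLE (inf_le_left : U ⊓ ModPair.interior IX ≤ U)).op).hom)
    (g : Y ⟶ X) [Etale g] (W : Y.Opens) (y : Y) (hy : y ∈ W) :
    ∃ V' : Y.Opens, IsAffineOpen V' ∧ y ∈ V' ∧ V' ≤ W ∧
      Function.Injective (Y.presheaf.map
        (homOfLE (inf_le_left : V' ⊓ g ⁻¹ᵁ ModPair.interior IX ≤ V')).op).hom ∧
      ∀ t' : Γ(Y, V' ⊓ g ⁻¹ᵁ ModPair.interior IX),
        (Y.presheaf.map (homOfLE
          (inf_le_left : V' ⊓ g ⁻¹ᵁ ModPair.interior IX ≤ V')).op).hom.IsIntegralElem t' →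
        t' ∈ Set.range (Y.presheaf.map (homOfLE
          (inf_le_left : V' ⊓ g ⁻¹ᵁ ModPair.interior IX ≤ V')).op).hom := by
  obtain ⟨U, hxU, f, hf, hI⟩ := hX (g.base y)
  obtain ⟨V', hV'aff, hyV', hV'W'⟩ := Opens.isBasis_iff_nbhd.mp Y.isBasis_affineOpens
    (show y ∈ W ⊓ g ⁻¹ᵁ U.1 from ⟨hy, hxU⟩)
  have hle : V' ≤ g ⁻¹ᵁ U.1 := hV'W'.trans inf_le_right
  have hsm : (g.appLE U.1 V' hle).hom.Smooth := g.smooth_appLE U.2 hV'aff hle
  have e1 := inf_interior_eq_basicOpen IX U f hI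
  have e2 := inf_preimage_interior_eq_basicOpen g IX U f hI hle
  letI algAB : Algebra Γ(X, U.1) Γ(Y, V') := (g.appLE U.1 V' hle).hom.toAlgebra
  letI algAA' : Algebra Γ(X, U.1) Γ(X, U.1 ⊓ ModPair.interior IX) :=
    (X.presheaf.map (homOfLE (inf_le_left : U.1 ⊓ ModPair.interior IX ≤ U.1)).op).hom.toAlgebra
  letI algBB' : Algebra Γ(Y, V') Γ(Y, V' ⊓ g ⁻¹ᵁ ModPair.interior IX) :=
    (Y.presheaf.map (homOfLE
      (inf_le_left : V' ⊓ g ⁻¹ᵁ ModPair.interior IX ≤ V')).op).hom.toAlgebra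
  haveI hsm' : Algebra.Smooth Γ(X, U.1) Γ(Y, V') := hsm
  haveI locA : IsLocalization.Away f Γ(X, U.1 ⊓ ModPair.interior IX) :=
    U.2.isLocalization_of_eq_basicOpen f (homOfLE inf_le_left) e1
  haveI locB : IsLocalization.Away (algebraMap Γ(X, U.1) Γ(Y, V') f)
      Γ(Y, V' ⊓ g ⁻¹ᵁ ModPair.interior IX) :=
    hV'aff.isLocalization_of_eq_basicOpen _ (homOfLE inf_le_left) e2
  have hreg : IsSMulRegular Γ(Y, V') f := Module.Flat.isSMulRegular_of_nonZeroDivisors hf
  have hnzd : algebraMap Γ(X, U.1) Γ(Y, V') f ∈ nonZeroDivisors Γ(Y, V') := by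
    rw [mem_nonZeroDivisors_iff_right]
    intro b hb
    apply hreg
    show f • b = f • (0 : Γ(Y, V'))
    rw [smul_zero, Algebra.smul_def, mul_comm]
    exact hb
  refine ⟨V', hV'aff, hyV', hV'W'.trans inf_le_left, ?_, ?_⟩
  · exact IsLocalization.injective _ (Submonoid.powers_le.mpr hnzd)
  · intro t' ht'
    exact RL f (fun s hs => hint U.1 U.2 s hs) t' ht'

theorem main {X Y : Scheme.{u}}
    (IX : X.IdealSheafData) (hX : BlowUp.IsEffCartierIdeal IX)
    (hint : ∀ U ∈ X.affineOpens, ∀ s : Γ(X, U ⊓ ModPair.interior IX),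
      (X.presheaf.map (homOfLE (inf_le_left : U ⊓ ModPair.interior IX ≤ U)).op).hom.IsIntegralElem s →
        s ∈ Set.range (X.presheaf.map (homOfLE (inf_le_left : U ⊓ ModPair.interior IX ≤ U)).op).hom)
    (g : Y ⟶ X) [Etale g] :
    ∀ V ∈ Y.affineOpens, ∀ t : Γ(Y, V ⊓ g ⁻¹ᵁ ModPair.interior IX),
      (Y.presheaf.map (homOfLE (inf_le_left : V ⊓ g ⁻¹ᵁ ModPair.interior IX ≤ V)).op).hom.IsIntegralElem t →
        t ∈ Set.range (Y.presheaf.map (homOfLE (inf_le_left : V ⊓ g ⁻¹ᵁ ModPair.interior IX ≤ V)).op).hom := by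
  intro V _ t ht
  -- Step A: restriction to the interior is injective on every open
  have inj : ∀ (W : Y.Opens) (a b : Γ(Y, W)),
      (Y.presheaf.map (homOfLE (inf_le_left : W ⊓ g ⁻¹ᵁ ModPair.interior IX ≤ W)).op).hom a =
      (Y.presheaf.map (homOfLE (inf_le_left : W ⊓ g ⁻¹ᵁ ModPair.interior IX ≤ W)).op).hom b →
      a = b := by
    intro W a b hab
    choose V' _ hyV' hV'W hinj _ using
      fun y : W => local_analysis IX hX hint g W y.1 y.2
    refine TopCat.Sheaf.eq_of_locally_eq' Y.sheaf V' W (fun y => homOfLE (hV'W y))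
      (fun y hy => Opens.mem_iSup.mpr ⟨⟨y, hy⟩, hyV' ⟨y, hy⟩⟩) a b (fun y => ?_)
    apply hinj y
    have key : ∀ c : Γ(Y, W),
        (Y.presheaf.map (homOfLE
          (inf_le_left : V' y ⊓ g ⁻¹ᵁ ModPair.interior IX ≤ V' y)).op).hom
          ((Y.presheaf.map (homOfLE (hV'W y)).op).hom c) =
        (Y.presheaf.map (homOfLE
          (inf_le_inf_right (g ⁻¹ᵁ ModPair.interior IX) (hV'W y))).op).hom
          ((Y.presheaf.map (homOfLE
            (inf_le_left : W ⊓ g ⁻¹ᵁ ModPair.interior IX ≤ W)).op).hom c) := fun c => by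
      rw [res_res, res_res]
    exact (key a).trans ((congrArg _ hab).trans (key b).symm)
  -- Step B: local sections
  choose V' _ hyV' hV'V _ hcl using fun y : V => local_analysis IX hX hint g V y.1 y.2
  have hloc : ∀ y : V, ∃ s' : Γ(Y, V' y),
      (Y.presheaf.map (homOfLE
        (inf_le_left : V' y ⊓ g ⁻¹ᵁ ModPair.interior IX ≤ V' y)).op).hom s' =
      (Y.presheaf.map (homOfLE
        (inf_le_inf_right (g ⁻¹ᵁ ModPair.interior IX) (hV'V y))).op).hom t := by
    intro y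
    have hsq : ((Y.presheaf.map (homOfLE
        (inf_le_inf_right (g ⁻¹ᵁ ModPair.interior IX) (hV'V y))).op).hom).comp
        (Y.presheaf.map (homOfLE
          (inf_le_left : V ⊓ g ⁻¹ᵁ ModPair.interior IX ≤ V)).op).hom =
        ((Y.presheaf.map (homOfLE
          (inf_le_left : V' y ⊓ g ⁻¹ᵁ ModPair.interior IX ≤ V' y)).op).hom).comp
        (Y.presheaf.map (homOfLE (hV'V y)).op).hom := by
      ext c
      rw [RingHom.comp_apply, RingHom.comp_apply, res_res, res_res]
    have hint' := isIntegralElem_of_square _ _ _ _ hsq ht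
    obtain ⟨s', hs'⟩ := hcl y _ hint'
    exact ⟨s', hs'⟩
  choose s' hs' using hloc
  have H : ∀ (A B : Y.Opens) (hBA : B ≤ A) (hAV : A ≤ V) (a : Γ(Y, A)),
      (Y.presheaf.map (homOfLE
        (inf_le_left : A ⊓ g ⁻¹ᵁ ModPair.interior IX ≤ A)).op).hom a =
      (Y.presheaf.map (homOfLE
        (inf_le_inf_right (g ⁻¹ᵁ ModPair.interior IX) hAV)).op).hom t →
      (Y.presheaf.map (homOfLE
        (inf_le_left : B ⊓ g ⁻¹ᵁ ModPair.interior IX ≤ B)).op).hom
        ((Y.presheaf.map (homOfLE hBA).op).hom a) =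
      (Y.presheaf.map (homOfLE
        (inf_le_inf_right (g ⁻¹ᵁ ModPair.interior IX) (hBA.trans hAV))).op).hom t := by
    intro A B hBA hAV a ha
    have h1 := congrArg (Y.presheaf.map (homOfLE
      (inf_le_inf_right (g ⁻¹ᵁ ModPair.interior IX) hBA)).op).hom ha
    rw [res_res, res_res] at h1
    rw [res_res]
    exact h1
  have hcompat : TopCat.Presheaf.IsCompatible Y.presheaf V' s' := by
    intro y z
    have e1 := H (V' y) (V' y ⊓ V' z) inf_le_left (hV'V y) (s' y) (hs' y)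
    have e2 := H (V' z) (V' y ⊓ V' z) inf_le_right (hV'V z) (s' z) (hs' z)
    exact inj _ _ _ (e1.trans e2.symm)
  have hglue : ∃ s : Γ(Y, V), ∀ y : V,
      (Y.presheaf.map (homOfLE (hV'V y)).op).hom s = s' y := by
    obtain ⟨s0, hs0, -⟩ := TopCat.Sheaf.existsUnique_gluing' Y.sheaf V' V
      (fun y => homOfLE (hV'V y))
      (fun y hy => Opens.mem_iSup.mpr ⟨⟨y, hy⟩, hyV' ⟨y, hy⟩⟩) s' hcompat
    exact ⟨s0, hs0⟩
  obtain ⟨s, hs⟩ := hglue
  refine ⟨s, ?_⟩
  refine TopCat.Sheaf.eq_of_locally_eq' Y.sheaf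
    (fun y : V => V' y ⊓ g ⁻¹ᵁ ModPair.interior IX) (V ⊓ g ⁻¹ᵁ ModPair.interior IX)
    (fun y => homOfLE (inf_le_inf_right (g ⁻¹ᵁ ModPair.interior IX) (hV'V y)))
    (fun y hy => Opens.mem_iSup.mpr ⟨⟨y, hy.1⟩, hyV' ⟨y, hy.1⟩, hy.2⟩) _ _ (fun y => ?_)
  have h1 : (Y.presheaf.map (homOfLE (hV'V y)).op).hom s = s' y := hs y
  have h2 := hs' y
  rw [← h1, res_res] at h2
  show (Y.presheaf.map (homOfLE
      (inf_le_inf_right (g ⁻¹ᵁ ModPair.interior IX) (hV'V y))).op).hom
      ((Y.presheaf.map (homOfLE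
        (inf_le_left : V ⊓ g ⁻¹ᵁ ModPair.interior IX ≤ V)).op).hom s) = _
  rw [res_res]
  exact h2

end Groth.Agent.H86.IntClosedEtale
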