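import Groth.Agent.H18.FinPtsAmple

/-!
# Ample sections through the image of `Spec A`, `A` integral over a field

For two sections `α β` of an invertible module `M`, the "geometric sum"
`hsec α β n = ∑_{i ≤ n} α^i β^(n-i)` (a section of `M^n`) is studied.  If `T` is an affine scheme
whose ring of global sections is integral over a field, and `g : T ⟶ X`, then for a suitable
prime `p` the open `X_{hsec α β (p-1)}` contains every point of `g(T) ∩ (X_α ∪ X_β)`.
-/

set_option autoImplicit false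
universe u

noncomputable section

namespace Groth.Agent.H86.IntegralPts

open CategoryTheory AlgebraicGeometry Opposite TopologicalSpace
open Groth.Agent.H8 (res_res res_smul ringRes_res section_eq_of_cover)
open Groth.Agent.H18.SecTw Groth.Agent.H18.TensorGen Groth.Agent.H18.TensorPowIso
open Groth.Agent.H18.GenLocusGen Groth.Agent.H18.FinPts
open Groth.Agent.H18

/-! ### The polynomial `G n a b = ∑ a^i b^(n-i)` -/

/-- `G a b n = ∑_{i ≤ n} a^i b^(n-i)`, by recursion. -/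
def G {R : Type*} [CommRing R] (a b : R) : ℕ → R
  | 0 => 1
  | n + 1 => G a b n * a + b ^ (n + 1)

theorem G_zero {R : Type*} [CommRing R] (a b : R) : G a b 0 = 1 := rfl

theorem G_succ {R : Type*} [CommRing R] (a b : R) (n : ℕ) :
    G a b (n + 1) = G a b n * a + b ^ (n + 1) := rfl

theorem map_G {R S : Type*} [CommRing R] [CommRing S] (f : R →+* S) (a b : R) (n : ℕ) :
    f (G a b n) = G (f a) (f b) n := by
  induction n with
  | zero => rw [G_zero, G_zero, map_one]
  | succ n ih => rw [G_succ, G_succ, map_add, map_mul, map_pow, ih]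

theorem sub_mul_G {R : Type*} [CommRing R] (a b : R) (n : ℕ) :
    (a - b) * G a b n = a ^ (n + 1) - b ^ (n + 1) := by
  induction n with
  | zero => rw [G_zero]; ring
  | succ n ih =>
    rw [G_succ]
    have h : (a - b) * (G a b n * a + b ^ (n + 1)) =
        ((a - b) * G a b n) * a + (a - b) * b ^ (n + 1) := by ring
    rw [h, ih]
    ring

theorem G_zero_left {R : Type*} [CommRing R] (b : R) (n : ℕ) : G 0 b n = b ^ n := by
  induction n with
  | zero => rw [G_zero, pow_zero]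
  | succ n ih => rw [G_succ, mul_zero, zero_add]

theorem G_zero_right {R : Type*} [CommRing R] (a : R) (n : ℕ) : G a 0 n = a ^ n := by
  induction n with
  | zero => rw [G_zero, pow_zero]
  | succ n ih => rw [G_succ, ih, zero_pow (Nat.succ_ne_zero n), add_zero, pow_succ]

theorem G_self {R : Type*} [CommRing R] (a : R) (n : ℕ) :
    G a a n = ((n + 1 : ℕ) : R) * a ^ n := by
  induction n with
  | zero => rw [G_zero]; simp
  | succ n ih =>
    rw [G_succ, ih]
    push_cast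
    ring

theorem G_mem {R A : Type*} [CommRing R] [CommRing A] [Algebra R A] (K : Subalgebra R A)
    {a b : A} (ha : a ∈ K) (hb : b ∈ K) (n : ℕ) : G a b n ∈ K := by
  induction n with
  | zero => rw [G_zero]; exact K.one_mem
  | succ n ih => rw [G_succ]; exact K.add_mem (K.mul_mem ih ha) (K.pow_mem hb _)

/-- In a field, a pair `(a, b) ≠ (0, 0)` annihilates `G (p - 1)` for at most one prime `p`. -/
theorem field_bad_unique {F : Type*} [Field F] (a b : F) (hab : a ≠ 0 ∨ b ≠ 0) {p q : ℕ}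
    (hp : p.Prime) (hq : q.Prime) (hpq : p ≠ q)
    (h1 : G a b (p - 1) = 0) (h2 : G a b (q - 1) = 0) : False := by
  have ha : a ≠ 0 := by
    intro h
    rw [h, G_zero_left] at h1
    have hb : b ≠ 0 := by
      rcases hab with h' | h'
      · exact absurd h h'
      · exact h'
    exact pow_ne_zero _ hb h1
  have hb : b ≠ 0 := by
    intro h
    rw [h, G_zero_right] at h1
    exact pow_ne_zero _ ha h1
  have e1 : a ^ p = b ^ p := by
    have h := sub_mul_G a b (p - 1)
    rw [h1, mul_zero, Nat.sub_add_cancel hp.one_le] at h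
    exact sub_eq_zero.mp h.symm
  have e2 : a ^ q = b ^ q := by
    have h := sub_mul_G a b (q - 1)
    rw [h2, mul_zero, Nat.sub_add_cancel hq.one_le] at h
    exact sub_eq_zero.mp h.symm
  have hc : Nat.Coprime p q := (Nat.coprime_primes hp hq).mpr hpq
  have hu : (a / b) ^ p = 1 := by rw [div_pow, e1, div_self (pow_ne_zero _ hb)]
  have hv : (a / b) ^ q = 1 := by rw [div_pow, e2, div_self (pow_ne_zero _ hb)]
  have h3 : a / b = 1 := by
    have h := pow_gcd_eq_one.mpr ⟨hu, hv⟩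
    rwa [hc.gcd_eq_one, pow_one] at h
  have hab' : a = b := (div_eq_one_iff_eq hb).mp h3
  rw [hab', G_self, Nat.sub_add_cancel hp.one_le] at h1
  rw [hab', G_self, Nat.sub_add_cancel hq.one_le] at h2
  have hp0 : (p : F) = 0 := (mul_eq_zero.mp h1).resolve_right (pow_ne_zero _ hb)
  have hq0 : (q : F) = 0 := (mul_eq_zero.mp h2).resolve_right (pow_ne_zero _ hb)
  have hbz := Nat.gcd_eq_gcd_ab p q
  rw [hc.gcd_eq_one] at hbz
  have h4 : (1 : F) = (p : F) * ((Nat.gcdA p q : ℤ) : F) + (q : F) * ((Nat.gcdB p q : ℤ) : F) := by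
    have h := congrArg (Int.cast : ℤ → F) hbz
    push_cast at h
    exact h
  rw [hp0, hq0, zero_mul, zero_mul, add_zero] at h4
  exact one_ne_zero h4

/-! ### Localising an integral algebra over a field at one element is surjective -/

theorem exists_pow_succ_mul_eq {k A : Type*} [Field k] [CommRing A] [Algebra k A] (c : A)
    (hc : IsIntegral k c) : ∃ (n : ℕ) (y : A), c ^ (n + 1) * y = c ^ n := by
  haveI : Module.Finite k (Algebra.adjoin k {c}) := Algebra.finite_adjoin_simple_of_isIntegral hc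
  haveI : IsArtinianRing (Algebra.adjoin k {c}) := IsArtinianRing.of_finite k _
  obtain ⟨n, y, hy⟩ := IsArtinian.exists_pow_succ_smul_dvd
    (⟨c, Algebra.subset_adjoin (Set.mem_singleton c)⟩ : Algebra.adjoin k {c})
    (1 : Algebra.adjoin k {c})
  refine ⟨n, (y : A), ?_⟩
  have h2 := congrArg (fun z : Algebra.adjoin k {c} => (z : A)) hy
  simpa [smul_eq_mul] using h2

theorem surjective_algebraMap_away {k A R : Type*} [Field k] [CommRing A] [Algebra k A]
    [Algebra.IsIntegral k A] (c : A) [CommRing R] [Algebra A R] [IsLocalization.Away c R] :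
    Function.Surjective (algebraMap A R) := by
  obtain ⟨n, y, hy⟩ := exists_pow_succ_mul_eq (k := k) c (Algebra.IsIntegral.isIntegral c)
  have hu : IsUnit (algebraMap A R c) := IsLocalization.Away.algebraMap_isUnit c
  have hinv : algebraMap A R c * algebraMap A R y = 1 := by
    have h2 := congrArg (algebraMap A R) hy
    rw [map_mul, map_pow, map_pow, pow_succ, mul_assoc] at h2
    refine (hu.pow n).mul_left_cancel ?_
    rw [h2, mul_one]
  intro r
  obtain ⟨m, a, hr⟩ := IsLocalization.Away.surj c r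
  refine ⟨a * y ^ m, ?_⟩
  rw [map_mul, map_pow, ← hr, mul_assoc, ← mul_pow, hinv, one_pow, mul_one]

/-! ### The geometric sum of two sections -/

variable {X : Scheme.{u}}

/-- Sum of two sections (a named form of `+`, convenient when the target module is only
definitionally of the expected shape). -/
def addS {N : X.Modules} (x y : Coh.structureModule X ⟶ N) : Coh.structureModule X ⟶ N := x + y

theorem sv_addS_smul {N : X.Modules} (x y : Coh.structureModule X ⟶ N) {V : X.Opens}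
    (μ : Γ(N, V)) (p q : Γ(X, V)) (hx : sv x V = p • μ) (hy : sv y V = q • μ) :
    sv (addS x y) V = (p + q) • μ := by
  have h : sv (addS x y) V = sv x V + sv y V := rfl
  rw [h, hx, hy, add_smul]

theorem sv_tmulHom_smul {A B : X.Modules} (x : Coh.structureModule X ⟶ A)
    (y : Coh.structureModule X ⟶ B) {V : X.Opens} (μ : Γ(A, V)) (ν : Γ(B, V)) (p q : Γ(X, V))
    (hx : sv x V = p • μ) (hy : sv y V = q • ν) :
    sv (SecTwist.tmulHom x y) V = (p * q) • tm A B μ ν := by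
  have h : sv (SecTwist.tmulHom x y) V = tm A B (sv x V) (sv y V) := SecTwist.val_tmulHom x y V
  rw [h, hx, hy, tm_smul_left, tm_smul_right, mul_smul]

theorem sv_powHom_smul {L : X.Modules} (y : Coh.structureModule X ⟶ L) {V : X.Opens}
    (τ : Γ(L, V)) (q : Γ(X, V)) (hy : sv y V = q • τ) (n : ℕ) :
    sv (SecTwist.powHom y n) V = q ^ n • lp τ n := by
  have h : sv (SecTwist.powHom y n) V = lp (sv y V) n :=
    (SecTwist.val_powHom y n V).trans (pow_eq_locPow y n V)
  rw [h, hy, lp_smul]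

theorem genLocus_addS_le {N : X.Modules} (hN : PicF.IsInvertible N)
    (x y : Coh.structureModule X ⟶ N) :
    CohB1.genLocus N (addS x y) ≤ CohB1.genLocus N x ⊔ CohB1.genLocus N y :=
  genLocus_add_le hN x y

theorem isAffineOpen_genLocus_addS {N : X.Modules} (x y : Coh.structureModule X ⟶ N)
    (hx : IsAffineOpen (CohB1.genLocus N x ⊓ CohB1.genLocus N (addS x y)))
    (hy : IsAffineOpen (CohB1.genLocus N y ⊓ CohB1.genLocus N (addS x y))) :
    IsAffineOpen (CohB1.genLocus N (addS x y)) := by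
  have hgen := isGen_sv_genLocus (addS x y)
  obtain ⟨f1, hf1⟩ := hgen.self.2 (sv x _)
  obtain ⟨f2, hf2⟩ := hgen.self.2 (sv y _)
  have hf1' : sv x (CohB1.genLocus N (addS x y)) = f1 • sv (addS x y) _ := hf1.symm
  have hf2' : sv y (CohB1.genLocus N (addS x y)) = f2 • sv (addS x y) _ := hf2.symm
  have hsum : f1 + f2 = 1 := by
    apply hgen.self.1
    show (f1 + f2) • sv (addS x y) _ =
      (1 : Γ(X, CohB1.genLocus N (addS x y))) • sv (addS x y) _
    rw [add_smul, ← hf1', ← hf2', one_smul]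
    rfl
  have e1 := genLocus_inf_of_isGen x hgen f1 hf1'
  have e2 := genLocus_inf_of_isGen y hgen f2 hf2'
  refine isAffineOpen_of_isAffineOpen_basicOpen _ {f1, f2} ?_ ?_
  · rw [Ideal.eq_top_iff_one, ← hsum]
    exact Ideal.add_mem _ (Ideal.subset_span (Set.mem_insert _ _))
      (Ideal.subset_span (Set.mem_insert_of_mem _ rfl))
  · intro i hi
    rcases Set.mem_insert_iff.mp hi with h | h
    · rw [h, ← e1]
      exact hx
    · rw [Set.mem_singleton_iff.mp h, ← e2]
      exact hy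

/-- The section `∑_{i ≤ n} α^i β^(n-i)` of `M^n`. -/
def hsec {M : X.Modules} (α β : Coh.structureModule X ⟶ M) :
    (n : ℕ) → (Coh.structureModule X ⟶ CohB1.tensorPow M n)
  | 0 => 𝟙 _
  | n + 1 => addS (N := CohB1.tensorPow M (n + 1)) (SecTwist.tmulHom (hsec α β n) α)
      (SecTwist.powHom β (n + 1))

theorem sv_hsec {M : X.Modules} (α β : Coh.structureModule X ⟶ M) {V : X.Opens} (τ : Γ(M, V))
    (a b : Γ(X, V)) (ha : sv α V = a • τ) (hb : sv β V = b • τ) (n : ℕ) :
    sv (hsec α β n) V = G a b n • lp τ n := by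
  induction n with
  | zero =>
    rw [G_zero, one_smul]
    rfl
  | succ n ih =>
    have hx := sv_tmulHom_smul (hsec α β n) α (lp τ n) τ (G a b n) a ih ha
    have hy := sv_powHom_smul β τ b hb (n + 1)
    rw [G_succ]
    exact sv_addS_smul (N := CohB1.tensorPow M (n + 1)) _ _ (lp τ (n + 1)) _ _ hx hy

theorem mem_genLocus_hsec_iff {M : X.Modules} (α β : Coh.structureModule X ⟶ M) {V : X.Opens}
    {τ : Γ(M, V)} (hτ : IsGen M V τ) {a b : Γ(X, V)} (ha : sv α V = a • τ)
    (hb : sv β V = b • τ) (n : ℕ) (x : X) (hx : x ∈ V) :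
    x ∈ CohB1.genLocus (CohB1.tensorPow M n) (hsec α β n) ↔ x ∈ X.basicOpen (G a b n) :=
  mem_genLocus_iff_of_isGen (hsec α β n) (isGen_lp hτ n) (G a b n)
    (sv_hsec α β τ a b ha hb n) x hx

/-- At a point of `X_α ∪ X_β`, at most one prime `p` has `x ∉ X_{hsec (p-1)}`. -/
theorem bad_unique {M : X.Modules} (hM : PicF.IsInvertible M)
    (α β : Coh.structureModule X ⟶ M) (x : X)
    (hx : x ∈ CohB1.genLocus M α ⊔ CohB1.genLocus M β) {p q : ℕ} (hp : p.Prime) (hq : q.Prime)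
    (h1 : x ∉ CohB1.genLocus (CohB1.tensorPow M (p - 1)) (hsec α β (p - 1)))
    (h2 : x ∉ CohB1.genLocus (CohB1.tensorPow M (q - 1)) (hsec α β (q - 1))) : p = q := by
  by_contra hpq
  obtain ⟨V, τ, hxV, hτ⟩ := exists_isGen hM x
  obtain ⟨a, ha⟩ := hτ.self.2 (sv α V)
  obtain ⟨b, hb⟩ := hτ.self.2 (sv β V)
  have ha' : sv α V = a • τ := ha.symm
  have hb' : sv β V = b • τ := hb.symm
  have e1 := mem_genLocus_hsec_iff α β hτ ha' hb' (p - 1) x hxV
  have e2 := mem_genLocus_hsec_iff α β hτ ha' hb' (q - 1) x hxV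
  have ea := mem_genLocus_iff_of_isGen α hτ a ha' x hxV
  have eb := mem_genLocus_iff_of_isGen β hτ b hb' x hxV
  have z1 : (X.evaluation V x hxV).hom (G a b (p - 1)) = 0 :=
    (X.evaluation_eq_zero_iff_notMem_basicOpen x hxV _).mpr (fun h => h1 (e1.mpr h))
  have z2 : (X.evaluation V x hxV).hom (G a b (q - 1)) = 0 :=
    (X.evaluation_eq_zero_iff_notMem_basicOpen x hxV _).mpr (fun h => h2 (e2.mpr h))
  rw [map_G] at z1 z2
  refine field_bad_unique _ _ ?_ hp hq hpq z1 z2
  rcases Opens.mem_sup.mp hx with h | h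
  · left
    exact (X.evaluation_ne_zero_iff_mem_basicOpen x hxV a).mpr (ea.mp h)
  · right
    exact (X.evaluation_ne_zero_iff_mem_basicOpen x hxV b).mpr (eb.mp h)

theorem genLocus_tmulHom_hsec {M : X.Modules} (hM : PicF.IsInvertible M)
    (α β : Coh.structureModule X ⟶ M) (m : ℕ) :
    CohB1.genLocus (CohB1.tensorMod (CohB1.tensorPow M m) M)
      (SecTwist.tmulHom (hsec α β m) α) =
      CohB1.genLocus (CohB1.tensorPow M m) (hsec α β m) ⊓ CohB1.genLocus M α :=
  genLocus_tmulHom (isInvertible_tensorPow hM m) hM (hsec α β m) α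

theorem genLocus_hsec_le {M : X.Modules} (hM : PicF.IsInvertible M)
    (α β : Coh.structureModule X ⟶ M) (m : ℕ) :
    CohB1.genLocus (CohB1.tensorPow M (m + 1)) (hsec α β (m + 1)) ≤
      CohB1.genLocus M α ⊔ CohB1.genLocus M β := by
  have hN := isInvertible_tensorPow hM (m + 1)
  have h := genLocus_addS_le (N := CohB1.tensorPow M (m + 1)) hN
    (SecTwist.tmulHom (hsec α β m) α) (SecTwist.powHom β (m + 1))
  have h2 : CohB1.genLocus (CohB1.tensorPow M (m + 1)) (SecTwist.powHom β (m + 1)) =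
      CohB1.genLocus M β := genLocus_powHom_succ hM β m
  have h3 : CohB1.genLocus (CohB1.tensorPow M (m + 1)) (hsec α β (m + 1)) ≤
      (CohB1.genLocus (CohB1.tensorPow M m) (hsec α β m) ⊓ CohB1.genLocus M α) ⊔
        CohB1.genLocus M β := by
    rw [← genLocus_tmulHom_hsec hM α β m, ← h2]
    exact h
  exact h3.trans (sup_le_sup_right inf_le_right _)

theorem isAffineOpen_genLocus_hsec {M : X.Modules} (hM : PicF.IsInvertible M)
    (α β : Coh.structureModule X ⟶ M) (hα : IsAffineOpen (CohB1.genLocus M α))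
    (hβ : IsAffineOpen (CohB1.genLocus M β)) (m : ℕ) :
    IsAffineOpen (CohB1.genLocus (CohB1.tensorPow M (m + 1)) (hsec α β (m + 1))) := by
  have hN : PicF.IsInvertible (CohB1.tensorPow M (m + 1)) := isInvertible_tensorPow hM (m + 1)
  have k1 := GlobGenConv.isAffineOpen_genLocus_inf hN (hsec α β (m + 1)) hα
  have k2 := GlobGenConv.isAffineOpen_genLocus_inf (isInvertible_tensorPow hM m)
    (hsec α β m) k1
  have k3 : CohB1.genLocus (CohB1.tensorPow M m) (hsec α β m) ⊓ CohB1.genLocus M α ⊓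
      CohB1.genLocus (CohB1.tensorPow M (m + 1)) (hsec α β (m + 1)) =
      CohB1.genLocus (CohB1.tensorPow M m) (hsec α β m) ⊓
        (CohB1.genLocus (CohB1.tensorPow M (m + 1)) (hsec α β (m + 1)) ⊓
          CohB1.genLocus M α) := by
    rw [inf_assoc, inf_comm (CohB1.genLocus M α)]
  have a1 : IsAffineOpen (CohB1.genLocus (CohB1.tensorMod (CohB1.tensorPow M m) M)
      (SecTwist.tmulHom (hsec α β m) α) ⊓
      CohB1.genLocus (CohB1.tensorPow M (m + 1)) (hsec α β (m + 1))) := by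
    rw [genLocus_tmulHom_hsec hM α β m, k3]
    exact k2
  have g2 : CohB1.genLocus (CohB1.tensorPow M (m + 1)) (SecTwist.powHom β (m + 1)) =
      CohB1.genLocus M β := genLocus_powHom_succ hM β m
  have a2 : IsAffineOpen (CohB1.genLocus (CohB1.tensorPow M (m + 1))
      (SecTwist.powHom β (m + 1)) ⊓
      CohB1.genLocus (CohB1.tensorPow M (m + 1)) (hsec α β (m + 1))) := by
    rw [g2, inf_comm]
    exact GlobGenConv.isAffineOpen_genLocus_inf hN (hsec α β (m + 1)) hβ
  exact isAffineOpen_genLocus_addS (N := CohB1.tensorPow M (m + 1))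
    (SecTwist.tmulHom (hsec α β m) α) (SecTwist.powHom β (m + 1)) a1 a2

/-! ### The affine source -/

theorem mem_basicOpen_appLE {T : Scheme.{u}} (g : T ⟶ X) {V : X.Opens} {D : T.Opens}
    (e : D ≤ g ⁻¹ᵁ V) (r : Γ(X, V)) (t : T) (ht : t ∈ D) :
    g.base t ∈ X.basicOpen r ↔ t ∈ T.basicOpen ((g.appLE V D e).hom r) := by
  have h0 : (g.appLE V D e).hom r = (T.presheaf.map (homOfLE e).op).hom ((g.app V).hom r) := rfl
  have h1 : T.basicOpen ((g.appLE V D e).hom r) = D ⊓ g ⁻¹ᵁ X.basicOpen r := by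
    rw [h0]
    exact (Scheme.basicOpen_res _ _ _).trans
      (congrArg (fun Z => D ⊓ Z) (Scheme.preimage_basicOpen g r).symm)
  rw [h1]
  exact ⟨fun h => ⟨ht, h⟩, fun h => h.2⟩

/-- The prime of `Γ(T, ⊤)` of sections vanishing at `t`. -/
def ptIdeal (T : Scheme.{u}) (t : T) : Ideal Γ(T, ⊤) :=
  (IsLocalRing.maximalIdeal (T.presheaf.stalk t)).comap (T.presheaf.germ ⊤ t trivial).hom

instance (T : Scheme.{u}) (t : T) : (ptIdeal T t).IsPrime := by
  unfold ptIdeal
  exact Ideal.comap_isPrime _ _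

theorem mem_basicOpen_iff_notMem_ptIdeal (T : Scheme.{u}) (t : T) (r : Γ(T, ⊤)) :
    t ∈ T.basicOpen r ↔ r ∉ ptIdeal T t := by
  rw [T.mem_basicOpen r t trivial]
  show _ ↔ ¬ ((T.presheaf.germ ⊤ t trivial).hom r ∈ IsLocalRing.maximalIdeal _)
  rw [IsLocalRing.mem_maximalIdeal, mem_nonunits_iff, not_not]

theorem exists_piece {M : X.Modules} (hM : PicF.IsInvertible M)
    (α β : Coh.structureModule X ⟶ M) {T : Scheme.{u}} [IsAffine T] (g : T ⟶ X)
    (k : Type*) [Field k] [Algebra k Γ(T, ⊤)] [Algebra.IsIntegral k Γ(T, ⊤)] (t : T) :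
    ∃ c a' b' : Γ(T, ⊤), t ∈ T.basicOpen c ∧ ∀ t' ∈ T.basicOpen c,
      (g.base t' ∈ CohB1.genLocus M α ↔ t' ∈ T.basicOpen a') ∧
      (g.base t' ∈ CohB1.genLocus M β ↔ t' ∈ T.basicOpen b') ∧
      ∀ n : ℕ, (g.base t' ∈ CohB1.genLocus (CohB1.tensorPow M n) (hsec α β n) ↔
        t' ∈ T.basicOpen (G a' b' n)) := by
  obtain ⟨V, τ, hxV, hτ⟩ := exists_isGen hM (g.base t)
  obtain ⟨a, ha⟩ := hτ.self.2 (sv α V)
  obtain ⟨b, hb⟩ := hτ.self.2 (sv β V)
  have ha' : sv α V = a • τ := ha.symm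
  have hb' : sv β V = b • τ := hb.symm
  obtain ⟨_, ⟨c, rfl⟩, htc, hcV⟩ := Opens.isBasis_iff_nbhd.mp (isBasis_basicOpen T)
    (show t ∈ g ⁻¹ᵁ V from hxV)
  have hsurj : Function.Surjective (algebraMap Γ(T, ⊤) Γ(T, T.basicOpen c)) :=
    surjective_algebraMap_away (k := k) c
  obtain ⟨a', ha2⟩ := hsurj ((g.appLE V (T.basicOpen c) hcV).hom a)
  obtain ⟨b', hb2⟩ := hsurj ((g.appLE V (T.basicOpen c) hcV).hom b)
  have key : ∀ (r' : Γ(T, ⊤)) (r : Γ(X, V)),
      algebraMap Γ(T, ⊤) Γ(T, T.basicOpen c) r' = (g.appLE V (T.basicOpen c) hcV).hom r →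
      ∀ t' ∈ T.basicOpen c, (g.base t' ∈ X.basicOpen r ↔ t' ∈ T.basicOpen r') := by
    intro r' r h t' ht'
    refine (mem_basicOpen_appLE g hcV r t' ht').trans ?_
    rw [← h]
    have h5 : T.basicOpen (algebraMap Γ(T, ⊤) Γ(T, T.basicOpen c) r') =
        T.basicOpen c ⊓ T.basicOpen r' :=
      Scheme.basicOpen_res T r' (homOfLE (T.basicOpen_le c)).op
    rw [h5]
    exact ⟨fun h => h.2, fun h => ⟨ht', h⟩⟩
  refine ⟨c, a', b', htc, fun t' ht' => ⟨?_, ?_, fun n => ?_⟩⟩
  · exact (mem_genLocus_iff_of_isGen α hτ a ha' (g.base t') (hcV ht')).trans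
      (key a' a ha2 t' ht')
  · exact (mem_genLocus_iff_of_isGen β hτ b hb' (g.base t') (hcV ht')).trans
      (key b' b hb2 t' ht')
  · refine (mem_genLocus_hsec_iff α β hτ ha' hb' n (g.base t') (hcV ht')).trans
      (key (G a' b' n) (G a b n) ?_ t' ht')
    rw [map_G, map_G, ha2, hb2]

/-- The core: a single exponent works for all points of `T`. -/
theorem exists_good_n {M : X.Modules} (hM : PicF.IsInvertible M)
    (α β : Coh.structureModule X ⟶ M) {T : Scheme.{u}} [IsAffine T] (g : T ⟶ X)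
    (k : Type*) [Field k] [Algebra k Γ(T, ⊤)] [Algebra.IsIntegral k Γ(T, ⊤)] :
    ∃ n : ℕ, 1 ≤ n ∧ ∀ t : T, g.base t ∈ CohB1.genLocus M α ⊔ CohB1.genLocus M β →
      g.base t ∈ CohB1.genLocus (CohB1.tensorPow M n) (hsec α β n) := by
  classical
  choose c a' b' htc hloc using fun t : T => exists_piece hM α β g k t
  obtain ⟨S, hS⟩ := isCompact_univ.elim_finite_subcover
    (fun t : T => ((T.basicOpen (c t) : T.Opens) : Set T))
    (fun t => (T.basicOpen (c t)).isOpen) (fun t _ => Set.mem_iUnion.mpr ⟨t, htc t⟩)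
  have hfin : ((fun t => c t) '' (S : Set T) ∪ (fun t => a' t) '' (S : Set T) ∪
      (fun t => b' t) '' (S : Set T)).Finite :=
    ((S.finite_toSet.image _).union (S.finite_toSet.image _)).union (S.finite_toSet.image _)
  haveI : Module.Finite k (Algebra.adjoin k ((fun t => c t) '' (S : Set T) ∪
      (fun t => a' t) '' (S : Set T) ∪ (fun t => b' t) '' (S : Set T))) :=
    Algebra.finite_adjoin_of_finite_of_isIntegral hfin
      (fun x _ => Algebra.IsIntegral.isIntegral x)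
  generalize hK : Algebra.adjoin k ((fun t => c t) '' (S : Set T) ∪
      (fun t => a' t) '' (S : Set T) ∪ (fun t => b' t) '' (S : Set T)) = K at *
  haveI : IsArtinianRing K := IsArtinianRing.of_finite k K
  have hcK : ∀ s ∈ S, c s ∈ K := fun s hs => by
    rw [← hK]
    exact Algebra.subset_adjoin (Or.inl (Or.inl ⟨s, Finset.mem_coe.mpr hs, rfl⟩))
  have haK : ∀ s ∈ S, a' s ∈ K := fun s hs => by
    rw [← hK]
    exact Algebra.subset_adjoin (Or.inl (Or.inr ⟨s, Finset.mem_coe.mpr hs, rfl⟩))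
  have hbK : ∀ s ∈ S, b' s ∈ K := fun s hs => by
    rw [← hK]
    exact Algebra.subset_adjoin (Or.inr ⟨s, Finset.mem_coe.mpr hs, rfl⟩)
  let cl : T → PrimeSpectrum K := fun t =>
    ⟨(ptIdeal T t).comap K.val, Ideal.comap_isPrime _ _⟩
  have hKmem : ∀ (r : Γ(T, ⊤)), r ∈ K → ∀ t t' : T, cl t = cl t' →
      (t ∈ T.basicOpen r ↔ t' ∈ T.basicOpen r) := by
    intro r hr t t' h
    rw [mem_basicOpen_iff_notMem_ptIdeal, mem_basicOpen_iff_notMem_ptIdeal]
    have h1 : (⟨r, hr⟩ : K) ∈ (cl t).asIdeal ↔ (⟨r, hr⟩ : K) ∈ (cl t').asIdeal := by rw [h]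
    exact not_congr h1
  have hinv : ∀ t t' : T, cl t = cl t' → ∀ p : ℕ,
      (g.base t ∈ CohB1.genLocus M α ⊔ CohB1.genLocus M β ∧
        g.base t ∉ CohB1.genLocus (CohB1.tensorPow M (p - 1)) (hsec α β (p - 1))) →
      (g.base t' ∈ CohB1.genLocus M α ⊔ CohB1.genLocus M β ∧
        g.base t' ∉ CohB1.genLocus (CohB1.tensorPow M (p - 1)) (hsec α β (p - 1))) := by
    rintro t t' h p ⟨h1, h2⟩
    have hmem : t ∈ ⋃ s ∈ S, ((T.basicOpen (c s) : T.Opens) : Set T) := hS (Set.mem_univ t)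
    obtain ⟨s, hsS, hts⟩ : ∃ s ∈ S, t ∈ T.basicOpen (c s) := by simpa using hmem
    have ht's : t' ∈ T.basicOpen (c s) := (hKmem _ (hcK s hsS) t t' h).mp hts
    obtain ⟨eα, eβ, en⟩ := hloc s t hts
    obtain ⟨eα', eβ', en'⟩ := hloc s t' ht's
    refine ⟨?_, ?_⟩
    · rcases Opens.mem_sup.mp h1 with h3 | h3
      · exact Opens.mem_sup.mpr (Or.inl (eα'.mpr ((hKmem _ (haK s hsS) t t' h).mp (eα.mp h3))))
      · exact Opens.mem_sup.mpr (Or.inr (eβ'.mpr ((hKmem _ (hbK s hsS) t t' h).mp (eβ.mp h3))))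
    · intro h3
      exact h2 ((en (p - 1)).mpr ((hKmem _ (G_mem K (haK s hsS) (hbK s hsS) (p - 1)) t t' h).mpr
        ((en' (p - 1)).mp h3)))
  have hBfin : {p : ℕ | p.Prime ∧ ∃ t : T,
      g.base t ∈ CohB1.genLocus M α ⊔ CohB1.genLocus M β ∧
        g.base t ∉ CohB1.genLocus (CohB1.tensorPow M (p - 1)) (hsec α β (p - 1))}.Finite := by
    have hsub : {p : ℕ | p.Prime ∧ ∃ t : T,
        g.base t ∈ CohB1.genLocus M α ⊔ CohB1.genLocus M β ∧
          g.base t ∉ CohB1.genLocus (CohB1.tensorPow M (p - 1)) (hsec α β (p - 1))} ⊆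
        ⋃ κ : PrimeSpectrum K, {p : ℕ | p.Prime ∧ ∃ t : T, cl t = κ ∧
          (g.base t ∈ CohB1.genLocus M α ⊔ CohB1.genLocus M β ∧
            g.base t ∉ CohB1.genLocus (CohB1.tensorPow M (p - 1)) (hsec α β (p - 1)))} := by
      rintro p ⟨hp, t, ht⟩
      exact Set.mem_iUnion.mpr ⟨cl t, hp, t, rfl, ht⟩
    refine (Set.finite_iUnion (fun κ => ?_)).subset hsub
    apply Set.Subsingleton.finite
    rintro p ⟨hp, t, hκ, hb⟩ q ⟨hq, t', hκ', hb'⟩
    have hb'' := hinv t' t (hκ'.trans hκ.symm) q hb'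
    exact bad_unique hM α β (g.base t) hb.1 hp hq hb.2 hb''.2
  obtain ⟨p, hp1, hp2⟩ := (Nat.infinite_setOfPred_prime.sdiff hBfin).nonempty
  have hp : p.Prime := hp1
  refine ⟨p - 1, by have := hp.two_le; omega, fun t ht => ?_⟩
  by_contra h
  exact hp2 ⟨hp, t, ht, h⟩

/-! ### Two sections of powers of `L` -/

theorem two {L : X.Modules} (hL : PicF.IsInvertible L) {T : Scheme.{u}} [IsAffine T]
    (g : T ⟶ X) (k : Type*) [Field k] [Algebra k Γ(T, ⊤)] [Algebra.IsIntegral k Γ(T, ⊤)]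
    {a b : ℕ} (s₁ : Coh.structureModule X ⟶ CohB1.tensorPow L (a + 1))
    (s₂ : Coh.structureModule X ⟶ CohB1.tensorPow L (b + 1)) :
    ∃ (N : ℕ) (σ : Coh.structureModule X ⟶ CohB1.tensorPow L (N + 1)),
      CohB1.genLocus _ σ ≤ CohB1.genLocus _ s₁ ⊔ CohB1.genLocus _ s₂ ∧
      (∀ t : T, g.base t ∈ CohB1.genLocus _ s₁ ⊔ CohB1.genLocus _ s₂ →
        g.base t ∈ CohB1.genLocus _ σ) ∧
      (IsAffineOpen (CohB1.genLocus _ s₁) → IsAffineOpen (CohB1.genLocus _ s₂) →
        IsAffineOpen (CohB1.genLocus _ σ)) := by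
  obtain ⟨e₁⟩ := nonempty_tensorPow_tensorPow hL (a + 1) (b + 1)
  obtain ⟨c₁⟩ := nonempty_tensorPow_congr L
    (show (a + 1) * (b + 1) = (a * b + a + b) + 1 by ring)
  obtain ⟨e₂⟩ := nonempty_tensorPow_tensorPow hL (b + 1) (a + 1)
  obtain ⟨c₂⟩ := nonempty_tensorPow_congr L
    (show (b + 1) * (a + 1) = (a * b + a + b) + 1 by ring)
  have hM := isInvertible_tensorPow hL ((a * b + a + b) + 1)
  have h1 : CohB1.genLocus _ (SecTwist.powHom s₁ (b + 1) ≫ (e₁ ≪≫ c₁).hom) =
      CohB1.genLocus _ s₁ := by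
    rw [TwistAmple.genLocus_comp_iso, genLocus_powHom_succ (isInvertible_tensorPow hL (a + 1))]
  have h2 : CohB1.genLocus _ (SecTwist.powHom s₂ (a + 1) ≫ (e₂ ≪≫ c₂).hom) =
      CohB1.genLocus _ s₂ := by
    rw [TwistAmple.genLocus_comp_iso, genLocus_powHom_succ (isInvertible_tensorPow hL (b + 1))]
  generalize SecTwist.powHom s₁ (b + 1) ≫ (e₁ ≪≫ c₁).hom = α at h1
  generalize SecTwist.powHom s₂ (a + 1) ≫ (e₂ ≪≫ c₂).hom = β at h2
  obtain ⟨n, hn1, hn⟩ := exists_good_n hM α β g k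
  obtain ⟨m, rfl⟩ := Nat.exists_eq_add_one_of_ne_zero (Nat.one_le_iff_ne_zero.mp hn1)
  obtain ⟨e₃⟩ := nonempty_tensorPow_tensorPow hL ((a * b + a + b) + 1) (m + 1)
  obtain ⟨c₃⟩ := nonempty_tensorPow_congr L
    (show ((a * b + a + b) + 1) * (m + 1) =
      ((a * b + a + b) * m + (a * b + a + b) + m) + 1 by ring)
  refine ⟨(a * b + a + b) * m + (a * b + a + b) + m,
    hsec α β (m + 1) ≫ (e₃ ≪≫ c₃).hom, ?_, ?_, ?_⟩
  · rw [TwistAmple.genLocus_comp_iso, ← h1, ← h2]
    exact genLocus_hsec_le hM α β m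
  · intro t ht
    rw [TwistAmple.genLocus_comp_iso]
    rw [← h1, ← h2] at ht
    exact hn t ht
  · intro ha hb
    rw [TwistAmple.genLocus_comp_iso]
    rw [← h1] at ha
    rw [← h2] at hb
    exact isAffineOpen_genLocus_hsec hM α β ha hb m

/-! ### Main theorem -/

theorem main {L : X.Modules} (hL : CohB1.IsAmple L) {T : Scheme.{u}} [IsAffine T] (g : T ⟶ X)
    (k : Type*) [Field k] [Algebra k Γ(T, ⊤)] [Algebra.IsIntegral k Γ(T, ⊤)]
    (W : X.Opens) (hg : Set.range g.base ⊆ (W : Set X)) :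
    ∃ (n : ℕ) (s : Coh.structureModule X ⟶ CohB1.tensorPow L (n + 1)),
      IsAffineOpen (CohB1.genLocus _ s) ∧ CohB1.genLocus _ s ≤ W ∧
        Set.range g.base ⊆ (CohB1.genLocus _ s : Set X) := by
  classical
  have hinv := hL.1
  have hpt : ∀ t : T, ∃ (n : ℕ) (s : Coh.structureModule X ⟶ CohB1.tensorPow L (n + 1)),
      g.base t ∈ CohB1.genLocus _ s ∧ CohB1.genLocus _ s ≤ W ∧
        IsAffineOpen (CohB1.genLocus _ s) := by
    intro t
    obtain ⟨n, s, h1, h2, h3⟩ := FinPtsAmple.exists_pow_section_affine_of_finite hL W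
      {g.base t} (Set.finite_singleton _) (Set.singleton_subset_iff.mpr (hg ⟨t, rfl⟩))
    exact ⟨n, s, h1 (Set.mem_singleton _), h2, h3⟩
  choose n s hs1 hs2 hs3 using hpt
  obtain ⟨S, hS⟩ := isCompact_univ.elim_finite_subcover
    (fun t : T => ((g ⁻¹ᵁ CohB1.genLocus _ (s t) : T.Opens) : Set T))
    (fun t => (g ⁻¹ᵁ CohB1.genLocus _ (s t)).isOpen)
    (fun t _ => Set.mem_iUnion.mpr ⟨t, hs1 t⟩)
  have key : ∀ S : Finset T, ∃ (N : ℕ)
      (σ : Coh.structureModule X ⟶ CohB1.tensorPow L (N + 1)),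
      CohB1.genLocus _ σ ≤ W ∧ IsAffineOpen (CohB1.genLocus _ σ) ∧
      ∀ t' : T, (∃ t ∈ S, g.base t' ∈ CohB1.genLocus _ (s t)) →
        g.base t' ∈ CohB1.genLocus _ σ := by
    intro S
    induction S using Finset.induction_on with
    | empty =>
      refine ⟨0, 0, ?_, ?_, ?_⟩
      · rw [genLocus_zero (isInvertible_tensorPow hinv 1)]
        exact bot_le
      · rw [genLocus_zero (isInvertible_tensorPow hinv 1)]
        exact isAffineOpen_bot X
      · rintro t' ⟨t, ht, -⟩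
        exact absurd ht (Finset.notMem_empty t)
    | insert t₀ S hnot ih =>
      obtain ⟨N, σ, h1, h2, h3⟩ := ih
      obtain ⟨N', σ', g1, g2, g3⟩ := two hinv g k σ (s t₀)
      refine ⟨N', σ', g1.trans (sup_le h1 (hs2 t₀)), g3 h2 (hs3 t₀), ?_⟩
      rintro t' ⟨t, ht, htt⟩
      rcases Finset.mem_insert.mp ht with h | h
      · rw [h] at htt
        exact g2 t' (Opens.mem_sup.mpr (Or.inr htt))
      · exact g2 t' (Opens.mem_sup.mpr (Or.inl (h3 t' ⟨t, h, htt⟩)))
  obtain ⟨N, σ, h1, h2, h3⟩ := key S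
  refine ⟨N, σ, h2, h1, ?_⟩
  rintro _ ⟨t', rfl⟩
  have hmem : t' ∈ ⋃ t ∈ S, ((g ⁻¹ᵁ CohB1.genLocus _ (s t) : T.Opens) : Set T) :=
    hS (Set.mem_univ t')
  obtain ⟨t, ht, htt⟩ : ∃ t ∈ S, g.base t' ∈ CohB1.genLocus _ (s t) := by simpa using hmem
  exact h3 t' ⟨t, ht, htt⟩

/-- The statement for `T = Spec A`. -/
theorem main_spec {L : X.Modules} (hL : CohB1.IsAmple L)
    (k A : Type u) [Field k] [CommRing A] [Algebra k A] [Algebra.IsIntegral k A]
    (W : X.Opens) (g : Spec (CommRingCat.of A) ⟶ X) (hg : Set.range g.base ⊆ (W : Set X)) :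
    ∃ (n : ℕ) (s : Coh.structureModule X ⟶ CohB1.tensorPow L (n + 1)),
      IsAffineOpen (CohB1.genLocus _ s) ∧ CohB1.genLocus _ s ≤ W ∧
        Set.range g.base ⊆ (CohB1.genLocus _ s : Set X) := by
  letI : Algebra k Γ(Spec (CommRingCat.of A), ⊤) :=
    ((Scheme.ΓSpecIso (CommRingCat.of A)).inv.hom.comp (algebraMap k A)).toAlgebra
  haveI : Algebra.IsIntegral k Γ(Spec (CommRingCat.of A), ⊤) := by
    refine ⟨fun x => ?_⟩
    obtain ⟨p, hp, hpx⟩ := Algebra.IsIntegral.isIntegral (R := k)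
      ((Scheme.ΓSpecIso (CommRingCat.of A)).hom.hom x)
    have h := congrArg (Scheme.ΓSpecIso (CommRingCat.of A)).inv.hom hpx
    rw [Polynomial.hom_eval₂, map_zero] at h
    have hx : (Scheme.ΓSpecIso (CommRingCat.of A)).inv.hom
        ((Scheme.ΓSpecIso (CommRingCat.of A)).hom.hom x) = x := by
      have := congrArg (fun f => f.hom x) (Scheme.ΓSpecIso (CommRingCat.of A)).hom_inv_id
      exact this
    rw [hx] at h
    exact ⟨p, hp, h⟩
  exact main hL g k W hg

end Groth.Agent.H86.IntegralPts
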