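import Mathlib

/-!
# Intertwiners of semisimple endomorphisms (helper86, for S16837)

`dim Hom_{K[t]}(V₁, V₂) = Σ_P mult_P(f₁) mult_P(f₂) deg P` for semisimple `π₁`, `π₂`.
Proof: induction on `dim V₁ + dim V₂`, splitting off invariant complements; base case: both simple.
-/

set_option autoImplicit false
universe u v w

open scoped Classical
open Polynomial UniqueFactorizationMonoid

namespace Groth.Agent.H86.Intertw

variable {K : Type u} [Field K]

section basic

variable {V₁ : Type*} {V₂ : Type*} [AddCommGroup V₁] [Module K V₁] [AddCommGroup V₂] [Module K V₂]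

/-- operator whose kernel is the space of intertwiners -/
noncomputable def T (π₁ : Module.End K V₁) (π₂ : Module.End K V₂) :
    (V₁ →ₗ[K] V₂) →ₗ[K] (V₁ →ₗ[K] V₂) :=
  LinearMap.lcomp K V₂ π₁ - LinearMap.llcomp K V₁ V₂ V₂ π₂

lemma T_apply_apply (π₁ : Module.End K V₁) (π₂ : Module.End K V₂) (h : V₁ →ₗ[K] V₂) (x : V₁) :
    T π₁ π₂ h x = h (π₁ x) - π₂ (h x) := by
  first
    | rfl
    | simp [T]

lemma mem_ker_T {π₁ : Module.End K V₁} {π₂ : Module.End K V₂} {h : V₁ →ₗ[K] V₂} :
    h ∈ LinearMap.ker (T π₁ π₂) ↔ ∀ x, h (π₁ x) = π₂ (h x) := by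
  rw [LinearMap.mem_ker]
  constructor
  · intro hh x
    have h1 : T π₁ π₂ h x = (0 : V₁ →ₗ[K] V₂) x := by rw [hh]
    rw [T_apply_apply, LinearMap.zero_apply, sub_eq_zero] at h1
    exact h1
  · intro hh
    apply LinearMap.ext
    intro x
    rw [T_apply_apply, LinearMap.zero_apply, sub_eq_zero]
    exact hh x

lemma finrank_ker_conj {M : Type*} {M' : Type*} [AddCommGroup M] [Module K M]
    [AddCommGroup M'] [Module K M']
    (Φ : M ≃ₗ[K] M') (A : M →ₗ[K] M) (A' : M' →ₗ[K] M') (h : ∀ x, Φ (A x) = A' (Φ x)) :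
    Module.finrank K (LinearMap.ker A) = Module.finrank K (LinearMap.ker A') := by
  have hmap : (LinearMap.ker A).map (Φ : M →ₗ[K] M') = LinearMap.ker A' := by
    ext y
    constructor
    · intro hy
      obtain ⟨x, hx, rfl⟩ := Submodule.mem_map.1 hy
      rw [LinearMap.mem_ker] at hx ⊢
      show A' (Φ x) = 0
      rw [← h, hx, map_zero]
    · intro hy
      rw [LinearMap.mem_ker] at hy
      refine Submodule.mem_map.2 ⟨Φ.symm y, ?_, ?_⟩
      · rw [LinearMap.mem_ker]
        apply Φ.injective
        rw [h, LinearEquiv.apply_symm_apply, hy, map_zero]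
      · show Φ (Φ.symm y) = y
        exact Φ.apply_symm_apply y
  rw [← hmap]
  exact (LinearEquiv.finrank_map_eq Φ (LinearMap.ker A)).symm

lemma finrank_ker_prodMap {M : Type*} {N : Type*} [AddCommGroup M] [Module K M]
    [AddCommGroup N] [Module K N] [FiniteDimensional K M] [FiniteDimensional K N]
    (A : M →ₗ[K] M) (B : N →ₗ[K] N) :
    Module.finrank K (LinearMap.ker (A.prodMap B)) =
      Module.finrank K (LinearMap.ker A) + Module.finrank K (LinearMap.ker B) := by
  have e : ↥(LinearMap.ker (A.prodMap B)) ≃ₗ[K] (↥(LinearMap.ker A) × ↥(LinearMap.ker B)) :=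
    { toFun := fun x => (⟨x.1.1, by
          have h := x.2
          rw [LinearMap.mem_ker, LinearMap.prodMap_apply, Prod.mk_eq_zero] at h
          exact LinearMap.mem_ker.2 h.1⟩, ⟨x.1.2, by
          have h := x.2
          rw [LinearMap.mem_ker, LinearMap.prodMap_apply, Prod.mk_eq_zero] at h
          exact LinearMap.mem_ker.2 h.2⟩)
      map_add' := fun x y => Prod.ext (Subtype.ext rfl) (Subtype.ext rfl)
      map_smul' := fun c x => Prod.ext (Subtype.ext rfl) (Subtype.ext rfl)
      invFun := fun y => ⟨(y.1.1, y.2.1), by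
          rw [LinearMap.mem_ker, LinearMap.prodMap_apply, Prod.mk_eq_zero]
          exact ⟨LinearMap.mem_ker.1 y.1.2, LinearMap.mem_ker.1 y.2.2⟩⟩
      left_inv := fun x => Subtype.ext rfl
      right_inv := fun y => Prod.ext (Subtype.ext rfl) (Subtype.ext rfl) }
  rw [e.finrank_eq, Module.finrank_prod]

lemma r_congr_left {V₁' : Type*} [AddCommGroup V₁'] [Module K V₁']
    (e : V₁' ≃ₗ[K] V₁) (π₁' : Module.End K V₁') (π₁ : Module.End K V₁) (π₂ : Module.End K V₂)
    (he : ∀ x, e (π₁' x) = π₁ (e x)) :
    Module.finrank K (LinearMap.ker (T π₁' π₂)) = Module.finrank K (LinearMap.ker (T π₁ π₂)) := by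
  symm
  refine finrank_ker_conj (LinearEquiv.arrowCongr e.symm (LinearEquiv.refl K V₂))
    (T π₁ π₂) (T π₁' π₂) ?_
  intro h
  apply LinearMap.ext
  intro x
  simp only [LinearEquiv.arrowCongr_apply, T_apply_apply, LinearEquiv.refl_apply,
    LinearEquiv.symm_symm, he]

lemma r_congr_right {V₂' : Type*} [AddCommGroup V₂'] [Module K V₂']
    (e : V₂' ≃ₗ[K] V₂) (π₁ : Module.End K V₁) (π₂' : Module.End K V₂') (π₂ : Module.End K V₂)
    (he : ∀ x, e (π₂' x) = π₂ (e x)) :
    Module.finrank K (LinearMap.ker (T π₁ π₂')) = Module.finrank K (LinearMap.ker (T π₁ π₂)) := by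
  refine finrank_ker_conj (LinearEquiv.arrowCongr (LinearEquiv.refl K V₁) e)
    (T π₁ π₂') (T π₁ π₂) ?_
  intro h
  apply LinearMap.ext
  intro x
  simp only [LinearEquiv.arrowCongr_apply, T_apply_apply, LinearEquiv.refl_symm,
    LinearEquiv.refl_apply, map_sub, he]

lemma r_prod_left {U : Type*} {W : Type*} [AddCommGroup U] [Module K U] [AddCommGroup W]
    [Module K W] [FiniteDimensional K U] [FiniteDimensional K W] [FiniteDimensional K V₂]
    (a : Module.End K U) (b : Module.End K W) (π₂ : Module.End K V₂) :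
    Module.finrank K (LinearMap.ker (T (a.prodMap b) π₂)) =
      Module.finrank K (LinearMap.ker (T a π₂)) + Module.finrank K (LinearMap.ker (T b π₂)) := by
  rw [← finrank_ker_prodMap (T a π₂) (T b π₂)]
  symm
  refine finrank_ker_conj (LinearMap.coprodEquiv K) ((T a π₂).prodMap (T b π₂))
    (T (a.prodMap b) π₂) ?_
  intro x
  apply LinearMap.ext
  intro y
  simp only [LinearMap.coprodEquiv_apply, LinearMap.prodMap_apply, T_apply_apply,
    LinearMap.coprod_apply, map_add]
  abel

lemma r_prod_right {U : Type*} {W : Type*} [AddCommGroup U] [Module K U] [AddCommGroup W]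
    [Module K W] [FiniteDimensional K U] [FiniteDimensional K W] [FiniteDimensional K V₁]
    (π₁ : Module.End K V₁) (a : Module.End K U) (b : Module.End K W) :
    Module.finrank K (LinearMap.ker (T π₁ (a.prodMap b))) =
      Module.finrank K (LinearMap.ker (T π₁ a)) + Module.finrank K (LinearMap.ker (T π₁ b)) := by
  rw [← finrank_ker_prodMap (T π₁ a) (T π₁ b)]
  symm
  refine finrank_ker_conj (LinearMap.prodEquiv K) ((T π₁ a).prodMap (T π₁ b))
    (T π₁ (a.prodMap b)) ?_
  intro x
  apply LinearMap.ext
  intro y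
  show ((T π₁ a x.1) y, (T π₁ b x.2) y) = (x.1 (π₁ y), x.2 (π₁ y)) - (a (x.1 y), b (x.2 y))
  rw [T_apply_apply, T_apply_apply, Prod.mk_sub_mk]

end basic

section Rfun

/-- the right-hand side of the formula -/
noncomputable def Rfun (f g : K[X]) : ℕ :=
  ∑ P ∈ (normalizedFactors f).toFinset,
    (normalizedFactors f).count P * (normalizedFactors g).count P * P.natDegree

lemma Rfun_eq_sum {f g : K[X]} {S : Finset K[X]} (hS : (normalizedFactors f).toFinset ⊆ S) :
    Rfun f g = ∑ P ∈ S,
      (normalizedFactors f).count P * (normalizedFactors g).count P * P.natDegree := by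
  unfold Rfun
  apply Finset.sum_subset hS
  intro P _ hP
  have h0 : (normalizedFactors f).count P = 0 :=
    Multiset.count_eq_zero.2 (fun h => hP (Multiset.mem_toFinset.2 h))
  rw [h0, zero_mul, zero_mul]

lemma Rfun_mul_left {f f' : K[X]} (hf : f ≠ 0) (hf' : f' ≠ 0) (g : K[X]) :
    Rfun (f * f') g = Rfun f g + Rfun f' g := by
  have hnf : normalizedFactors (f * f') = normalizedFactors f + normalizedFactors f' :=
    normalizedFactors_mul hf hf'
  have h1 : (normalizedFactors f).toFinset ⊆ (normalizedFactors (f * f')).toFinset := by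
    rw [hnf, Multiset.toFinset_add]; exact Finset.subset_union_left
  have h2 : (normalizedFactors f').toFinset ⊆ (normalizedFactors (f * f')).toFinset := by
    rw [hnf, Multiset.toFinset_add]; exact Finset.subset_union_right
  rw [Rfun_eq_sum h1, Rfun_eq_sum h2, Rfun, ← Finset.sum_add_distrib]
  apply Finset.sum_congr rfl
  intro P _
  rw [hnf, Multiset.count_add]
  ring

lemma Rfun_mul_right (f : K[X]) {g g' : K[X]} (hg : g ≠ 0) (hg' : g' ≠ 0) :
    Rfun f (g * g') = Rfun f g + Rfun f g' := by
  have hnf : normalizedFactors (g * g') = normalizedFactors g + normalizedFactors g' :=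
    normalizedFactors_mul hg hg'
  unfold Rfun
  rw [← Finset.sum_add_distrib]
  apply Finset.sum_congr rfl
  intro P _
  rw [hnf, Multiset.count_add]
  ring

end Rfun

section decomp

variable {V : Type*} [AddCommGroup V] [Module K V] [FiniteDimensional K V]

lemma charpoly_decomp (π : Module.End K V) {U W : Submodule K V}
    (hU : U ∈ Module.End.invtSubmodule π) (hW : W ∈ Module.End.invtSubmodule π)
    (hc : IsCompl U W) :
    ∃ e : (↥U × ↥W) ≃ₗ[K] V,
      (∀ x, e (((LinearMap.restrict π hU).prodMap (LinearMap.restrict π hW)) x) = π (e x)) ∧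
      LinearMap.charpoly π =
        LinearMap.charpoly (LinearMap.restrict π hU) * LinearMap.charpoly (LinearMap.restrict π hW) := by
  obtain ⟨e, he⟩ : ∃ e : (↥U × ↥W) ≃ₗ[K] V, ∀ x, e x = (x.1 : V) + (x.2 : V) :=
    ⟨Submodule.prodEquivOfIsCompl U W hc, fun x => Submodule.coe_prodEquivOfIsCompl' U W hc x⟩
  have hcomm : ∀ x, e (((LinearMap.restrict π hU).prodMap (LinearMap.restrict π hW)) x)
      = π (e x) := by
    intro x
    rw [he, he, LinearMap.prodMap_apply, map_add]
    rfl
  refine ⟨e, hcomm, ?_⟩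
  have hconj : e.conj ((LinearMap.restrict π hU).prodMap (LinearMap.restrict π hW)) = π := by
    apply LinearMap.ext
    intro x
    obtain ⟨y, rfl⟩ := e.surjective x
    rw [LinearEquiv.conj_apply_apply, LinearEquiv.symm_apply_apply, hcomm]
  calc LinearMap.charpoly π
      = LinearMap.charpoly
          (e.conj ((LinearMap.restrict π hU).prodMap (LinearMap.restrict π hW))) := by
        rw [hconj]
    _ = LinearMap.charpoly ((LinearMap.restrict π hU).prodMap (LinearMap.restrict π hW)) :=
        LinearEquiv.charpoly_conj e _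
    _ = _ := LinearMap.charpoly_prodMap _ _

/-- `π` has no nontrivial proper invariant subspace (the zero space is allowed). -/
def Simple (π : Module.End K V) : Prop :=
  ∀ p ∈ Module.End.invtSubmodule π, p = ⊥ ∨ p = ⊤

lemma exists_decomp_or_simple (π : Module.End K V) (h : π.IsSemisimple) :
    Simple π ∨ ∃ U W : Submodule K V, U ∈ Module.End.invtSubmodule π ∧
      W ∈ Module.End.invtSubmodule π ∧ IsCompl U W ∧
      Module.finrank K U < Module.finrank K V ∧ Module.finrank K W < Module.finrank K V := by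
  by_cases hs : Simple π
  · exact Or.inl hs
  · right
    unfold Simple at hs
    push_neg at hs
    obtain ⟨U, hU, hU0, hU1⟩ := hs
    obtain ⟨W, hW, hc⟩ := Module.End.isSemisimple_iff.1 h U hU
    have hsum := Submodule.finrank_add_eq_of_isCompl hc
    have hUpos : 0 < Module.finrank K U := by
      rw [Nat.pos_iff_ne_zero]
      intro h0
      exact hU0 (Submodule.finrank_eq_zero.1 h0)
    have hW0 : W ≠ ⊥ := by
      intro hWb
      apply hU1
      have h1 := hc.sup_eq_top
      rw [hWb, sup_bot_eq] at h1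
      exact h1
    have hWpos : 0 < Module.finrank K W := by
      rw [Nat.pos_iff_ne_zero]
      intro h0
      exact hW0 (Submodule.finrank_eq_zero.1 h0)
    exact ⟨U, W, hU, hW, hc, by omega, by omega⟩

end decomp

section decomp2

variable {V₁ : Type*} {V₂ : Type*} [AddCommGroup V₁] [Module K V₁] [AddCommGroup V₂] [Module K V₂]
  [FiniteDimensional K V₁] [FiniteDimensional K V₂]

lemma decomp_left (π₁ : Module.End K V₁) (π₂ : Module.End K V₂) {U W : Submodule K V₁}
    (hU : U ∈ Module.End.invtSubmodule π₁) (hW : W ∈ Module.End.invtSubmodule π₁)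
    (hc : IsCompl U W) :
    Module.finrank K (LinearMap.ker (T π₁ π₂)) =
        Module.finrank K (LinearMap.ker (T (LinearMap.restrict π₁ hU) π₂)) +
        Module.finrank K (LinearMap.ker (T (LinearMap.restrict π₁ hW) π₂)) ∧
      LinearMap.charpoly π₁ =
        LinearMap.charpoly (LinearMap.restrict π₁ hU) *
          LinearMap.charpoly (LinearMap.restrict π₁ hW) := by
  obtain ⟨e, hcomm, hch⟩ := charpoly_decomp π₁ hU hW hc
  refine ⟨?_, hch⟩
  rw [← r_congr_left e ((LinearMap.restrict π₁ hU).prodMap (LinearMap.restrict π₁ hW)) π₁ π₂ hcomm]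
  exact r_prod_left _ _ _

lemma decomp_right (π₁ : Module.End K V₁) (π₂ : Module.End K V₂) {U W : Submodule K V₂}
    (hU : U ∈ Module.End.invtSubmodule π₂) (hW : W ∈ Module.End.invtSubmodule π₂)
    (hc : IsCompl U W) :
    Module.finrank K (LinearMap.ker (T π₁ π₂)) =
        Module.finrank K (LinearMap.ker (T π₁ (LinearMap.restrict π₂ hU))) +
        Module.finrank K (LinearMap.ker (T π₁ (LinearMap.restrict π₂ hW))) ∧
      LinearMap.charpoly π₂ =
        LinearMap.charpoly (LinearMap.restrict π₂ hU) *
          LinearMap.charpoly (LinearMap.restrict π₂ hW) := by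
  obtain ⟨e, hcomm, hch⟩ := charpoly_decomp π₂ hU hW hc
  refine ⟨?_, hch⟩
  rw [← r_congr_right e π₁ ((LinearMap.restrict π₂ hU).prodMap (LinearMap.restrict π₂ hW)) π₂ hcomm]
  exact r_prod_right _ _ _

end decomp2

section simple

variable {V : Type*} [AddCommGroup V] [Module K V]

/-- `p ↦ p(π) v`. -/
noncomputable def orb (π : Module.End K V) (v : V) : K[X] →ₗ[K] V where
  toFun p := (aeval π p) v
  map_add' p q := by rw [map_add, LinearMap.add_apply]
  map_smul' c p := by rw [map_smul, LinearMap.smul_apply, RingHom.id_apply]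

lemma orb_apply (π : Module.End K V) (v : V) (p : K[X]) : orb π v p = (aeval π p) v := rfl

lemma orb_X_mul (π : Module.End K V) (v : V) (p : K[X]) :
    orb π v (X * p) = π (orb π v p) := by
  rw [orb_apply, orb_apply, map_mul, aeval_X]
  rfl

lemma orb_one (π : Module.End K V) (v : V) : orb π v 1 = v := by
  rw [orb_apply, map_one]
  rfl

lemma aeval_comm_apply (π : Module.End K V) (p q : K[X]) (x : V) :
    (aeval π p) ((aeval π q) x) = (aeval π q) ((aeval π p) x) := by
  have h1 : (aeval π p) ((aeval π q) x) = (aeval π (p * q)) x := by rw [map_mul]; rfl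
  have h2 : (aeval π q) ((aeval π p) x) = (aeval π (q * p)) x := by rw [map_mul]; rfl
  rw [h1, h2, mul_comm]

lemma range_orb_mem_invt (π : Module.End K V) (v : V) :
    LinearMap.range (orb π v) ∈ Module.End.invtSubmodule π := by
  rw [Module.End.mem_invtSubmodule_iff_forall_mem_of_mem]
  intro y hy
  obtain ⟨p, rfl⟩ := LinearMap.mem_range.1 hy
  exact LinearMap.mem_range.2 ⟨X * p, orb_X_mul π v p⟩

lemma ker_aeval_mem_invt (π : Module.End K V) (a : K[X]) :
    LinearMap.ker (aeval π a) ∈ Module.End.invtSubmodule π := by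
  rw [Module.End.mem_invtSubmodule_iff_forall_mem_of_mem]
  intro x hx
  rw [LinearMap.mem_ker] at hx ⊢
  have h := aeval_comm_apply π a X x
  rw [aeval_X] at h
  rw [h, hx, map_zero]

variable [FiniteDimensional K V]

lemma orb_surjective {π : Module.End K V} (hs : Simple π) {v : V} (hv : v ≠ 0) :
    Function.Surjective (orb π v) := by
  rw [← LinearMap.range_eq_top]
  rcases hs _ (range_orb_mem_invt π v) with h | h
  · exfalso
    have hmem : v ∈ LinearMap.range (orb π v) := LinearMap.mem_range.2 ⟨1, orb_one π v⟩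
    rw [h, Submodule.mem_bot] at hmem
    exact hv hmem
  · exact h

lemma aeval_eq_zero_of_orb_eq_zero {π : Module.End K V} {v : V}
    (hsurj : Function.Surjective (orb π v)) {p : K[X]} (hp : orb π v p = 0) :
    aeval π p = 0 := by
  apply LinearMap.ext
  intro x
  obtain ⟨q, rfl⟩ := hsurj x
  have h1 : (aeval π p) v = 0 := hp
  show (aeval π p) ((aeval π q) v) = 0
  rw [aeval_comm_apply, h1, map_zero]

lemma orb_eq_zero_iff {π : Module.End K V} {v : V}
    (hsurj : Function.Surjective (orb π v)) (p : K[X]) :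
    orb π v p = 0 ↔ minpoly K π ∣ p := by
  constructor
  · intro hp
    exact minpoly.dvd K π (aeval_eq_zero_of_orb_eq_zero hsurj hp)
  · rintro ⟨q, rfl⟩
    rw [orb_apply, map_mul, minpoly.aeval, zero_mul]
    rfl

lemma finrank_eq_natDegree_minpoly {π : Module.End K V} {v : V}
    (hsurj : Function.Surjective (orb π v)) :
    Module.finrank K V = (minpoly K π).natDegree := by
  have hker : LinearMap.ker (orb π v) =
      (Ideal.span {minpoly K π} : Ideal K[X]).restrictScalars K := by
    ext p
    rw [LinearMap.mem_ker, orb_eq_zero_iff hsurj, Submodule.restrictScalars_mem,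
      Ideal.mem_span_singleton]
  have e1 := (orb π v).quotKerEquivOfSurjective hsurj
  have e2 := Submodule.quotEquivOfEq _ _ hker
  have e3 := Submodule.Quotient.restrictScalarsEquiv K (Ideal.span {minpoly K π} : Ideal K[X])
  rw [← e1.finrank_eq, e2.finrank_eq, e3.finrank_eq, finrank_quotient_span_eq_natDegree]

lemma irreducible_minpoly [Nontrivial V] {π : Module.End K V} (hs : Simple π) :
    Irreducible (minpoly K π) := by
  have hmonic : (minpoly K π).Monic := minpoly.monic (LinearMap.isIntegral π)
  have hne : minpoly K π ≠ 0 := hmonic.ne_zero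
  rw [irreducible_iff]
  refine ⟨minpoly.not_isUnit K π, ?_⟩
  intro a b hab
  have h0 : aeval π a * aeval π b = 0 := by
    rw [← map_mul, ← hab, minpoly.aeval]
  rcases hs _ (ker_aeval_mem_invt π a) with h | h
  · left
    have hb : aeval π b = 0 := by
      apply LinearMap.ext
      intro x
      have hx : (aeval π b) x ∈ LinearMap.ker (aeval π a) := by
        rw [LinearMap.mem_ker]
        have h2 := LinearMap.congr_fun h0 x
        exact h2
      rw [h, Submodule.mem_bot] at hx
      rw [hx]
      rfl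
    obtain ⟨c, hc⟩ := minpoly.dvd K π hb
    have key : minpoly K π * (a * c) = minpoly K π * 1 := by
      calc minpoly K π * (a * c) = a * (minpoly K π * c) := by ring
        _ = a * b := by rw [← hc]
        _ = minpoly K π := hab.symm
        _ = minpoly K π * 1 := (mul_one _).symm
    have hac : a * c = 1 := mul_left_cancel₀ hne key
    exact IsUnit.of_mul_eq_one c hac
  · right
    have ha : aeval π a = 0 := by
      apply LinearMap.ext
      intro x
      have hx : x ∈ LinearMap.ker (aeval π a) := by rw [h]; exact Submodule.mem_top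
      rw [LinearMap.mem_ker] at hx
      rw [hx]
      rfl
    obtain ⟨c, hc⟩ := minpoly.dvd K π ha
    have key : minpoly K π * (b * c) = minpoly K π * 1 := by
      calc minpoly K π * (b * c) = (minpoly K π * c) * b := by ring
        _ = a * b := by rw [← hc]
        _ = minpoly K π := hab.symm
        _ = minpoly K π * 1 := (mul_one _).symm
    have hbc : b * c = 1 := mul_left_cancel₀ hne key
    exact IsUnit.of_mul_eq_one c hbc

lemma charpoly_eq_minpoly [Nontrivial V] {π : Module.End K V} (hs : Simple π) :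
    LinearMap.charpoly π = minpoly K π := by
  obtain ⟨v, hv⟩ := exists_ne (0 : V)
  have hsurj := orb_surjective hs hv
  apply Polynomial.eq_of_monic_of_dvd_of_natDegree_le (minpoly.monic (LinearMap.isIntegral π))
    (LinearMap.charpoly_monic π) (LinearMap.minpoly_dvd_charpoly π)
  exact le_of_eq (by rw [LinearMap.charpoly_natDegree, finrank_eq_natDegree_minpoly hsurj])

end simple

section simple2

variable {V₁ : Type*} {V₂ : Type*} [AddCommGroup V₁] [Module K V₁] [AddCommGroup V₂] [Module K V₂]

lemma intertw_pow {π₁ : Module.End K V₁} {π₂ : Module.End K V₂} {h : V₁ →ₗ[K] V₂}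
    (hh : ∀ x, h (π₁ x) = π₂ (h x)) (n : ℕ) (x : V₁) :
    h ((π₁ ^ n) x) = (π₂ ^ n) (h x) := by
  induction n generalizing x with
  | zero => simp
  | succ n ih =>
    rw [pow_succ, pow_succ, Module.End.mul_apply, Module.End.mul_apply, ih, hh]

lemma intertw_aeval {π₁ : Module.End K V₁} {π₂ : Module.End K V₂} {h : V₁ →ₗ[K] V₂}
    (hh : ∀ x, h (π₁ x) = π₂ (h x)) (p : K[X]) (x : V₁) :
    h ((aeval π₁ p) x) = (aeval π₂ p) (h x) := by
  rw [aeval_eq_sum_range, aeval_eq_sum_range, LinearMap.sum_apply, LinearMap.sum_apply, map_sum]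
  apply Finset.sum_congr rfl
  intro i _
  rw [LinearMap.smul_apply, LinearMap.smul_apply, map_smul, intertw_pow hh]

variable [FiniteDimensional K V₁] [FiniteDimensional K V₂]

lemma r_simple_ne [Nontrivial V₁] [Nontrivial V₂]
    {π₁ : Module.End K V₁} {π₂ : Module.End K V₂} (hs₁ : Simple π₁) (hs₂ : Simple π₂)
    (hne : LinearMap.charpoly π₁ ≠ LinearMap.charpoly π₂) :
    Module.finrank K (LinearMap.ker (T π₁ π₂)) = 0 := by
  have hbot : LinearMap.ker (T π₁ π₂) = ⊥ := by
    rw [eq_bot_iff]
    intro h hh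
    rw [mem_ker_T] at hh
    rw [Submodule.mem_bot]
    rcases hs₂ _ (ker_aeval_mem_invt π₂ (minpoly K π₁)) with hN | hN
    · apply LinearMap.ext
      intro x
      have hx : h x ∈ LinearMap.ker (aeval π₂ (minpoly K π₁)) := by
        rw [LinearMap.mem_ker, ← intertw_aeval hh, minpoly.aeval]
        simp
      rw [hN, Submodule.mem_bot] at hx
      rw [hx]
      rfl
    · exfalso
      have h0 : aeval π₂ (minpoly K π₁) = 0 := by
        apply LinearMap.ext
        intro y
        have hy : y ∈ LinearMap.ker (aeval π₂ (minpoly K π₁)) := by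
          rw [hN]; exact Submodule.mem_top
        rw [LinearMap.mem_ker] at hy
        rw [hy]
        rfl
      have hdvd : minpoly K π₂ ∣ minpoly K π₁ := minpoly.dvd K π₂ h0
      have hassoc := (irreducible_minpoly hs₂).associated_of_dvd (irreducible_minpoly hs₁) hdvd
      have heq : minpoly K π₂ = minpoly K π₁ :=
        Polynomial.eq_of_monic_of_associated (minpoly.monic (LinearMap.isIntegral π₂))
          (minpoly.monic (LinearMap.isIntegral π₁)) hassoc
      apply hne
      rw [charpoly_eq_minpoly hs₁, charpoly_eq_minpoly hs₂, heq]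
  rw [hbot]
  exact finrank_bot K _

lemma r_simple_eq [Nontrivial V₁]
    {π₁ : Module.End K V₁} {π₂ : Module.End K V₂} (hs₁ : Simple π₁)
    (heq : LinearMap.charpoly π₁ = LinearMap.charpoly π₂) :
    Module.finrank K (LinearMap.ker (T π₁ π₂)) = Module.finrank K V₂ := by
  obtain ⟨v, hv⟩ := exists_ne (0 : V₁)
  have hsurj := orb_surjective hs₁ hv
  let ev : ↥(LinearMap.ker (T π₁ π₂)) →ₗ[K] V₂ :=
    { toFun := fun h => h.1 v
      map_add' := fun a b => rfl
      map_smul' := fun c a => rfl }
  have hinj : Function.Injective ev := by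
    rw [injective_iff_map_eq_zero]
    intro h hh0
    have hh0' : h.1 v = 0 := hh0
    have hmem := mem_ker_T.1 h.2
    apply Subtype.ext
    apply LinearMap.ext
    intro x
    obtain ⟨q, rfl⟩ := hsurj x
    show h.1 ((aeval π₁ q) v) = 0
    rw [intertw_aeval hmem, hh0', map_zero]
  have hsur : Function.Surjective ev := by
    intro w
    have hle : LinearMap.ker (orb π₁ v) ≤ LinearMap.ker (orb π₂ w) := by
      intro p hp
      rw [LinearMap.mem_ker] at hp ⊢
      obtain ⟨q, rfl⟩ := (orb_eq_zero_iff hsurj p).1 hp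
      have h1 : aeval π₂ (minpoly K π₁) = 0 := by
        rw [← charpoly_eq_minpoly hs₁, heq]
        exact LinearMap.aeval_self_charpoly π₂
      rw [orb_apply, map_mul, h1, zero_mul]
      rfl
    let e := (orb π₁ v).quotKerEquivOfSurjective hsurj
    let hw : V₁ →ₗ[K] V₂ :=
      ((LinearMap.ker (orb π₁ v)).liftQ (orb π₂ w) hle).comp
        (e.symm : V₁ →ₗ[K] (K[X] ⧸ LinearMap.ker (orb π₁ v)))
    have key : ∀ p, hw (orb π₁ v p) = orb π₂ w p := by
      intro p
      have h1 : e.symm (orb π₁ v p) = Submodule.Quotient.mk p := by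
        rw [LinearEquiv.symm_apply_eq]
        rfl
      show ((LinearMap.ker (orb π₁ v)).liftQ (orb π₂ w) hle) (e.symm (orb π₁ v p)) = _
      rw [h1, Submodule.liftQ_apply]
    have hmem : hw ∈ LinearMap.ker (T π₁ π₂) := by
      rw [mem_ker_T]
      intro x
      obtain ⟨p, rfl⟩ := hsurj x
      rw [← orb_X_mul, key, key, orb_X_mul]
    refine ⟨⟨hw, hmem⟩, ?_⟩
    show hw v = w
    have h2 := key 1
    rw [orb_one, orb_one] at h2
    exact h2
  exact (LinearEquiv.ofBijective ev ⟨hinj, hsur⟩).finrank_eq

lemma simple_case {π₁ : Module.End K V₁} {π₂ : Module.End K V₂}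
    (hs₁ : Simple π₁) (hs₂ : Simple π₂) :
    Module.finrank K (LinearMap.ker (T π₁ π₂)) =
      Rfun (LinearMap.charpoly π₁) (LinearMap.charpoly π₂) := by
  by_cases h1 : Module.finrank K V₁ = 0
  · haveI : Subsingleton V₁ := Module.finrank_zero_iff.1 h1
    have hc : LinearMap.charpoly π₁ = 1 :=
      (LinearMap.charpoly_monic π₁).natDegree_eq_zero.1
        (by rw [LinearMap.charpoly_natDegree, h1])
    haveI : Subsingleton ↥(LinearMap.ker (T π₁ π₂)) :=
      ⟨fun a b => Subtype.ext (LinearMap.ext fun x => by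
        rw [Subsingleton.elim x 0, map_zero, map_zero])⟩
    rw [Module.finrank_zero_of_subsingleton, hc, Rfun, normalizedFactors_one,
      Multiset.toFinset_zero, Finset.sum_empty]
  by_cases h2 : Module.finrank K V₂ = 0
  · haveI : Subsingleton V₂ := Module.finrank_zero_iff.1 h2
    have hc : LinearMap.charpoly π₂ = 1 :=
      (LinearMap.charpoly_monic π₂).natDegree_eq_zero.1
        (by rw [LinearMap.charpoly_natDegree, h2])
    haveI : Subsingleton ↥(LinearMap.ker (T π₁ π₂)) :=
      ⟨fun a b => Subtype.ext (LinearMap.ext fun x => Subsingleton.elim _ _)⟩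
    rw [Module.finrank_zero_of_subsingleton, hc, Rfun, normalizedFactors_one]
    exact (Finset.sum_eq_zero (fun P _ => by rw [Multiset.count_zero, mul_zero, zero_mul])).symm
  haveI : Nontrivial V₁ := Module.finrank_pos_iff.1 (Nat.pos_of_ne_zero h1)
  haveI : Nontrivial V₂ := Module.finrank_pos_iff.1 (Nat.pos_of_ne_zero h2)
  have hirr₁ : Irreducible (LinearMap.charpoly π₁) := by
    rw [charpoly_eq_minpoly hs₁]; exact irreducible_minpoly hs₁
  have hirr₂ : Irreducible (LinearMap.charpoly π₂) := by
    rw [charpoly_eq_minpoly hs₂]; exact irreducible_minpoly hs₂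
  have hnf₁ : normalizedFactors (LinearMap.charpoly π₁) = {LinearMap.charpoly π₁} := by
    rw [normalizedFactors_irreducible hirr₁, (LinearMap.charpoly_monic π₁).normalize_eq_self]
  have hnf₂ : normalizedFactors (LinearMap.charpoly π₂) = {LinearMap.charpoly π₂} := by
    rw [normalizedFactors_irreducible hirr₂, (LinearMap.charpoly_monic π₂).normalize_eq_self]
  by_cases heq : LinearMap.charpoly π₁ = LinearMap.charpoly π₂
  · rw [r_simple_eq hs₁ heq, Rfun, hnf₁, hnf₂, ← heq, Multiset.toFinset_singleton,
      Finset.sum_singleton, Multiset.count_singleton_self, one_mul, one_mul, heq,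
      LinearMap.charpoly_natDegree]
  · rw [r_simple_ne hs₁ hs₂ heq, Rfun, hnf₁, hnf₂, Multiset.toFinset_singleton,
      Finset.sum_singleton, Multiset.count_singleton_self, Multiset.count_singleton,
      if_neg heq, mul_zero, zero_mul]

end simple2

theorem main_aux (n : ℕ) :
    ∀ (V₁ : Type v) (V₂ : Type w) [AddCommGroup V₁] [Module K V₁] [FiniteDimensional K V₁]
      [AddCommGroup V₂] [Module K V₂] [FiniteDimensional K V₂]
      (π₁ : Module.End K V₁) (π₂ : Module.End K V₂), π₁.IsSemisimple → π₂.IsSemisimple →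
      Module.finrank K V₁ + Module.finrank K V₂ = n →
      Module.finrank K (LinearMap.ker (T π₁ π₂)) =
        Rfun (LinearMap.charpoly π₁) (LinearMap.charpoly π₂) := by
  induction n using Nat.strong_induction_on with
  | _ n ih =>
    intro V₁ V₂ _ _ _ _ _ _ π₁ π₂ h₁ h₂ hn
    rcases exists_decomp_or_simple π₁ h₁ with hs₁ | ⟨U, W, hU, hW, hc, hUlt, hWlt⟩
    · rcases exists_decomp_or_simple π₂ h₂ with hs₂ | ⟨U, W, hU, hW, hc, hUlt, hWlt⟩
      · exact simple_case hs₁ hs₂
      · obtain ⟨hr, hch⟩ := decomp_right π₁ π₂ hU hW hc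
        have ihU := ih (Module.finrank K V₁ + Module.finrank K U) (by omega) V₁ U π₁
          (LinearMap.restrict π₂ hU) h₁ (Module.End.IsSemisimple.restrict hU h₂) rfl
        have ihW := ih (Module.finrank K V₁ + Module.finrank K W) (by omega) V₁ W π₁
          (LinearMap.restrict π₂ hW) h₁ (Module.End.IsSemisimple.restrict hW h₂) rfl
        rw [hr, ihU, ihW, hch, Rfun_mul_right _ (LinearMap.charpoly_monic _).ne_zero
          (LinearMap.charpoly_monic _).ne_zero]
    · obtain ⟨hr, hch⟩ := decomp_left π₁ π₂ hU hW hc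
      have ihU := ih (Module.finrank K U + Module.finrank K V₂) (by omega) U V₂
        (LinearMap.restrict π₁ hU) π₂ (Module.End.IsSemisimple.restrict hU h₁) h₂ rfl
      have ihW := ih (Module.finrank K W + Module.finrank K V₂) (by omega) W V₂
        (LinearMap.restrict π₁ hW) π₂ (Module.End.IsSemisimple.restrict hW h₁) h₂ rfl
      rw [hr, ihU, ihW, hch, Rfun_mul_left (LinearMap.charpoly_monic _).ne_zero
        (LinearMap.charpoly_monic _).ne_zero]

theorem main (V₁ : Type v) (V₂ : Type w) [AddCommGroup V₁] [Module K V₁] [FiniteDimensional K V₁]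
    [AddCommGroup V₂] [Module K V₂] [FiniteDimensional K V₂]
    (π₁ : Module.End K V₁) (π₂ : Module.End K V₂) (h₁ : π₁.IsSemisimple) (h₂ : π₂.IsSemisimple) :
    Module.finrank K (LinearMap.ker (LinearMap.lcomp K V₂ π₁ - LinearMap.llcomp K V₁ V₂ V₂ π₂ :
        (V₁ →ₗ[K] V₂) →ₗ[K] (V₁ →ₗ[K] V₂))) =
      ∑ P ∈ (normalizedFactors π₁.charpoly).toFinset,
        (normalizedFactors π₁.charpoly).count P * (normalizedFactors π₂.charpoly).count P *
          P.natDegree :=
  main_aux _ V₁ V₂ π₁ π₂ h₁ h₂ rfl

end Groth.Agent.H86.Intertw
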