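import Mathlib
import Groth.Prelude.Def_GSzH1

set_option autoImplicit false
universe u v w
open scoped Topology

namespace Groth.Agent.H86.LangFrob

section Nseq

variable {G : Type*} {A : Type*} [Group G] [Group A] [MulDistribMulAction G A]

/-- The sequence `a₀ · π(a₀) ⋯ π^{n-1}(a₀)`. -/
def Nseq (π : G) (a₀ : A) : ℕ → A
  | 0 => 1
  | (n + 1) => a₀ * π • Nseq π a₀ n

theorem Nseq_zero (π : G) (a₀ : A) : Nseq π a₀ 0 = 1 := rfl

theorem Nseq_succ (π : G) (a₀ : A) (n : ℕ) : Nseq π a₀ (n + 1) = a₀ * π • Nseq π a₀ n := rfl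

theorem Nseq_add (π : G) (a₀ : A) (m n : ℕ) :
    Nseq π a₀ (m + n) = Nseq π a₀ m * π ^ m • Nseq π a₀ n := by
  induction m with
  | zero => rw [Nat.zero_add, Nseq_zero, one_mul, pow_zero, one_smul]
  | succ m ih =>
    have h1 : m + 1 + n = (m + n) + 1 := by omega
    rw [h1, Nseq_succ, Nseq_succ, ih, smul_mul', ← mul_smul, ← pow_succ', mul_assoc]

theorem Nseq_mem (π : G) (a₀ : A) (H : Subgroup A) (ha₀ : a₀ ∈ H)
    (hH : ∀ (σ : G) (x : A), x ∈ H → σ • x ∈ H) (n : ℕ) : Nseq π a₀ n ∈ H := by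
  induction n with
  | zero => exact H.one_mem
  | succ n ih => exact H.mul_mem ha₀ (hH π _ ih)

end Nseq

section Frob

variable {k : Type u} [Field k] [Finite k] {Ω : Type v} [Field Ω] [Algebra k Ω]

theorem pi_pow_apply (π : Ω ≃ₐ[k] Ω) (hπ : ∀ x, π x = x ^ Nat.card k) (n : ℕ) (x : Ω) :
    (π ^ n) x = x ^ (Nat.card k ^ n) := by
  induction n generalizing x with
  | zero => simp
  | succ n ih =>
    have h1 : π ^ (n + 1) = π ^ n * π := pow_succ π n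
    rw [h1, AlgEquiv.mul_apply, ih, hπ, ← pow_mul, Nat.pow_succ, mul_comm]

theorem exists_pow_agree (π : Ω ≃ₐ[k] Ω) (hπ : ∀ x, π x = x ^ Nat.card k) (σ : Ω ≃ₐ[k] Ω)
    (E : IntermediateField k Ω) [FiniteDimensional k E] :
    ∃ n : ℕ, ∀ x ∈ E, σ x = (π ^ n) x := by
  classical
  haveI : Fintype k := Fintype.ofFinite k
  haveI : Finite E := Module.finite_of_finite k
  obtain ⟨n, hn⟩ := (FiniteField.bijective_frobeniusAlgEquivOfAlgebraic_pow k E).2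
    (σ.restrictNormal E)
  have hn' : FiniteField.frobeniusAlgEquivOfAlgebraic k E ^ n.1 = σ.restrictNormal E := hn
  refine ⟨n.1, fun x hx => ?_⟩
  have h2 : (FiniteField.frobeniusAlgEquivOfAlgebraic k E ^ n.1) ⟨x, hx⟩ =
      (⟨x, hx⟩ : E) ^ (Fintype.card k ^ n.1) := by
    rw [AlgEquiv.coe_pow, FiniteField.coe_frobeniusAlgEquivOfAlgebraic_iterate]
  calc σ x = algebraMap E Ω ((σ.restrictNormal E) ⟨x, hx⟩) :=
        (AlgEquiv.restrictNormal_commutes σ E ⟨x, hx⟩).symm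
    _ = algebraMap E Ω ((FiniteField.frobeniusAlgEquivOfAlgebraic k E ^ n.1) ⟨x, hx⟩) := by
        rw [hn']
    _ = algebraMap E Ω ((⟨x, hx⟩ : E) ^ (Fintype.card k ^ n.1)) := by rw [h2]
    _ = x ^ (Fintype.card k ^ n.1) := by rw [map_pow]; rfl
    _ = (π ^ n.1) x := by rw [pi_pow_apply π hπ, Nat.card_eq_fintype_card]

theorem modEq_of_pow_agree (π : Ω ≃ₐ[k] Ω) (hπ : ∀ x, π x = x ^ Nat.card k)
    (E' : IntermediateField k Ω) [FiniteDimensional k E'] {n m : ℕ}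
    (h : ∀ x ∈ E', (π ^ n) x = (π ^ m) x) : n ≡ m [MOD Module.finrank k E'] := by
  classical
  haveI : Fintype k := Fintype.ofFinite k
  haveI : Finite E' := Module.finite_of_finite k
  rw [← FiniteField.orderOf_frobeniusAlgEquivOfAlgebraic k E', ← pow_eq_pow_iff_modEq]
  ext y
  have hy := h y.1 y.2
  rw [pi_pow_apply π hπ, pi_pow_apply π hπ, Nat.card_eq_fintype_card] at hy
  rw [AlgEquiv.coe_pow, AlgEquiv.coe_pow, FiniteField.coe_frobeniusAlgEquivOfAlgebraic_iterate,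
    FiniteField.coe_frobeniusAlgEquivOfAlgebraic_iterate]
  exact hy

theorem exists_field_nhds (U : Set (Ω ≃ₐ[k] Ω)) (hU : IsOpen U) (σ : Ω ≃ₐ[k] Ω) (hσ : σ ∈ U) :
    ∃ E : IntermediateField k Ω, FiniteDimensional k E ∧
      ∀ τ : Ω ≃ₐ[k] Ω, (∀ x ∈ E, τ x = σ x) → τ ∈ U := by
  have h1 : (fun τ => σ * τ) ⁻¹' U ∈ 𝓝 (1 : Ω ≃ₐ[k] Ω) := by
    apply (continuous_mul_left σ).continuousAt.preimage_mem_nhds
    show U ∈ 𝓝 (σ * 1)
    rw [mul_one]
    exact hU.mem_nhds hσ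
  obtain ⟨E, hE, hsub⟩ := (krullTopology_mem_nhds_one_iff k Ω _).mp h1
  refine ⟨E, hE, fun τ hτ => ?_⟩
  have h2 : σ⁻¹ * τ ∈ E.fixingSubgroup := by
    rw [IntermediateField.mem_fixingSubgroup_iff]
    intro x hx
    rw [AlgEquiv.mul_apply, hτ x hx]
    exact σ.symm_apply_apply x
  have h3 : σ * (σ⁻¹ * τ) ∈ U := hsub h2
  rwa [mul_inv_cancel_left] at h3

variable {A : Type w} [Group A] [MulDistribMulAction (Ω ≃ₐ[k] Ω) A]

theorem cocycle_ext (π : Ω ≃ₐ[k] Ω) (hπ : ∀ x, π x = x ^ Nat.card k)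
    (a a' : (Ω ≃ₐ[k] Ω) → A) (ha : GpH1.IsOneCocycle a) (ha' : GpH1.IsOneCocycle a')
    (hlc : IsLocallyConstant a) (hlc' : IsLocallyConstant a') (h : a π = a' π) : a = a' := by
  have ha2 : ∀ σ τ, a (σ * τ) = a σ * σ • a τ := ha
  have ha2' : ∀ σ τ, a' (σ * τ) = a' σ * σ • a' τ := ha'
  have h1 : ∀ b : (Ω ≃ₐ[k] Ω) → A, (∀ σ τ, b (σ * τ) = b σ * σ • b τ) → b 1 = 1 := by
    intro b hb
    have h0 := hb 1 1
    rw [one_smul, mul_one] at h0
    have h0' : b 1 * b 1 = b 1 * 1 := by rw [mul_one]; exact h0.symm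
    exact mul_left_cancel h0'
  have hpow : ∀ n : ℕ, a (π ^ n) = a' (π ^ n) := by
    intro n
    induction n with
    | zero => rw [pow_zero, h1 a ha2, h1 a' ha2']
    | succ n ih => rw [pow_succ', ha2, ha2', ih, h]
  funext σ
  obtain ⟨U, hU, hσU, hUc⟩ := hlc.exists_open σ
  obtain ⟨U', hU', hσU', hUc'⟩ := hlc'.exists_open σ
  obtain ⟨E, hE, hEU⟩ := exists_field_nhds (U ∩ U') (hU.inter hU') σ ⟨hσU, hσU'⟩
  haveI := hE
  obtain ⟨n, hn⟩ := exists_pow_agree π hπ σ E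
  have hmem := hEU (π ^ n) (fun x hx => (hn x hx).symm)
  rw [← hUc (π ^ n) hmem.1, ← hUc' (π ^ n) hmem.2]
  exact hpow n

theorem exists_cocycle [IsAlgClosed Ω] (π : Ω ≃ₐ[k] Ω) (hπ : ∀ x, π x = x ^ Nat.card k)
    (hcont : ∀ a : A, IsOpen {σ : Ω ≃ₐ[k] Ω | σ • a = a})
    (hfin : ∀ a : A, ∃ H : Subgroup A, (H : Set A).Finite ∧ a ∈ H ∧
      ∀ (σ : Ω ≃ₐ[k] Ω) (x : A), x ∈ H → σ • x ∈ H)
    (a₀ : A) :
    ∃ z : (Ω ≃ₐ[k] Ω) → A, GpH1.IsOneCocycle z ∧ IsLocallyConstant z ∧ z π = a₀ := by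
  classical
  obtain ⟨H, hHfin, ha₀H, hHstab⟩ := hfin a₀
  have hNmem : ∀ n, Nseq π a₀ n ∈ H := Nseq_mem π a₀ H ha₀H hHstab
  -- the field E
  have hV : IsOpen (⋂ h ∈ (H : Set A), {σ : Ω ≃ₐ[k] Ω | σ • h = h}) :=
    hHfin.isOpen_biInter (fun h _ => hcont h)
  have hV1 : (⋂ h ∈ (H : Set A), {σ : Ω ≃ₐ[k] Ω | σ • h = h}) ∈ 𝓝 (1 : Ω ≃ₐ[k] Ω) :=
    hV.mem_nhds (by simp)
  obtain ⟨E, hEfin, hEsub⟩ := (krullTopology_mem_nhds_one_iff k Ω _).mp hV1
  have hEtriv : ∀ τ : Ω ≃ₐ[k] Ω, (∀ x ∈ E, τ x = x) → ∀ h ∈ H, τ • h = h := by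
    intro τ hτ h hh
    have hmem : τ ∈ (⋂ h ∈ (H : Set A), {σ : Ω ≃ₐ[k] Ω | σ • h = h}) :=
      hEsub ((IntermediateField.mem_fixingSubgroup_iff E τ).mpr hτ)
    simp only [Set.mem_iInter, Set.mem_setOf_eq] at hmem
    exact hmem h hh
  haveI : FiniteDimensional k E := hEfin
  haveI : Fintype k := Fintype.ofFinite k
  obtain ⟨d, hd⟩ : ∃ d : ℕ, d = Module.finrank k E := ⟨_, rfl⟩
  have hd0 : 0 < d := by rw [hd]; exact Module.finrank_pos
  have hπd : ∀ x ∈ E, (π ^ d) x = x := by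
    intro x hx
    haveI : Finite E := Module.finite_of_finite k
    have h1 : (FiniteField.frobeniusAlgEquivOfAlgebraic k E) ^ d = 1 := by
      rw [hd, ← FiniteField.orderOf_frobeniusAlgEquivOfAlgebraic k E]
      exact pow_orderOf_eq_one _
    have h2 := DFunLike.congr_fun h1 ⟨x, hx⟩
    rw [AlgEquiv.coe_pow, FiniteField.coe_frobeniusAlgEquivOfAlgebraic_iterate,
      AlgEquiv.one_apply] at h2
    have h3 := congrArg Subtype.val h2
    rw [pi_pow_apply π hπ, Nat.card_eq_fintype_card]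
    exact h3
  have hπdj : ∀ (j : ℕ) (h : A), h ∈ H → (π ^ (d * j)) • h = h := by
    intro j h hh
    apply hEtriv _ _ h hh
    intro x hx
    rw [pow_mul]
    induction j with
    | zero => simp
    | succ j ih => rw [pow_succ, AlgEquiv.mul_apply, hπd x hx, ih]
  have hNdj : ∀ j, Nseq π a₀ (d * j) = (Nseq π a₀ d) ^ j := by
    intro j
    induction j with
    | zero => rw [Nat.mul_zero, Nseq_zero, pow_zero]
    | succ j ih => rw [Nat.mul_succ, Nseq_add, ih, hπdj j _ (hNmem d), pow_succ]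
  haveI : Finite H := hHfin.to_subtype
  obtain ⟨e, he0, he⟩ : ∃ e : ℕ, 0 < e ∧ (Nseq π a₀ d) ^ e = 1 := by
    have hfo := isOfFinOrder_of_finite (⟨Nseq π a₀ d, hNmem d⟩ : H)
    obtain ⟨e, he0, he⟩ := isOfFinOrder_iff_pow_eq_one.mp hfo
    exact ⟨e, he0, by simpa using congrArg Subtype.val he⟩
  obtain ⟨M, hMdef⟩ : ∃ M : ℕ, M = d * e := ⟨_, rfl⟩
  have hM0 : 0 < M := by rw [hMdef]; exact Nat.mul_pos hd0 he0
  have hNM : Nseq π a₀ M = 1 := by rw [hMdef, hNdj, he]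
  have hNMt : ∀ t, Nseq π a₀ (M * t) = 1 := by
    intro t
    induction t with
    | zero => rw [Nat.mul_zero, Nseq_zero]
    | succ t ih => rw [Nat.mul_succ, Nseq_add, ih, hNM, smul_one, mul_one]
  -- a subfield of degree M
  obtain ⟨p, hp⟩ := CharP.exists k
  haveI := hp
  haveI : Fact p.Prime := ⟨CharP.char_is_prime k p⟩
  haveI : NeZero M := ⟨hM0.ne'⟩
  obtain ⟨f⟩ : Nonempty (FiniteField.Extension k p M →ₐ[k] Ω) := ⟨IsAlgClosed.lift⟩
  obtain ⟨E'', hE''⟩ : ∃ E'' : IntermediateField k Ω, E'' = f.fieldRange := ⟨_, rfl⟩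
  have hE''fin : FiniteDimensional k E'' := by
    rw [hE'']; exact f.equivFieldRange.toLinearEquiv.finiteDimensional
  have hE''rank : Module.finrank k E'' = M := by
    rw [hE'', ← f.equivFieldRange.toLinearEquiv.finrank_eq, FiniteField.finrank_extension]
  obtain ⟨E', hE'⟩ : ∃ E' : IntermediateField k Ω, E' = E ⊔ E'' := ⟨_, rfl⟩
  haveI hE'fin : FiniteDimensional k E' := by
    rw [hE']; exact IntermediateField.finiteDimensional_sup E E''
  have hEE' : E ≤ E' := by rw [hE']; exact le_sup_left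
  have hE''E' : E'' ≤ E' := by rw [hE']; exact le_sup_right
  obtain ⟨D, hD⟩ : ∃ D : ℕ, D = Module.finrank k E' := ⟨_, rfl⟩
  have hMD : M ∣ D := by
    rw [hD, ← hE''rank]; exact IntermediateField.finrank_dvd_of_le_right hE''E'
  have hND : Nseq π a₀ D = 1 := by
    obtain ⟨t, ht⟩ := hMD
    rw [ht, hNMt]
  have hper : Function.Periodic (Nseq π a₀) D := fun n => by
    rw [Nseq_add, hND, smul_one, mul_one]
  have hmod : ∀ n m : ℕ, n ≡ m [MOD D] → Nseq π a₀ n = Nseq π a₀ m := by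
    intro n m hnm
    rw [← hper.map_mod_nat n, ← hper.map_mod_nat m, show n % D = m % D from hnm]
  have hex : ∀ σ : Ω ≃ₐ[k] Ω, ∃ n : ℕ, ∀ x ∈ E', σ x = (π ^ n) x :=
    fun σ => exists_pow_agree π hπ σ E'
  choose nσ hnσ using hex
  have hK : ∀ (σ : Ω ≃ₐ[k] Ω) (n : ℕ), (∀ x ∈ E', σ x = (π ^ n) x) →
      Nseq π a₀ (nσ σ) = Nseq π a₀ n := by
    intro σ n hn
    apply hmod
    rw [hD]
    apply modEq_of_pow_agree π hπ E'
    intro x hx
    rw [← hnσ σ x hx, hn x hx]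
  refine ⟨fun σ => Nseq π a₀ (nσ σ), ?_, ?_, ?_⟩
  · intro σ τ
    show Nseq π a₀ (nσ (σ * τ)) = Nseq π a₀ (nσ σ) * σ • Nseq π a₀ (nσ τ)
    have h1 : ∀ x ∈ E', (σ * τ) x = (π ^ (nσ σ + nσ τ)) x := by
      intro x hx
      rw [AlgEquiv.mul_apply, hnσ τ x hx, pow_add, AlgEquiv.mul_apply]
      apply hnσ σ
      rw [pi_pow_apply π hπ]
      exact pow_mem hx _
    rw [hK _ _ h1, Nseq_add]
    congr 1
    have h2 : (σ⁻¹ * π ^ (nσ σ)) • Nseq π a₀ (nσ τ) = Nseq π a₀ (nσ τ) := by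
      apply hEtriv _ _ _ (hNmem _)
      intro x hx
      rw [AlgEquiv.mul_apply, ← hnσ σ x (hEE' hx)]
      exact σ.symm_apply_apply x
    have h3 := congrArg (fun t => σ • t) h2
    simp only [mul_smul, smul_inv_smul] at h3
    exact h3
  · rw [IsLocallyConstant.iff_exists_open]
    intro σ
    refine ⟨(fun τ => σ⁻¹ * τ) ⁻¹' (E'.fixingSubgroup : Set (Ω ≃ₐ[k] Ω)),
      (E'.fixingSubgroup_isOpen).preimage (continuous_mul_left σ⁻¹), ?_, ?_⟩
    · show σ⁻¹ * σ ∈ E'.fixingSubgroup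
      rw [inv_mul_cancel]; exact one_mem _
    · intro τ hτ
      have hτ' : ∀ x ∈ E', (σ⁻¹ * τ) x = x :=
        (IntermediateField.mem_fixingSubgroup_iff E' _).mp hτ
      show Nseq π a₀ (nσ τ) = Nseq π a₀ (nσ σ)
      apply hK
      intro x hx
      have h4 := hτ' x hx
      rw [AlgEquiv.mul_apply] at h4
      have h5 := congrArg σ h4
      rw [← hnσ σ x hx]
      exact (σ.apply_symm_apply (τ x)).symm.trans h5
  · show Nseq π a₀ (nσ π) = a₀
    rw [hK π 1 (fun x _ => by rw [pow_one]), Nseq_succ, Nseq_zero, smul_one, mul_one]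

end Frob

theorem main (k : Type u) [Field k] [Finite k]
    (π : AlgebraicClosure k ≃ₐ[k] AlgebraicClosure k)
    (hπ : ∀ x : AlgebraicClosure k, π x = x ^ Nat.card k)
    (A : Type v) [Group A] [MulDistribMulAction (AlgebraicClosure k ≃ₐ[k] AlgebraicClosure k) A]
    (hcont : ∀ a : A, IsOpen {σ : AlgebraicClosure k ≃ₐ[k] AlgebraicClosure k | σ • a = a})
    (hfin : ∀ a : A, ∃ H : Subgroup A, (H : Set A).Finite ∧ a ∈ H ∧
      ∀ (σ : AlgebraicClosure k ≃ₐ[k] AlgebraicClosure k) (x : A), x ∈ H → σ • x ∈ H) :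
    Function.Bijective
        (fun z : GpH1.OneCocycleLC (AlgebraicClosure k ≃ₐ[k] AlgebraicClosure k) A => z.1 π) ∧
      ∀ z z' : GpH1.OneCocycleLC (AlgebraicClosure k ≃ₐ[k] AlgebraicClosure k) A,
        z.cl = z'.cl ↔ ∃ g : A, z'.1 π = g * z.1 π * (π • g)⁻¹ := by
  refine ⟨⟨?_, ?_⟩, ?_⟩
  · intro z z' h
    apply Subtype.ext
    apply Subtype.ext
    exact cocycle_ext π hπ z.1.1 z'.1.1 z.1.2 z'.1.2 z.2 z'.2 h
  · intro a₀
    obtain ⟨z, hz1, hz2, hz3⟩ := exists_cocycle π hπ hcont hfin a₀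
    exact ⟨⟨⟨z, hz1⟩, hz2⟩, hz3⟩
  · intro z z'
    rw [GpH1.OneCocycleLC.cl_eq_cl_iff]
    constructor
    · rintro ⟨c, hc⟩
      refine ⟨c, ?_⟩
      have h0 : z.1.1 π = c⁻¹ * z'.1.1 π * π • c := hc π
      show z'.1.1 π = c * z.1.1 π * (π • c)⁻¹
      rw [h0]; group
    · rintro ⟨g, hg⟩
      have hz : ∀ σ τ, z.1.1 (σ * τ) = z.1.1 σ * σ • z.1.1 τ := z.1.2
      have key : (fun σ => g * z.1.1 σ * (σ • g)⁻¹) = z'.1.1 := by
        apply cocycle_ext π hπ _ _ ?_ z'.1.2 ?_ z'.2 ?_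
        · intro σ τ
          show g * z.1.1 (σ * τ) * ((σ * τ) • g)⁻¹ =
            g * z.1.1 σ * (σ • g)⁻¹ * σ • (g * z.1.1 τ * (τ • g)⁻¹)
          rw [hz σ τ, smul_mul', smul_mul', smul_inv', mul_smul]
          group
        · rw [IsLocallyConstant.iff_exists_open]
          intro σ
          obtain ⟨U, hU, hσU, hUc⟩ := z.2.exists_open σ
          refine ⟨U ∩ (fun τ => σ⁻¹ * τ) ⁻¹' {ρ | ρ • g = g},
            hU.inter ((hcont g).preimage (continuous_mul_left σ⁻¹)), ⟨hσU, ?_⟩, ?_⟩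
          · show (σ⁻¹ * σ) • g = g
            rw [inv_mul_cancel, one_smul]
          · rintro τ ⟨hτU, hτg⟩
            have hτg' : (σ⁻¹ * τ) • g = g := hτg
            have h3 : τ • g = σ • g := by
              have h4 := congrArg (fun t => σ • t) hτg'
              simp only [mul_smul, smul_inv_smul] at h4
              exact h4
            have h5 : z.1.1 τ = z.1.1 σ := hUc τ hτU
            show g * z.1.1 τ * (τ • g)⁻¹ = g * z.1.1 σ * (σ • g)⁻¹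
            rw [h5, h3]
        · exact hg.symm
      refine ⟨g, fun σ => ?_⟩
      have h6 : g * z.1.1 σ * (σ • g)⁻¹ = z'.1.1 σ := congrFun key σ
      show z.1.1 σ = g⁻¹ * z'.1.1 σ * σ • g
      rw [← h6]; group

end Groth.Agent.H86.LangFrob
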