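import Mathlib

/-!
# The line bundle of liftings of an automorphism of a matrix algebra

For an `A`-algebra automorphism `α` of `M_n(A)` the module `L = {M | ∀ N, M N = α(N) M}` is
invertible (its inverse is the same module for `α⁻¹`), and `L^{⊗ n} ≅ A` via the determinant.
Everything is done elementwise (no localisation).
-/

open TensorProduct

namespace Groth.Agent.H86.MatAutPic

variable {A : Type*} [CommRing A] {n : ℕ}

/-- The module of intertwiners `M N = α(N) M`. -/
abbrev Lm (α : Matrix (Fin n) (Fin n) A ≃ₐ[A] Matrix (Fin n) (Fin n) A) :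
    Submodule A (Matrix (Fin n) (Fin n) A) :=
  LinearMap.ker (LinearMap.mul A (Matrix (Fin n) (Fin n) A) -
    (LinearMap.lcomp A (Matrix (Fin n) (Fin n) A) α.toLinearMap).comp
      (LinearMap.mul A (Matrix (Fin n) (Fin n) A)).flip)

theorem mem_Lm {α : Matrix (Fin n) (Fin n) A ≃ₐ[A] Matrix (Fin n) (Fin n) A}
    {M : Matrix (Fin n) (Fin n) A} : M ∈ Lm α ↔ ∀ N, M * N = α N * M := by
  rw [LinearMap.mem_ker, LinearMap.sub_apply, sub_eq_zero]
  constructor
  · intro h N
    have := LinearMap.congr_fun h N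
    simpa using this
  · intro h
    refine LinearMap.ext fun N => ?_
    simpa using h N

theorem eq_smul_one_of_forall_commute (X : Matrix (Fin n) (Fin n) A)
    (h : ∀ N : Matrix (Fin n) (Fin n) A, X * N = N * X) (o : Fin n) :
    X = X o o • (1 : Matrix (Fin n) (Fin n) A) := by
  obtain ⟨r, rfl⟩ := Matrix.mem_range_scalar_iff_commute_single'.mpr
    (fun i j => (h (Matrix.single i j 1)).symm)
  ext i j
  by_cases hij : i = j
  · subst hij; simp
  · simp [hij]

section
variable (α : Matrix (Fin n) (Fin n) A ≃ₐ[A] Matrix (Fin n) (Fin n) A) (o : Fin n)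

theorem mul_comm_of_mem {M M' : Matrix (Fin n) (Fin n) A} (hM : M ∈ Lm α)
    (hM' : M' ∈ Lm α.symm) :
    (∀ N, (M' * M) * N = N * (M' * M)) ∧ (∀ N, (M * M') * N = N * (M * M')) := by
  rw [mem_Lm] at hM hM'
  constructor
  · intro N
    have h1 : M' * α N = N * M' := by
      have := hM' (α N); simpa using this
    calc M' * M * N = M' * (M * N) := by rw [Matrix.mul_assoc]
      _ = M' * (α N * M) := by rw [hM N]
      _ = (M' * α N) * M := by rw [Matrix.mul_assoc]
      _ = N * M' * M := by rw [h1]
      _ = N * (M' * M) := by rw [Matrix.mul_assoc]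
  · intro N
    obtain ⟨N0, rfl⟩ := α.surjective N
    have h1 : M' * α N0 = N0 * M' := by
      have := hM' (α N0); simpa using this
    calc M * M' * α N0 = M * (M' * α N0) := by rw [Matrix.mul_assoc]
      _ = M * (N0 * M') := by rw [h1]
      _ = (M * N0) * M' := by rw [Matrix.mul_assoc]
      _ = α N0 * M * M' := by rw [hM N0]
      _ = α N0 * (M * M') := by rw [Matrix.mul_assoc]

theorem mul_eq_smul_one {M M' : Matrix (Fin n) (Fin n) A} (hM : M ∈ Lm α)
    (hM' : M' ∈ Lm α.symm) :
    M' * M = (M' * M) o o • (1 : Matrix (Fin n) (Fin n) A) :=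
  eq_smul_one_of_forall_commute _ (mul_comm_of_mem α hM hM').1 o

theorem mul_eq_smul_one' {M M' : Matrix (Fin n) (Fin n) A} (hM : M ∈ Lm α)
    (hM' : M' ∈ Lm α.symm) :
    M * M' = (M * M') o o • (1 : Matrix (Fin n) (Fin n) A) :=
  eq_smul_one_of_forall_commute _ (mul_comm_of_mem α hM hM').2 o

/-- explicit elements of `Lm α` -/
def phi (k : Fin n) : Matrix (Fin n) (Fin n) A :=
  ∑ j, α (Matrix.single j o 1) * Matrix.single k j 1

/-- explicit elements of `Lm α.symm` -/
def psi (l : Fin n) : Matrix (Fin n) (Fin n) A :=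
  ∑ i, Matrix.single i l 1 * α (Matrix.single o i 1)

theorem phi_mem (k : Fin n) : phi α o k ∈ Lm α := by
  rw [mem_Lm]
  intro N
  induction N using Matrix.induction_on' with
  | h_zero => simp
  | h_add p q hp hq => rw [mul_add, map_add, add_mul, hp, hq]
  | h_std_basis a b x =>
    unfold phi
    have hL : ∑ j, α (Matrix.single j o 1) * Matrix.single k j 1 * Matrix.single a b x
        = α (Matrix.single a o 1) * Matrix.single k b x := by
      rw [Fintype.sum_eq_single a]
      · rw [Matrix.mul_assoc, Matrix.single_mul_single_same, one_mul]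
      · intro j hj
        rw [Matrix.mul_assoc, Matrix.single_mul_single_of_ne _ _ _ _ hj, Matrix.mul_zero]
    have hR : ∑ j, α (Matrix.single a b x) * (α (Matrix.single j o 1) * Matrix.single k j 1)
        = α (Matrix.single a o x) * Matrix.single k b 1 := by
      rw [Fintype.sum_eq_single b]
      · rw [← Matrix.mul_assoc, ← map_mul α, Matrix.single_mul_single_same, mul_one]
      · intro j hj
        rw [← Matrix.mul_assoc, ← map_mul α, Matrix.single_mul_single_of_ne _ _ _ _ hj.symm,
          map_zero, Matrix.zero_mul]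
    rw [Finset.sum_mul, Finset.mul_sum, hL, hR]
    have e1 : Matrix.single a o x = x • Matrix.single a o (1:A) := by
      rw [Matrix.smul_single, smul_eq_mul, mul_one]
    have e2 : Matrix.single k b x = x • Matrix.single k b (1:A) := by
      rw [Matrix.smul_single, smul_eq_mul, mul_one]
    rw [e1, e2, map_smul, Matrix.mul_smul, Matrix.smul_mul]

theorem psi_mem (l : Fin n) : psi α o l ∈ Lm α.symm := by
  rw [mem_Lm]
  intro N
  obtain ⟨N0, rfl⟩ := α.surjective N
  rw [AlgEquiv.symm_apply_apply]
  induction N0 using Matrix.induction_on' with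
  | h_zero => simp
  | h_add p q hp hq => rw [map_add, mul_add, add_mul, hp, hq]
  | h_std_basis a b x =>
    unfold psi
    have hL : ∑ i, Matrix.single i l 1 * α (Matrix.single o i 1) * α (Matrix.single a b x)
        = Matrix.single a l 1 * α (Matrix.single o b x) := by
      rw [Fintype.sum_eq_single a]
      · rw [Matrix.mul_assoc, ← map_mul α, Matrix.single_mul_single_same, one_mul]
      · intro i hi
        rw [Matrix.mul_assoc, ← map_mul α, Matrix.single_mul_single_of_ne _ _ _ _ hi,
          map_zero, Matrix.mul_zero]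
    have hR : ∑ i, Matrix.single a b x * (Matrix.single i l 1 * α (Matrix.single o i 1))
        = Matrix.single a l x * α (Matrix.single o b 1) := by
      rw [Fintype.sum_eq_single b]
      · rw [← Matrix.mul_assoc, Matrix.single_mul_single_same, mul_one]
      · intro i hi
        rw [← Matrix.mul_assoc, Matrix.single_mul_single_of_ne _ _ _ _ hi.symm, Matrix.zero_mul]
    rw [Finset.sum_mul, Finset.mul_sum, hL, hR]
    have e1 : Matrix.single o b x = x • Matrix.single o b (1:A) := by
      rw [Matrix.smul_single, smul_eq_mul, mul_one]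
    have e2 : Matrix.single a l x = x • Matrix.single a l (1:A) := by
      rw [Matrix.smul_single, smul_eq_mul, mul_one]
    rw [e1, e2, map_smul, Matrix.mul_smul, Matrix.smul_mul]

theorem psi_mul_phi_apply (k l : Fin n) :
    (psi α o l * phi α o k) o o = α (Matrix.single o o 1) l k := by
  unfold psi phi
  rw [Finset.sum_mul]
  have key : ∀ i, Matrix.single i l 1 * α (Matrix.single o i 1) *
      ∑ j, α (Matrix.single j o 1) * Matrix.single k j 1
      = Matrix.single i i (α (Matrix.single o o 1) l k) := by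
    intro i
    rw [Finset.mul_sum, Fintype.sum_eq_single i]
    · rw [Matrix.mul_assoc, ← Matrix.mul_assoc (α _), ← map_mul α,
        Matrix.single_mul_single_same, mul_one, ← Matrix.mul_assoc,
        Matrix.single_mul_mul_single, one_mul, mul_one]
    · intro j hj
      rw [Matrix.mul_assoc, ← Matrix.mul_assoc (α _), ← map_mul α,
        Matrix.single_mul_single_of_ne _ _ _ _ hj.symm, map_zero, Matrix.zero_mul,
        Matrix.mul_zero]
  simp_rw [key]
  rw [Matrix.sum_apply, Fintype.sum_eq_single o]
  · simp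
  · intro i hi
    exact Matrix.single_apply_of_row_ne hi _ _ _

/-- the pairing `L' × L → A`, `(M', M) ↦` the scalar `M' M`. -/
noncomputable def mu : Lm α.symm →ₗ[A] Lm α →ₗ[A] A :=
  LinearMap.mk₂ A (fun M' M => (M'.1 * M.1) o o)
    (fun M1 M2 M => by simp [add_mul])
    (fun c M' M => by simp)
    (fun M' M1 M2 => by simp [mul_add])
    (fun c M' M => by simp)

theorem mu_apply (M' : Lm α.symm) (M : Lm α) : mu α o M' M = (M'.1 * M.1) o o := rfl

theorem F1 (n' : Lm α.symm) (m0 m : Lm α) :
    mu α o n' m0 • m = ((m.1 * n'.1) o o) • m0 := by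
  apply Subtype.ext
  rw [Submodule.coe_smul, Submodule.coe_smul, mu_apply]
  have h1 := mul_eq_smul_one α o m0.2 n'.2
  have h2 := mul_eq_smul_one' α o m.2 n'.2
  calc ((n'.1 * m0.1) o o) • m.1
      = m.1 * (((n'.1 * m0.1) o o) • (1 : Matrix (Fin n) (Fin n) A)) := by
        rw [Matrix.mul_smul, Matrix.mul_one]
    _ = m.1 * (n'.1 * m0.1) := by rw [← h1]
    _ = (m.1 * n'.1) * m0.1 := by rw [Matrix.mul_assoc]
    _ = (((m.1 * n'.1) o o) • (1 : Matrix (Fin n) (Fin n) A)) * m0.1 := by rw [← h2]
    _ = ((m.1 * n'.1) o o) • m0.1 := by rw [Matrix.smul_mul, Matrix.one_mul]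

theorem F2 (n' m' : Lm α.symm) (m : Lm α) :
    ((m.1 * n'.1) o o) • m' = mu α o m' m • n' := by
  apply Subtype.ext
  rw [Submodule.coe_smul, Submodule.coe_smul, mu_apply]
  have h1 := mul_eq_smul_one α o m.2 m'.2
  have h2 := mul_eq_smul_one' α o m.2 n'.2
  calc ((m.1 * n'.1) o o) • m'.1
      = m'.1 * (((m.1 * n'.1) o o) • (1 : Matrix (Fin n) (Fin n) A)) := by
        rw [Matrix.mul_smul, Matrix.mul_one]
    _ = m'.1 * (m.1 * n'.1) := by rw [← h2]
    _ = (m'.1 * m.1) * n'.1 := by rw [Matrix.mul_assoc]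
    _ = (((m'.1 * m.1) o o) • (1 : Matrix (Fin n) (Fin n) A)) * n'.1 := by rw [← h1]
    _ = ((m'.1 * m.1) o o) • n'.1 := by rw [Matrix.smul_mul, Matrix.one_mul]

/-- the pairing on the tensor product -/
noncomputable def muT : Lm α.symm ⊗[A] Lm α →ₗ[A] A := TensorProduct.lift (mu α o)

theorem muT_tmul (M' : Lm α.symm) (M : Lm α) : muT α o (M' ⊗ₜ[A] M) = mu α o M' M := by
  simp [muT]

theorem swap_smul (n' : Lm α.symm) (m0 : Lm α) (x : Lm α.symm ⊗[A] Lm α) :
    mu α o n' m0 • x = muT α o x • (n' ⊗ₜ[A] m0) := by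
  induction x using TensorProduct.induction_on with
  | zero => simp
  | tmul m' m =>
    rw [muT_tmul]
    calc mu α o n' m0 • (m' ⊗ₜ[A] m) = m' ⊗ₜ[A] (mu α o n' m0 • m) :=
          (TensorProduct.tmul_smul _ _ _).symm
      _ = m' ⊗ₜ[A] (((m.1 * n'.1) o o) • m0) := by rw [F1 α o n' m0 m]
      _ = (((m.1 * n'.1) o o) • m') ⊗ₜ[A] m0 := (TensorProduct.smul_tmul _ _ _).symm
      _ = (mu α o m' m • n') ⊗ₜ[A] m0 := by rw [F2 α o n' m' m]
      _ = mu α o m' m • (n' ⊗ₜ[A] m0) := (TensorProduct.smul_tmul' _ _ _).symm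
  | add x y hx hy => rw [smul_add, hx, hy, map_add, add_smul]

theorem swap_smul' (t x : Lm α.symm ⊗[A] Lm α) : muT α o t • x = muT α o x • t := by
  induction t using TensorProduct.induction_on with
  | zero => simp
  | tmul n' m0 => rw [muT_tmul]; exact swap_smul α o n' m0 x
  | add t1 t2 h1 h2 => rw [map_add, add_smul, h1, h2, smul_add]

theorem muT_surjective : Function.Surjective (muT α o) := by
  rw [← LinearMap.range_eq_top]
  have key : ∀ l k, α (Matrix.single o o 1) l k ∈ LinearMap.range (muT α o) := by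
    intro l k
    refine ⟨(⟨psi α o l, psi_mem α o l⟩ : Lm α.symm) ⊗ₜ[A]
      (⟨phi α o k, phi_mem α o k⟩ : Lm α), ?_⟩
    rw [muT_tmul, mu_apply]; exact psi_mul_phi_apply α o k l
  have h1 : (1 : A) = (α.symm (α (Matrix.single o o 1))) o o := by
    rw [AlgEquiv.symm_apply_apply, Matrix.single_apply_same]
  have h2 : α.symm (α (Matrix.single o o 1)) =
      ∑ l, ∑ k, α (Matrix.single o o 1) l k • α.symm (Matrix.single l k 1) := by
    conv_lhs => rw [Matrix.matrix_eq_sum_single (α (Matrix.single o o 1))]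
    rw [map_sum]
    refine Finset.sum_congr rfl fun l _ => ?_
    rw [map_sum]
    refine Finset.sum_congr rfl fun k _ => ?_
    rw [← map_smul, Matrix.smul_single, smul_eq_mul, mul_one]
  have h3 : (α.symm (α (Matrix.single o o 1))) o o ∈ LinearMap.range (muT α o) := by
    rw [h2, Matrix.sum_apply]
    refine Submodule.sum_mem _ fun l _ => ?_
    rw [Matrix.sum_apply]
    refine Submodule.sum_mem _ fun k _ => ?_
    rw [Matrix.smul_apply, smul_eq_mul, mul_comm]
    exact Submodule.smul_mem _ _ (key l k)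
  rw [← h1] at h3
  exact (Ideal.eq_top_iff_one (LinearMap.range (muT α o))).mpr h3

theorem muT_injective : Function.Injective (muT α o) := by
  rw [injective_iff_map_eq_zero]
  intro x hx
  obtain ⟨t, ht⟩ := muT_surjective α o 1
  have := swap_smul' α o t x
  rw [ht, hx, one_smul, zero_smul] at this
  exact this

/-- `L' ⊗ L ≃ A` -/
noncomputable def muEquiv : Lm α.symm ⊗[A] Lm α ≃ₗ[A] A :=
  LinearEquiv.ofBijective (muT α o) ⟨muT_injective α o, muT_surjective α o⟩

include o in
theorem invertible : Module.Invertible A (Lm α) := Module.Invertible.right (muEquiv α o)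

/-- the set of values of the pairing -/
def S : Set A := {c | ∃ (n' : Lm α.symm) (m0 : Lm α), mu α o n' m0 = c}

theorem muT_mem_span (t : Lm α.symm ⊗[A] Lm α) : muT α o t ∈ Ideal.span (S α o) := by
  induction t using TensorProduct.induction_on with
  | zero => simp
  | tmul n' m0 => exact Ideal.subset_span ⟨n', m0, (muT_tmul α o n' m0).symm⟩
  | add x y hx hy => rw [map_add]; exact Ideal.add_mem _ hx hy

theorem span_S : Ideal.span (S α o) = ⊤ := by
  rw [Ideal.eq_top_iff_one]
  obtain ⟨t, ht⟩ := muT_surjective α o 1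
  rw [← ht]
  exact muT_mem_span α o t

theorem mu_pow (n' : Lm α.symm) (m0 : Lm α) :
    (mu α o n' m0) ^ n = Matrix.det n'.1 * Matrix.det m0.1 := by
  have h1 := mul_eq_smul_one α o m0.2 n'.2
  rw [← Matrix.det_mul, h1, Matrix.det_smul, Matrix.det_one, mul_one, Fintype.card_fin, mu_apply]

/-- column maps -/
def colMap (j : Fin n) : Lm α →ₗ[A] (Fin n → A) where
  toFun M := fun i => M.1 i j
  map_add' := by intro M N; ext i; simp
  map_smul' := by intro c M; ext i; simp

/-- the determinant of the columns, as a multilinear map. -/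
noncomputable def Dm : MultilinearMap A (fun _ : Fin n => Lm α) A :=
  (Matrix.detRowAlternating : (Fin n → A) [⋀^Fin n]→ₗ[A] A).toMultilinearMap.compLinearMap
    (fun j => colMap α j)

theorem Dm_const (M : Lm α) : Dm α (fun _ => M) = Matrix.det M.1 := by
  have : Dm α (fun _ => M) = Matrix.det (M.1.transpose) := rfl
  rw [this, Matrix.det_transpose]

/-- the determinant map `L^{⊗ n} → A`. -/
noncomputable def D : (⨂[A] _ : Fin n, Lm α) →ₗ[A] A := PiTensorProduct.lift (Dm α)

theorem D_tprod_const (M : Lm α) :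
    D α (PiTensorProduct.tprod A fun _ => M) = Matrix.det M.1 := by
  rw [D, PiTensorProduct.lift.tprod, Dm_const]

theorem pow_smul_mem (n' : Lm α.symm) (m0 : Lm α) (x : ⨂[A] _ : Fin n, Lm α) :
    ∃ b : A, (mu α o n' m0) ^ n • x = b • PiTensorProduct.tprod A (fun _ : Fin n => m0) := by
  induction x using PiTensorProduct.induction_on with
  | smul_tprod r f =>
    refine ⟨r * ∏ i, ((f i).1 * n'.1) o o, ?_⟩
    have h1 : (mu α o n' m0) ^ n • PiTensorProduct.tprod A f
        = PiTensorProduct.tprod A (fun i => mu α o n' m0 • f i) := by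
      rw [MultilinearMap.map_smul_univ, Finset.prod_const, Finset.card_univ, Fintype.card_fin]
    have h2 : PiTensorProduct.tprod A (fun i => mu α o n' m0 • f i)
        = PiTensorProduct.tprod A (fun i => ((f i).1 * n'.1) o o • m0) := by
      congr 1; funext i; exact F1 α o n' m0 (f i)
    rw [smul_comm, h1, h2, MultilinearMap.map_smul_univ, smul_smul]
  | add x y hx hy =>
    obtain ⟨b1, h1⟩ := hx
    obtain ⟨b2, h2⟩ := hy
    exact ⟨b1 + b2, by rw [smul_add, h1, h2, add_smul]⟩

include o in
theorem D_surjective : Function.Surjective (D α) := by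
  rw [← LinearMap.range_eq_top]
  have h : Ideal.span ((fun c : A => c ^ n) '' S α o) ≤ LinearMap.range (D α) := by
    rw [Ideal.span_le]
    rintro _ ⟨c, ⟨n', m0, rfl⟩, rfl⟩
    show (mu α o n' m0) ^ n ∈ LinearMap.range (D α)
    rw [mu_pow]
    refine ⟨Matrix.det n'.1 • PiTensorProduct.tprod A (fun _ => m0), ?_⟩
    rw [map_smul, D_tprod_const, smul_eq_mul]
  rw [Ideal.span_pow_eq_top _ (span_S α o) n] at h
  exact top_le_iff.mp h

include o in
theorem D_injective : Function.Injective (D α) := by
  rw [injective_iff_map_eq_zero]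
  intro x hx
  have h : Ideal.span ((fun c : A => c ^ (n + n)) '' S α o) ≤
      (Submodule.span A {x}).annihilator := by
    rw [Ideal.span_le]
    rintro _ ⟨c, ⟨n', m0, rfl⟩, rfl⟩
    show (mu α o n' m0) ^ (n + n) ∈ (Submodule.span A {x}).annihilator
    rw [Submodule.mem_annihilator_span_singleton]
    obtain ⟨b, hb⟩ := pow_smul_mem α o n' m0 x
    have h3 : b * Matrix.det m0.1 = 0 := by
      have := congrArg (D α) hb
      rw [map_smul, map_smul, hx, smul_zero, D_tprod_const, smul_eq_mul] at this
      exact this.symm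
    have h4 : Matrix.det n'.1 * Matrix.det m0.1 * b = 0 := by
      rw [mul_assoc, mul_comm (Matrix.det m0.1) b, h3, mul_zero]
    rw [pow_add, mul_smul, hb, smul_smul, mu_pow, h4, zero_smul]
  rw [Ideal.span_pow_eq_top _ (span_S α o) (n + n)] at h
  have h1 : (1 : A) ∈ (Submodule.span A {x}).annihilator := h Submodule.mem_top
  rw [Submodule.mem_annihilator_span_singleton, one_smul] at h1
  exact h1

include o in
theorem tpow_equiv : Nonempty ((⨂[A] _ : Fin n, Lm α) ≃ₗ[A] A) :=
  ⟨LinearEquiv.ofBijective (D α) ⟨D_injective α o, D_surjective α o⟩⟩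

end

end Groth.Agent.H86.MatAutPic
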