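import Mathlib
import Groth.Agent.S11091

/-!
# `v(N x) = f · w(x)` over a complete discrete valuation ring
-/

set_option autoImplicit false

universe u

attribute [local instance] FractionRing.liftAlgebra

open UniqueFactorizationMonoid

namespace Groth.Agent.H86.NormVal

section

variable {B : Type*} [CommRing B] [IsDedekindDomain B]

/-- In a Dedekind domain with a unique maximal ideal `M`, every nonzero ideal is a power of `M`. -/
theorem exists_eq_pow (M : Ideal B) (huniq : ∀ N : Ideal B, N.IsMaximal → N = M)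
    (I : Ideal B) (hI : I ≠ ⊥) :
    ∃ k : ℕ, I = M ^ k ∧ normalizedFactors I = Multiset.replicate k M := by
  have h1 : ∀ P ∈ normalizedFactors I, P = M := by
    intro P hP
    have hprime : Prime P := prime_of_normalized_factor P hP
    have hP0 : P ≠ ⊥ := hprime.ne_zero
    have hPp : P.IsPrime := Ideal.isPrime_of_prime hprime
    exact huniq P (hPp.isMaximal hP0)
  have h2 : normalizedFactors I = Multiset.replicate (Multiset.card (normalizedFactors I)) M :=
    Multiset.eq_replicate_card.mpr h1
  refine ⟨Multiset.card (normalizedFactors I), ?_, h2⟩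
  have h3 := Ideal.prod_normalizedFactors_eq_self hI
  rw [h2, Multiset.prod_replicate] at h3
  exact h3.symm

theorem emult_pow (M : Ideal B) (hM0 : M ≠ ⊥) (hM1 : M ≠ ⊤) (k : ℕ) :
    emultiplicity M (M ^ k) = k :=
  emultiplicity_pow_self hM0 (by rwa [Ideal.isUnit_iff]) k

end

theorem main (A B : Type u) [CommRing A] [IsDomain A] [IsDiscreteValuationRing A]
    [IsAdicComplete (IsLocalRing.maximalIdeal A) A]
    [CommRing B] [IsDedekindDomain B] [Algebra A B] [Module.Finite A B] [Module.IsTorsionFree A B]
    [Algebra.IsSeparable (FractionRing A) (FractionRing B)]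
    (M : Ideal B) [M.IsMaximal] (x : B) (hx : x ≠ 0) :
    emultiplicity (IsLocalRing.maximalIdeal A) (Ideal.span {Algebra.intNorm A B x}) =
      (M.inertiaDeg A : ℕ∞) * emultiplicity M (Ideal.span {x}) := by
  classical
  obtain ⟨m, hmdef⟩ : ∃ m : Ideal A, m = IsLocalRing.maximalIdeal A := ⟨_, rfl⟩
  rw [← hmdef]
  haveI hmmax : m.IsMaximal := hmdef ▸ IsLocalRing.maximalIdeal.isMaximal A
  obtain ⟨M₀, hM₀, huniq₀⟩ := Groth.Agent.S11091.result A B
  have huniq : ∀ N : Ideal B, N.IsMaximal → N = M := fun N hN =>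
    (huniq₀ N hN).trans (huniq₀ M inferInstance).symm
  have hm0 : m ≠ ⊥ := hmdef ▸ IsDiscreteValuationRing.not_a_field A
  have hm1 : m ≠ ⊤ := hmmax.ne_top
  have hinj : Function.Injective (algebraMap A B) := FaithfulSMul.algebraMap_injective A B
  have hunder : M.under A = m := by
    rw [hmdef]
    exact IsLocalRing.eq_maximalIdeal (Ideal.IsMaximal.under A M)
  haveI hlies : M.LiesOver m := ⟨hunder.symm⟩
  have hM0 : M ≠ ⊥ := by
    intro h
    apply hm0
    rw [← hunder, h, Ideal.under_def, Ideal.comap_bot_of_injective _ hinj]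
  have hM1 : M ≠ ⊤ := Ideal.IsMaximal.ne_top inferInstance
  -- the norm of `M`
  obtain ⟨s, hs⟩ := Ideal.exists_relNorm_eq_pow_of_isPrime M m
  -- factor `span {x}`
  have hx0 : Ideal.span ({x} : Set B) ≠ ⊥ := by
    rw [Ne, Ideal.span_singleton_eq_bot]; exact hx
  obtain ⟨k, hk, -⟩ := exists_eq_pow M huniq _ hx0
  have hnorm : Ideal.span ({Algebra.intNorm A B x} : Set A) = m ^ (s * k) := by
    rw [← Ideal.relNorm_singleton, hk, map_pow, hs, ← pow_mul]
  -- factor `m B`
  have hmB : m.map (algebraMap A B) ≠ ⊥ := Ideal.map_ne_bot_of_ne_bot hm0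
  obtain ⟨e, he, hfac⟩ := exists_eq_pow M huniq _ hmB
  have hram : M.ramificationIdx A = e := by
    rw [Ideal.IsDedekindDomain.ramificationIdx_eq_normalizedFactors_count m M hmB, hfac,
      Multiset.count_replicate_self]
  have hrel : m ^ (s * e) = m ^ Module.finrank A B := by
    rw [← Ideal.relNorm_algebraMap B m, he, map_pow, hs, ← pow_mul]
  have hse : s * e = Module.finrank A B := by
    have h1 := congrArg (emultiplicity m) hrel
    rw [emult_pow m hm0 hm1, emult_pow m hm0 hm1] at h1
    exact_mod_cast h1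
  -- the fundamental identity
  have hq : ∀ q : m.primesOver B, q.1 = M := by
    intro q
    haveI : q.1.IsPrime := q.2.1
    have hq0 : q.1 ≠ ⊥ := by
      intro h
      apply hm0
      have := q.2.2.over
      rw [this, h, Ideal.under_def, Ideal.comap_bot_of_injective _ hinj]
    exact huniq q.1 (Ideal.IsPrime.isMaximal q.2.1 hq0)
  haveI hsub : Subsingleton (m.primesOver B) :=
    ⟨fun q₁ q₂ => Subtype.ext ((hq q₁).trans (hq q₂).symm)⟩
  haveI : Fintype (m.primesOver B) := Fintype.ofFinite _
  haveI : Module.Flat A B := inferInstance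
  have hfund := Ideal.sum_ramification_inertia_eq_finrank m B
  have hMmem : M ∈ m.primesOver B := ⟨inferInstance, hlies⟩
  rw [Fintype.sum_subsingleton _ (⟨M, hMmem⟩ : m.primesOver B)] at hfund
  have hfund' : e * M.inertiaDeg A = Module.finrank A B := by
    rw [← hram]; exact hfund
  have he0 : 0 < e := by
    rw [← hram]; exact Ideal.ramificationIdx_pos M A
  have hsf : s = M.inertiaDeg A := by
    have : e * s = e * M.inertiaDeg A := by rw [hfund', mul_comm, hse]
    exact Nat.eq_of_mul_eq_mul_left he0 this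
  rw [hnorm, hk, emult_pow m hm0 hm1, emult_pow M hM0 hM1, hsf]
  push_cast
  rfl

end Groth.Agent.H86.NormVal
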