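import Mathlib
import Groth.Prelude.Def_W4c1stackycurvesGalP1
import Groth.Agent.H79.GalDescent

set_option autoImplicit false
universe u

namespace Groth.Agent.H86.P1Gal

section Basic

variable {K : Type*} [Field K]

/-- The bracket (2×2 determinant) of two vectors. -/
def br (u w : Fin 2 → K) : K := u 0 * w 1 - u 1 * w 0

/-- `phi M u w = br (M u) w`, written out. -/
def phi (M : Matrix (Fin 2) (Fin 2) K) (u w : Fin 2 → K) : K :=
  (M 0 0 * u 0 + M 0 1 * u 1) * w 1 - (M 1 0 * u 0 + M 1 1 * u 1) * w 0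

theorem phi_eq_br (M : Matrix (Fin 2) (Fin 2) K) (u w : Fin 2 → K) :
    phi M u w = br (M.mulVec u) w := by
  simp [phi, br, Matrix.mulVec, dotProduct, Fin.sum_univ_two]

theorem br_self (u : Fin 2 → K) : br u u = 0 := by unfold br; ring

theorem br_swap (u w : Fin 2 → K) : br u w = -br w u := by unfold br; ring

theorem phi_add (M N : Matrix (Fin 2) (Fin 2) K) (u w : Fin 2 → K) :
    phi (M + N) u w = phi M u w + phi N u w := by
  simp only [phi, Matrix.add_apply]; ring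

theorem phi_smul (c : K) (M : Matrix (Fin 2) (Fin 2) K) (u w : Fin 2 → K) :
    phi (c • M) u w = c * phi M u w := by
  simp only [phi, Matrix.smul_apply, smul_eq_mul]; ring

theorem phi_zero (u w : Fin 2 → K) : phi (0 : Matrix (Fin 2) (Fin 2) K) u w = 0 := by
  simp [phi]

theorem phi_smul_smul (M : Matrix (Fin 2) (Fin 2) K) (a a' : K) (u w : Fin 2 → K) :
    phi M (a • u) (a' • w) = a * a' * phi M u w := by
  simp only [phi, Pi.smul_apply, smul_eq_mul]; ring

theorem exists_smul_eq_of_br_eq_zero {u w : Fin 2 → K} (hw : w ≠ 0) (h : br u w = 0) :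
    ∃ a : K, a • w = u := by
  unfold br at h
  by_cases h0 : w 0 = 0
  · have h1 : w 1 ≠ 0 := by
      intro h1
      apply hw
      funext i
      have : ∀ i : Fin 2, w i = 0 := by
        rw [Fin.forall_fin_two]; exact ⟨h0, h1⟩
      exact this i
    have hu0 : u 0 = 0 := by
      rw [h0, mul_zero, sub_zero] at h
      exact (mul_eq_zero.mp h).resolve_right h1
    refine ⟨u 1 / w 1, ?_⟩
    funext i
    have : ∀ i : Fin 2, (u 1 / w 1) * w i = u i := by
      rw [Fin.forall_fin_two]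
      refine ⟨?_, ?_⟩
      · rw [h0, hu0, mul_zero]
      · exact div_mul_cancel₀ _ h1
    exact this i
  · refine ⟨u 0 / w 0, ?_⟩
    funext i
    have : ∀ i : Fin 2, (u 0 / w 0) * w i = u i := by
      rw [Fin.forall_fin_two]
      refine ⟨?_, ?_⟩
      · exact div_mul_cancel₀ _ h0
      · rw [div_mul_eq_mul_div, div_eq_iff h0]
        linear_combination h
    exact this i

theorem mk_eq_mk_of_br_eq_zero {u w : Fin 2 → K} (hu : u ≠ 0) (hw : w ≠ 0) (h : br u w = 0) :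
    Projectivization.mk K u hu = Projectivization.mk K w hw :=
  (Projectivization.mk_eq_mk_iff' K _ _ hu hw).mpr (exists_smul_eq_of_br_eq_zero hw h)

theorem br_ne_zero_of_ne {p q : Projectivization K (Fin 2 → K)} (h : p ≠ q) :
    br p.rep q.rep ≠ 0 := by
  intro h0
  apply h
  rw [← Projectivization.mk_rep p, ← Projectivization.mk_rep q]
  exact mk_eq_mk_of_br_eq_zero p.rep_nonzero q.rep_nonzero h0

theorem exists_br_ne_zero {v : Fin 2 → K} (hv : v ≠ 0) : ∃ a : Fin 2 → K, br v a ≠ 0 := by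
  by_cases h0 : v 0 = 0
  · have h1 : v 1 ≠ 0 := by
      intro h1
      apply hv
      funext i
      have : ∀ i : Fin 2, v i = 0 := by
        rw [Fin.forall_fin_two]; exact ⟨h0, h1⟩
      exact this i
    refine ⟨![1, 0], ?_⟩
    simp [br, h1]
  · refine ⟨![0, 1], ?_⟩
    simp [br, h0]

theorem mk_congr {v w : Fin 2 → K} (hv : v ≠ 0) (hw : w ≠ 0) (h : v = w) :
    Projectivization.mk K v hv = Projectivization.mk K w hw := by
  subst h; rfl

/-- The explicit matrix sending `v₁ ↦ α [v₁,v₂] w₁`, `v₂ ↦ β [v₂,v₁] w₂`. -/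
def mkM (α β : K) (v₁ v₂ w₁ w₂ : Fin 2 → K) : Matrix (Fin 2) (Fin 2) K :=
  !![α * v₂ 1 * w₁ 0 + β * v₁ 1 * w₂ 0, -(α * v₂ 0 * w₁ 0) - β * v₁ 0 * w₂ 0;
     α * v₂ 1 * w₁ 1 + β * v₁ 1 * w₂ 1, -(α * v₂ 0 * w₁ 1) - β * v₁ 0 * w₂ 1]

theorem phi_mkM (α β : K) (v₁ v₂ w₁ w₂ u w : Fin 2 → K) :
    phi (mkM α β v₁ v₂ w₁ w₂) u w = α * br u v₂ * br w₁ w + β * br u v₁ * br w₂ w := by
  simp [phi, mkM, br]; ring

theorem det_mkM (α β : K) (v₁ v₂ w₁ w₂ : Fin 2 → K) :
    (mkM α β v₁ v₂ w₁ w₂).det = α * β * br v₁ v₂ * br w₂ w₁ := by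
  simp [Matrix.det_fin_two, mkM, br]; ring

theorem mkM_det_ne_zero {α β : K} {v₁ v₂ w₁ w₂ : Fin 2 → K} (hα : α ≠ 0) (hβ : β ≠ 0)
    (hv : br v₁ v₂ ≠ 0) (hw : br w₁ w₂ ≠ 0) : (mkM α β v₁ v₂ w₁ w₂).det ≠ 0 := by
  rw [det_mkM, br_swap w₂ w₁]
  exact mul_ne_zero (mul_ne_zero (mul_ne_zero hα hβ) hv) (neg_ne_zero.mpr hw)

theorem phi_mkM_one (α β : K) (v₁ v₂ w₁ w₂ : Fin 2 → K) :
    phi (mkM α β v₁ v₂ w₁ w₂) v₁ w₁ = 0 := by
  rw [phi_mkM, br_self, br_self]; ring

theorem phi_mkM_two (α β : K) (v₁ v₂ w₁ w₂ : Fin 2 → K) :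
    phi (mkM α β v₁ v₂ w₁ w₂) v₂ w₂ = 0 := by
  rw [phi_mkM, br_self, br_self]; ring

theorem phi_mkM_three (v₁ v₂ v₃ w₁ w₂ w₃ : Fin 2 → K) :
    phi (mkM (br v₃ v₁ * br w₂ w₃) (-(br v₃ v₂ * br w₁ w₃)) v₁ v₂ w₁ w₂) v₃ w₃ = 0 := by
  rw [phi_mkM]; ring

/-- The polar form of the determinant on 2×2 matrices. -/
def bil (A B : Matrix (Fin 2) (Fin 2) K) : K :=
  A 0 0 * B 1 1 + A 1 1 * B 0 0 - A 0 1 * B 1 0 - A 1 0 * B 0 1

theorem det_add_eq (A B : Matrix (Fin 2) (Fin 2) K) :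
    (A + B).det = A.det + B.det + bil A B := by
  simp only [Matrix.det_fin_two, Matrix.add_apply, bil]; ring

theorem det_smul_eq (c : K) (A : Matrix (Fin 2) (Fin 2) K) : (c • A).det = c ^ 2 * A.det := by
  simp only [Matrix.det_fin_two, Matrix.smul_apply, smul_eq_mul]; ring

theorem bil_smul_sum {ι : Type*} (s : Finset ι) (T : ι → Matrix (Fin 2) (Fin 2) K) (d : ι → K)
    (c : K) (B : Matrix (Fin 2) (Fin 2) K) :
    bil (c • B) (∑ i ∈ s, d i • T i) = ∑ i ∈ s, c * d i * bil B (T i) := by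
  classical
  induction s using Finset.induction_on with
  | empty => simp [bil]
  | insert j s hj ih =>
    rw [Finset.sum_insert hj, Finset.sum_insert hj, ← ih]
    simp only [bil, Matrix.add_apply, Matrix.smul_apply, smul_eq_mul]
    ring

theorem det_sum_eq_zero {ι : Type*} (s : Finset ι) (T : ι → Matrix (Fin 2) (Fin 2) K)
    (d : ι → K) (h1 : ∀ i ∈ s, (T i).det = 0) (h2 : ∀ i ∈ s, ∀ j ∈ s, (T i + T j).det = 0) :
    (∑ i ∈ s, d i • T i).det = 0 := by
  classical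
  have hbil : ∀ i ∈ s, ∀ j ∈ s, bil (T i) (T j) = 0 := by
    intro i hi j hj
    have := h2 i hi j hj
    rw [det_add_eq, h1 i hi, h1 j hj, zero_add, zero_add] at this
    exact this
  clear h2
  induction s using Finset.induction_on with
  | empty => simp [Matrix.det_fin_two]
  | insert j s hj ih =>
    rw [Finset.sum_insert hj, det_add_eq, det_smul_eq, h1 j (Finset.mem_insert_self j s),
      ih (fun i hi => h1 i (Finset.mem_insert_of_mem hi))
        (fun i hi i' hi' => hbil i (Finset.mem_insert_of_mem hi) i' (Finset.mem_insert_of_mem hi')),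
      bil_smul_sum]
    rw [Finset.sum_eq_zero]
    · ring
    · intro i hi
      rw [hbil j (Finset.mem_insert_self j s) i (Finset.mem_insert_of_mem hi), mul_zero]

end Basic

section Galois

variable {k K : Type u} [Field k] [Field K] [Algebra k K]

theorem galVec_ne_zero (σ : K ≃ₐ[k] K) {v : Fin 2 → K} (hv : v ≠ 0) :
    (fun i => σ (v i)) ≠ 0 := by
  intro h
  apply hv
  funext i
  have := congrFun h i
  simpa using this

theorem galP_mk (σ : K ≃ₐ[k] K) (v : Fin 2 → K) (hv : v ≠ 0) :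
    W4c1stackycurves.galP σ (Projectivization.mk K v hv) =
      Projectivization.mk K (fun i => σ (v i)) (galVec_ne_zero σ hv) := rfl

theorem galP_galP_inv (σ : K ≃ₐ[k] K) (p : Projectivization K (Fin 2 → K)) :
    W4c1stackycurves.galP σ (W4c1stackycurves.galP σ⁻¹ p) = p := by
  obtain ⟨v, hv, rfl⟩ : ∃ (v : Fin 2 → K) (hv : v ≠ 0), p = Projectivization.mk K v hv :=
    ⟨p.rep, p.rep_nonzero, (Projectivization.mk_rep p).symm⟩
  rw [galP_mk, galP_mk]
  apply mk_congr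
  funext i
  exact σ.apply_symm_apply (v i)

theorem phi_map (σ : K ≃ₐ[k] K) (M : Matrix (Fin 2) (Fin 2) K) (u w : Fin 2 → K) :
    phi (M.map σ) (fun i => σ (u i)) (fun i => σ (w i)) = σ (phi M u w) := by
  simp only [phi, Matrix.map_apply, map_sub, map_mul, map_add]

variable [FiniteDimensional k K] [IsGalois k K]

theorem exists_rational (U : Submodule K (Matrix (Fin 2) (Fin 2) K))
    (hU : ∀ (σ : K ≃ₐ[k] K) (M : Matrix (Fin 2) (Fin 2) K), M ∈ U → M.map σ ∈ U)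
    (M₀ : Matrix (Fin 2) (Fin 2) K) (hM₀ : M₀ ∈ U) (hdet : M₀.det ≠ 0) :
    ∃ N : Matrix (Fin 2) (Fin 2) k, N.map (algebraMap k K) ∈ U ∧ N.det ≠ 0 := by
  classical
  by_contra hcon
  push Not at hcon
  obtain ⟨s, μ, hμ⟩ := Groth.Agent.H79.GalDescent.dedekind (k := k) (K := K)
  obtain ⟨Nc, hNc⟩ : ∃ Nc : K → Matrix (Fin 2) (Fin 2) k,
      ∀ c i j, Nc c i j = Algebra.trace k K (c * M₀ i j) :=
    ⟨fun c => Matrix.of fun i j => Algebra.trace k K (c * M₀ i j), fun c i j => rfl⟩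
  have hT : ∀ c : K, (Nc c).map (algebraMap k K) =
      ∑ σ : K ≃ₐ[k] K, (σ c) • (M₀.map σ) := by
    intro c
    ext i j
    rw [Matrix.sum_apply]
    simp only [Matrix.map_apply, Matrix.smul_apply, smul_eq_mul, hNc]
    rw [trace_eq_sum_automorphisms]
    exact Finset.sum_congr rfl (fun σ _ => map_mul σ c (M₀ i j))
  have hTU : ∀ c : K, (Nc c).map (algebraMap k K) ∈ U := by
    intro c
    rw [hT]
    exact Submodule.sum_mem _ (fun σ _ => U.smul_mem _ (hU σ M₀ hM₀))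
  have hadd : ∀ c c' : K, (Nc c + Nc c').map (algebraMap k K) =
      (Nc c).map (algebraMap k K) + (Nc c').map (algebraMap k K) := by
    intro c c'
    ext i j
    simp [Matrix.map_apply, Matrix.add_apply]
  have hdetN : ∀ N : Matrix (Fin 2) (Fin 2) k,
      (N.map (algebraMap k K)).det = algebraMap k K N.det := by
    intro N
    rw [RingHom.map_det]
    rfl
  have hM₀eq : M₀ = ∑ c ∈ s, μ c • (Nc c).map (algebraMap k K) := by
    ext i j
    rw [Matrix.sum_apply]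
    simp only [Matrix.smul_apply, smul_eq_mul, hT, Matrix.sum_apply, Matrix.map_apply]
    simp only [Finset.mul_sum]
    rw [Finset.sum_comm]
    have hσ : ∀ σ : K ≃ₐ[k] K, ∑ c ∈ s, μ c * (σ c * σ (M₀ i j)) =
        (if σ = 1 then 1 else 0) * σ (M₀ i j) := by
      intro σ
      rw [← hμ σ, Finset.sum_mul]
      exact Finset.sum_congr rfl (fun c _ => by ring)
    simp only [hσ, ite_mul, one_mul, zero_mul]
    simp [Finset.sum_ite_eq']
  have h1 : ∀ c ∈ s, ((Nc c).map (algebraMap k K)).det = 0 := by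
    intro c _
    rw [hdetN, hcon _ (hTU c), map_zero]
  have h2 : ∀ c ∈ s, ∀ c' ∈ s,
      ((Nc c).map (algebraMap k K) + (Nc c').map (algebraMap k K)).det = 0 := by
    intro c _ c' _
    rw [← hadd, hdetN, hcon _ (by rw [hadd]; exact U.add_mem (hTU c) (hTU c')), map_zero]
  exact hdet ((congrArg Matrix.det hM₀eq).trans (det_sum_eq_zero s _ μ h1 h2))

theorem main (k K : Type u) [Field k] [Field K] [Algebra k K] [FiniteDimensional k K]
    [IsGalois k K]
    (S S' : Set (Projectivization K (Fin 2 → K))) (hfin : S.Finite) (h3 : S.ncard ≤ 3)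
    (hS : ∀ (σ : K ≃ₐ[k] K) (x : Projectivization K (Fin 2 → K)), x ∈ S →
      W4c1stackycurves.galP σ x ∈ S)
    (b : S ≃ S')
    (hb : ∀ (σ : K ≃ₐ[k] K) (x : S),
      (b ⟨W4c1stackycurves.galP σ x.1, hS σ x.1 x.2⟩ : Projectivization K (Fin 2 → K)) =
        W4c1stackycurves.galP σ (b x).1) :
    ∃ g : Matrix.GeneralLinearGroup (Fin 2) k,
      (fun x => (Matrix.GeneralLinearGroup.toLin
        ((Matrix.GeneralLinearGroup.map (algebraMap k K)) g)) • x) '' S = S' := by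
  classical
  let U : Submodule K (Matrix (Fin 2) (Fin 2) K) :=
    { carrier := {M | ∀ x : S, phi M x.1.rep (b x).1.rep = 0}
      add_mem' := fun {M N} hM hN x => by rw [phi_add, hM x, hN x, add_zero]
      zero_mem' := fun x => phi_zero _ _
      smul_mem' := fun c M hM x => by rw [phi_smul, hM x, mul_zero] }
  have hUmem : ∀ M, M ∈ U ↔ ∀ x : S, phi M x.1.rep (b x).1.rep = 0 := fun M => Iff.rfl
  have hbne : ∀ s t : S, s.1 ≠ t.1 → (b s).1 ≠ (b t).1 :=
    fun s t h h' => h (congrArg Subtype.val (b.injective (Subtype.ext h')))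
  -- Galois stability of U
  have hUσ : ∀ (σ : K ≃ₐ[k] K) (M : Matrix (Fin 2) (Fin 2) K), M ∈ U → M.map σ ∈ U := by
    intro σ M hM
    rw [hUmem] at hM ⊢
    intro x
    have hyS : W4c1stackycurves.galP σ⁻¹ x.1 ∈ S := hS σ⁻¹ x.1 x.2
    obtain ⟨y, hydef⟩ : ∃ y : S, y = ⟨W4c1stackycurves.galP σ⁻¹ x.1, hyS⟩ := ⟨_, rfl⟩
    have hxy1 : W4c1stackycurves.galP σ y.1 = x.1 := by
      rw [hydef]; exact galP_galP_inv σ x.1
    have hxy : x = ⟨W4c1stackycurves.galP σ y.1, hS σ y.1 y.2⟩ := Subtype.ext hxy1.symm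
    have hbx : (b x).1 = W4c1stackycurves.galP σ (b y).1 := by
      conv_lhs => rw [hxy]
      exact hb σ y
    have e1 : ∃ a : K, a • x.1.rep = fun i => σ (y.1.rep i) := by
      have : Projectivization.mk K (fun i => σ (y.1.rep i))
          (galVec_ne_zero σ y.1.rep_nonzero) =
          Projectivization.mk K x.1.rep x.1.rep_nonzero := by
        rw [← galP_mk σ y.1.rep y.1.rep_nonzero, Projectivization.mk_rep,
          Projectivization.mk_rep]
        exact hxy1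
      exact (Projectivization.mk_eq_mk_iff' K _ _ _ _).mp this
    have e2 : ∃ a : K, a • (b x).1.rep = fun i => σ ((b y).1.rep i) := by
      have : Projectivization.mk K (fun i => σ ((b y).1.rep i))
          (galVec_ne_zero σ (b y).1.rep_nonzero) =
          Projectivization.mk K (b x).1.rep (b x).1.rep_nonzero := by
        rw [← galP_mk σ (b y).1.rep (b y).1.rep_nonzero, Projectivization.mk_rep,
          Projectivization.mk_rep]
        exact hbx.symm
      exact (Projectivization.mk_eq_mk_iff' K _ _ _ _).mp this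
    obtain ⟨a, ha⟩ := e1
    obtain ⟨a', ha'⟩ := e2
    have ha0 : a ≠ 0 := by
      rintro rfl
      rw [zero_smul] at ha
      exact galVec_ne_zero σ y.1.rep_nonzero ha.symm
    have ha'0 : a' ≠ 0 := by
      rintro rfl
      rw [zero_smul] at ha'
      exact galVec_ne_zero σ (b y).1.rep_nonzero ha'.symm
    have h4 : phi (M.map σ) (fun i => σ (y.1.rep i)) (fun i => σ ((b y).1.rep i)) = 0 := by
      rw [phi_map, hM y, map_zero]
    rw [← ha, ← ha', phi_smul_smul] at h4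
    exact (mul_eq_zero.mp h4).resolve_left (mul_ne_zero ha0 ha'0)
  -- an invertible element of U over K
  have hA : ∃ M₀ : Matrix (Fin 2) (Fin 2) K, M₀ ∈ U ∧ M₀.det ≠ 0 := by
    have hcases : S.ncard = 0 ∨ S.ncard = 1 ∨ S.ncard = 2 ∨ S.ncard = 3 := by omega
    rcases hcases with h0 | h1 | h2 | h3'
    · rw [Set.ncard_eq_zero hfin] at h0
      refine ⟨1, ?_, by simp⟩
      rw [hUmem]
      rintro ⟨x, hx⟩
      exact absurd (by rw [h0] at hx; exact hx :
        x ∈ (∅ : Set (Projectivization K (Fin 2 → K)))) (Set.notMem_empty x)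
    · obtain ⟨p, hp⟩ := Set.ncard_eq_one.mp h1
      have hpS : p ∈ S := by rw [hp]; exact Set.mem_singleton p
      obtain ⟨a, ha⟩ := exists_br_ne_zero p.rep_nonzero
      obtain ⟨c, hc⟩ := exists_br_ne_zero (b ⟨p, hpS⟩).1.rep_nonzero
      refine ⟨mkM 1 1 p.rep a (b ⟨p, hpS⟩).1.rep c, ?_,
        mkM_det_ne_zero one_ne_zero one_ne_zero ha hc⟩
      rw [hUmem]
      rintro ⟨x, hx⟩
      have hx' := hx
      rw [hp] at hx'
      obtain rfl : x = p := hx'
      exact phi_mkM_one _ _ _ _ _ _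
    · obtain ⟨p, q, hpq, hp⟩ := Set.ncard_eq_two.mp h2
      have hpS : p ∈ S := by rw [hp]; simp
      have hqS : q ∈ S := by rw [hp]; simp
      refine ⟨mkM 1 1 p.rep q.rep (b ⟨p, hpS⟩).1.rep (b ⟨q, hqS⟩).1.rep, ?_,
        mkM_det_ne_zero one_ne_zero one_ne_zero (br_ne_zero_of_ne hpq)
          (br_ne_zero_of_ne (hbne ⟨p, hpS⟩ ⟨q, hqS⟩ hpq))⟩
      rw [hUmem]
      rintro ⟨x, hx⟩
      have hx' := hx
      rw [hp] at hx'
      rcases hx' with rfl | rfl
      · exact phi_mkM_one _ _ _ _ _ _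
      · exact phi_mkM_two _ _ _ _ _ _
    · obtain ⟨p, q, r, hpq, hpr, hqr, hp⟩ := Set.ncard_eq_three.mp h3'
      have hpS : p ∈ S := by rw [hp]; simp
      have hqS : q ∈ S := by rw [hp]; simp
      have hrS : r ∈ S := by rw [hp]; simp
      have hα : br r.rep p.rep * br (b ⟨q, hqS⟩).1.rep (b ⟨r, hrS⟩).1.rep ≠ 0 :=
        mul_ne_zero (br_ne_zero_of_ne (Ne.symm hpr))
          (br_ne_zero_of_ne (hbne ⟨q, hqS⟩ ⟨r, hrS⟩ hqr))
      have hβ : -(br r.rep q.rep * br (b ⟨p, hpS⟩).1.rep (b ⟨r, hrS⟩).1.rep) ≠ 0 :=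
        neg_ne_zero.mpr (mul_ne_zero (br_ne_zero_of_ne (Ne.symm hqr))
          (br_ne_zero_of_ne (hbne ⟨p, hpS⟩ ⟨r, hrS⟩ hpr)))
      refine ⟨mkM (br r.rep p.rep * br (b ⟨q, hqS⟩).1.rep (b ⟨r, hrS⟩).1.rep)
        (-(br r.rep q.rep * br (b ⟨p, hpS⟩).1.rep (b ⟨r, hrS⟩).1.rep))
        p.rep q.rep (b ⟨p, hpS⟩).1.rep (b ⟨q, hqS⟩).1.rep, ?_,
        mkM_det_ne_zero hα hβ (br_ne_zero_of_ne hpq)
          (br_ne_zero_of_ne (hbne ⟨p, hpS⟩ ⟨q, hqS⟩ hpq))⟩
      rw [hUmem]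
      rintro ⟨x, hx⟩
      have hx' := hx
      rw [hp] at hx'
      rcases hx' with rfl | rfl | rfl
      · exact phi_mkM_one _ _ _ _ _ _
      · exact phi_mkM_two _ _ _ _ _ _
      · exact phi_mkM_three _ _ _ _ _ _
  obtain ⟨M₀, hM₀U, hM₀det⟩ := hA
  obtain ⟨N, hNU, hNdet⟩ := exists_rational U hUσ M₀ hM₀U hM₀det
  rw [hUmem] at hNU
  refine ⟨Matrix.GeneralLinearGroup.mkOfDetNeZero N hNdet, ?_⟩
  have hact : ∀ (x : Projectivization K (Fin 2 → K)) (hx : x ∈ S),
      (Matrix.GeneralLinearGroup.toLin ((Matrix.GeneralLinearGroup.map (algebraMap k K))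
        (Matrix.GeneralLinearGroup.mkOfDetNeZero N hNdet))) • x = (b ⟨x, hx⟩).1 := by
    intro x hx
    have hphi : phi (N.map (algebraMap k K)) x.rep (b ⟨x, hx⟩).1.rep = 0 := hNU ⟨x, hx⟩
    rw [phi_eq_br] at hphi
    conv_lhs => rw [← Projectivization.mk_rep x]
    rw [Projectivization.smul_mk]
    conv_rhs => rw [← Projectivization.mk_rep (b ⟨x, hx⟩).1]
    apply mk_eq_mk_of_br_eq_zero
    exact hphi
  ext y
  constructor
  · rintro ⟨x, hx, rfl⟩
    show _ • x ∈ S'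
    rw [hact x hx]
    exact (b ⟨x, hx⟩).2
  · intro hy
    refine ⟨(b.symm ⟨y, hy⟩).1, (b.symm ⟨y, hy⟩).2, ?_⟩
    show _ • (b.symm ⟨y, hy⟩).1 = y
    rw [hact _ (b.symm ⟨y, hy⟩).2]
    simp

end Galois

end Groth.Agent.H86.P1Gal
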