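import Mathlib
import Groth.Agent.H1.CSA.EndSimple
import Groth.Agent.H1.CSA.TensorSimple

set_option autoImplicit false
universe u v w
open Polynomial
open scoped TensorProduct

namespace Groth.Agent.H86.PowCenter

/-! ### Polynomial part -/

theorem irr_factor_aux {K : Type u} [Field K] (hK : ∀ n : ℕ, 0 < n → (X ^ n - 1 : K[X]).Splits)
    (Ω : Type u) [Field Ω] [Algebra K Ω] [IsAlgClosed Ω]
    {m : ℕ} (hm : 0 < m) {c : K} (hc : c ≠ 0)
    {f₁ f₂ : K[X]} (h₁m : f₁.Monic) (h₁i : Irreducible f₁) (h₁d : f₁ ∣ X ^ m - C c)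
    (h₂m : f₂.Monic) (h₂i : Irreducible f₂) (h₂d : f₂ ∣ X ^ m - C c) :
    (∃ a : K, f₁ = X ^ f₁.natDegree - C a) ∧ f₂.natDegree ≤ f₁.natDegree := by
  classical
  have hic : algebraMap K Ω c ≠ 0 := by
    intro h; exact hc ((map_eq_zero (algebraMap K Ω)).mp h)
  have hroot_pow : ∀ (f : K[X]), f ∣ X ^ m - C c → ∀ ρ : Ω, aeval ρ f = 0 →
      ρ ^ m = algebraMap K Ω c := by
    intro f hfd ρ hρ
    obtain ⟨q, hq⟩ := hfd
    have h1 : aeval ρ (X ^ m - C c : K[X]) = 0 := by rw [hq, map_mul, hρ, zero_mul]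
    rw [map_sub, map_pow, aeval_X, aeval_C, sub_eq_zero] at h1
    exact h1
  have hne0 : ∀ ρ : Ω, ρ ^ m = algebraMap K Ω c → ρ ≠ 0 := by
    rintro ρ hρ rfl
    rw [zero_pow hm.ne'] at hρ
    exact hic hρ.symm
  have hquot : ∀ ρ σ : Ω, ρ ^ m = algebraMap K Ω c → σ ^ m = algebraMap K Ω c →
      ∃ k : K, algebraMap K Ω k = ρ / σ := by
    intro ρ σ hρ hσ
    have h1 : (ρ / σ) ^ m = 1 := by rw [div_pow, hρ, hσ, div_self hic]
    have hne : (X ^ m - 1 : K[X]) ≠ 0 := by
      have := X_pow_sub_C_ne_zero hm (1 : K)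
      simpa using this
    have hmem : ρ / σ ∈ (algebraMap K Ω).range := by
      refine Splits.mem_range_of_isRoot (hK m hm) hne ?_
      rw [IsRoot.def, Polynomial.map_sub, Polynomial.map_pow, Polynomial.map_X, Polynomial.map_one,
        eval_sub, eval_pow, eval_X, eval_one, h1, sub_self]
    exact RingHom.mem_range.mp hmem
  obtain ⟨β, hβ⟩ := IsAlgClosed.exists_aeval_eq_zero Ω f₁ (degree_pos_of_irreducible h₁i).ne'
  have hβm := hroot_pow f₁ h₁d β hβ
  have hβ0 := hne0 β hβm
  obtain ⟨r, hr⟩ : ∃ r : ℕ, r = f₁.natDegree := ⟨_, rfl⟩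
  have hr0 : r ≠ 0 := by rw [hr]; exact (Irreducible.natDegree_pos h₁i).ne'
  have hβr : ∃ a : K, algebraMap K Ω a = β ^ r := by
    obtain ⟨F, hF⟩ : ∃ F : Polynomial Ω, F = f₁.map (algebraMap K Ω) := ⟨_, rfl⟩
    have hFs : F.Splits := IsAlgClosed.splits F
    have hFm : F.Monic := by rw [hF]; exact h₁m.map _
    have hFdeg : F.natDegree = r := by rw [hF, hr]; exact h₁m.natDegree_map _
    have hcard : Multiset.card F.roots = r := by
      rw [← hFdeg]; exact hFs.natDegree_eq_card_roots.symm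
    have hmemroots : ∀ ρ ∈ F.roots, ρ ^ m = algebraMap K Ω c := by
      intro ρ hρ
      apply hroot_pow f₁ h₁d
      have := (mem_roots hFm.ne_zero).mp hρ
      rw [IsRoot.def, hF, eval_map] at this
      rwa [aeval_def]
    have hprod : F.coeff 0 = (-1) ^ r * F.roots.prod := by
      rw [← hFdeg]; exact hFs.coeff_zero_eq_prod_roots_of_monic hFm
    have hcoeff : F.coeff 0 = algebraMap K Ω (f₁.coeff 0) := by rw [hF, coeff_map]
    obtain ⟨u, hu⟩ : ∃ u : Ω, u = (F.roots.map fun ρ => ρ / β).prod := ⟨_, rfl⟩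
    have hu_mem : u ∈ (algebraMap K Ω).fieldRange := by
      rw [hu]
      apply Subfield.multiset_prod_mem
      intro y hy
      obtain ⟨ρ, hρ, rfl⟩ := Multiset.mem_map.mp hy
      obtain ⟨k, hk⟩ := hquot ρ β (hmemroots ρ hρ) hβm
      exact RingHom.mem_fieldRange.mpr ⟨k, hk⟩
    have hu0 : u ≠ 0 := by
      rw [hu]
      apply Multiset.prod_ne_zero
      intro h0
      obtain ⟨ρ, hρ, hρ0⟩ := Multiset.mem_map.mp h0
      rcases div_eq_zero_iff.mp hρ0 with h | h
      · exact hne0 ρ (hmemroots ρ hρ) h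
      · exact hβ0 h
    have hu_eq : u * β ^ r = F.roots.prod := by
      rw [hu, Multiset.prod_map_div, Multiset.map_id', Multiset.map_const',
        Multiset.prod_replicate, hcard]
      exact div_mul_cancel₀ _ (pow_ne_zero r hβ0)
    have hP : F.roots.prod = (-1) ^ r * algebraMap K Ω (f₁.coeff 0) := by
      rw [← hcoeff, hprod, ← mul_assoc, ← mul_pow]; simp
    have hβr' : β ^ r = F.roots.prod / u := by
      rw [eq_div_iff hu0, mul_comm]; exact hu_eq
    have hmem : β ^ r ∈ (algebraMap K Ω).fieldRange := by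
      rw [hβr', hP]
      refine Subfield.div_mem _ (Subfield.mul_mem _
        (Subfield.pow_mem _ (Subfield.neg_mem _ (Subfield.one_mem _)) r) ?_) hu_mem
      exact RingHom.mem_fieldRange.mpr ⟨_, rfl⟩
    exact RingHom.mem_fieldRange.mp hmem
  obtain ⟨a, ha⟩ := hβr
  have hmin₁ : f₁ = minpoly K β := minpoly.eq_of_irreducible_of_monic h₁i hβ h₁m
  have hdv : f₁ ∣ X ^ r - C a := by
    rw [hmin₁]
    apply minpoly.dvd
    rw [map_sub, map_pow, aeval_X, aeval_C, ha, sub_self]
  have hmon : (X ^ r - C a : K[X]).Monic := monic_X_pow_sub_C a hr0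
  have hf₁ : f₁ = X ^ r - C a :=
    (eq_of_monic_of_dvd_of_natDegree_le h₁m hmon hdv
      (by rw [natDegree_X_pow_sub_C, hr])).symm
  refine ⟨⟨a, by rw [← hr]; exact hf₁⟩, ?_⟩
  obtain ⟨γ, hγ⟩ := IsAlgClosed.exists_aeval_eq_zero Ω f₂ (degree_pos_of_irreducible h₂i).ne'
  have hγm := hroot_pow f₂ h₂d γ hγ
  obtain ⟨ζ, hζ⟩ := hquot γ β hγm hβm
  have hγβ : γ = algebraMap K Ω ζ * β := by rw [hζ, div_mul_cancel₀ _ hβ0]
  have hmin₂ : f₂ = minpoly K γ := minpoly.eq_of_irreducible_of_monic h₂i hγ h₂m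
  have hdv₂ : f₂ ∣ X ^ r - C (ζ ^ r * a) := by
    rw [hmin₂]
    apply minpoly.dvd
    rw [map_sub, map_pow, aeval_X, aeval_C, map_mul, map_pow, ha, hγβ, mul_pow, sub_self]
  have hle := natDegree_le_of_dvd hdv₂ (monic_X_pow_sub_C (ζ ^ r * a) hr0).ne_zero
  rw [natDegree_X_pow_sub_C] at hle
  rw [← hr]; exact hle

theorem irr_factor {K : Type u} [Field K] (hK : ∀ n : ℕ, 0 < n → (X ^ n - 1 : K[X]).Splits)
    {m : ℕ} (hm : 0 < m) {c : K} (hc : c ≠ 0)
    {f₁ f₂ : K[X]} (h₁m : f₁.Monic) (h₁i : Irreducible f₁) (h₁d : f₁ ∣ X ^ m - C c)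
    (h₂m : f₂.Monic) (h₂i : Irreducible f₂) (h₂d : f₂ ∣ X ^ m - C c) :
    (∃ a : K, f₁ = X ^ f₁.natDegree - C a) ∧ f₂.natDegree ≤ f₁.natDegree :=
  irr_factor_aux hK (AlgebraicClosure K) hm hc h₁m h₁i h₁d h₂m h₂i h₂d

theorem factor_form {K : Type u} [Field K] (hK : ∀ n : ℕ, 0 < n → (X ^ n - 1 : K[X]).Splits)
    {m : ℕ} (hm : 0 < m) {c : K} (hc : c ≠ 0) {μ : K[X]} (hμ : μ.Monic)
    (hμd : μ ∣ X ^ m - C c) (hμ1 : μ ≠ 1) :
    ∃ r : ℕ, 0 < r ∧ ∃ s : Multiset K,
      μ = (s.map fun a : K => (X ^ r - C a : K[X])).prod ∧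
      ∀ a ∈ s, Irreducible (X ^ r - C a : K[X]) := by
  classical
  have hμ0 : μ ≠ 0 := hμ.ne_zero
  obtain ⟨F, hF⟩ : ∃ F : Multiset K[X], F = UniqueFactorizationMonoid.normalizedFactors μ :=
    ⟨_, rfl⟩
  have hFprod : F.prod = μ := by
    rw [hF, UniqueFactorizationMonoid.prod_normalizedFactors_eq hμ0, hμ.normalize_eq_self]
  have hFmem : ∀ p ∈ F, p.Monic ∧ Irreducible p ∧ p ∣ X ^ m - C c := by
    intro p hp
    rw [hF] at hp
    have hirr := UniqueFactorizationMonoid.irreducible_of_normalized_factor p hp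
    have hnorm := UniqueFactorizationMonoid.normalize_normalized_factor p hp
    refine ⟨?_, hirr, (UniqueFactorizationMonoid.dvd_of_mem_normalizedFactors hp).trans hμd⟩
    rw [← hnorm]; exact Polynomial.monic_normalize hirr.ne_zero
  have hFne : F ≠ 0 := by
    intro h; rw [h, Multiset.prod_zero] at hFprod; exact hμ1 hFprod.symm
  obtain ⟨p₀, hp₀⟩ := Multiset.exists_mem_of_ne_zero hFne
  obtain ⟨hp₀m, hp₀i, hp₀d⟩ := hFmem p₀ hp₀
  have hr0 : p₀.natDegree ≠ 0 := (Irreducible.natDegree_pos hp₀i).ne'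
  have key : ∀ p ∈ F, p = X ^ p₀.natDegree - C (-(p.coeff 0)) := by
    intro p hp
    obtain ⟨hpm, hpi, hpd⟩ := hFmem p hp
    obtain ⟨⟨a, ha⟩, hle1⟩ := irr_factor hK hm hc hpm hpi hpd hp₀m hp₀i hp₀d
    obtain ⟨-, hle2⟩ := irr_factor hK hm hc hp₀m hp₀i hp₀d hpm hpi hpd
    have hdeg : p.natDegree = p₀.natDegree := le_antisymm hle2 hle1
    rw [hdeg] at ha
    have hcoef : p.coeff 0 = -a := by
      conv_lhs => rw [ha]
      rw [coeff_sub, coeff_X_pow, coeff_C_zero, if_neg (Ne.symm hr0), zero_sub]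
    rw [hcoef, neg_neg]; exact ha
  refine ⟨p₀.natDegree, Irreducible.natDegree_pos hp₀i, F.map (fun p => -(p.coeff 0)), ?_, ?_⟩
  · rw [Multiset.map_map]
    have hmap : F.map ((fun a : K => (X ^ p₀.natDegree - C a : K[X])) ∘
        fun p : K[X] => -(p.coeff 0)) = F := by
      conv_rhs => rw [← Multiset.map_id F]
      exact Multiset.map_congr rfl (fun p hp => (key p hp).symm)
    rw [hmap, hFprod]
  · intro a ha
    obtain ⟨p, hp, rfl⟩ := Multiset.mem_map.mp ha
    rw [← key p hp]; exact (hFmem p hp).2.1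

/-! ### Module part -/

theorem finrank_eq_of_carrier_eq {K : Type*} [Field K] {R : Type*} [Ring R] [Algebra K R]
    {W : Type*} [AddCommGroup W] [Module K W] [Module R W] [IsScalarTower K R W]
    (p : Submodule R W) (q : Submodule K W) (h : ∀ x, x ∈ q ↔ x ∈ p) :
    Module.finrank K ↥q = Module.finrank K ↥p :=
  LinearEquiv.finrank_eq
    { toFun := fun x => ⟨x.1, (h _).mp x.2⟩
      invFun := fun x => ⟨x.1, (h _).mpr x.2⟩
      map_add' := fun _ _ => rfl
      map_smul' := fun _ _ => rfl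
      left_inv := fun _ => rfl
      right_inv := fun _ => rfl }

section

variable {K : Type u} [Field K] {A : Type v} [Ring A] [Algebra K A] [Algebra.IsCentral K A]
  [IsSimpleRing A] [FiniteDimensional K A]

theorem dvd_finrank_of_irreducible_kills {n : ℕ} (hn : Module.finrank K A = n ^ 2)
    (W : Type w) [AddCommGroup W] [Module K W] [Module (A ⊗[K] K[X]) W]
    [IsScalarTower K (A ⊗[K] K[X]) W] [FiniteDimensional K W]
    (g : K[X]) (hg : Irreducible g)
    (hkill : ∀ w : W, ((1 : A) ⊗ₜ[K] g) • w = 0) :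
    g.natDegree * n ∣ Module.finrank K W := by
  classical
  haveI : Fact (Irreducible g) := ⟨hg⟩
  let Θ : (A ⊗[K] K[X]) →ₐ[K] Module.End K W := Algebra.lsmul K K W
  have hΘ : ∀ (t : A ⊗[K] K[X]) (w : W), Θ t w = t • w := fun t w => rfl
  let τ : K[X] →ₐ[K] Module.End K W := Θ.comp Algebra.TensorProduct.includeRight
  let lA : A →ₐ[K] Module.End K W := Θ.comp Algebra.TensorProduct.includeLeft
  have hτ : ∀ q : K[X], τ q = Θ ((1 : A) ⊗ₜ[K] q) := fun q => rfl
  have hlA : ∀ a : A, lA a = Θ (a ⊗ₜ[K] (1 : K[X])) := fun a => rfl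
  have hτg0 : τ g = 0 := by
    ext w; exact hkill w
  have hτg : ∀ q ∈ Ideal.span {g}, τ q = 0 := by
    intro q hq
    obtain ⟨q', rfl⟩ := Ideal.mem_span_singleton.mp hq
    rw [map_mul, hτg0, zero_mul]
  let ιE : AdjoinRoot g →ₐ[K] Module.End K W := Ideal.Quotient.liftₐ (Ideal.span {g}) τ hτg
  have hι : ∀ q : K[X], ιE (AdjoinRoot.mk g q) = τ q := fun q => rfl
  have hcomm : ∀ (e : AdjoinRoot g) (a : A), Commute (ιE e) (lA a) := by
    intro e a
    obtain ⟨q, rfl⟩ := AdjoinRoot.mk_surjective e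
    rw [hι, hτ, hlA]
    show Θ _ * Θ _ = Θ _ * Θ _
    rw [← map_mul, ← map_mul, Algebra.TensorProduct.tmul_mul_tmul,
      Algebra.TensorProduct.tmul_mul_tmul, one_mul, mul_one, one_mul, mul_one]
  let Ψ : AdjoinRoot g ⊗[K] A →ₐ[K] Module.End K W := Algebra.TensorProduct.lift ιE lA hcomm
  have hΨ : ∀ (e : AdjoinRoot g) (a : A), Ψ (e ⊗ₜ[K] a) = ιE e * lA a :=
    fun e a => Algebra.TensorProduct.lift_tmul _ _ _ e a
  letI modE : Module (AdjoinRoot g) W := Module.compHom W ιE.toRingHom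
  letI modEA : Module (AdjoinRoot g ⊗[K] A) W := Module.compHom W Ψ.toRingHom
  have smulE : ∀ (e : AdjoinRoot g) (w : W), e • w = ιE e w := fun e w => rfl
  have smulEA : ∀ (t : AdjoinRoot g ⊗[K] A) (w : W), t • w = Ψ t w := fun t w => rfl
  haveI towerKE : IsScalarTower K (AdjoinRoot g) W := ⟨fun k e w => by
    show ιE (k • e) w = k • ιE e w
    rw [map_smul]; rfl⟩
  haveI towerEEA : IsScalarTower (AdjoinRoot g) (AdjoinRoot g ⊗[K] A) W := ⟨fun e t w => by
    have h1 : e • t = (e ⊗ₜ[K] (1 : A)) * t := by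
      induction t using TensorProduct.induction_on with
      | zero => rw [smul_zero, mul_zero]
      | tmul e' a =>
        rw [TensorProduct.smul_tmul', Algebra.TensorProduct.tmul_mul_tmul, smul_eq_mul, one_mul]
      | add y z hy hz => rw [smul_add, hy, hz, mul_add]
    show Ψ (e • t) w = ιE e (Ψ t w)
    rw [h1, map_mul, hΨ, map_one, mul_one]
    rfl⟩
  haveI : FiniteDimensional (AdjoinRoot g) W :=
    Module.Finite.of_restrictScalars_finite K (AdjoinRoot g) W
  haveI : IsSimpleRing (AdjoinRoot g ⊗[K] A) := Groth.Agent.H1.CSA.isSimpleRing_tensorProduct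
  have key := Groth.Agent.H1.CSA.finrank_end_mul_finrank (k := AdjoinRoot g)
    (R := AdjoinRoot g ⊗[K] A) W
  have h2 : Module.finrank (AdjoinRoot g) (AdjoinRoot g ⊗[K] A) = n ^ 2 := by
    rw [Module.finrank_baseChange, hn]
  have h3 : n ∣ Module.finrank (AdjoinRoot g) W := by
    have h : n ^ 2 ∣ Module.finrank (AdjoinRoot g) W ^ 2 :=
      Dvd.intro_left _ (by rw [← h2]; exact key)
    exact (Nat.pow_dvd_pow_iff (by norm_num)).mp h
  have h4 : Module.finrank K (AdjoinRoot g) * Module.finrank (AdjoinRoot g) W =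
      Module.finrank K W := Module.finrank_mul_finrank K (AdjoinRoot g) W
  have h5 : Module.finrank K (AdjoinRoot g) = g.natDegree :=
    finrank_quotient_span_eq_natDegree (f := g)
  rw [← h4, h5]
  exact Nat.mul_dvd_mul_left _ h3

theorem dvd_finrank_of_prod_kills {n : ℕ} (hn : Module.finrank K A = n ^ 2) (r : ℕ)
    (s : Multiset K) :
    (∀ a ∈ s, Irreducible (X ^ r - C a : K[X])) →
    ∀ (W : Type w) [AddCommGroup W] [Module K W] [Module (A ⊗[K] K[X]) W]
      [IsScalarTower K (A ⊗[K] K[X]) W] [FiniteDimensional K W],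
      (∀ w : W, ((1 : A) ⊗ₜ[K] (s.map fun a : K => (X ^ r - C a : K[X])).prod) • w = 0) →
      r * n ∣ Module.finrank K W := by
  induction s using Multiset.induction_on with
  | empty =>
    intro _ W _ _ _ _ _ hkill
    have h0 : ∀ w : W, w = 0 := fun w => by
      have := hkill w
      rwa [Multiset.map_zero, Multiset.prod_zero, ← Algebra.TensorProduct.one_def, one_smul]
        at this
    haveI : Subsingleton W := ⟨fun a b => by rw [h0 a, h0 b]⟩
    rw [Module.finrank_zero_of_subsingleton]; exact dvd_zero _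
  | cons a s ih =>
    intro hs W _ _ _ _ _ hkill
    obtain ⟨g, hg_def⟩ : ∃ g : K[X], g = X ^ r - C a := ⟨_, rfl⟩
    have hgirr : Irreducible g := by rw [hg_def]; exact hs a (Multiset.mem_cons_self a s)
    have hgdeg : g.natDegree = r := by rw [hg_def]; exact natDegree_X_pow_sub_C
    have hs' : ∀ b ∈ s, Irreducible (X ^ r - C b : K[X]) :=
      fun b hb => hs b (Multiset.mem_cons_of_mem hb)
    obtain ⟨P, hP⟩ : ∃ P : K[X], P = (s.map fun a : K => (X ^ r - C a : K[X])).prod :=
      ⟨_, rfl⟩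
    have hkill' : ∀ w : W, ((1 : A) ⊗ₜ[K] (g * P)) • w = 0 := by
      intro w
      have := hkill w
      rwa [Multiset.map_cons, Multiset.prod_cons, ← hg_def, ← hP] at this
    have hcentral : ∀ t : A ⊗[K] K[X],
        ((1 : A) ⊗ₜ[K] g) * t = t * ((1 : A) ⊗ₜ[K] g) := by
      intro t
      induction t using TensorProduct.induction_on with
      | zero => rw [mul_zero, zero_mul]
      | tmul a' q =>
        rw [Algebra.TensorProduct.tmul_mul_tmul, Algebra.TensorProduct.tmul_mul_tmul, one_mul,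
          mul_one, mul_comm]
      | add y z hy hz => rw [mul_add, add_mul, hy, hz]
    let f : W →ₗ[A ⊗[K] K[X]] W :=
      { toFun := fun w => ((1 : A) ⊗ₜ[K] g) • w
        map_add' := fun y z => smul_add _ y z
        map_smul' := fun t w => by
          show ((1 : A) ⊗ₜ[K] g) • (t • w) = t • (((1 : A) ⊗ₜ[K] g) • w)
          rw [← mul_smul, ← mul_smul, hcentral] }
    have hf : ∀ w, f w = ((1 : A) ⊗ₜ[K] g) • w := fun w => rfl
    have hker : r * n ∣ Module.finrank K ↥(LinearMap.ker f) := by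
      haveI : FiniteDimensional K ↥(LinearMap.ker f) :=
        Module.Finite.of_injective ((LinearMap.ker f).subtype.restrictScalars K)
          Subtype.val_injective
      rw [← hgdeg]
      refine dvd_finrank_of_irreducible_kills hn ↥(LinearMap.ker f) g hgirr (fun w => ?_)
      apply Subtype.ext
      exact LinearMap.mem_ker.mp w.2
    have hrange : r * n ∣ Module.finrank K ↥(LinearMap.range f) := by
      haveI : FiniteDimensional K ↥(LinearMap.range f) :=
        Module.Finite.of_injective ((LinearMap.range f).subtype.restrictScalars K)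
          Subtype.val_injective
      refine ih hs' ↥(LinearMap.range f) (fun w => ?_)
      obtain ⟨w, hw⟩ := w
      obtain ⟨v, rfl⟩ := LinearMap.mem_range.mp hw
      apply Subtype.ext
      show ((1 : A) ⊗ₜ[K] (s.map fun a : K => (X ^ r - C a : K[X])).prod) •
        (((1 : A) ⊗ₜ[K] g) • v) = 0
      rw [← mul_smul, Algebra.TensorProduct.tmul_mul_tmul, one_mul, ← hP, mul_comm]
      exact hkill' v
    have hrn := LinearMap.finrank_range_add_finrank_ker (f.restrictScalars K)
    have e1 := finrank_eq_of_carrier_eq (LinearMap.range f)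
      (LinearMap.range (f.restrictScalars K)) (fun _ => Iff.rfl)
    have e2 := finrank_eq_of_carrier_eq (LinearMap.ker f)
      (LinearMap.ker (f.restrictScalars K)) (fun _ => Iff.rfl)
    rw [e1, e2] at hrn
    rw [← hrn]
    exact dvd_add hrange hker

end

/-! ### Assembly -/

theorem main (K : Type u) [Field K] (hK : ∀ n : ℕ, 0 < n → (X ^ n - 1 : K[X]).Splits)
    (A : Type v) [Ring A] [Algebra K A] [Algebra.IsCentral K A] [IsSimpleRing A]
    [FiniteDimensional K A]
    (n : ℕ) (hn : Module.finrank K A = n ^ 2)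
    (x : A) (hx : IsUnit x) (hxm : ∃ m : ℕ, 0 < m ∧ x ^ m ∈ (algebraMap K A).range) :
    ∃ r : ℕ, 0 < r ∧ r ∣ n ∧ ∃ s : Multiset K,
      minpoly K x = (s.map fun a : K => X ^ r - C a).prod := by
  obtain ⟨m, hm, hmem⟩ := hxm
  obtain ⟨c, hc⟩ := RingHom.mem_range.mp hmem
  have hc0 : c ≠ 0 := by
    rintro rfl
    rw [map_zero] at hc
    have hu : IsUnit (x ^ m) := hx.pow m
    rw [← hc] at hu
    exact not_isUnit_zero hu
  have hint : IsIntegral K x := Algebra.IsIntegral.isIntegral x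
  have hμ : (minpoly K x).Monic := minpoly.monic hint
  have hμd : minpoly K x ∣ X ^ m - C c := by
    apply minpoly.dvd
    rw [map_sub, map_pow, aeval_X, aeval_C, hc, sub_self]
  have hμ1 : minpoly K x ≠ 1 := minpoly.ne_one K x
  obtain ⟨r, hr, s, hs, hirr⟩ := factor_form hK hm hc0 hμ hμd hμ1
  refine ⟨r, hr, ?_, s, hs⟩
  have hmain : r * n ∣ Module.finrank K A := by
    let φ : K[X] →ₐ[K] Aᵐᵒᵖ := (Polynomial.aeval x).toOpposite (fun p q => by
      show aeval x p * aeval x q = aeval x q * aeval x p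
      rw [← map_mul, ← map_mul, mul_comm])
    letI modP : Module K[X] A := Module.compHom A φ.toRingHom
    have hsmul : ∀ (q : K[X]) (b : A), q • b = b * aeval x q := fun q b => rfl
    haveI : SMulCommClass A K[X] A := ⟨fun a q b => by
      show a * (b * aeval x q) = (a * b) * aeval x q
      rw [mul_assoc]⟩
    haveI : IsScalarTower K K[X] A := ⟨fun k q b => by
      show b * aeval x (k • q) = k • (b * aeval x q)
      rw [map_smul, mul_smul_comm]⟩
    letI modR : Module (A ⊗[K] K[X]) A := TensorProduct.Algebra.module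
    haveI : IsScalarTower K (A ⊗[K] K[X]) A := ⟨fun k t b => by
      induction t using TensorProduct.induction_on with
      | zero => rw [smul_zero, zero_smul (A ⊗[K] K[X]) b, smul_zero]
      | tmul a q =>
        rw [TensorProduct.smul_tmul', TensorProduct.Algebra.smul_def,
          TensorProduct.Algebra.smul_def, smul_assoc]
      | add y z hy hz => rw [smul_add, add_smul, add_smul, hy, hz, smul_add]⟩
    have hkill : ∀ b : A,
        ((1 : A) ⊗ₜ[K] (s.map fun a : K => (X ^ r - C a : K[X])).prod) • b = 0 := by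
      intro b
      rw [TensorProduct.Algebra.smul_def, one_smul, hsmul, ← hs, minpoly.aeval, mul_zero]
    exact dvd_finrank_of_prod_kills hn r s hirr A hkill
  rw [hn, pow_two] at hmain
  have hn0 : n ≠ 0 := by
    rintro rfl
    have hpos : 0 < Module.finrank K A := Module.finrank_pos
    rw [hn] at hpos
    simp at hpos
  exact Nat.dvd_of_mul_dvd_mul_right (Nat.pos_of_ne_zero hn0) hmain

end Groth.Agent.H86.PowCenter
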