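import Mathlib
import Groth.Prelude.Def_GSzCSA
import Groth.Agent.H1.CSA.Index
import Groth.Agent.H1.CSA.MatrixSimple
import Groth.Agent.H1.CSA.BrauerEq
import Groth.Agent.H1.CSA.TPow

/-!
# Quaternion algebras and central division algebras of dimension 4 (characteristic ≠ 2)
-/

set_option autoImplicit false
universe u v w
open scoped TensorProduct
open Groth.Agent.H1.CSA

namespace Groth.Agent.H86.Quat

section Q1

variable {k : Type u} [Field k] {D : Type v} [DivisionRing D] [Algebra k D]

/-- `1, w` are linearly independent when `w` is not a scalar. -/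
theorem lin_indep_pair (w : D) (hw : ∀ e : k, w ≠ algebraMap k D e) (α β : k)
    (h : α • (1 : D) + β • w = 0) : α = 0 ∧ β = 0 := by
  by_cases hβ : β = 0
  · rw [hβ, zero_smul, add_zero] at h
    exact ⟨(smul_eq_zero.mp h).resolve_right one_ne_zero, hβ⟩
  · exfalso
    apply hw (-(β⁻¹ * α))
    have h1 : β • w = -(α • (1 : D)) := eq_neg_of_add_eq_zero_right h
    have h2' : w = β⁻¹ • (β • w) := by rw [smul_smul, inv_mul_cancel₀ hβ, one_smul]
    rw [h2', h1, Algebra.algebraMap_eq_smul_one, smul_neg, smul_smul, neg_smul]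

set_option maxHeartbeats 1000000 in
/-- A central division algebra of dimension 4 over a field in which `2 ≠ 0` is a quaternion
algebra. -/
theorem quat_of_division (h2 : (2 : k) ≠ 0) [Algebra.IsCentral k D] [FiniteDimensional k D]
    (hD : Module.finrank k D = 4) :
    ∃ a b : k, Nonempty (QuaternionAlgebra k a 0 b ≃ₐ[k] D) := by
  classical
  obtain ⟨L, hLc, hLmax, _⟩ := exists_maximal_comm_separable (k := k) (D := D)
  have hdim := finrank_eq_sq_of_maximal_comm L hLc hLmax
  have hL2 : Module.finrank k L = 2 := by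
    rw [hD] at hdim
    have h4 : Module.finrank k L ^ 2 = 2 ^ 2 := by rw [← hdim]; norm_num
    exact Nat.pow_left_injective (n := 2) (by norm_num) h4
  -- elements commuting with `L` lie in `L`
  have hCL : ∀ y : D, (∀ g ∈ L, g * y = y * g) → y ∈ L := by
    intro y hy
    have hcomm' : ∀ a ∈ ((L : Set D) ∪ {y}), ∀ b ∈ ((L : Set D) ∪ {y}), a * b = b * a := by
      rintro a (ha | ha) b (hb | hb)
      · exact hLc a ha b hb
      · rw [Set.mem_singleton_iff] at hb
        subst hb
        exact hy a ha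
      · rw [Set.mem_singleton_iff] at ha
        subst ha
        exact (hy b hb).symm
      · rw [Set.mem_singleton_iff] at ha hb
        subst ha
        subst hb
        rfl
    have hL' := Algebra.isMulCommutative_adjoin k hcomm'
    have hle : L ≤ Algebra.adjoin k ((L : Set D) ∪ {y}) :=
      fun z hz => Algebra.subset_adjoin (Or.inl hz)
    have h := hLmax (Algebra.adjoin k ((L : Set D) ∪ {y}))
      (fun a ha b hb => setLike_mul_comm ha hb) hle
    rw [← h]
    exact Algebra.subset_adjoin (Or.inr rfl)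
  -- a non-scalar element of `L`
  obtain ⟨x, hxL, hxk⟩ : ∃ x ∈ L, x ∉ (⊥ : Subalgebra k D) := by
    by_contra hcon
    push Not at hcon
    have hLbot : L = ⊥ := le_antisymm (fun z hz => hcon z hz) bot_le
    rw [hLbot, Subalgebra.finrank_bot] at hL2
    norm_num at hL2
  have hxk' : ∀ e : k, x ≠ algebraMap k D e := by
    intro e he
    apply hxk
    rw [he]
    exact Subalgebra.algebraMap_mem _ e
  -- `L = k + k x`
  let xL : ↥L := ⟨x, hxL⟩
  let φ : (k × k) →ₗ[k] ↥L :=
    (LinearMap.toSpanSingleton k ↥L 1).coprod (LinearMap.toSpanSingleton k ↥L xL)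
  have hφ : ∀ p : k × k, ((φ p : ↥L) : D) = p.1 • (1 : D) + p.2 • x := by
    intro p
    show (((LinearMap.toSpanSingleton k ↥L 1) p.1 + (LinearMap.toSpanSingleton k ↥L xL) p.2 : ↥L) : D)
      = _
    rw [LinearMap.toSpanSingleton_apply, LinearMap.toSpanSingleton_apply, Subalgebra.coe_add,
      Subalgebra.coe_smul, Subalgebra.coe_smul, Subalgebra.coe_one]
  have hφinj : Function.Injective φ := by
    rw [← LinearMap.ker_eq_bot, LinearMap.ker_eq_bot']
    intro p hp
    have hp' : p.1 • (1 : D) + p.2 • x = 0 := by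
      rw [← hφ, hp]
      rfl
    obtain ⟨h1, h2'⟩ := lin_indep_pair x hxk' p.1 p.2 hp'
    exact Prod.ext h1 h2'
  have hφsurj : Function.Surjective φ := by
    apply (LinearMap.injective_iff_surjective_of_finrank_eq_finrank (f := φ) ?_).mp hφinj
    rw [hL2, Module.finrank_prod, Module.finrank_self]
  have hLrep : ∀ z ∈ L, ∃ u v : k, z = u • (1 : D) + v • x := by
    intro z hz
    obtain ⟨p, hp⟩ := hφsurj ⟨z, hz⟩
    refine ⟨p.1, p.2, ?_⟩
    rw [← hφ, hp]
  obtain ⟨s, t, hst⟩ := hLrep (x * x) (L.mul_mem hxL hxL)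
  -- complete the square
  obtain ⟨c, h2c⟩ : ∃ c : k, 2 * c = t := ⟨t / 2, by field_simp⟩
  obtain ⟨i, hi⟩ : ∃ i : D, i = x - c • (1 : D) := ⟨_, rfl⟩
  obtain ⟨a, ha⟩ : ∃ a : k, a = s + c ^ 2 := ⟨_, rfl⟩
  have hxi : x = i + c • (1 : D) := by rw [hi]; abel
  have hii : i * i = a • (1 : D) := by
    rw [hi, sub_mul, mul_sub, mul_sub, hst]
    simp only [smul_mul_assoc, mul_smul_comm, one_mul, mul_one, smul_smul]
    rw [← h2c, ha]
    module
  have hik : ∀ e : k, i ≠ algebraMap k D e := by
    intro e he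
    apply hxk' (e + c)
    rw [hxi, he, map_add, Algebra.algebraMap_eq_smul_one c]
  have hi0 : i ≠ 0 := fun h => hik 0 (by rw [h, map_zero])
  -- an element not commuting with `i`
  obtain ⟨y, hy⟩ : ∃ y : D, i * y ≠ y * i := by
    by_contra hcon
    push Not at hcon
    have hic : i ∈ Subalgebra.center k D := by
      rw [Subalgebra.mem_center_iff]
      intro b
      exact (hcon b).symm
    obtain ⟨e, he⟩ := (Algebra.IsCentral.mem_center_iff k).mp hic
    exact hik e he
  obtain ⟨j, hj⟩ : ∃ j : D, j = i * y - y * i := ⟨_, rfl⟩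
  have hj0 : j ≠ 0 := by rw [hj]; exact sub_ne_zero.mpr hy
  have hia : ∀ z : D, i * (i * z) = a • z := fun z => by
    rw [← mul_assoc, hii, smul_mul_assoc, one_mul]
  have hai : ∀ z : D, (z * i) * i = a • z := fun z => by
    rw [mul_assoc, hii, mul_smul_comm, mul_one]
  have hij : i * j = -(j * i) := by
    rw [hj, mul_sub, sub_mul, hia, hai, ← mul_assoc]
    abel
  have hijj : i * (j * j) = (j * j) * i := by
    rw [← mul_assoc, hij, neg_mul, mul_assoc, hij, mul_neg, neg_neg, mul_assoc]
  have hLjj : ∀ g ∈ L, g * (j * j) = (j * j) * g := by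
    intro g hg
    obtain ⟨u, v, rfl⟩ := hLrep g hg
    rw [hxi]
    simp only [add_mul, mul_add, smul_mul_assoc, mul_smul_comm, one_mul, mul_one, smul_add, hijj]
  obtain ⟨u, v, huv⟩ := hLrep (j * j) (hCL _ hLjj)
  obtain ⟨U, hU⟩ : ∃ U : k, U = u + v * c := ⟨_, rfl⟩
  have hjj' : j * j = U • (1 : D) + v • i := by
    rw [huv, hxi, hU]
    module
  have hji0 : j * i ≠ 0 := mul_ne_zero hj0 hi0
  have hv : v = 0 := by
    have h1 : j * (j * j) = (j * j) * j := (mul_assoc j j j).symm
    have e1 : j * (U • (1 : D) + v • i) = U • j + v • (j * i) := by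
      rw [mul_add, mul_smul_comm, mul_smul_comm, mul_one]
    have e2 : (U • (1 : D) + v • i) * j = U • j + v • (i * j) := by
      rw [add_mul, smul_mul_assoc, smul_mul_assoc, one_mul]
    rw [hjj', e1, e2, hij] at h1
    have h3 : v • (j * i) = v • -(j * i) := add_left_cancel h1
    rw [smul_neg, eq_neg_iff_add_eq_zero, ← two_smul k (v • (j * i)), smul_smul] at h3
    rcases smul_eq_zero.mp h3 with h4 | h4
    · rcases mul_eq_zero.mp h4 with h5 | h5
      · exact absurd h5 h2
      · exact h5
    · exact absurd h4 hji0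
  have hjj : j * j = U • (1 : D) := by rw [hjj', hv, zero_smul, add_zero]
  -- the quaternion basis
  let q : QuaternionAlgebra.Basis D a 0 U :=
    { i := i
      j := j
      k := i * j
      i_mul_i := by rw [hii, zero_smul, add_zero]
      j_mul_j := hjj
      i_mul_j := rfl
      j_mul_i := by rw [zero_smul, zero_sub, hij, neg_neg] }
  let f : QuaternionAlgebra k a 0 U →ₐ[k] D := q.liftHom
  have hf : ∀ z, f z = z.re • (1 : D) + z.imI • i + z.imJ • j + z.imK • (i * j) := by
    intro z
    show algebraMap k D z.re + z.imI • i + z.imJ • j + z.imK • (i * j) = _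
    rw [Algebra.algebraMap_eq_smul_one]
  have hfinj : Function.Injective f := by
    rw [injective_iff_map_eq_zero]
    intro z hz
    rw [hf] at hz
    obtain ⟨P, hP⟩ : ∃ P : D, P = z.re • (1 : D) + z.imI • i := ⟨_, rfl⟩
    obtain ⟨R, hR⟩ : ∃ R : D, R = z.imJ • (1 : D) + z.imK • i := ⟨_, rfl⟩
    have hE : P + R * j = 0 := by
      calc P + R * j = z.re • (1 : D) + z.imI • i + z.imJ • j + z.imK • (i * j) := by
            rw [hP, hR, add_mul, smul_mul_assoc, smul_mul_assoc, one_mul]
            abel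
        _ = 0 := hz
    have hPi : i * P = P * i := by
      rw [hP, mul_add, add_mul, mul_smul_comm, mul_smul_comm, smul_mul_assoc, smul_mul_assoc,
        mul_one, one_mul]
    have hRi : i * R = R * i := by
      rw [hR, mul_add, add_mul, mul_smul_comm, mul_smul_comm, smul_mul_assoc, smul_mul_assoc,
        mul_one, one_mul]
    have h5 : (P - R * j) * i = 0 := by
      have h : (P - R * j) * i = i * (P + R * j) := by
        rw [sub_mul, mul_add, hPi, ← mul_assoc i R j, hRi, mul_assoc R i j, hij, mul_neg,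
          mul_assoc R j i, sub_eq_add_neg]
      rw [h, hE, mul_zero]
    have h6 : P - R * j = 0 := (mul_eq_zero.mp h5).resolve_right hi0
    have hP0 : P = 0 := by
      have h7 : (2 : k) • P = 0 := by
        rw [two_smul]
        calc P + P = (P + R * j) + (P - R * j) := by abel
          _ = 0 := by rw [hE, h6, add_zero]
      exact (smul_eq_zero.mp h7).resolve_left h2
    have hR0 : R = 0 := by
      have h8 : R * j = 0 := by
        rw [hP0, zero_add] at hE
        exact hE
      exact (mul_eq_zero.mp h8).resolve_right hj0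
    obtain ⟨hre, himI⟩ := lin_indep_pair i hik z.re z.imI (hP ▸ hP0)
    obtain ⟨himJ, himK⟩ := lin_indep_pair i hik z.imJ z.imK (hR ▸ hR0)
    exact QuaternionAlgebra.ext hre himI himJ himK
  have hfsurj : Function.Surjective f :=
    (LinearMap.injective_iff_surjective_of_finrank_eq_finrank (f := f.toLinearMap)
      (by rw [QuaternionAlgebra.finrank_eq_four, hD])).mp hfinj
  exact ⟨a, U, ⟨AlgEquiv.ofBijective f ⟨hfinj, hfsurj⟩⟩⟩

end Q1

section P

variable {k : Type u} [Field k] {A : Type v} [Ring A] [Algebra k A] [Algebra.IsCentral k A]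
  [IsSimpleRing A] [FiniteDimensional k A]

/-- `A ≃ M_m(D)` with `D` a division algebra of dimension 4 that is isomorphic to its opposite:
`A` has period 2 and index 2. -/
theorem period_index_of_matrix (D : Type w) [DivisionRing D] [Algebra k D] [FiniteDimensional k D]
    (hD4 : Module.finrank k D = 4) (op : D ≃ₐ[k] Dᵐᵒᵖ) (m : ℕ) (hm : m ≠ 0)
    (e : A ≃ₐ[k] Matrix (Fin m) (Fin m) D) :
    CSAGal.IsPeriod k A 2 ∧ CSAGal.IsIndex k A 2 := by
  classical
  haveI : NeZero m := ⟨hm⟩
  haveI : Algebra.IsCentral k (Matrix (Fin m) (Fin m) D) := isCentral_of_algEquiv e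
  haveI : Algebra.IsCentral k D := isCentral_of_matrix k D m
  haveI : IsSimpleRing D := DivisionRing.isSimpleRing D
  have hBr : BrEq k A D := (BrEq.of_algEquiv e).trans (BrEq.matrix D m hm)
  constructor
  · refine ⟨by norm_num, ?_, ?_⟩
    · have hBr2 : BrEq k (CSAGal.tpow k A 2) (CSAGal.tpow k D 2) := hBr.tpow 2
      have e1 : CSAGal.tpow k D 2 ≃ₐ[k] CSAGal.tpow k D 1 ⊗[k] D := tpowSucc k D 1
      have e2 : CSAGal.tpow k D 1 ⊗[k] D ≃ₐ[k] D ⊗[k] Dᵐᵒᵖ :=
        Algebra.TensorProduct.congr (tpowOne k D) op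
      have hD2 : Curves.Splits k (CSAGal.tpow k D 2) k :=
        splits_of_algEquiv (e1.trans e2).symm (splits_tensor_op (k := k) (Y := D))
      exact hBr2.symm.splits hD2
    · intro e' h0 h2' hs
      obtain rfl : e' = 1 := by omega
      have hsA := splits_tpow_one_iff.mp hs
      obtain ⟨n, hn, ⟨g⟩⟩ := exists_algEquiv_matrix_of_splits hsA
      obtain ⟨t⟩ := nonempty_algEquiv_of_matrix_algEquiv k D k m n hm hn (e.symm.trans g)
      have h1 := t.toLinearEquiv.finrank_eq
      rw [hD4, Module.finrank_self] at h1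
      omega
  · obtain ⟨d, hd⟩ := exists_isIndex (k := k) (A := A)
    have hd' := hd
    obtain ⟨hd0, m', D', iD', aD', hm', hdD', ⟨f⟩⟩ := hd'
    haveI : FiniteDimensional k D' :=
      Module.finite_of_finrank_pos (by rw [hdD']; exact pow_pos hd0 2)
    obtain ⟨t⟩ := nonempty_algEquiv_of_matrix_algEquiv k D' D m' m hm'.ne' hm (f.symm.trans e)
    have h1 := t.toLinearEquiv.finrank_eq
    rw [hdD', hD4] at h1
    have h2d : d = 2 := Nat.pow_left_injective (n := 2) (by norm_num) (show d ^ 2 = 2 ^ 2 by rw [h1])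
    rw [← h2d]
    exact hd

end P

end Groth.Agent.H86.Quat
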