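import Mathlib
import Groth.Agent.H29.RAU.Defs
import Groth.Agent.H57.RelAssGen.RowGeneric

/-!
# (NEGU) for helper29's S1370: if some relative associated point over the generic point lies
outside `U`, the same holds over a neighbourhood of the generic point.
-/

set_option autoImplicit false
set_option linter.style.haveILetI false
universe u

open AlgebraicGeometry CategoryTheory Limits TopologicalSpace
open Groth.Agent.H29.RAU

namespace Groth.Agent.H86.RAU_NEGU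

theorem neg_generic_open {X S : Scheme.{u}} [IsIntegral S] [IsNoetherian S] (f : X ⟶ S)
    [LocallyOfFiniteType f] [QuasiCompact f] (F : X.Modules) (hF : Coh.IsCoh F) (U : X.Opens)
    (hη : genericPoint S ∉ EU f F U) :
    ∃ V : S.Opens, genericPoint S ∈ V ∧ ∀ s ∈ V, s ∉ EU f F U := by
  have hη' : ¬ ∀ x ∈ MoreMor.relAss f F, f x = genericPoint S → x ∈ U := hη
  push_neg at hη'
  obtain ⟨x₀, hx₀R, hfx₀, hx₀U⟩ := hη'
  obtain ⟨_, ⟨V₀, hV₀, rfl⟩, hxV₀, -⟩ := S.isBasis_affineOpens.exists_subset_of_mem_open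
    (Set.mem_univ (f x₀)) isOpen_univ
  replace hV₀ : IsAffineOpen V₀ := hV₀
  obtain ⟨_, ⟨W, hW, rfl⟩, hx₀W, e⟩ := X.isBasis_affineOpens.exists_subset_of_mem_open
    (show x₀ ∈ ((f ⁻¹ᵁ V₀ : X.Opens) : Set X) from hxV₀) (f ⁻¹ᵁ V₀).isOpen
  replace hW : IsAffineOpen W := hW
  replace e : W ≤ f ⁻¹ᵁ V₀ := e
  obtain ⟨a, ha, -, hii⟩ :=
    Groth.Agent.H57.RelAssGen.chart_generic f F hF hV₀ hW e x₀ hx₀W hx₀R
  refine ⟨S.basicOpen a, by rw [← hfx₀]; exact ha, fun s hs hsE => ?_⟩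
  have hηs : f x₀ ⤳ s := by
    rw [hfx₀]; exact (genericPoint_spec S).specializes trivial
  obtain ⟨x₁, -, hx₀x₁, hfx₁, hx₁R⟩ := hii s hs hηs
  have hx₁U : x₁ ∈ U := hsE x₁ hx₁R hfx₁
  exact hx₀U (hx₀x₁.mem_open U.isOpen hx₁U)

end Groth.Agent.H86.RAU_NEGU
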