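import Mathlib
import Groth.Prelude.Def_Rees
import Groth.Prelude.Def_BlowUp2
import Groth.Prelude.Def_ega3
import Groth.Agent.H95.ReesProjDefs
import Groth.Agent.H86.RP_U1

/-!
# (COV) for helper95's S16054: the charts `D₊(aX)`, `a ∈ I`, cover `Proj` of the Rees algebra.
-/

set_option autoImplicit false
universe u
open CategoryTheory AlgebraicGeometry
open Groth.Agent.H95.ReesProj
open Groth.Agent.H86.RP_U1

namespace Groth.Agent.H86.RP_COV

variable (A : Type u) [CommRing A] (I : Ideal A)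

theorem aux (m : ℕ) (c : A) (hc : c ∈ I ^ (m + 1)) :
    ∃ y : reesAlgebra I, y ∈ Ideal.span (Set.range fun a : I => gen A I a.1 a.2) ∧
      (y : Polynomial A) = Polynomial.monomial (m + 1) c := by
  rw [pow_succ] at hc
  refine Submodule.mul_induction_on hc ?_ ?_
  · intro u hu v hv
    refine ⟨⟨Polynomial.monomial m u, reesAlgebra.monomial_mem.mpr hu⟩ * gen A I v hv,
      Ideal.mul_mem_left _ _ (Ideal.subset_span ⟨⟨v, hv⟩, rfl⟩), ?_⟩
    rw [Subalgebra.coe_mul]
    show Polynomial.monomial m u * Polynomial.monomial 1 v = _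
    rw [Polynomial.monomial_mul_monomial]
  · rintro x y ⟨y1, h1, e1⟩ ⟨y2, h2, e2⟩
    exact ⟨y1 + y2, Ideal.add_mem _ h1 h2, by rw [Subalgebra.coe_add, e1, e2, map_add]⟩

theorem mem_span_of_mem_deg (m : ℕ) (r : reesAlgebra I)
    (hr : r ∈ Rees.deg (reesAlgebra I) (m + 1)) :
    r ∈ Ideal.span (Set.range fun a : I => gen A I a.1 a.2) := by
  have hr' : r ∈ Rees.deg (reesAlgebra I) ((m + 1) • 1) := by
    rw [smul_eq_mul, mul_one]; exact hr
  have e := coe_eq_monomial A I (m + 1) r hr'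
  have hc : (r : Polynomial A).coeff (m + 1) ∈ I ^ (m + 1) :=
    (mem_reesAlgebra_iff I (r : Polynomial A)).mp r.2 (m + 1)
  obtain ⟨y, hy, ey⟩ := aux A I m _ hc
  have : r = y := Subtype.ext (e.trans ey.symm)
  rw [this]; exact hy

theorem COV : ⨆ a : I, Proj.basicOpen (Rees.deg (reesAlgebra I)) (gen A I a.1 a.2) = ⊤ := by
  apply Proj.iSup_basicOpen_eq_top
  intro x hx
  have hx0 : GradedRing.proj (Rees.deg (reesAlgebra I)) 0 x = 0 :=
    (HomogeneousIdeal.mem_irrelevant_iff _ x).mp hx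
  classical
  rw [← DirectSum.sum_support_decompose (Rees.deg (reesAlgebra I)) x]
  refine Ideal.sum_mem _ fun i _ => ?_
  rcases i with _ | m
  · rw [GradedRing.proj_apply] at hx0
    rw [hx0]; exact Ideal.zero_mem _
  · exact mem_span_of_mem_deg A I m _ (SetLike.coe_mem _)

end Groth.Agent.H86.RP_COV
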