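import Mathlib
import Groth.Prelude.Def_Rees
import Groth.Prelude.Def_BlowUp2
import Groth.Prelude.Def_ega3
import Groth.Agent.H95.ReesProjDefs
import Groth.Agent.H86.RP_U1
import Groth.Agent.H86.RP_ECA
import Groth.Agent.S14090

/-!
# (ECS) for helper95's S16054: the inverse image of `I` on the affine chart `Spec (R(I)_{aX})_0`
is an effective Cartier ideal.
-/

set_option autoImplicit false
universe u
open CategoryTheory AlgebraicGeometry
open Groth.Agent.H95.ReesProj
open Groth.Agent.H54.BlowUpAffine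

namespace Groth.Agent.H86.RP_ECS

theorem nzd_inv {C : Type u} [CommRing C] (c : C) (hc : c ∈ nonZeroDivisors C) :
    (Scheme.ΓSpecIso (CommRingCat.of C)).inv.hom c ∈
      nonZeroDivisors Γ(Spec (CommRingCat.of C), ⊤) := by
  rw [mem_nonZeroDivisors_iff_right]
  intro z hz
  have h2 : (Scheme.ΓSpecIso (CommRingCat.of C)).hom.hom
      ((Scheme.ΓSpecIso (CommRingCat.of C)).inv.hom c) = c := by
    rw [← CommRingCat.comp_apply, Iso.inv_hom_id]; rfl
  have h1 : (Scheme.ΓSpecIso (CommRingCat.of C)).hom.hom z * c = 0 := by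
    have h0 := congrArg (Scheme.ΓSpecIso (CommRingCat.of C)).hom.hom hz
    rw [map_mul, map_zero, h2] at h0
    exact h0
  have h3 := (mem_nonZeroDivisors_iff_right.mp hc) _ h1
  have h4 : (Scheme.ΓSpecIso (CommRingCat.of C)).inv.hom
      ((Scheme.ΓSpecIso (CommRingCat.of C)).hom.hom z) = z := by
    rw [← CommRingCat.comp_apply, Iso.hom_inv_id]; rfl
  rw [← h4, h3, map_zero]

theorem sharp_SpecMap' {A B : Type u} [CommRing A] [CommRing B] (φ : A →+* B) :
    sharp (Spec.map (CommRingCat.ofHom φ)) =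
      (Scheme.ΓSpecIso (CommRingCat.of B)).inv.hom.comp φ := by
  unfold sharp
  have h := Scheme.ΓSpecIso_inv_naturality (CommRingCat.ofHom φ)
  rw [← h]
  rfl

variable (A : Type u) [CommRing A] (I : Ideal A)

theorem ECS (a : A) (ha : a ∈ I) :
    BlowUp.IsEffCartierIdeal ((Scheme.IdealSheafData.ofIdealTop
      (I.map (Scheme.ΓSpecIso (CommRingCat.of A)).inv.hom)).comap
      (Spec.map (CommRingCat.ofHom (toAway A I a ha)))) := by
  obtain ⟨hgen, hnzd⟩ := Groth.Agent.H86.RP_ECA.ECA A I a ha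
  intro y
  refine ⟨⟨⊤, isAffineOpen_top _⟩, trivial,
    (Scheme.ΓSpecIso (CommRingCat.of _)).inv.hom (toAway A I a ha a),
    nzd_inv _ hnzd, ?_⟩
  have h0 := Groth.Agent.S14090.comap_idealSheaf_ideal A I
      (Spec.map (CommRingCat.ofHom (toAway A I a ha))) ⟨⊤, isAffineOpen_top _⟩
  unfold Curv2.idealSheaf at h0
  rw [h0, sharp_SpecMap', ← RingHom.comp_assoc, ← Ideal.map_map, hgen, Ideal.map_span,
    Set.image_singleton]
  congr 2

end Groth.Agent.H86.RP_ECS
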