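import Mathlib

/-!
# Quotient ringed spaces are categorical quotients (helper86, for S14885)
-/

set_option autoImplicit false
universe u v
open CategoryTheory TopologicalSpace Opposite AlgebraicGeometry Topology

namespace Groth.Agent.H86.RSQuot

noncomputable section

lemma map_eq_map {X : SheafedSpace CommRingCat.{u}} {U V : (Opens X)ᵒᵖ} (i j : U ⟶ V) :
    X.presheaf.map i = X.presheaf.map j := by
  rw [show i = j from Quiver.Hom.unop_inj (Subsingleton.elim _ _)]

lemma nat'' {X Y : SheafedSpace CommRingCat.{u}} (φ : X ⟶ Y) {W W' : Opens Y}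
    (i : op W ⟶ op W') :
    Y.presheaf.map i ≫ φ.hom.c.app (op W') =
      φ.hom.c.app (op W) ≫ X.presheaf.map ((Opens.map φ.hom.base).op.map i) :=
  φ.hom.c.naturality i

lemma hom_ext' {Y Z : SheafedSpace CommRingCat.{u}} (α β : Y ⟶ Z) (w : α.hom.base = β.hom.base)
    (h : ∀ U : Opens Z, α.hom.c.app (op U) ≫
      Y.presheaf.map (eqToHom (by rw [w]) :
        op ((Opens.map α.hom.base).obj U) ⟶ op ((Opens.map β.hom.base).obj U)) =
        β.hom.c.app (op U)) : α = β := by
  apply SheafedSpace.ext α β w
  apply NatTrans.ext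
  funext U
  induction U using Opposite.rec with
  | _ U =>
    change α.hom.c.app (op U) ≫ Y.presheaf.map ((eqToHom _ :
      (Opens.map α.hom.base).op ⟶ (Opens.map β.hom.base).op).app (op U)) = _
    rw [eqToHom_app]
    exact h U

theorem main (X Y : SheafedSpace CommRingCat.{u}) (Γ : Type v) [Group Γ]
    (τ : Γ →* Aut X) (π : X ⟶ Y) (hτ : ∀ g : Γ, (τ g).hom ≫ π = π)
    (h1 : IsQuotientMap π.hom.base)
    (h2 : ∀ x x' : X, π.hom.base x = π.hom.base x' ↔ ∃ g : Γ, (τ g).hom.hom.base x = x')
    (h3 : ∀ V : Opens Y, Function.Injective (π.hom.c.app (op V)) ∧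
      Set.range (π.hom.c.app (op V)) =
        {s | ∀ g : Γ, (τ g).hom.hom.c.app (op ((Opens.map π.hom.base).obj V)) s =
          X.presheaf.map (eqToHom (congrArg (fun f : X ⟶ Y => op ((Opens.map f.hom.base).obj V)) (hτ g).symm)) s})
    (Z : SheafedSpace CommRingCat.{u}) (f : X ⟶ Z) (hf : ∀ g : Γ, (τ g).hom ≫ f = f) :
    ∃! fbar : Y ⟶ Z, π ≫ fbar = f := by
  -- Step A: the base map
  have hfac : Function.FactorsThrough f.hom.base.hom π.hom.base.hom := by
    intro a b hab
    obtain ⟨g, rfl⟩ := (h2 a b).mp hab
    exact (congrArg (fun φ : X ⟶ Z => φ.hom.base a) (hf g)).symm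
  obtain ⟨fb, hfb⟩ : ∃ fb : Y.carrier ⟶ Z.carrier, π.hom.base ≫ fb = f.hom.base := by
    refine ⟨TopCat.ofHom (Topology.IsQuotientMap.lift (f := π.hom.base.hom) h1 f.hom.base.hom hfac), ?_⟩
    apply TopCat.hom_ext
    exact Topology.IsQuotientMap.lift_comp (f := π.hom.base.hom) h1 f.hom.base.hom hfac
  have hV : ∀ W : Opens Z, (Opens.map π.hom.base).obj ((Opens.map fb).obj W) =
      (Opens.map f.hom.base).obj W := by
    intro W
    exact congrArg (fun b => (Opens.map b).obj W) hfb
  -- Step B: the sheaf map on each open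
  have stepB : ∀ W : Opens Z, ∃ cW : Z.presheaf.obj (op W) ⟶
      Y.presheaf.obj (op ((Opens.map fb).obj W)),
      cW ≫ π.hom.c.app (op ((Opens.map fb).obj W)) =
        f.hom.c.app (op W) ≫ X.presheaf.map (eqToHom (congrArg op (hV W).symm)) := by
    intro W
    have hinv : ∀ (g : Γ),
        (f.hom.c.app (op W) ≫ X.presheaf.map (eqToHom (congrArg op (hV W).symm))) ≫
          (τ g).hom.hom.c.app (op ((Opens.map π.hom.base).obj ((Opens.map fb).obj W))) =
        (f.hom.c.app (op W) ≫ X.presheaf.map (eqToHom (congrArg op (hV W).symm))) ≫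
          X.presheaf.map (eqToHom (congrArg
            (fun f : X ⟶ Y => op ((Opens.map f.hom.base).obj ((Opens.map fb).obj W)))
            (hτ g).symm)) := by
      intro g
      have n := nat'' (τ g).hom (eqToHom (congrArg op (hV W).symm))
      have e2 : op ((Opens.map f.hom.base).obj W) =
          op ((Opens.map ((τ g).hom ≫ f).hom.base).obj W) := by rw [hf g]
      have c1 : f.hom.c.app (op W) ≫
          (τ g).hom.hom.c.app (op ((Opens.map f.hom.base).obj W)) =
          f.hom.c.app (op W) ≫ X.presheaf.map (eqToHom e2) :=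
        SheafedSpace.congr_hom_app (hf g) (op W)
      have P1 : (f.hom.c.app (op W) ≫ X.presheaf.map (eqToHom (congrArg op (hV W).symm))) ≫
            (τ g).hom.hom.c.app (op ((Opens.map π.hom.base).obj ((Opens.map fb).obj W))) =
          f.hom.c.app (op W) ≫ (X.presheaf.map (eqToHom e2) ≫
            X.presheaf.map ((Opens.map (τ g).hom.hom.base).op.map
              (eqToHom (congrArg op (hV W).symm)))) := by
        calc (f.hom.c.app (op W) ≫ X.presheaf.map (eqToHom (congrArg op (hV W).symm))) ≫
            (τ g).hom.hom.c.app (op ((Opens.map π.hom.base).obj ((Opens.map fb).obj W)))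
          = f.hom.c.app (op W) ≫ (X.presheaf.map (eqToHom (congrArg op (hV W).symm)) ≫
            (τ g).hom.hom.c.app (op ((Opens.map π.hom.base).obj ((Opens.map fb).obj W)))) :=
            Category.assoc _ _ _
        _ = f.hom.c.app (op W) ≫ ((τ g).hom.hom.c.app (op ((Opens.map f.hom.base).obj W)) ≫
            X.presheaf.map ((Opens.map (τ g).hom.hom.base).op.map
              (eqToHom (congrArg op (hV W).symm)))) :=
            congrArg (f.hom.c.app (op W) ≫ ·) n
        _ = (f.hom.c.app (op W) ≫ (τ g).hom.hom.c.app (op ((Opens.map f.hom.base).obj W))) ≫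
            X.presheaf.map ((Opens.map (τ g).hom.hom.base).op.map
              (eqToHom (congrArg op (hV W).symm))) := (Category.assoc _ _ _).symm
        _ = (f.hom.c.app (op W) ≫ X.presheaf.map (eqToHom e2)) ≫
            X.presheaf.map ((Opens.map (τ g).hom.hom.base).op.map
              (eqToHom (congrArg op (hV W).symm))) :=
            congrArg (· ≫ X.presheaf.map ((Opens.map (τ g).hom.hom.base).op.map
              (eqToHom (congrArg op (hV W).symm)))) c1
        _ = f.hom.c.app (op W) ≫ (X.presheaf.map (eqToHom e2) ≫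
            X.presheaf.map ((Opens.map (τ g).hom.hom.base).op.map
              (eqToHom (congrArg op (hV W).symm)))) := Category.assoc _ _ _
      have P3 : (X.presheaf.map (eqToHom e2) ≫
            X.presheaf.map ((Opens.map (τ g).hom.hom.base).op.map
              (eqToHom (congrArg op (hV W).symm)))) =
          (X.presheaf.map (eqToHom (congrArg op (hV W).symm)) ≫
            X.presheaf.map (eqToHom (congrArg
              (fun f : X ⟶ Y => op ((Opens.map f.hom.base).obj ((Opens.map fb).obj W)))
              (hτ g).symm))) :=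
        ((X.presheaf.map_comp _ _).symm.trans (map_eq_map _ _)).trans
                (X.presheaf.map_comp _ _)
      exact P1.trans ((congrArg (f.hom.c.app (op W) ≫ ·) P3).trans (Category.assoc _ _ _).symm)
    have hmem : ∀ s : Z.presheaf.obj (op W), ∃ y : Y.presheaf.obj (op ((Opens.map fb).obj W)),
        π.hom.c.app (op ((Opens.map fb).obj W)) y =
          (f.hom.c.app (op W) ≫ X.presheaf.map (eqToHom (congrArg op (hV W).symm))) s := by
      intro s
      have hm : (f.hom.c.app (op W) ≫ X.presheaf.map (eqToHom (congrArg op (hV W).symm))) s ∈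
          Set.range (π.hom.c.app (op ((Opens.map fb).obj W))) := by
        rw [(h3 ((Opens.map fb).obj W)).2]
        intro g
        exact ConcreteCategory.congr_hom (hinv g) s
      exact hm
    choose y hy using hmem
    have inj := (h3 ((Opens.map fb).obj W)).1
    refine ⟨CommRingCat.ofHom
      { toFun := y
        map_one' := inj (by rw [hy, map_one, map_one])
        map_mul' := fun a b => inj (by rw [hy, map_mul, map_mul, hy, hy])
        map_zero' := inj (by rw [hy, map_zero, map_zero])
        map_add' := fun a b => inj (by rw [hy, map_add, map_add, hy, hy]) }, ?_⟩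
    apply CommRingCat.hom_ext
    apply RingHom.ext
    intro s
    exact hy s
  choose cW hcW using stepB
  -- naturality of cW
  have hnat : ∀ {W W' : Opens Z} (i : op W ⟶ op W'),
      Z.presheaf.map i ≫ cW W' = cW W ≫ Y.presheaf.map ((Opens.map fb).op.map i) := by
    intro W W' i
    have inj := (h3 ((Opens.map fb).obj W')).1
    have e : (Z.presheaf.map i ≫ cW W') ≫ π.hom.c.app (op ((Opens.map fb).obj W')) =
        (cW W ≫ Y.presheaf.map ((Opens.map fb).op.map i)) ≫
          π.hom.c.app (op ((Opens.map fb).obj W')) := by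
      have A3 := nat'' π (W := (Opens.map fb).obj W) (W' := (Opens.map fb).obj W')
        ((Opens.map fb).op.map i)
      have A4 := nat'' f i
      calc (Z.presheaf.map i ≫ cW W') ≫ π.hom.c.app (op ((Opens.map fb).obj W'))
          = Z.presheaf.map i ≫ (cW W' ≫ π.hom.c.app (op ((Opens.map fb).obj W'))) :=
            Category.assoc _ _ _
        _ = Z.presheaf.map i ≫ (f.hom.c.app (op W') ≫
            X.presheaf.map (eqToHom (congrArg op (hV W').symm))) :=
            congrArg (Z.presheaf.map i ≫ ·) (hcW W')
        _ = (Z.presheaf.map i ≫ f.hom.c.app (op W')) ≫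
            X.presheaf.map (eqToHom (congrArg op (hV W').symm)) := (Category.assoc _ _ _).symm
        _ = (f.hom.c.app (op W) ≫ X.presheaf.map ((Opens.map f.hom.base).op.map i)) ≫
            X.presheaf.map (eqToHom (congrArg op (hV W').symm)) :=
            congrArg (· ≫ X.presheaf.map (eqToHom (congrArg op (hV W').symm))) A4
        _ = f.hom.c.app (op W) ≫ X.presheaf.map ((Opens.map f.hom.base).op.map i ≫
            eqToHom (congrArg op (hV W').symm)) :=
            (Category.assoc _ _ _).trans
              (congrArg (f.hom.c.app (op W) ≫ ·) (X.presheaf.map_comp _ _).symm)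
        _ = f.hom.c.app (op W) ≫ X.presheaf.map (eqToHom (congrArg op (hV W).symm) ≫
            (Opens.map π.hom.base).op.map ((Opens.map fb).op.map i)) :=
            congrArg (f.hom.c.app (op W) ≫ ·) (map_eq_map _ _)
        _ = (f.hom.c.app (op W) ≫ X.presheaf.map (eqToHom (congrArg op (hV W).symm))) ≫
            X.presheaf.map ((Opens.map π.hom.base).op.map ((Opens.map fb).op.map i)) :=
            (congrArg (f.hom.c.app (op W) ≫ ·) (X.presheaf.map_comp _ _)).trans
              (Category.assoc _ _ _).symm
        _ = (cW W ≫ π.hom.c.app (op ((Opens.map fb).obj W))) ≫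
            X.presheaf.map ((Opens.map π.hom.base).op.map ((Opens.map fb).op.map i)) :=
            congrArg (· ≫ X.presheaf.map ((Opens.map π.hom.base).op.map
              ((Opens.map fb).op.map i))) (hcW W).symm
        _ = cW W ≫ (π.hom.c.app (op ((Opens.map fb).obj W)) ≫
            X.presheaf.map ((Opens.map π.hom.base).op.map ((Opens.map fb).op.map i))) :=
            Category.assoc _ _ _
        _ = cW W ≫ (Y.presheaf.map ((Opens.map fb).op.map i) ≫
            π.hom.c.app (op ((Opens.map fb).obj W'))) :=
            congrArg (cW W ≫ ·) A3.symm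
        _ = (cW W ≫ Y.presheaf.map ((Opens.map fb).op.map i)) ≫
            π.hom.c.app (op ((Opens.map fb).obj W')) := (Category.assoc _ _ _).symm
    apply CommRingCat.hom_ext
    apply RingHom.ext
    intro s
    apply inj
    exact ConcreteCategory.congr_hom e s
  -- the morphism
  let cNat : Z.presheaf ⟶ fb _* Y.presheaf :=
    { app := fun U => cW (unop U)
      naturality := fun U U' i => hnat (W := unop U) (W' := unop U') i }
  let fbar : Y ⟶ Z := InducedCategory.homMk ({ base := fb, c := cNat } : PresheafedSpace.Hom _ _)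
  have hfbar_base : fbar.hom.base = fb := rfl
  have hfbar_c : ∀ W : Opens Z, fbar.hom.c.app (op W) = cW W := fun W => rfl
  -- key: any g' with π ≫ g' = f and base fb has the right components
  have hcomp : π ≫ fbar = f := by
    apply hom_ext' (π ≫ fbar) f hfb
    intro U
    have e1 : (cW U ≫ π.hom.c.app (op ((Opens.map fb).obj U))) ≫
        X.presheaf.map (eqToHom (congrArg op (hV U)) :
          op ((Opens.map π.hom.base).obj ((Opens.map fb).obj U)) ⟶
            op ((Opens.map f.hom.base).obj U)) = f.hom.c.app (op U) := by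
      calc (cW U ≫ π.hom.c.app (op ((Opens.map fb).obj U))) ≫
            X.presheaf.map (eqToHom (congrArg op (hV U)))
          = (f.hom.c.app (op U) ≫ X.presheaf.map (eqToHom (congrArg op (hV U).symm))) ≫
            X.presheaf.map (eqToHom (congrArg op (hV U))) :=
            congrArg (· ≫ X.presheaf.map (eqToHom (congrArg op (hV U)))) (hcW U)
        _ = f.hom.c.app (op U) ≫ (X.presheaf.map (eqToHom (congrArg op (hV U).symm)) ≫
            X.presheaf.map (eqToHom (congrArg op (hV U)))) := Category.assoc _ _ _
        _ = f.hom.c.app (op U) ≫ 𝟙 _ :=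
            congrArg (f.hom.c.app (op U) ≫ ·)
              (((X.presheaf.map_comp _ _).symm.trans (map_eq_map _ (𝟙 _))).trans
                (X.presheaf.map_id _))
        _ = f.hom.c.app (op U) := Category.comp_id _
    exact e1
  refine ⟨fbar, hcomp, ?_⟩
  intro g' hg'
  have wb : g'.hom.base = fb := by
    apply TopCat.hom_ext
    apply ContinuousMap.ext
    intro y
    obtain ⟨x, rfl⟩ := h1.surjective y
    have e1 : g'.hom.base (π.hom.base x) = f.hom.base x :=
      congrArg (fun φ : X ⟶ Z => φ.hom.base x) hg'
    have e2 : fb (π.hom.base x) = f.hom.base x :=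
      congrArg (fun b : X.carrier ⟶ Z.carrier => b x) hfb
    exact e1.trans e2.symm
  apply hom_ext' g' fbar wb
  intro U
  rw [hfbar_c]
  have inj := (h3 ((Opens.map fb).obj U)).1
  have e : (g'.hom.c.app (op U) ≫ Y.presheaf.map (eqToHom (by rw [wb]) :
        op ((Opens.map g'.hom.base).obj U) ⟶ op ((Opens.map fb).obj U))) ≫
        π.hom.c.app (op ((Opens.map fb).obj U)) =
      cW U ≫ π.hom.c.app (op ((Opens.map fb).obj U)) := by
    have A3 := nat'' π (W := (Opens.map g'.hom.base).obj U) (W' := (Opens.map fb).obj U)
      (eqToHom (by rw [wb]))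
    have e3 : op ((Opens.map f.hom.base).obj U) =
        op ((Opens.map (π ≫ g').hom.base).obj U) := by rw [hg']
    have c1 : g'.hom.c.app (op U) ≫ π.hom.c.app (op ((Opens.map g'.hom.base).obj U)) =
        f.hom.c.app (op U) ≫ X.presheaf.map (eqToHom e3) :=
      SheafedSpace.congr_hom_app hg' (op U)
    calc (g'.hom.c.app (op U) ≫ Y.presheaf.map (eqToHom (by rw [wb]) :
          op ((Opens.map g'.hom.base).obj U) ⟶ op ((Opens.map fb).obj U))) ≫
          π.hom.c.app (op ((Opens.map fb).obj U))
        = g'.hom.c.app (op U) ≫ (Y.presheaf.map (eqToHom (by rw [wb]) :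
          op ((Opens.map g'.hom.base).obj U) ⟶ op ((Opens.map fb).obj U)) ≫
          π.hom.c.app (op ((Opens.map fb).obj U))) := Category.assoc _ _ _
      _ = g'.hom.c.app (op U) ≫ (π.hom.c.app (op ((Opens.map g'.hom.base).obj U)) ≫
          X.presheaf.map ((Opens.map π.hom.base).op.map (eqToHom (by rw [wb]) :
          op ((Opens.map g'.hom.base).obj U) ⟶ op ((Opens.map fb).obj U)))) :=
          congrArg (g'.hom.c.app (op U) ≫ ·) A3
      _ = (g'.hom.c.app (op U) ≫ π.hom.c.app (op ((Opens.map g'.hom.base).obj U))) ≫
          X.presheaf.map ((Opens.map π.hom.base).op.map (eqToHom (by rw [wb]) :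
          op ((Opens.map g'.hom.base).obj U) ⟶ op ((Opens.map fb).obj U))) :=
          (Category.assoc _ _ _).symm
      _ = (f.hom.c.app (op U) ≫ X.presheaf.map (eqToHom e3)) ≫
          X.presheaf.map ((Opens.map π.hom.base).op.map (eqToHom (by rw [wb]) :
          op ((Opens.map g'.hom.base).obj U) ⟶ op ((Opens.map fb).obj U))) :=
          congrArg (· ≫ X.presheaf.map ((Opens.map π.hom.base).op.map (eqToHom (by rw [wb]) :
          op ((Opens.map g'.hom.base).obj U) ⟶ op ((Opens.map fb).obj U)))) c1
      _ = f.hom.c.app (op U) ≫ (X.presheaf.map (eqToHom e3) ≫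
          X.presheaf.map ((Opens.map π.hom.base).op.map (eqToHom (by rw [wb]) :
          op ((Opens.map g'.hom.base).obj U) ⟶ op ((Opens.map fb).obj U)))) :=
          Category.assoc _ _ _
      _ = f.hom.c.app (op U) ≫ X.presheaf.map (eqToHom (congrArg op (hV U).symm)) :=
          congrArg (f.hom.c.app (op U) ≫ ·)
            ((X.presheaf.map_comp _ _).symm.trans (map_eq_map _ _))
      _ = cW U ≫ π.hom.c.app (op ((Opens.map fb).obj U)) := (hcW U).symm
  apply CommRingCat.hom_ext
  apply RingHom.ext
  intro s
  apply inj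
  exact ConcreteCategory.congr_hom e s

end

end Groth.Agent.H86.RSQuot
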