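import Mathlib
import Groth.Agent.H8.TensorFLF
import Groth.Agent.H28.LpullLoc
import Groth.Agent.H31.FlatSite

/-!
# Resolution property via an `f`-generating family (helper86)
-/

set_option autoImplicit false
set_option linter.style.haveILetI false
universe u
open CategoryTheory CategoryTheory.Limits AlgebraicGeometry

namespace Groth.Agent.H86.ResPropGen

/-- A left adjoint sends an epimorphic presentation `∐ V ⟶ N` to a jointly epimorphic family. -/
theorem jointly_epi {C D : Type*} [Category C] [Category D] (H : C ⥤ D) [H.IsLeftAdjoint]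
    {κ : Type*} (V : κ → C) [HasCoproduct V] {N : C} (ρ : ∐ V ⟶ N) [Epi ρ]
    {Z : D} (a b : H.obj N ⟶ Z)
    (h : ∀ l, H.map (Sigma.ι V l ≫ ρ) ≫ a = H.map (Sigma.ι V l ≫ ρ) ≫ b) : a = b := by
  haveI : Epi (H.map ρ) := H.map_epi ρ
  rw [← cancel_epi (H.map ρ)]
  refine (isColimitOfPreserves H (colimit.isColimit (Discrete.functor V))).hom_ext ?_
  rintro ⟨l⟩
  have h1 := h l
  simp only [Functor.map_comp, Category.assoc] at h1
  exact h1

variable {X Y : Scheme.{u}}

/-- the functor `W ⊗ f^*(-)` -/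
noncomputable def HW (f : X ⟶ Y) (W : X.Modules) : Y.Modules ⥤ X.Modules :=
  Scheme.Modules.pullback f ⋙ (ModSite.tensorBi X.sheaf).obj W

theorem HW_obj (f : X ⟶ Y) (W : X.Modules) (N : Y.Modules) :
    (HW f W).obj N = CohB1.tensorMod W ((Scheme.Modules.pullback f).obj N) := rfl

theorem isLeftAdjoint_tensorObj (W : X.Modules) :
    ((ModSite.tensorBi X.sheaf).obj W).IsLeftAdjoint :=
  haveI : ((ModSite.tensorBi X.sheaf).flip.obj W).IsLeftAdjoint :=
    Groth.Agent.H31.hasSheafHom (O := X.sheaf) W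
  Functor.isLeftAdjoint_of_iso (Groth.Agent.H31.braidIso (O := X.sheaf) W).symm

instance (f : X ⟶ Y) (W : X.Modules) : (HW f W).IsLeftAdjoint := by
  exact @Functor.isLeftAdjoint_comp _ _ _ _ _ _ (Scheme.Modules.pullback f)
    ((ModSite.tensorBi X.sheaf).obj W) inferInstance (isLeftAdjoint_tensorObj W)

theorem main (f : X ⟶ Y)
    (hY : ∀ N : Y.Modules, Coh.IsQCoh N →
      ∃ (κ : Type u) (V : κ → Y.Modules) (π : (∐ V) ⟶ N), (∀ k, FlatMod.IsFinLocFree (V k)) ∧ Epi π)
    {ι : Type u} (W : ι → X.Modules) (hW : ∀ i, FlatMod.IsFinLocFree (W i))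
    (hf : ∀ M : X.Modules, Coh.IsQCoh M →
      ∃ (κ : Type u) (j : κ → ι) (N : κ → Y.Modules)
        (π : (∐ fun k => CohB1.tensorMod (W (j k)) ((Scheme.Modules.pullback f).obj (N k))) ⟶ M),
        (∀ k, Coh.IsQCoh (N k)) ∧ Epi π) :
    ∀ M : X.Modules, Coh.IsQCoh M →
      ∃ (κ : Type u) (E : κ → X.Modules) (π : (∐ E) ⟶ M), (∀ k, FlatMod.IsFinLocFree (E k)) ∧ Epi π := by
  intro M hM
  obtain ⟨κ, j, N, π, hN, hπ⟩ := hf M hM
  choose κ' V ρ hV hρ using fun k => hY (N k) (hN k)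
  let Src : κ → X.Modules := fun k => (HW f (W (j k))).obj (N k)
  let π' : (∐ Src) ⟶ M := π
  let comp : ∀ p : (Σ k, κ' k),
      (HW f (W (j p.1))).obj (V p.1 p.2) ⟶ M := fun p =>
    (HW f (W (j p.1))).map (Sigma.ι (V p.1) p.2 ≫ ρ p.1) ≫ Sigma.ι Src p.1 ≫ π'
  refine ⟨Σ k, κ' k, fun p => (HW f (W (j p.1))).obj (V p.1 p.2), Sigma.desc comp, ?_, ?_⟩
  · intro p
    exact Groth.Agent.H8.isFinLocFree_tensorMod (hW _)
      (Groth.Agent.H28.LpullLoc.isFinLocFree_pullback f (hV _ _))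
  · constructor
    intro Z a b hab
    haveI : Epi π' := hπ
    rw [← cancel_epi π']
    refine Sigma.hom_ext _ _ (fun k => ?_)
    haveI := hρ k
    refine jointly_epi (HW f (W (j k))) (V k) (ρ k) _ _ (fun l => ?_)
    have h1 := congrArg (fun t => Sigma.ι (fun p : (Σ k, κ' k) => (HW f (W (j p.1))).obj (V p.1 p.2))
      ⟨k, l⟩ ≫ t) hab
    simp only [Sigma.ι_desc_assoc] at h1
    simpa only [comp, Category.assoc] using h1

end Groth.Agent.H86.ResPropGen
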