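import Mathlib
import Groth.Prelude
import Groth.Agent.H30.ShQuot2

/-!
# (SD) the semidirect product `A ⋊ B` of subgroup objects as a group object

Squad piece for helper63's S5362.
-/

set_option autoImplicit false
universe v u
open CategoryTheory CategoryTheory.Limits MonoidalCategory CartesianMonoidalCategory MonObj GrpObj
  AlgebraicGeometry

namespace Groth.Agent.H86.SemiDir_SD

section general

variable {𝒞 : Type u} [Category.{v} 𝒞] [CartesianMonoidalCategory 𝒞] [BraidedCategory 𝒞]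

theorem exists_semidirect_gen (G A B : 𝒞) [GrpObj G] [GrpObj A] [GrpObj B] (a : A ⟶ G)
    [IsMonHom a] [Mono a] (b : B ⟶ G) [IsMonHom b]
    (hN : ∀ (T : 𝒞) (y : T ⟶ B) (x : T ⟶ A),
      ∃ x' : T ⟶ A, (y ≫ b) * (x ≫ a) * (y ≫ b)⁻¹ = x' ≫ a) :
    ∃ (P : 𝒞) (_ : GrpObj P) (e : P ≅ A ⊗ B) (f : P ⟶ G),
      IsMonHom f ∧ f = e.hom ≫ (a ⊗ₘ b) ≫ μ[G] := by
  obtain ⟨P, ⟨e⟩⟩ : ∃ P : 𝒞, Nonempty (P ≅ A ⊗ B) := ⟨_, ⟨Iso.refl _⟩⟩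
  have hφpt : ∀ {T : 𝒞} (x : T ⟶ A) (y : T ⟶ B),
      lift x y ≫ (a ⊗ₘ b) ≫ μ[G] = (x ≫ a) * (y ≫ b) := by
    intro T x y
    rw [lift_map_assoc, Hom.mul_def]
  have hψpt : ∀ {T : 𝒞} (x : T ⟶ A) (y : T ⟶ B),
      (lift x y ≫ e.inv) ≫ e.hom ≫ lift ((a ⊗ₘ b) ≫ μ[G]) (snd A B) =
        lift ((x ≫ a) * (y ≫ b)) y := by
    intro T x y
    rw [Category.assoc, e.inv_hom_id_assoc, comp_lift, hφpt, lift_snd]
  have hpt : ∀ {T : 𝒞} (p : T ⟶ P),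
      p = lift (p ≫ e.hom ≫ fst A B) (p ≫ e.hom ≫ snd A B) ≫ e.inv := by
    intro T p
    rw [← cancel_mono e.hom, Category.assoc, e.inv_hom_id, Category.comp_id]
    apply CartesianMonoidalCategory.hom_ext
    · rw [lift_fst, Category.assoc]
    · rw [lift_snd, Category.assoc]
  have hmul' : ∀ {T : 𝒞} (x x' : T ⟶ A) (y y' : T ⟶ B), ∃ z : T ⟶ P,
      z ≫ e.hom ≫ lift ((a ⊗ₘ b) ≫ μ[G]) (snd A B) =
        ((lift x y ≫ e.inv) ≫ e.hom ≫ lift ((a ⊗ₘ b) ≫ μ[G]) (snd A B)) *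
          ((lift x' y' ≫ e.inv) ≫ e.hom ≫ lift ((a ⊗ₘ b) ≫ μ[G]) (snd A B)) := by
    intro T x x' y y'
    obtain ⟨x'', hx''⟩ := hN T y x'
    refine ⟨lift (x * x'') (y * y') ≫ e.inv, ?_⟩
    rw [hψpt, hψpt, hψpt]
    apply CartesianMonoidalCategory.hom_ext
    · simp only [lift_fst, MonObj.mul_comp, ← hx'']
      group
    · simp only [lift_snd, MonObj.mul_comp]
  have hinv' : ∀ {T : 𝒞} (x : T ⟶ A) (y : T ⟶ B), ∃ z : T ⟶ P,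
      z ≫ e.hom ≫ lift ((a ⊗ₘ b) ≫ μ[G]) (snd A B) =
        ((lift x y ≫ e.inv) ≫ e.hom ≫ lift ((a ⊗ₘ b) ≫ μ[G]) (snd A B))⁻¹ := by
    intro T x y
    obtain ⟨x₃, hx₃⟩ := hN T y⁻¹ x⁻¹
    refine ⟨lift x₃ y⁻¹ ≫ e.inv, ?_⟩
    rw [hψpt, hψpt]
    apply CartesianMonoidalCategory.hom_ext
    · simp only [lift_fst, GrpObj.inv_comp, ← hx₃]
      group
    · simp only [lift_snd, GrpObj.inv_comp]
  have hmul : ∀ {T : 𝒞} (p q : T ⟶ P), ∃ z : T ⟶ P,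
      z ≫ e.hom ≫ lift ((a ⊗ₘ b) ≫ μ[G]) (snd A B) =
        (p ≫ e.hom ≫ lift ((a ⊗ₘ b) ≫ μ[G]) (snd A B)) *
          (q ≫ e.hom ≫ lift ((a ⊗ₘ b) ≫ μ[G]) (snd A B)) := by
    intro T p q
    obtain ⟨z, hz⟩ := hmul' (p ≫ e.hom ≫ fst A B) (q ≫ e.hom ≫ fst A B)
      (p ≫ e.hom ≫ snd A B) (q ≫ e.hom ≫ snd A B)
    rw [← hpt p, ← hpt q] at hz
    exact ⟨z, hz⟩
  have hinv : ∀ {T : 𝒞} (p : T ⟶ P), ∃ z : T ⟶ P,
      z ≫ e.hom ≫ lift ((a ⊗ₘ b) ≫ μ[G]) (snd A B) =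
        (p ≫ e.hom ≫ lift ((a ⊗ₘ b) ≫ μ[G]) (snd A B))⁻¹ := by
    intro T p
    obtain ⟨z, hz⟩ := hinv' (p ≫ e.hom ≫ fst A B) (p ≫ e.hom ≫ snd A B)
    rw [← hpt p] at hz
    exact ⟨z, hz⟩
  have hone : ∃ e₁ : 𝟙_ 𝒞 ⟶ P,
      e₁ ≫ e.hom ≫ lift ((a ⊗ₘ b) ≫ μ[G]) (snd A B) = η := by
    refine ⟨lift 1 1 ≫ e.inv, ?_⟩
    rw [hψpt, MonObj.one_eq_one]
    apply CartesianMonoidalCategory.hom_ext
    · simp only [lift_fst, MonObj.one_comp]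
      exact mul_one _
    · simp only [lift_snd, MonObj.one_comp]
  haveI : Mono (e.hom ≫ lift ((a ⊗ₘ b) ≫ μ[G]) (snd A B)) := by
    refine ⟨fun {T} p q hpq => ?_⟩
    have hp := hψpt (p ≫ e.hom ≫ fst A B) (p ≫ e.hom ≫ snd A B)
    have hq := hψpt (q ≫ e.hom ≫ fst A B) (q ≫ e.hom ≫ snd A B)
    rw [← hpt p] at hp
    rw [← hpt q] at hq
    rw [hp, hq] at hpq
    have hy : p ≫ e.hom ≫ snd A B = q ≫ e.hom ≫ snd A B := by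
      have := congrArg (· ≫ snd G B) hpq
      simpa only [lift_snd] using this
    have hx : (p ≫ e.hom ≫ fst A B) ≫ a = (q ≫ e.hom ≫ fst A B) ≫ a := by
      have := congrArg (· ≫ fst G B) hpq
      simp only [lift_fst] at this
      rw [hy] at this
      exact mul_right_cancel this
    have hx' := (cancel_mono a).1 hx
    calc p = lift (p ≫ e.hom ≫ fst A B) (p ≫ e.hom ≫ snd A B) ≫ e.inv := hpt p
      _ = lift (q ≫ e.hom ≫ fst A B) (q ≫ e.hom ≫ snd A B) ≫ e.inv := by rw [hx', hy]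
      _ = q := (hpt q).symm
  obtain ⟨str, hstr⟩ := Groth.Agent.H30.ShQuot.exists_grpObj_of_closed
    (e.hom ≫ lift ((a ⊗ₘ b) ≫ μ[G]) (snd A B)) hmul hinv hone
  letI := str
  haveI : IsMonHom (e.hom ≫ lift ((a ⊗ₘ b) ≫ μ[G]) (snd A B)) := hstr
  refine ⟨P, str, e, e.hom ≫ (a ⊗ₘ b) ≫ μ[G], ?_, rfl⟩
  have hf : e.hom ≫ (a ⊗ₘ b) ≫ μ[G] =
      (e.hom ≫ lift ((a ⊗ₘ b) ≫ μ[G]) (snd A B)) ≫ fst G B := by
    rw [Category.assoc, lift_fst]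
  rw [hf]
  infer_instance

end general

theorem exists_semidirect (k : Type u) [Field k] (G A B : Over (Spec (CommRingCat.of k)))
    [GrpObj G] [GrpObj A] [GrpObj B] (a : A ⟶ G) [IsMonHom a] [Mono a] (b : B ⟶ G) [IsMonHom b]
    (hN : ∀ (T : Over (Spec (CommRingCat.of k))) (y : T ⟶ B) (x : T ⟶ A),
      ∃ x' : T ⟶ A, (y ≫ b) * (x ≫ a) * (y ≫ b)⁻¹ = x' ≫ a) :
    ∃ (P : Over (Spec (CommRingCat.of k))) (_ : GrpObj P) (e : P ≅ A ⊗ B) (f : P ⟶ G),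
      IsMonHom f ∧ f = e.hom ≫ (a ⊗ₘ b) ≫ μ[G] :=
  exists_semidirect_gen G A B a b hN

end Groth.Agent.H86.SemiDir_SD
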