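import Mathlib
import Groth.Prelude.Def_EtModW
import Groth.Prelude.Def_ARSys
import Groth.Prelude.Def_EtModD2
import Groth.Agent.H4.StalkPull

/-!
# (C) for helper20's S13613: stalks of constructible sheaves of `Λ`-modules are finite,
given the locally constant case.
-/

set_option autoImplicit false
universe u
open CategoryTheory CategoryTheory.Limits AlgebraicGeometry Opposite

namespace Groth.Agent.H86.StalkAR_C

/-- A field-valued point whose image point lies in the range of an immersion factors through it. -/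
theorem exists_factor {X T : Scheme.{u}} (g : T ⟶ X) [IsImmersion g] {Ω : Type u} [Field Ω]
    (ξ : Spec (CommRingCat.of Ω) ⟶ X) (h : ξ (IsLocalRing.closedPoint Ω) ∈ Set.range g) :
    ∃ ξ' : Spec (CommRingCat.of Ω) ⟶ T, ξ' ≫ g = ξ := by
  obtain ⟨t, ht⟩ := h
  have hsurj : Function.Surjective (g.residueFieldMap t).hom := by
    have h1 : Function.Surjective ((X.residue (g t)) ≫ g.residueFieldMap t).hom := by
      rw [Scheme.residue_residueFieldMap]
      exact (T.residue_surjective t).comp (g.stalkMap_surjective t)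
    exact Function.Surjective.of_comp (g := (X.residue (g t)).hom) h1
  haveI : IsIso (g.residueFieldMap t) :=
    (ConcreteCategory.isIso_iff_bijective _).mpr ⟨(g.residueFieldMap t).hom.injective, hsurj⟩
  have hφ : Spec.map (X.descResidueField (Scheme.stalkClosedPointTo ξ)) ≫
      X.fromSpecResidueField (ξ (IsLocalRing.closedPoint Ω)) = ξ :=
    Scheme.descResidueField_stalkClosedPointTo_fromSpecResidueField Ω X ξ
  refine ⟨Spec.map (X.descResidueField (Scheme.stalkClosedPointTo ξ)) ≫
    Spec.map (X.residueFieldCongr ht).hom ≫ Spec.map (inv (g.residueFieldMap t)) ≫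
      T.fromSpecResidueField t, ?_⟩
  simp only [Category.assoc]
  rw [← Scheme.Hom.SpecMap_residueFieldMap_fromSpecResidueField,
    ← Spec.map_comp_assoc (g.residueFieldMap t) (inv (g.residueFieldMap t)),
    IsIso.hom_inv_id, Spec.map_id, Category.id_comp,
    Scheme.residueFieldCongr_fromSpecResidueField, hφ]

theorem finite_stalk_of_isConstructible (Λ : Type (u + 1)) [CommRing Λ] {X : Scheme.{u}}
    (E : EtModW.Mod Λ X) (hE : EtModW.IsConstructible Λ E)
    (hB : ∀ {T : Scheme.{u}} (F : EtModW.Mod Λ T), EtModW.IsFTLocConst Λ F →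
      ∀ {Ω : Type u} [Field Ω] [IsSepClosed Ω] (ξ : Spec (CommRingCat.of Ω) ⟶ T),
        Module.Finite Λ ((EtModW.stalk Λ ξ).obj F))
    {Ω : Type u} [Field Ω] [IsSepClosed Ω] (ξ : Spec (CommRingCat.of Ω) ⟶ X) :
    Module.Finite Λ ((EtModW.stalk Λ ξ).obj E) := by
  obtain ⟨_, ⟨U, hU, rfl⟩, hxU, -⟩ := X.isBasis_affineOpens.exists_subset_of_mem_open
    (Set.mem_univ (ξ (IsLocalRing.closedPoint Ω))) isOpen_univ
  obtain ⟨n, T, g, himm, -, -, hunion, hflc⟩ := hE U hU
  have hx' : ξ (IsLocalRing.closedPoint Ω) ∈ ⋃ i, Set.range (g i) := by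
    rw [hunion]; exact hxU
  obtain ⟨i, hi⟩ := Set.mem_iUnion.mp hx'
  haveI := himm i
  obtain ⟨ξ', rfl⟩ := exists_factor (g i) ξ hi
  have hfin := hB _ (hflc i) ξ'
  haveI : HasLimitsOfSize.{u, u} (ModuleCat.{u + 1} Λ) :=
    ModuleCat.hasLimitsOfSize.{u, u, u + 1, u + 1}
  have e := (Groth.Agent.H4.stalkPullIso (g i) ξ' (ModuleCat.{u + 1} Λ)).app E
  have e' : (EtModW.stalk Λ ξ').obj ((EtModW.pull Λ (g i)).obj E) ≅
      (EtModW.stalk Λ (ξ' ≫ g i)).obj E := e.symm
  haveI := hfin
  exact Module.Finite.equiv e'.toLinearEquiv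

end Groth.Agent.H86.StalkAR_C
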