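import Mathlib
import Groth.Prelude

/-!
# (NC2) for helper85's S14315: a finite morphism from an integral scheme of dimension one is not
constant on points.
-/

set_option autoImplicit false
universe u
open CategoryTheory CategoryTheory.Limits AlgebraicGeometry

namespace Groth.Agent.H86.SurfBC_NC2

theorem exists_ne_genericPoint {C' : Scheme.{u}} [IsIntegral C']
    (hdim : topologicalKrullDim C' = 1) : ∃ y : C', y ≠ genericPoint C' := by
  by_contra hcon
  push_neg at hcon
  haveI : Subsingleton C' := ⟨fun a b => (hcon a).trans (hcon b).symm⟩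
  haveI : Subsingleton (TopologicalSpace.IrreducibleCloseds C') := by
    refine ⟨fun Z₁ Z₂ => ?_⟩
    apply TopologicalSpace.IrreducibleCloseds.ext
    ext p
    constructor
    · intro _
      obtain ⟨q, hq⟩ := Z₂.isIrreducible'.nonempty
      rw [Subsingleton.elim p q]; exact hq
    · intro _
      obtain ⟨q, hq⟩ := Z₁.isIrreducible'.nonempty
      rw [Subsingleton.elim p q]; exact hq
  have h0 : topologicalKrullDim C' ≤ 0 := Order.krullDim_nonpos_of_subsingleton
  rw [hdim] at h0
  exact absurd h0 (not_le.mpr zero_lt_one)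

theorem range_nontrivial_of_isFinite {C' C : Scheme.{u}} [IsIntegral C']
    (hdim : topologicalKrullDim C' = 1) (ψ : C' ⟶ C) [IsFinite ψ] :
    (Set.range ψ.base).Nontrivial := by
  obtain ⟨y, hy⟩ := exists_ne_genericPoint hdim
  have hspec : genericPoint C' ⤳ y := genericPoint_specializes y
  refine ⟨ψ.base (genericPoint C'), ⟨genericPoint C', rfl⟩, ψ.base y, ⟨y, rfl⟩, ?_⟩
  intro heq
  have hd : DiscreteTopology ↥(ψ ⁻¹' {ψ.base y}) :=
    (ψ.isDiscrete_preimage_singleton (ψ.base y)).to_subtype
  have hη : genericPoint C' ∈ ψ ⁻¹' {ψ.base y} := heq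
  have hy' : y ∈ ψ ⁻¹' {ψ.base y} := rfl
  have hs : (⟨genericPoint C', hη⟩ : ↥(ψ ⁻¹' {ψ.base y})) ⤳ ⟨y, hy'⟩ :=
    (subtype_specializes_iff _ _).mpr hspec
  have := hs.eq
  exact hy (congrArg Subtype.val this).symm

end Groth.Agent.H86.SurfBC_NC2
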