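import Mathlib

/-!
# Symplectic bases over local rings; isometries of perfect alternating forms have determinant one
-/

set_option autoImplicit false
universe u v w
open Module Matrix

namespace Groth.Agent.H86.SymplLocal

section Basis

variable {S : Type u} [CommRing S]

/-- `b` is a symplectic (Darboux) basis for `B`. -/
structure IsSymplBasis {V : Type w} [AddCommGroup V] [Module S V] (B : V →ₗ[S] V →ₗ[S] S)
    {ι : Type} (b : Basis (ι ⊕ ι) S V) : Prop where
  ll : ∀ i j, B (b (Sum.inl i)) (b (Sum.inl j)) = 0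
  rr : ∀ i j, B (b (Sum.inr i)) (b (Sum.inr j)) = 0
  lr_self : ∀ i, B (b (Sum.inl i)) (b (Sum.inr i)) = 1
  lr_ne : ∀ i j, i ≠ j → B (b (Sum.inl i)) (b (Sum.inr j)) = 0

theorem anti_of_alt {V : Type w} [AddCommGroup V] [Module S V] (B : V →ₗ[S] V →ₗ[S] S)
    (hB : ∀ x, B x x = 0) (x y : V) : B x y = - B y x := by
  have h := hB (x + y)
  simp only [map_add, LinearMap.add_apply, hB, zero_add, add_zero] at h
  linear_combination h

set_option maxHeartbeats 1000000 in
theorem exists_symplectic_basis [IsLocalRing S] : ∀ (d : ℕ) (V : Type w) [AddCommGroup V]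
    [Module S V] [Module.Free S V] [Module.Finite S V] (B : V →ₗ[S] V →ₗ[S] S),
    (∀ x, B x x = 0) → Function.Surjective B → finrank S V = d →
    ∃ (ι : Type) (_ : Fintype ι) (b : Basis (ι ⊕ ι) S V), IsSymplBasis B b := by
  intro d
  induction d using Nat.strong_induction_on with
  | _ d ih =>
  intro V _ _ _ _ B hB hsurj hd
  by_cases hV : Subsingleton V
  · exact ⟨Empty, inferInstance, Basis.empty V,
      ⟨fun i => i.elim, fun i => i.elim, fun i => i.elim, fun i => i.elim⟩⟩
  · rw [not_subsingleton_iff_nontrivial] at hV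
    have hanti := anti_of_alt B hB
    obtain ⟨i₀⟩ := (Module.Free.chooseBasis S V).index_nonempty
    obtain ⟨e, he⟩ : ∃ e : V, e = Module.Free.chooseBasis S V i₀ := ⟨_, rfl⟩
    obtain ⟨f'', hf''⟩ := hsurj ((Module.Free.chooseBasis S V).coord i₀)
    have hfe'' : B f'' e = 1 := by
      rw [hf'', he, Basis.coord_apply, Basis.repr_self, Finsupp.single_eq_same]
    obtain ⟨f, hf⟩ : ∃ f : V, f = -f'' := ⟨_, rfl⟩
    have hef : B e f = 1 := by
      rw [hf, map_neg, hanti e f'', neg_neg, hfe'']
    have hfe : B f e = -1 := by rw [hanti f e, hef]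
    have hee : B e e = 0 := hB e
    have hff : B f f = 0 := hB f
    let P : Submodule S V := LinearMap.ker (B e) ⊓ LinearMap.ker (B f)
    have hP : ∀ p : P, B e p = 0 ∧ B f p = 0 := fun p => by
      have h := p.2
      rw [Submodule.mem_inf, LinearMap.mem_ker, LinearMap.mem_ker] at h
      exact h
    have hPe : ∀ p : P, B p e = 0 := fun p => by rw [hanti, (hP p).1, neg_zero]
    have hPf : ∀ p : P, B p f = 0 := fun p => by rw [hanti, (hP p).2, neg_zero]
    let F : ((S × S) × P) →ₗ[S] V :=
      ((LinearMap.toSpanSingleton S V e).coprod (LinearMap.toSpanSingleton S V f)).coprod P.subtype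
    have hF : ∀ (α β : S) (p : P), F ((α, β), p) = α • e + β • f + (p : V) := by
      intro α β p
      simp [F, LinearMap.coprod_apply, LinearMap.toSpanSingleton_apply]
    have hBe : ∀ (α β : S) (p : P), B e (α • e + β • f + (p : V)) = β := by
      intro α β p
      rw [map_add, map_add, map_smul, map_smul, hee, hef, (hP p).1, smul_eq_mul, smul_eq_mul,
        mul_zero, mul_one, zero_add, add_zero]
    have hBf : ∀ (α β : S) (p : P), B f (α • e + β • f + (p : V)) = -α := by
      intro α β p
      rw [map_add, map_add, map_smul, map_smul, hfe, hff, (hP p).2, smul_eq_mul, smul_eq_mul,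
        mul_zero, mul_neg, mul_one, add_zero, add_zero]
    have hFinj : Function.Injective F := by
      rw [← LinearMap.ker_eq_bot, LinearMap.ker_eq_bot']
      rintro ⟨⟨α, β⟩, p⟩ hz
      rw [hF] at hz
      have h1 : β = 0 := by rw [← hBe α β p, hz, map_zero]
      have h2 : α = 0 := by
        have : -α = 0 := by rw [← hBf α β p, hz, map_zero]
        exact neg_eq_zero.mp this
      rw [h1, h2, zero_smul, zero_smul, zero_add, zero_add] at hz
      have h3 : p = 0 := Subtype.ext hz
      rw [h1, h2, h3]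
      rfl
    have hFsurj : Function.Surjective F := by
      intro x
      have hmem : x + B f x • e - B e x • f ∈ P := by
        rw [Submodule.mem_inf, LinearMap.mem_ker, LinearMap.mem_ker]
        constructor
        · rw [map_sub, map_add, map_smul, map_smul, hee, hef, smul_eq_mul, smul_eq_mul, mul_zero,
            mul_one, add_zero, sub_self]
        · rw [map_sub, map_add, map_smul, map_smul, hfe, hff, smul_eq_mul, smul_eq_mul, mul_zero,
            mul_neg, mul_one, sub_zero, add_neg_cancel]
      refine ⟨((-B f x, B e x), ⟨_, hmem⟩), ?_⟩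
      rw [hF]
      simp only [neg_smul]
      abel
    let ψ : ((S × S) × P) ≃ₗ[S] V := LinearEquiv.ofBijective F ⟨hFinj, hFsurj⟩
    have hψ : ∀ z, ψ z = F z := fun _ => rfl
    -- `P` is finite free
    let s : V →ₗ[S] P := (LinearMap.snd S (S × S) P).comp ψ.symm.toLinearMap
    have hs : ∀ p : P, s (p : V) = p := by
      intro p
      have h1 : ψ ((0, 0), p) = (p : V) := by rw [hψ, hF]; simp
      have h2 : ψ.symm (p : V) = ((0, 0), p) := by rw [← h1, LinearEquiv.symm_apply_apply]
      show (ψ.symm (p : V)).2 = p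
      rw [h2]
    have : Module.Finite S P := Module.Finite.of_surjective s (fun p => ⟨(p : V), hs p⟩)
    have : Module.Projective S P := Module.Projective.of_split P.subtype s
      (LinearMap.ext fun p => hs p)
    have : Module.Free S P := Module.free_of_flat_of_isLocalRing
    -- the restricted form
    let B' : P →ₗ[S] P →ₗ[S] S := B.domRestrict₁₂ P P
    have hB'app : ∀ p q : P, B' p q = B p q := fun _ _ => rfl
    have hB' : ∀ p : P, B' p p = 0 := fun p => by rw [hB'app]; exact hB _
    have hsurj' : Function.Surjective B' := by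
      intro φ
      obtain ⟨x, hx⟩ := hsurj (φ.comp s)
      obtain ⟨⟨⟨α, β⟩, p⟩, rfl⟩ := hFsurj x
      refine ⟨p, ?_⟩
      refine LinearMap.ext fun q => ?_
      have h1 : B (F ((α, β), p)) (q : V) = φ q := by
        rw [hx, LinearMap.comp_apply, hs]
      rw [hB'app, ← h1, hF]
      simp only [map_add, map_smul, LinearMap.add_apply, LinearMap.smul_apply, (hP q).1, (hP q).2,
        smul_zero, zero_add]
    have hdP : finrank S P < d := by
      have h1 := ψ.finrank_eq
      rw [Module.finrank_prod, Module.finrank_prod, Module.finrank_self, hd] at h1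
      omega
    obtain ⟨ι', _, b', hb'⟩ := ih (finrank S P) hdP P B' hB' hsurj' rfl
    -- assemble the basis
    let bk : Basis (Unit ⊕ Unit) S (S × S) := (Basis.singleton Unit S).prod (Basis.singleton Unit S)
    let b0 : Basis ((Unit ⊕ Unit) ⊕ (ι' ⊕ ι')) S ((S × S) × P) := bk.prod b'
    let b1 : Basis ((Unit ⊕ Unit) ⊕ (ι' ⊕ ι')) S V := b0.map ψ
    let b : Basis ((Unit ⊕ ι') ⊕ (Unit ⊕ ι')) S V :=
      b1.reindex (Equiv.sumSumSumComm Unit Unit ι' ι')
    have hbdef : ∀ q, b q = ψ (b0 ((Equiv.sumSumSumComm Unit Unit ι' ι').symm q)) := fun q => by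
      simp only [b, b1, Basis.reindex_apply, Basis.map_apply]
    have v1 : b (Sum.inl (Sum.inl ())) = e := by
      rw [hbdef]
      show ψ (b0 (Sum.inl (Sum.inl ()))) = e
      have : b0 (Sum.inl (Sum.inl ())) = ((1, 0), 0) := by
        simp [b0, bk, Basis.prod_apply]
      rw [this, hψ, hF]
      simp
    have v2 : b (Sum.inr (Sum.inl ())) = f := by
      rw [hbdef]
      show ψ (b0 (Sum.inl (Sum.inr ()))) = f
      have : b0 (Sum.inl (Sum.inr ())) = ((0, 1), 0) := by
        simp [b0, bk, Basis.prod_apply]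
      rw [this, hψ, hF]
      simp
    have v3 : ∀ i, b (Sum.inl (Sum.inr i)) = (b' (Sum.inl i) : V) := by
      intro i
      rw [hbdef]
      show ψ (b0 (Sum.inr (Sum.inl i))) = _
      have : b0 (Sum.inr (Sum.inl i)) = ((0, 0), b' (Sum.inl i)) := by
        simp [b0, Basis.prod_apply]
        rfl
      rw [this, hψ, hF]
      simp
    have v4 : ∀ i, b (Sum.inr (Sum.inr i)) = (b' (Sum.inr i) : V) := by
      intro i
      rw [hbdef]
      show ψ (b0 (Sum.inr (Sum.inr i))) = _
      have : b0 (Sum.inr (Sum.inr i)) = ((0, 0), b' (Sum.inr i)) := by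
        simp [b0, Basis.prod_apply]
        rfl
      rw [this, hψ, hF]
      simp
    refine ⟨Unit ⊕ ι', inferInstance, b, ⟨?_, ?_, ?_, ?_⟩⟩
    · rintro (⟨⟩ | i) (⟨⟩ | j)
      · rw [v1]; exact hee
      · rw [v1, v3]; exact (hP _).1
      · rw [v1, v3]; exact hPe _
      · rw [v3, v3, ← hB'app]; exact hb'.ll i j
    · rintro (⟨⟩ | i) (⟨⟩ | j)
      · rw [v2]; exact hff
      · rw [v2, v4]; exact (hP _).2
      · rw [v2, v4]; exact hPf _
      · rw [v4, v4, ← hB'app]; exact hb'.rr i j
    · rintro (⟨⟩ | i)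
      · rw [v1, v2]; exact hef
      · rw [v3, v4, ← hB'app]; exact hb'.lr_self i
    · rintro (⟨⟩ | i) (⟨⟩ | j) hij
      · exact absurd rfl hij
      · rw [v1, v4]; exact (hP _).1
      · rw [v3, v2]; exact hPf _
      · rw [v3, v4, ← hB'app]
        exact hb'.lr_ne i j (fun h => hij (by rw [h]))

/-- A linear map preserving an alternating form with a symplectic basis has determinant one. -/
theorem det_eq_one_of_symplBasis {V : Type w} [AddCommGroup V] [Module S V]
    {ι : Type} [Fintype ι] [DecidableEq ι] (B : V →ₗ[S] V →ₗ[S] S) (hB : ∀ x, B x x = 0)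
    (b : Basis (ι ⊕ ι) S V) (hb : IsSymplBasis B b) (g : V →ₗ[S] V)
    (hg : ∀ x y, B (g x) (g y) = B x y) : LinearMap.det g = 1 := by
  have hanti := anti_of_alt B hB
  obtain ⟨A, hA⟩ : ∃ A : Matrix (ι ⊕ ι) (ι ⊕ ι) S, A = LinearMap.toMatrix b b g := ⟨_, rfl⟩
  have hJ : LinearMap.toMatrix₂ b b B = - Matrix.J ι S := by
    ext p q
    rw [LinearMap.toMatrix₂_apply]
    rcases p with i | i <;> rcases q with j | j
    · simp [Matrix.J, hb.ll i j]
    · by_cases hij : i = j
      · subst hij; simp [Matrix.J, hb.lr_self i]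
      · simp [Matrix.J, hb.lr_ne i j hij, Matrix.one_apply_ne hij]
    · rw [hanti]
      by_cases hij : j = i
      · subst hij; simp [Matrix.J, hb.lr_self j]
      · simp [Matrix.J, hb.lr_ne j i hij, Matrix.one_apply_ne (Ne.symm hij)]
    · simp [Matrix.J, hb.rr i j]
  have hcomp : B.compl₁₂ g g = B := by
    refine LinearMap.ext fun x => LinearMap.ext fun y => ?_
    rw [LinearMap.compl₁₂_apply]; exact hg x y
  have hmat : Aᵀ * (LinearMap.toMatrix₂ b b B) * A = LinearMap.toMatrix₂ b b B := by
    have h := LinearMap.toMatrix₂_compl₁₂ b b b b B g g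
    rw [hcomp] at h
    rw [hA]
    exact h.symm
  rw [hJ] at hmat
  have hmem : A ∈ Matrix.symplecticGroup ι S := by
    rw [SymplecticGroup.mem_iff']
    have h2 : Aᵀ * (-Matrix.J ι S) * A = -(Aᵀ * Matrix.J ι S * A) := by
      rw [Matrix.mul_neg, Matrix.neg_mul]
    rw [h2] at hmat
    exact neg_injective hmat
  have hdet := SymplecticGroup.det_eq_one hmem
  rw [← LinearMap.det_toMatrix b g, ← hA]
  exact hdet

end Basis

section Mat

/-- Matrix form over a local ring. -/
theorem det_eq_one_of_local {S : Type u} [CommRing S] [IsLocalRing S] {ι : Type v} [Fintype ι]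
    [DecidableEq ι]
    (Bm Gm : Matrix ι ι S) (hdiag : ∀ i, Bm i i = 0) (hanti : ∀ i j, Bm i j = - Bm j i)
    (hdet : IsUnit Bm.det) (hG : Gmᵀ * Bm * Gm = Bm) : Gm.det = 1 := by
  classical
  obtain ⟨B, hBdef⟩ : ∃ B : (ι → S) →ₗ[S] (ι → S) →ₗ[S] S, B = Matrix.toLinearMap₂' S Bm :=
    ⟨_, rfl⟩
  have hBapp : ∀ v w, B v w = v ⬝ᵥ (Bm *ᵥ w) := fun v w => by
    rw [hBdef]; exact Matrix.toLinearMap₂'_apply' Bm v w
  have hT : Bmᵀ = -Bm := by
    ext i j; rw [Matrix.transpose_apply, Matrix.neg_apply]; exact hanti j i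
  have hBanti : ∀ v w, B v w = - B w v := by
    intro v w
    rw [hBapp, hBapp, Matrix.dotProduct_mulVec, ← Matrix.mulVec_transpose, hT, Matrix.neg_mulVec,
      neg_dotProduct, dotProduct_comm]
  have hBalt : ∀ v, B v v = 0 := by
    let W : Submodule S (ι → S) :=
      { carrier := {v | B v v = 0}
        add_mem' := by
          intro a c ha hc
          have h1 : B a a = 0 := ha
          have h2 : B c c = 0 := hc
          have h3 := hBanti c a
          show B (a + c) (a + c) = 0
          simp only [map_add, LinearMap.add_apply]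
          linear_combination h1 + h2 + h3
        zero_mem' := by
          show B 0 0 = 0
          simp
        smul_mem' := by
          intro r a ha
          have h1 : B a a = 0 := ha
          show B (r • a) (r • a) = 0
          simp only [map_smul, LinearMap.smul_apply, h1, smul_zero] }
    have hW : W = ⊤ := by
      rw [eq_top_iff, ← (Pi.basisFun S ι).span_eq, Submodule.span_le]
      rintro _ ⟨i, rfl⟩
      show B (Pi.basisFun S ι i) (Pi.basisFun S ι i) = 0
      rw [hBapp, Pi.basisFun_apply]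
      simp [hdiag i]
    intro v
    have hv : v ∈ W := hW ▸ Submodule.mem_top
    exact hv
  have hBsurj : Function.Surjective B := by
    intro φ
    let c : ι → S := fun i => φ (fun j => if i = j then 1 else 0)
    have hφ : ∀ y, φ y = c ⬝ᵥ y := by
      intro y
      rw [LinearMap.pi_apply_eq_sum_univ φ y]
      show _ = ∑ i, c i * y i
      exact Finset.sum_congr rfl fun i _ => by rw [smul_eq_mul, mul_comm]
    refine ⟨c ᵥ* Bm⁻¹, ?_⟩
    refine LinearMap.ext fun y => ?_
    rw [hBapp, hφ, Matrix.dotProduct_mulVec, Matrix.vecMul_vecMul, Matrix.nonsing_inv_mul _ hdet,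
      Matrix.vecMul_one]
  have hg : ∀ x y, B (Matrix.toLin' Gm x) (Matrix.toLin' Gm y) = B x y := by
    intro x y
    have key : x ⬝ᵥ ((Gmᵀ * Bm * Gm) *ᵥ y) = (Gm *ᵥ x) ⬝ᵥ (Bm *ᵥ (Gm *ᵥ y)) := by
      rw [← Matrix.mulVec_mulVec, ← Matrix.mulVec_mulVec, Matrix.dotProduct_mulVec,
        Matrix.vecMul_transpose]
    rw [hBapp, hBapp, Matrix.toLin'_apply, Matrix.toLin'_apply, ← key, hG]
  obtain ⟨ι', _, b, hb⟩ := exists_symplectic_basis (finrank S (ι → S)) (ι → S) B hBalt hBsurj rfl
  rw [← LinearMap.det_toLin' Gm]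
  exact det_eq_one_of_symplBasis B hBalt b hb _ hg

/-- Matrix form over an arbitrary commutative ring. -/
theorem det_eq_one_of_alt {R : Type u} [CommRing R] {ι : Type v} [Fintype ι] [DecidableEq ι]
    (Bm Gm : Matrix ι ι R) (hdiag : ∀ i, Bm i i = 0) (hanti : ∀ i j, Bm i j = - Bm j i)
    (hdet : IsUnit Bm.det) (hG : Gmᵀ * Bm * Gm = Bm) : Gm.det = 1 := by
  refine sub_eq_zero.1 <| eq_zero_of_localization _ fun J hJ => ?_
  have := hJ
  obtain ⟨f, hf⟩ : ∃ f : R →+* Localization.AtPrime J, f = algebraMap R _ := ⟨_, rfl⟩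
  rw [← hf]
  have hT : (f.mapMatrix Gm)ᵀ = f.mapMatrix Gmᵀ := by
    ext i j; simp [RingHom.mapMatrix_apply]
  have h1 : (f.mapMatrix Gm).det = 1 := by
    apply det_eq_one_of_local (f.mapMatrix Bm) (f.mapMatrix Gm)
    · intro i
      rw [RingHom.mapMatrix_apply, Matrix.map_apply, hdiag i, map_zero]
    · intro i j
      rw [RingHom.mapMatrix_apply, Matrix.map_apply, Matrix.map_apply, hanti i j, map_neg]
    · rw [← RingHom.map_det]; exact hdet.map f
    · calc (f.mapMatrix Gm)ᵀ * f.mapMatrix Bm * f.mapMatrix Gm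
          = f.mapMatrix Gmᵀ * f.mapMatrix Bm * f.mapMatrix Gm := by rw [hT]
        _ = f.mapMatrix (Gmᵀ * Bm * Gm) := by rw [map_mul, map_mul]
        _ = f.mapMatrix Bm := by rw [hG]
  rw [map_sub, map_one, RingHom.map_det, h1, sub_self]

end Mat

section Quad

/-- In characteristic two, an endomorphism preserving a quadratic form with perfect polar form on a
finite free module has determinant one. -/
theorem det_eq_one_of_isometry {R : Type u} [CommRing R] [CharP R 2]
    {M : Type v} [AddCommGroup M] [Module R M] [Module.Free R M] [Module.Finite R M]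
    (Q : QuadraticForm R M) (hQ : Function.Bijective (QuadraticMap.polarBilin Q))
    (g : M →ₗ[R] M) (hg : ∀ x, Q (g x) = Q x) : LinearMap.det g = 1 := by
  classical
  obtain ⟨b, -⟩ : ∃ b : Basis (Module.Free.ChooseBasisIndex R M) R M, b = b :=
    ⟨Module.Free.chooseBasis R M, rfl⟩
  obtain ⟨Bm, hBm⟩ : ∃ Bm : Matrix (Module.Free.ChooseBasisIndex R M)
      (Module.Free.ChooseBasisIndex R M) R,
      Bm = LinearMap.toMatrix₂ b b (QuadraticMap.polarBilin Q) := ⟨_, rfl⟩
  obtain ⟨Gm, hGm⟩ : ∃ Gm : Matrix (Module.Free.ChooseBasisIndex R M)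
      (Module.Free.ChooseBasisIndex R M) R, Gm = LinearMap.toMatrix b b g := ⟨_, rfl⟩
  have hpol : ∀ x y, QuadraticMap.polarBilin Q (g x) (g y) = QuadraticMap.polarBilin Q x y := by
    intro x y
    have h1 : g x + g y = g (x + y) := (map_add g x y).symm
    rw [QuadraticMap.polarBilin_apply_apply, QuadraticMap.polarBilin_apply_apply,
      QuadraticMap.polar, QuadraticMap.polar, h1, hg, hg, hg]
  have hcomp : (QuadraticMap.polarBilin Q).compl₁₂ g g = QuadraticMap.polarBilin Q :=
    LinearMap.ext fun x => LinearMap.ext fun y => by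
      rw [LinearMap.compl₁₂_apply]; exact hpol x y
  have hG : Gmᵀ * Bm * Gm = Bm := by
    have h := LinearMap.toMatrix₂_compl₁₂ b b b b (QuadraticMap.polarBilin Q) g g
    rw [hcomp] at h
    rw [hBm, hGm]
    exact h.symm
  have hdiag : ∀ i, Bm i i = 0 := by
    intro i
    rw [hBm, LinearMap.toMatrix₂_apply, QuadraticMap.polarBilin_apply_apply,
      QuadraticMap.polar_self, two_nsmul, CharTwo.add_self_eq_zero]
  have hanti : ∀ i j, Bm i j = - Bm j i := by
    intro i j
    rw [CharTwo.neg_eq, hBm, LinearMap.toMatrix₂_apply, LinearMap.toMatrix₂_apply,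
      QuadraticMap.polarBilin_apply_apply, QuadraticMap.polarBilin_apply_apply,
      QuadraticMap.polar_comm]
  have hdet : IsUnit Bm.det := by
    let e : M ≃ₗ[R] Module.Dual R M := LinearEquiv.ofBijective (QuadraticMap.polarBilin Q) hQ
    have h1 := LinearEquiv.isUnit_det e b b.dualBasis
    have h2 : LinearMap.toMatrix b b.dualBasis (e : M →ₗ[R] Module.Dual R M) = Bmᵀ := by
      ext i j
      rw [LinearMap.toMatrix_apply, Basis.dualBasis_repr, Matrix.transpose_apply, hBm,
        LinearMap.toMatrix₂_apply]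
      rfl
    rw [h2, Matrix.det_transpose] at h1
    exact h1
  rw [← LinearMap.det_toMatrix b g, ← hGm]
  exact det_eq_one_of_alt Bm Gm hdiag hanti hdet hG

end Quad

end Groth.Agent.H86.SymplLocal
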