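import Groth.Agent.H86.TameKummer

set_option autoImplicit false
open Polynomial

namespace Groth.Agent.H86.TameKummer

universe u

theorem main_aux (O : Type u) [CommRing O] [IsDomain O] [IsDiscreteValuationRing O]
    [HenselianLocalRing O] [IsAlgClosed (IsLocalRing.ResidueField O)]
    (ϖ : O) (hϖ : Irreducible ϖ) (m : ℕ) (r b : Fin m → ℕ) (v : Fin m → Oˣ)
    (hr : ∀ i, 1 ≤ r i) (hrb : ∀ i, Nat.Coprime (r i) (b i))
    (hrκ : ∀ i, ((r i : ℕ) : IsLocalRing.ResidueField O) ≠ 0)
    (M : Type u) [Field M] [Algebra (FractionRing O) M] [FiniteDimensional (FractionRing O) M]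
    (π : M) (hπR : π ^ (Finset.univ.lcm r) = algebraMap (FractionRing O) M
      (algebraMap O (FractionRing O) ϖ))
    (hfin : Module.finrank (FractionRing O) M = Finset.univ.lcm r)
    (hgen : Algebra.adjoin (FractionRing O) ({π} : Set M) = ⊤) :
    Module.finrank (FractionRing O)
        (∏ i, (X ^ (r i) - C (algebraMap O (FractionRing O) ((v i : O) * ϖ ^ (b i))))).SplittingField =
      Finset.univ.lcm r := by
  classical
  have hr0 : ∀ i, r i ≠ 0 := fun i => Nat.one_le_iff_ne_zero.mp (hr i)
  obtain ⟨R, hR⟩ : ∃ R, R = Finset.univ.lcm r := ⟨_, rfl⟩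
  rw [← hR] at hπR hfin ⊢
  have hRpos : 0 < R := by
    rw [hR]
    apply Nat.pos_of_ne_zero
    intro h0
    rw [Finset.lcm_eq_zero_iff] at h0
    obtain ⟨i, -, hi⟩ := h0
    exact hr0 i hi
  have hrR : ∀ i, r i ∣ R := fun i => hR ▸ Finset.dvd_lcm (Finset.mem_univ i)
  have hinj : Function.Injective (algebraMap O (FractionRing O)) :=
    IsFractionRing.injective O (FractionRing O)
  have hinjM : Function.Injective (algebraMap (FractionRing O) M) :=
    RingHom.injective (algebraMap (FractionRing O) M)
  have hπ0 : π ≠ 0 := by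
    rintro rfl
    rw [zero_pow hRpos.ne'] at hπR
    have h2 : algebraMap O (FractionRing O) ϖ = 0 := hinjM (by rw [← hπR, map_zero])
    exact hϖ.ne_zero (hinj (by rw [h2, map_zero]))
  choose w hw using fun i => exists_root_unit O (hr i) (hrκ i) (v i)
  choose ζ hζ using fun i => exists_primitiveRoot O (hr i) (hrκ i)
  have hdr : ∀ i, (R / r i * b i) * r i = R * b i := by
    intro i
    rw [mul_right_comm, Nat.div_mul_cancel (hrR i)]
  have hα : ∀ i, (algebraMap (FractionRing O) M (algebraMap O (FractionRing O) (w i)) *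
      π ^ (R / r i * b i)) ^ r i =
      algebraMap (FractionRing O) M (algebraMap O (FractionRing O) ((v i : O) * ϖ ^ b i)) := by
    intro i
    rw [mul_pow, ← pow_mul, hdr, pow_mul, hπR, ← map_pow, ← map_pow, hw, ← map_pow, ← map_pow,
      ← map_mul, ← map_mul]
  have hf0 : (∏ i, (X ^ (r i) - C (algebraMap O (FractionRing O) ((v i : O) * ϖ ^ (b i)))) :
      (FractionRing O)[X]) ≠ 0 :=
    Finset.prod_ne_zero_iff.mpr (fun i _ => (monic_X_pow_sub_C _ (hr0 i)).ne_zero)
  haveI : IsSplittingField (FractionRing O) M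
      (∏ i, (X ^ (r i) - C (algebraMap O (FractionRing O) ((v i : O) * ϖ ^ (b i))))) := by
    refine ⟨?_, ?_⟩
    · rw [Polynomial.map_prod]
      apply Splits.prod
      intro i _
      rw [Polynomial.map_sub, Polynomial.map_pow, map_X, map_C]
      exact X_pow_sub_C_splits_of_isPrimitiveRoot
        (((hζ i).map_of_injective hinj).map_of_injective hinjM) (hα i)
    · have halg : ∀ x ∈ (∏ i, (X ^ (r i) - C (algebraMap O (FractionRing O)
          ((v i : O) * ϖ ^ (b i))))).rootSet M, IsAlgebraic (FractionRing O) x :=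
        fun x _ => Algebra.IsAlgebraic.isAlgebraic x
      rw [← IntermediateField.adjoin_toSubalgebra_of_isAlgebraic halg]
      obtain ⟨F, hF⟩ : ∃ F : IntermediateField (FractionRing O) M,
          F = IntermediateField.adjoin (FractionRing O)
            ((∏ i, (X ^ (r i) - C (algebraMap O (FractionRing O)
              ((v i : O) * ϖ ^ (b i))))).rootSet M) := ⟨_, rfl⟩
      rw [← hF]
      have hαF : ∀ i, algebraMap (FractionRing O) M (algebraMap O (FractionRing O) (w i)) *
          π ^ (R / r i * b i) ∈ F := by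
        intro i
        rw [hF]
        apply IntermediateField.subset_adjoin
        rw [mem_rootSet]
        refine ⟨hf0, ?_⟩
        rw [map_prod]
        apply Finset.prod_eq_zero (Finset.mem_univ i)
        rw [map_sub, map_pow, aeval_X, aeval_C, hα i, sub_self]
      have hw0 : ∀ i, algebraMap (FractionRing O) M (algebraMap O (FractionRing O) (w i)) ≠ 0 := by
        intro i h0
        have h1' : algebraMap O (FractionRing O) (w i) = 0 := hinjM (by rw [h0, map_zero])
        have h1 : w i = 0 := hinj (by rw [h1', map_zero])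
        have h2 := hw i
        rw [h1, zero_pow (hr0 i)] at h2
        exact (v i).ne_zero h2.symm
      have hπd : ∀ i ∈ (Finset.univ : Finset (Fin m)), π ^ (R / r i * b i) ∈ F := by
        intro i _
        have h1 : π ^ (R / r i * b i) =
            (algebraMap (FractionRing O) M (algebraMap O (FractionRing O) (w i)))⁻¹ *
            (algebraMap (FractionRing O) M (algebraMap O (FractionRing O) (w i)) *
              π ^ (R / r i * b i)) := by
          rw [← mul_assoc, inv_mul_cancel₀ (hw0 i), one_mul]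
        rw [h1]
        exact F.mul_mem (F.inv_mem (F.algebraMap_mem _)) (hαF i)
      have hπRF : π ^ R ∈ F := by rw [hπR]; exact F.algebraMap_mem _
      have h1 := pow_gcd_mem F hπ0 hπRF (pow_finset_gcd_mem F hπ0 Finset.univ _ hπd)
      rw [hR, gcd_eq_one r b hr0 hrb, pow_one] at h1
      have h2 : Algebra.adjoin (FractionRing O) ({π} : Set M) ≤ F.toSubalgebra :=
        Algebra.adjoin_le (by
          intro x hx
          rw [Set.mem_singleton_iff] at hx
          rw [hx]
          exact h1)
      rw [hgen] at h2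
      exact top_le_iff.mp h2
  rw [← (IsSplittingField.algEquiv M (∏ i, (X ^ (r i) - C (algebraMap O (FractionRing O)
    ((v i : O) * ϖ ^ (b i)))))).toLinearEquiv.finrank_eq, hfin]

theorem main (O : Type u) [CommRing O] [IsDomain O] [IsDiscreteValuationRing O]
    [HenselianLocalRing O] [IsAlgClosed (IsLocalRing.ResidueField O)]
    (ϖ : O) (hϖ : Irreducible ϖ) (m : ℕ) (r b : Fin m → ℕ) (v : Fin m → Oˣ)
    (hr : ∀ i, 1 ≤ r i) (hrb : ∀ i, Nat.Coprime (r i) (b i))
    (hrκ : ∀ i, ((r i : ℕ) : IsLocalRing.ResidueField O) ≠ 0) :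
    Module.finrank (FractionRing O)
        (∏ i, (X ^ (r i) - C (algebraMap O (FractionRing O) ((v i : O) * ϖ ^ (b i))))).SplittingField =
      Finset.univ.lcm r := by
  have hRpos : 0 < Finset.univ.lcm r := by
    apply Nat.pos_of_ne_zero
    intro h0
    rw [Finset.lcm_eq_zero_iff] at h0
    obtain ⟨i, -, hi⟩ := h0
    exact Nat.one_le_iff_ne_zero.mp (hr i) hi
  have hg_irr := irreducible_X_pow_sub_C_uniformizer O ϖ hϖ hRpos
  haveI : Fact (Irreducible (X ^ (Finset.univ.lcm r) - C (algebraMap O (FractionRing O) ϖ) :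
      (FractionRing O)[X])) := ⟨hg_irr⟩
  haveI : FiniteDimensional (FractionRing O) (AdjoinRoot (X ^ (Finset.univ.lcm r) -
      C (algebraMap O (FractionRing O) ϖ) : (FractionRing O)[X])) :=
    (AdjoinRoot.powerBasis hg_irr.ne_zero).finite
  refine main_aux O ϖ hϖ m r b v hr hrb hrκ (AdjoinRoot (X ^ (Finset.univ.lcm r) -
      C (algebraMap O (FractionRing O) ϖ) : (FractionRing O)[X])) (AdjoinRoot.root _) ?_ ?_
      AdjoinRoot.adjoinRoot_eq_top
  · have h1 := AdjoinRoot.eval₂_root (X ^ (Finset.univ.lcm r) -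
      C (algebraMap O (FractionRing O) ϖ) : (FractionRing O)[X])
    rw [eval₂_sub, eval₂_pow, eval₂_X, eval₂_C, sub_eq_zero] at h1
    rw [h1, AdjoinRoot.algebraMap_eq]
  · rw [(AdjoinRoot.powerBasis hg_irr.ne_zero).finrank, AdjoinRoot.powerBasis_dim,
      natDegree_X_pow_sub_C]

end Groth.Agent.H86.TameKummer
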