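import Mathlib
import Groth.Agent.S11091
import Groth.Agent.H3.HInt
import Groth.Agent.H86.NormVal
import Groth.Agent.H86.TameKummer

/-!
# Totally tamely ramified extensions of complete DVRs: a uniformizer with `u ^ n ∈ A`
-/

set_option autoImplicit false

universe u

attribute [local instance] FractionRing.liftAlgebra

open Polynomial

namespace Groth.Agent.H86.TameUnif

theorem main (A B : Type u) [CommRing A] [IsDomain A] [IsDiscreteValuationRing A]
    [IsAdicComplete (IsLocalRing.maximalIdeal A) A]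
    [CommRing B] [IsDedekindDomain B] [Algebra A B] [Module.Finite A B] [Module.IsTorsionFree A B]
    [Algebra.IsSeparable (FractionRing A) (FractionRing B)]
    (M : Ideal B) [M.IsMaximal] (hram : M.ramificationIdx A = Module.finrank A B)
    (hm : IsUnit ((Module.finrank A B : ℕ) : A)) :
    ∃ u : B, u ∈ M ∧ u ∉ M ^ 2 ∧ u ^ Module.finrank A B ∈ (algebraMap A B).range ∧
      (minpoly A u).natDegree = Module.finrank A B := by
  classical
  obtain ⟨n, hn⟩ : ∃ n : ℕ, n = Module.finrank A B := ⟨_, rfl⟩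
  rw [← hn] at hram hm ⊢
  obtain ⟨m, hmdef⟩ : ∃ m : Ideal A, m = IsLocalRing.maximalIdeal A := ⟨_, rfl⟩
  haveI hmmax : m.IsMaximal := hmdef ▸ IsLocalRing.maximalIdeal.isMaximal A
  obtain ⟨M₀, hM₀, huniq₀⟩ := Groth.Agent.S11091.result A B
  have huniq : ∀ N : Ideal B, N.IsMaximal → N = M := fun N hN =>
    (huniq₀ N hN).trans (huniq₀ M inferInstance).symm
  haveI hloc : IsLocalRing B := IsLocalRing.of_unique_max_ideal ⟨M₀, hM₀, huniq₀⟩
  have hMmax : IsLocalRing.maximalIdeal B = M := huniq _ (IsLocalRing.maximalIdeal.isMaximal B)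
  haveI : HenselianLocalRing A :=
    Groth.Agent.H3.henselianLocalRing_of_henselianRing_maximalIdeal A
  haveI : HenselianLocalRing B :=
    Groth.Agent.H3.henselianLocalRing_of_isIntegral_of_isLocalRing A B
  have hm0 : m ≠ ⊥ := hmdef ▸ IsDiscreteValuationRing.not_a_field A
  have hinj : Function.Injective (algebraMap A B) := FaithfulSMul.algebraMap_injective A B
  have hunder : M.under A = m := by
    rw [hmdef]
    exact IsLocalRing.eq_maximalIdeal (Ideal.IsMaximal.under A M)
  haveI hlies : M.LiesOver m := ⟨hunder.symm⟩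
  have hM0 : M ≠ ⊥ := by
    intro h
    apply hm0
    rw [← hunder, h, Ideal.under_def, Ideal.comap_bot_of_injective _ hinj]
  have hM1 : M ≠ ⊤ := Ideal.IsMaximal.ne_top inferInstance
  have hn0 : 0 < n := by rw [← hram]; exact Ideal.ramificationIdx_pos M A
  -- `m B = M ^ n`
  have hmB : m.map (algebraMap A B) ≠ ⊥ := Ideal.map_ne_bot_of_ne_bot hm0
  obtain ⟨e, he, hfac⟩ := NormVal.exists_eq_pow M huniq _ hmB
  have hrame : M.ramificationIdx A = e := by
    rw [Ideal.IsDedekindDomain.ramificationIdx_eq_normalizedFactors_count m M hmB, hfac,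
      Multiset.count_replicate_self]
  have hen : e = n := hrame.symm.trans hram
  rw [hen] at he
  -- the fundamental identity: inertia degree one
  have hq : ∀ q : m.primesOver B, q.1 = M := by
    intro q
    haveI : q.1.IsPrime := q.2.1
    have hq0 : q.1 ≠ ⊥ := by
      intro h
      apply hm0
      have := q.2.2.over
      rw [this, h, Ideal.under_def, Ideal.comap_bot_of_injective _ hinj]
    exact huniq q.1 (Ideal.IsPrime.isMaximal q.2.1 hq0)
  haveI hsub : Subsingleton (m.primesOver B) :=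
    ⟨fun q₁ q₂ => Subtype.ext ((hq q₁).trans (hq q₂).symm)⟩
  haveI : Fintype (m.primesOver B) := Fintype.ofFinite _
  haveI : Module.Flat A B := inferInstance
  have hfund := Ideal.sum_ramification_inertia_eq_finrank m B
  have hMmem : M ∈ m.primesOver B := ⟨inferInstance, hlies⟩
  rw [Fintype.sum_subsingleton _ (⟨M, hMmem⟩ : m.primesOver B), ← hn] at hfund
  have hfund' : M.ramificationIdx A * M.inertiaDeg A = n := hfund
  rw [hram] at hfund'
  have hf1 : M.inertiaDeg A = 1 :=
    Nat.eq_of_mul_eq_mul_left hn0 (hfund'.trans (mul_one n).symm)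
  -- the residue field extension is trivial
  have hres : ∀ b : B, ∃ a : A, b - algebraMap A B a ∈ M := by
    intro b
    have h1 : Module.finrank (A ⧸ m) (B ⧸ M) = 1 := by
      rw [← Ideal.inertiaDeg_eq_of_isMaximal m M]; exact hf1
    letI : Field (A ⧸ m) := Ideal.Quotient.field m
    letI : Field (B ⧸ M) := Ideal.Quotient.field M
    have h2 := (finrank_eq_one_iff_of_nonzero' (1 : B ⧸ M) one_ne_zero).mp h1
      (Ideal.Quotient.mk M b)
    obtain ⟨c, hc⟩ := h2
    obtain ⟨a, rfl⟩ := Ideal.Quotient.mk_surjective c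
    refine ⟨a, ?_⟩
    rw [← Ideal.Quotient.eq, ← hc, Algebra.smul_def, mul_one,
      Ideal.Quotient.algebraMap_mk_of_liesOver]
  -- uniformizers
  obtain ⟨π, hπ⟩ := IsDiscreteValuationRing.exists_irreducible A
  have hmπ : m = Ideal.span {π} := by rw [hmdef]; exact hπ.maximalIdeal_eq
  obtain ⟨pB, hpB1, hpB2⟩ : ∃ pB : B, pB ∈ M ∧ pB ∉ M ^ 2 := by
    have hlt := Ideal.pow_succ_lt_pow hM0 1
    obtain ⟨pB, h1, h2⟩ := SetLike.exists_of_lt hlt
    rw [pow_one] at h1
    exact ⟨pB, h1, h2⟩
  have hpB0 : pB ≠ 0 := fun h => hpB2 (h ▸ Ideal.zero_mem _)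
  have hpBspan : Ideal.span {pB} = M := by
    have h0 : Ideal.span ({pB} : Set B) ≠ ⊥ := by
      rw [Ne, Ideal.span_singleton_eq_bot]; exact hpB0
    obtain ⟨k, hk, -⟩ := NormVal.exists_eq_pow M huniq _ h0
    have hmem : pB ∈ M ^ k := hk ▸ Ideal.mem_span_singleton_self pB
    rcases k with _ | _ | k
    · exfalso
      rw [pow_zero, Ideal.one_eq_top] at hk
      have hunit : IsUnit pB := Ideal.span_singleton_eq_top.mp hk
      exact hM1 (Ideal.eq_top_of_isUnit_mem M hpB1 hunit)
    · simpa using hk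
    · exfalso
      exact hpB2 (Ideal.pow_le_pow_right (by omega) hmem)
  have hassoc : Associated (algebraMap A B π) (pB ^ n) := by
    rw [← Ideal.span_singleton_eq_span_singleton, ← Ideal.span_singleton_pow, hpBspan, ← he, hmπ,
      Ideal.map_span, Set.image_singleton]
  obtain ⟨w, hw⟩ := hassoc
  -- approximate `w` by a unit of `A`
  obtain ⟨a, ha⟩ := hres (w : B)
  have haunit : IsUnit a := by
    by_contra hna
    have ham : a ∈ m := by
      rw [hmdef]; exact (IsLocalRing.mem_maximalIdeal a).mpr hna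
    have haM : algebraMap A B a ∈ M := by
      have h1 : a ∈ M.under A := hunder ▸ ham
      exact h1
    have hwM : (w : B) ∈ M := by
      have := M.add_mem ha haM
      rwa [sub_add_cancel] at this
    exact hM1 (Ideal.eq_top_of_isUnit_mem M hwM w.isUnit)
  obtain ⟨α, rfl⟩ := haunit
  obtain ⟨β, hβv⟩ : ∃ β : Bˣ, (β : B) = algebraMap A B (α : A) :=
    ⟨Units.map (algebraMap A B).toMonoidHom α, rfl⟩
  obtain ⟨c, hcdef⟩ : ∃ c : Bˣ, c = w * β⁻¹ := ⟨_, rfl⟩
  have hc1 : (c : B) - 1 ∈ M := by
    have h1 : (c : B) - 1 = ((w : B) - algebraMap A B (α : A)) * ((β⁻¹ : Bˣ) : B) := by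
      rw [hcdef, Units.val_mul, sub_mul, ← hβv, Units.mul_inv]
    rw [h1]; exact M.mul_mem_right _ ha
  have hrc : IsLocalRing.residue B (c : B) = 1 := by
    have hmem : (c : B) - 1 ∈ IsLocalRing.maximalIdeal B := by rw [hMmax]; exact hc1
    have h := (IsLocalRing.residue_eq_zero_iff ((c : B) - 1)).mpr hmem
    rw [map_sub, map_one, sub_eq_zero] at h
    exact h
  have hnB : IsUnit ((n : ℕ) : B) := by
    have := hm.map (algebraMap A B); rwa [map_natCast] at this
  have hder : derivative (X ^ n - C (c : B)) = C ((n : ℕ) : B) * X ^ (n - 1) := by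
    rw [derivative_sub, derivative_C, sub_zero, derivative_X_pow]
  obtain ⟨v, hv1, -⟩ := TameKummer.hensel B (X ^ n - C (c : B)) (monic_X_pow_sub_C _ hn0.ne')
    (1 : IsLocalRing.ResidueField B)
    (by
      rw [map_sub, map_pow, aeval_X, aeval_C, one_pow, sub_eq_zero,
        IsLocalRing.ResidueField.algebraMap_eq]
      exact hrc.symm)
    (by
      rw [hder, map_mul, aeval_C, map_pow, aeval_X, one_pow, mul_one]
      exact (hnB.map (algebraMap B (IsLocalRing.ResidueField B))).ne_zero)
  have hvn : v ^ n = (c : B) := by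
    have := hv1
    rw [IsRoot.def, eval_sub, eval_pow, eval_X, eval_C, sub_eq_zero] at this
    exact this
  have hvu : IsUnit v := (isUnit_pow_iff hn0.ne').mp (hvn ▸ c.isUnit)
  obtain ⟨v', rfl⟩ := hvu
  have hvc : v' ^ n = c := Units.ext (by rw [Units.val_pow_eq_pow_val]; exact hvn)
  have hinvpow : (((v'⁻¹ : Bˣ) : B)) ^ n = (β : B) * ((w⁻¹ : Bˣ) : B) := by
    rw [← Units.val_pow_eq_pow_val, inv_pow, hvc, hcdef, mul_inv_rev, inv_inv, Units.val_mul]
  have hww : (w : B) * ((w⁻¹ : Bˣ) : B) = 1 := Units.mul_inv w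
  have hun : algebraMap A B (π * (α : A)) = (pB * ((v'⁻¹ : Bˣ) : B)) ^ n := by
    rw [map_mul, mul_pow, ← hw, hinvpow, hβv]
    linear_combination (-(algebraMap A B π * algebraMap A B (α : A))) * hww
  refine ⟨pB * ((v'⁻¹ : Bˣ) : B), M.mul_mem_right _ hpB1, ?_, ⟨π * (α : A), hun⟩, ?_⟩
  · intro h
    apply hpB2
    have := (M ^ 2).mul_mem_right (v' : B) h
    rwa [mul_assoc, Units.inv_mul, mul_one] at this
  · -- the minimal polynomial
    have hϖ : Irreducible (π * (α : A)) := (irreducible_mul_units α).mpr hπ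
    obtain ⟨g, hgdef⟩ : ∃ g : A[X], g = X ^ n - C (π * (α : A)) := ⟨_, rfl⟩
    have hgmonic : g.Monic := hgdef ▸ monic_X_pow_sub_C _ hn0.ne'
    have hgK : Irreducible (g.map (algebraMap A (FractionRing A))) := by
      have h1 := TameKummer.irreducible_X_pow_sub_C_uniformizer A (π * (α : A)) hϖ hn0
      rw [hgdef, Polynomial.map_sub, Polynomial.map_pow, Polynomial.map_X, Polynomial.map_C]
      exact h1
    have hg : Irreducible g :=
      Polynomial.Monic.irreducible_of_irreducible_map (algebraMap A (FractionRing A)) g hgmonic hgK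
    have hroot : aeval (pB * ((v'⁻¹ : Bˣ) : B)) g = 0 := by
      rw [hgdef, map_sub, map_pow, aeval_X, aeval_C, sub_eq_zero]
      exact hun.symm
    have hint : IsIntegral A (pB * ((v'⁻¹ : Bˣ) : B)) := Algebra.IsIntegral.isIntegral _
    obtain ⟨q, hq⟩ := minpoly.isIntegrallyClosed_dvd hint hroot
    rcases hg.isUnit_or_isUnit hq with h | h
    · exact absurd h (minpoly.not_isUnit A _)
    · have hq0 : q.natDegree = 0 := natDegree_eq_zero_of_isUnit h
      have hdeg : g.natDegree = n := by rw [hgdef]; exact natDegree_X_pow_sub_C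
      have h3 := congrArg natDegree hq
      rw [natDegree_mul (minpoly.ne_zero hint) h.ne_zero, hq0, add_zero, hdeg] at h3
      exact h3.symm

end Groth.Agent.H86.TameUnif
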