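import Mathlib

set_option autoImplicit false

namespace Groth.Agent.H86.Theta

variable {k : Type*} [Field k] {Γ : Type*} [Group Γ] {ι : kˣ →* Γ}

/-- standing hypotheses of a nondegenerate theta group (group of points) -/
structure Hyp (ι : kˣ →* Γ) : Prop where
  inj : Function.Injective ι
  cent : ι.range = Subgroup.center Γ
  comm : commutator Γ ≤ ι.range

theorem natCast_ne_zero_of_coprime (k : Type*) [Field k] {N : ℕ} (hN : N ≠ 0)
    (hc : N.Coprime (ringExpChar k)) : (N : k) ≠ 0 := by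
  obtain ⟨q, hq⟩ : ∃ q, q = ringExpChar k := ⟨_, rfl⟩
  haveI hE : ExpChar k q := hq ▸ ringExpChar.expChar k
  rw [← hq] at hc
  cases hE with
  | zero => exact Nat.cast_ne_zero.mpr hN
  | prime hp =>
    intro h0
    rw [CharP.cast_eq_zero_iff k q] at h0
    exact hp.ne_one (Nat.Coprime.eq_one_of_dvd hc.symm h0)

theorem level_injective {H : Subgroup Γ} (hH : H ⊓ ι.range = ⊥) :
    Function.Injective (fun x : H => (QuotientGroup.mk (x : Γ) : Γ ⧸ ι.range)) := by
  intro x y hxy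
  have h1 : (x : Γ)⁻¹ * y ∈ ι.range := QuotientGroup.eq.mp hxy
  have h2 : (x : Γ)⁻¹ * y ∈ H ⊓ ι.range := Subgroup.mem_inf.mpr ⟨H.mul_mem (H.inv_mem x.2) y.2, h1⟩
  rw [hH, Subgroup.mem_bot] at h2
  exact Subtype.ext (inv_mul_eq_one.mp h2)

theorem level_finite [Finite (Γ ⧸ ι.range)] {H : Subgroup Γ} (hH : H ⊓ ι.range = ⊥) : Finite H :=
  Finite.of_injective _ (level_injective hH)

theorem level_card_le [Finite (Γ ⧸ ι.range)] {H : Subgroup Γ} (hH : H ⊓ ι.range = ⊥) :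
    Nat.card H ≤ Nat.card (Γ ⧸ ι.range) :=
  Nat.card_le_card_of_injective _ (level_injective hH)

theorem exists_maximal_level (ι : kˣ →* Γ) [Finite (Γ ⧸ ι.range)] :
    ∃ H : Subgroup Γ, H ⊓ ι.range = ⊥ ∧
      ∀ H' : Subgroup Γ, H' ⊓ ι.range = ⊥ → H ≤ H' → H' = H := by
  classical
  let s : Set ℕ := {n | ∃ H : Subgroup Γ, H ⊓ ι.range = ⊥ ∧ Nat.card H = n}
  have hne : s.Nonempty := ⟨_, ⊥, bot_inf_eq _, rfl⟩
  have hbdd : BddAbove s :=
    ⟨Nat.card (Γ ⧸ ι.range), by rintro n ⟨H, hH, rfl⟩; exact level_card_le hH⟩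
  obtain ⟨H, hH, hcard⟩ := Nat.sSup_mem hne hbdd
  refine ⟨H, hH, fun H' hH' hle => ?_⟩
  haveI := level_finite hH'
  have h1 : Nat.card H' ≤ Nat.card H := by rw [hcard]; exact le_csSup hbdd ⟨H', hH', rfl⟩
  exact (Subgroup.eq_of_le_of_card_ge hle h1).symm

namespace Hyp

variable (h : Hyp ι)
include h

theorem normal : ι.range.Normal := by rw [h.cent]; infer_instance

theorem central (z : kˣ) (g : Γ) : ι z * g = g * ι z := by
  have hz : ι z ∈ Subgroup.center Γ := h.cent ▸ (MonoidHom.mem_range.mpr ⟨z, rfl⟩)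
  exact (Subgroup.mem_center_iff.mp hz g).symm

theorem central_assoc (z : kˣ) (g x : Γ) : g * (ι z * x) = ι z * (g * x) := by
  rw [← mul_assoc, ← h.central, mul_assoc]

theorem comm_mem (g γ : Γ) : g * γ * g⁻¹ * γ⁻¹ ∈ ι.range := by
  apply h.comm
  have := Subgroup.commutator_mem_commutator (Subgroup.mem_top g) (Subgroup.mem_top γ)
  rw [commutatorElement_def] at this
  rw [commutator_def]
  exact this

theorem normal_of_le {L : Subgroup Γ} (hL : ι.range ≤ L) : L.Normal := by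
  constructor
  intro l hl g
  have : g * l * g⁻¹ = (g * l * g⁻¹ * l⁻¹) * l := by group
  rw [this]
  exact L.mul_mem (hL (h.comm_mem g l)) hl

/-- the commutator pairing, with values in `kˣ` -/
noncomputable def cm (g γ : Γ) : kˣ := (MonoidHom.mem_range.mp (h.comm_mem g γ)).choose

theorem ι_cm (g γ : Γ) : ι (h.cm g γ) = g * γ * g⁻¹ * γ⁻¹ :=
  (MonoidHom.mem_range.mp (h.comm_mem g γ)).choose_spec

theorem mul_eq (g γ : Γ) : g * γ = ι (h.cm g γ) * (γ * g) := by
  rw [h.ι_cm]; group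

theorem cm_unique {g γ : Γ} {z : kˣ} (hz : g * γ = ι z * (γ * g)) : h.cm g γ = z := by
  apply h.inj
  have h1 := h.mul_eq g γ
  rw [hz] at h1
  exact (mul_right_cancel h1).symm

theorem cm_eq_one_iff {g γ : Γ} : h.cm g γ = 1 ↔ g * γ = γ * g := by
  constructor
  · intro h1
    have := h.mul_eq g γ
    rwa [h1, map_one, one_mul] at this
  · intro h1
    exact h.cm_unique (by rw [map_one, one_mul]; exact h1)

theorem cm_mul_left (g g' γ : Γ) : h.cm (g * g') γ = h.cm g γ * h.cm g' γ := by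
  rw [mul_comm]
  apply h.cm_unique
  calc g * g' * γ = g * (g' * γ) := mul_assoc _ _ _
    _ = g * (ι (h.cm g' γ) * (γ * g')) := by rw [← h.mul_eq g' γ]
    _ = ι (h.cm g' γ) * (g * (γ * g')) := h.central_assoc _ _ _
    _ = ι (h.cm g' γ) * ((g * γ) * g') := by rw [mul_assoc]
    _ = ι (h.cm g' γ) * ((ι (h.cm g γ) * (γ * g)) * g') := by rw [← h.mul_eq g γ]
    _ = ι (h.cm g' γ * h.cm g γ) * (γ * (g * g')) := by
        rw [map_mul]; simp only [mul_assoc]

theorem cm_inv (g γ : Γ) : (h.cm g γ)⁻¹ = h.cm γ g := by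
  symm
  apply h.cm_unique
  rw [h.mul_eq g γ, ← mul_assoc, ← map_mul, inv_mul_cancel, map_one, one_mul]

theorem cm_mul_right (g γ γ' : Γ) : h.cm g (γ * γ') = h.cm g γ * h.cm g γ' := by
  rw [← h.cm_inv (γ * γ') g, h.cm_mul_left, mul_inv, h.cm_inv, h.cm_inv]

theorem cm_ι_left (z : kˣ) (γ : Γ) : h.cm (ι z) γ = 1 := h.cm_eq_one_iff.mpr (h.central z γ)

theorem cm_ι_right (g : Γ) (z : kˣ) : h.cm g (ι z) = 1 :=
  h.cm_eq_one_iff.mpr (h.central z g).symm

theorem cm_one_left (γ : Γ) : h.cm 1 γ = 1 := h.cm_eq_one_iff.mpr (by rw [one_mul, mul_one])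

theorem cm_one_right (g : Γ) : h.cm g 1 = 1 := h.cm_eq_one_iff.mpr (by rw [one_mul, mul_one])

/-- `g ↦ cm g γ` as a homomorphism -/
noncomputable def cmHom (γ : Γ) : Γ →* kˣ where
  toFun g := h.cm g γ
  map_one' := h.cm_one_left γ
  map_mul' g g' := h.cm_mul_left g g' γ

@[simp] theorem cmHom_apply (γ g : Γ) : h.cmHom γ g = h.cm g γ := rfl

theorem mem_range_of_forall {γ : Γ} (hγ : ∀ g, h.cm g γ = 1) : γ ∈ ι.range := by
  rw [h.cent, Subgroup.mem_center_iff]
  intro g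
  exact h.cm_eq_one_iff.mp (hγ g)

theorem range_le_centralizer (S : Set Γ) : ι.range ≤ Subgroup.centralizer S := by
  rintro _ ⟨z, rfl⟩
  rw [Subgroup.mem_centralizer_iff]
  intro x _
  exact (h.central z x).symm

end Hyp

end Groth.Agent.H86.Theta
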