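import Groth.Agent.H86.Theta

set_option autoImplicit false

namespace Groth.Agent.H86.Theta

open scoped IsMulCommutative

variable {k : Type*} [Field k] {Γ : Type*} [Group Γ] {ι : kˣ →* Γ}

namespace Hyp

variable (h : Hyp ι)
include h

theorem index_centralizer [IsAlgClosed k] [Finite (Γ ⧸ ι.range)]
    (hN : (Nat.card (Γ ⧸ ι.range) : k) ≠ 0) (H : Subgroup Γ) (hH : ι.range ≤ H) :
    (Subgroup.centralizer (H : Set Γ)).index = ι.range.relIndex H := by
  haveI := h.normal
  haveI : IsMulCommutative (Γ ⧸ ι.range) :=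
    Subgroup.Normal.quotient_commutative_iff_commutator_le.mpr h.comm
  haveI : NeZero ((Monoid.exponent (Γ ⧸ ι.range) : ℕ) : k) := ⟨fun h0 => hN (by
    obtain ⟨m, hm⟩ := Group.exponent_dvd_nat_card (G := Γ ⧸ ι.range)
    rw [hm, Nat.cast_mul, h0, zero_mul])⟩
  haveI : HasEnoughRootsOfUnity k (Monoid.exponent (Γ ⧸ ι.range)) := inferInstance
  let π : Γ →* Γ ⧸ ι.range := QuotientGroup.mk' ι.range
  have hπ : Function.Surjective π := QuotientGroup.mk'_surjective _
  let e1 : Γ → ((Γ ⧸ ι.range) →* kˣ) := fun γ =>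
    QuotientGroup.lift ι.range (h.cmHom γ) (by
      rintro _ ⟨z, rfl⟩
      exact h.cm_ι_left z γ)
  have e1_mk : ∀ γ g, e1 γ (π g) = h.cm g γ := fun γ g => rfl
  let e2 : Γ →* ((Γ ⧸ ι.range) →* kˣ) :=
    { toFun := e1
      map_one' := by
        refine MonoidHom.ext fun x => ?_
        obtain ⟨g, rfl⟩ := hπ x
        rw [e1_mk, h.cm_one_right]; rfl
      map_mul' := fun γ γ' => by
        refine MonoidHom.ext fun x => ?_
        obtain ⟨g, rfl⟩ := hπ x
        rw [MonoidHom.mul_apply, e1_mk, e1_mk, e1_mk, h.cm_mul_right] }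
  have e2_mk : ∀ γ g, e2 γ (π g) = h.cm g γ := fun γ g => rfl
  let e : (Γ ⧸ ι.range) →* ((Γ ⧸ ι.range) →* kˣ) :=
    QuotientGroup.lift ι.range e2 (by
      rintro _ ⟨z, rfl⟩
      refine MonoidHom.ext fun x => ?_
      obtain ⟨g, rfl⟩ := hπ x
      rw [e2_mk, h.cm_ι_right]; rfl)
  have e_mk : ∀ γ g, e (π γ) (π g) = h.cm g γ := fun γ g => rfl
  have e_inj : Function.Injective e := by
    rw [injective_iff_map_eq_one]
    intro x hx
    obtain ⟨γ, rfl⟩ := hπ x
    rw [QuotientGroup.mk'_apply, QuotientGroup.eq_one_iff]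
    apply h.mem_range_of_forall
    intro g
    rw [← e_mk, hx]; rfl
  have e_bij : Function.Bijective e :=
    (Nat.bijective_iff_injective_and_card e).mpr
      ⟨e_inj, (CommGroup.card_monoidHom_of_hasEnoughRootsOfUnity (Γ ⧸ ι.range) k).symm⟩
  let A : Subgroup (Γ ⧸ ι.range) := H.map π
  haveI : HasEnoughRootsOfUnity k (Monoid.exponent A) :=
    HasEnoughRootsOfUnity.of_dvd k (Monoid.exponent_submonoid_dvd A.toSubmonoid)
  let Ψ : Γ →* (A →* kˣ) := (MonoidHom.domRestrictHom A kˣ).comp (e.comp π)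
  have Ψ_surj : Function.Surjective Ψ :=
    (MonoidHom.domRestrict_surjective k A).comp (e_bij.surjective.comp hπ)
  have Ψ_ker : Ψ.ker = Subgroup.centralizer (H : Set Γ) := by
    ext γ
    rw [MonoidHom.mem_ker, Subgroup.mem_centralizer_iff]
    constructor
    · intro hγ x hx
      have h1 : Ψ γ ⟨π x, Subgroup.mem_map_of_mem π hx⟩ = 1 := by rw [hγ]; rfl
      have h2 : h.cm x γ = 1 := h1
      exact h.cm_eq_one_iff.mp h2
    · intro hγ
      refine MonoidHom.ext fun a => ?_
      obtain ⟨x, hx, hxa⟩ := Subgroup.mem_map.mp a.2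
      have h2 : h.cm x γ = 1 := h.cm_eq_one_iff.mpr (hγ x hx)
      have h3 : a = ⟨π x, Subgroup.mem_map_of_mem π hx⟩ := Subtype.ext hxa.symm
      rw [h3, MonoidHom.one_apply, ← h2]; rfl
  have hA : Nat.card A = ι.range.relIndex H := by
    rw [← Subgroup.relIndex_bot_left, ← Subgroup.map_bot π, Subgroup.relIndex_map_map,
      QuotientGroup.ker_mk', bot_sup_eq, sup_eq_left.mpr hH]
  rw [← Ψ_ker, Subgroup.index_ker, MonoidHom.range_eq_top.mpr Ψ_surj, Subgroup.card_top,
    CommGroup.card_monoidHom_of_hasEnoughRootsOfUnity A k, hA]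

theorem tfae [IsAlgClosed k] [Finite (Γ ⧸ ι.range)] (hN : (Nat.card (Γ ⧸ ι.range) : k) ≠ 0)
    (H : Subgroup Γ) (hH : ι.range ≤ H) :
    List.TFAE [
      IsMulCommutative H ∧ ∀ H' : Subgroup Γ, IsMulCommutative H' → H ≤ H' → H' = H,
      IsMulCommutative H ∧ (ι.range.relIndex H) ^ 2 = ι.range.index,
      H = Subgroup.centralizer (H : Set Γ)] := by
  have hZC : ι.range ≤ Subgroup.centralizer (H : Set Γ) := h.range_le_centralizer _
  have hprod : ι.range.relIndex (Subgroup.centralizer (H : Set Γ)) * ι.range.relIndex H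
      = ι.range.index := by
    rw [← h.index_centralizer hN H hH]
    exact Subgroup.relIndex_mul_index hZC
  have hcomm_le : IsMulCommutative H → H ≤ Subgroup.centralizer (H : Set Γ) := by
    intro hc x hx
    rw [Subgroup.mem_centralizer_iff]
    intro y hy
    exact setLike_mul_comm hy hx
  have hcomm_of : H = Subgroup.centralizer (H : Set Γ) → IsMulCommutative H := by
    intro hEq
    refine ⟨⟨fun a b => ?_⟩⟩
    have hb : (b : Γ) ∈ Subgroup.centralizer (H : Set Γ) := by rw [← hEq]; exact b.2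
    exact Subtype.ext ((Subgroup.mem_centralizer_iff.mp hb) a a.2)
  have hne : ι.range.relIndex H ≠ 0 := by
    intro h0
    have h1 := Subgroup.relIndex_dvd_index_of_le hH
    rw [h0] at h1
    exact Subgroup.index_ne_zero_of_finite (Nat.eq_zero_of_zero_dvd h1)
  tfae_have 1 → 3 := by
    rintro ⟨hc, hmax⟩
    apply le_antisymm (hcomm_le hc)
    intro g hg
    have hcl : IsMulCommutative (Subgroup.closure ((H : Set Γ) ∪ {g})) := by
      apply Subgroup.isMulCommutative_closure
      rintro x (hx | hx) y (hy | hy)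
      · exact setLike_mul_comm hx hy
      · rw [Set.mem_singleton_iff] at hy; subst hy
        exact (Subgroup.mem_centralizer_iff.mp hg) x hx
      · rw [Set.mem_singleton_iff] at hx; subst hx
        exact ((Subgroup.mem_centralizer_iff.mp hg) y hy).symm
      · rw [Set.mem_singleton_iff] at hx hy; rw [hx, hy]
    have hle : H ≤ Subgroup.closure ((H : Set Γ) ∪ {g}) :=
      fun x hx => Subgroup.subset_closure (Or.inl hx)
    rw [← hmax _ hcl hle]
    exact Subgroup.subset_closure (Or.inr rfl)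
  tfae_have 3 → 1 := by
    intro hEq
    refine ⟨hcomm_of hEq, fun H' hc' hle => le_antisymm ?_ hle⟩
    intro x hx
    rw [hEq, Subgroup.mem_centralizer_iff]
    intro y hy
    exact setLike_mul_comm (hle hy) hx
  tfae_have 2 → 3 := by
    rintro ⟨hc, hsq⟩
    have hle := hcomm_le hc
    have h1 : ι.range.relIndex (Subgroup.centralizer (H : Set Γ)) = ι.range.relIndex H := by
      apply Nat.eq_of_mul_eq_mul_right (Nat.pos_of_ne_zero hne)
      rw [hprod, ← hsq, sq]
    have h2 := Subgroup.relIndex_mul_relIndex _ _ _ hH hle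
    rw [h1] at h2
    have h3 : H.relIndex (Subgroup.centralizer (H : Set Γ)) = 1 :=
      Nat.eq_of_mul_eq_mul_left (Nat.pos_of_ne_zero hne) (h2.trans (mul_one _).symm)
    exact le_antisymm hle (Subgroup.relIndex_eq_one.mp h3)
  tfae_have 3 → 2 := by
    intro hEq
    refine ⟨hcomm_of hEq, ?_⟩
    have h1 : ι.range.relIndex (Subgroup.centralizer (H : Set Γ)) = ι.range.relIndex H := by
      rw [← hEq]
    rw [sq, ← hprod, h1]
  tfae_finish

end Hyp

end Groth.Agent.H86.Theta
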