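import Groth.Agent.H86.ThetaCount

set_option autoImplicit false

namespace Groth.Agent.H86.Theta

variable {k : Type*} [Field k] {Γ : Type*} [Group Γ] {ι : kˣ →* Γ}

/-- Lagrangian level subgroup: `H ∩ Z = 1` and `C(H) ≤ H·Z`. -/
structure Lagr (ι : kˣ →* Γ) (H : Subgroup Γ) : Prop where
  level : H ⊓ ι.range = ⊥
  cent : Subgroup.centralizer (H : Set Γ) ≤ H ⊔ ι.range

namespace Hyp

variable (h : Hyp ι)
include h

theorem level_comm {H : Subgroup Γ} (hH : H ⊓ ι.range = ⊥) {a b : Γ} (ha : a ∈ H) (hb : b ∈ H) :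
    a * b = b * a := by
  rw [← h.cm_eq_one_iff]
  apply h.inj
  rw [map_one, h.ι_cm]
  have h1 : a * b * a⁻¹ * b⁻¹ ∈ H ⊓ ι.range :=
    Subgroup.mem_inf.mpr ⟨H.mul_mem (H.mul_mem (H.mul_mem ha hb) (H.inv_mem ha)) (H.inv_mem hb),
      h.comm_mem a b⟩
  rwa [hH, Subgroup.mem_bot] at h1

theorem centralizer_le_of_maximal [IsAlgClosed k] [Finite (Γ ⧸ ι.range)] {H : Subgroup Γ}
    (hH : H ⊓ ι.range = ⊥)
    (hmax : ∀ H' : Subgroup Γ, H' ⊓ ι.range = ⊥ → H ≤ H' → H' = H) :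
    Subgroup.centralizer (H : Set Γ) ≤ H ⊔ ι.range := by
  haveI := h.normal
  intro g hg
  by_contra hgL
  haveI hLn : (H ⊔ ι.range).Normal := h.normal_of_le le_sup_right
  haveI : Finite (Γ ⧸ (H ⊔ ι.range)) := by
    haveI : (ι.range).FiniteIndex := Subgroup.finiteIndex_of_finite_quotient
    haveI := Subgroup.finiteIndex_of_le (le_sup_right : ι.range ≤ H ⊔ ι.range)
    exact Subgroup.finite_quotient_of_finiteIndex
  obtain ⟨m, hm⟩ : ∃ m, m = orderOf (QuotientGroup.mk' (H ⊔ ι.range) g) := ⟨_, rfl⟩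
  have hm0 : 0 < m := hm ▸ orderOf_pos _
  have hgm : g ^ m ∈ H ⊔ ι.range := by
    rw [← QuotientGroup.eq_one_iff, QuotientGroup.mk_pow, hm]
    exact pow_orderOf_eq_one _
  obtain ⟨a, ha, c, hc, hac⟩ := Subgroup.mem_sup_of_normal_right.mp hgm
  obtain ⟨z, rfl⟩ := MonoidHom.mem_range.mp hc
  obtain ⟨w, hw⟩ : ∃ w : kˣ, w ^ m = z := by
    obtain ⟨w0, hw0⟩ := IsAlgClosed.exists_pow_nat_eq (z : k) hm0
    have hw0ne : w0 ≠ 0 := by
      rintro rfl
      rw [zero_pow hm0.ne'] at hw0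
      exact z.ne_zero hw0.symm
    exact ⟨Units.mk0 w0 hw0ne, Units.ext (by simpa using hw0)⟩
  obtain ⟨g', hg'⟩ : ∃ g', g' = g * ι w⁻¹ := ⟨_, rfl⟩
  have hgg' : g = g' * ι w := by
    rw [hg', mul_assoc, ← map_mul, inv_mul_cancel, map_one, mul_one]
  have hcomm' : ∀ x ∈ H, x * g' = g' * x := by
    intro x hx
    have h1 : x * g = g * x := (Subgroup.mem_centralizer_iff.mp hg) x hx
    calc x * g' = (x * g) * ι w⁻¹ := by rw [hg', mul_assoc]
      _ = (g * x) * ι w⁻¹ := by rw [h1]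
      _ = g * (x * ι w⁻¹) := mul_assoc _ _ _
      _ = g * (ι w⁻¹ * x) := by rw [h.central]
      _ = g' * x := by rw [hg', mul_assoc]
  have hg'm : g' ^ m = a := by
    have hc : Commute g (ι w⁻¹) := (h.central w⁻¹ g).symm
    rw [hg', hc.mul_pow, ← map_pow, inv_pow, hw, ← hac, mul_assoc, ← map_mul, mul_inv_cancel,
      map_one, mul_one]
  let f : H × Multiplicative ℤ →* Γ :=
    MonoidHom.noncommCoprod H.subtype (zpowersHom Γ g') (fun x j => by
      rw [zpowersHom_apply]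
      exact (Commute.zpow_right (hcomm' x x.2) _))
  have hf : ∀ x : H × Multiplicative ℤ, f x = (x.1 : Γ) * g' ^ (Multiplicative.toAdd x.2) :=
    fun x => by
      simp only [f, MonoidHom.noncommCoprod_apply, zpowersHom_apply, Subgroup.coe_subtype]
  have hlevel : f.range ⊓ ι.range = ⊥ := by
    rw [eq_bot_iff]
    intro x hx
    obtain ⟨hx1, hxZ⟩ := Subgroup.mem_inf.mp hx
    obtain ⟨⟨b, j⟩, rfl⟩ := MonoidHom.mem_range.mp hx1
    rw [Subgroup.mem_bot, hf]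
    rw [hf] at hxZ
    simp only at hxZ ⊢
    have h1 : g' ^ (Multiplicative.toAdd j) ∈ H ⊔ ι.range := by
      have : g' ^ (Multiplicative.toAdd j)
          = (b : Γ)⁻¹ * ((b : Γ) * g' ^ (Multiplicative.toAdd j)) := by group
      rw [this]
      exact Subgroup.mul_mem _ (Subgroup.mem_sup_left (H.inv_mem b.2)) (Subgroup.mem_sup_right hxZ)
    have h2 : g ^ (Multiplicative.toAdd j) ∈ H ⊔ ι.range := by
      have hc : Commute g' (ι w) := (h.central w g').symm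
      rw [hgg', hc.mul_zpow]
      exact Subgroup.mul_mem _ h1 (Subgroup.mem_sup_right (Subgroup.zpow_mem ι.range (MonoidHom.mem_range.mpr ⟨w, rfl⟩) _))
    have h3 : (m : ℤ) ∣ Multiplicative.toAdd j := by
      rw [hm, orderOf_dvd_iff_zpow_eq_one, ← map_zpow, QuotientGroup.mk'_apply,
        QuotientGroup.eq_one_iff]
      exact h2
    obtain ⟨q, hq⟩ := h3
    have h4 : g' ^ (Multiplicative.toAdd j) ∈ H := by
      rw [hq, zpow_mul, zpow_natCast, hg'm]
      exact H.zpow_mem ha q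
    have h5 : (b : Γ) * g' ^ (Multiplicative.toAdd j) ∈ H ⊓ ι.range :=
      Subgroup.mem_inf.mpr ⟨H.mul_mem b.2 h4, hxZ⟩
    rw [hH, Subgroup.mem_bot] at h5
    exact h5
  have hle : H ≤ f.range := fun x hx => ⟨(⟨x, hx⟩, 1), by rw [hf]; simp⟩
  have hEq := hmax f.range hlevel hle
  have hg'H : g' ∈ H := by
    rw [← hEq]
    exact ⟨(1, Multiplicative.ofAdd 1), by rw [hf]; simp⟩
  apply hgL
  rw [hgg']
  exact Subgroup.mul_mem _ (Subgroup.mem_sup_left hg'H) (Subgroup.mem_sup_right ⟨w, rfl⟩)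

theorem lagr_of_maximal [IsAlgClosed k] [Finite (Γ ⧸ ι.range)] {H : Subgroup Γ}
    (hH : H ⊓ ι.range = ⊥)
    (hmax : ∀ H' : Subgroup Γ, H' ⊓ ι.range = ⊥ → H ≤ H' → H' = H) : Lagr ι H :=
  ⟨hH, h.centralizer_le_of_maximal hH hmax⟩

theorem exists_lagr [IsAlgClosed k] [Finite (Γ ⧸ ι.range)] : ∃ H : Subgroup Γ, Lagr ι H := by
  obtain ⟨H, hH, hmax⟩ := exists_maximal_level ι
  exact ⟨H, h.lagr_of_maximal hH hmax⟩

variable {H : Subgroup Γ} (hL : Lagr ι H)
include hL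

theorem lagr_cm_left {a l : Γ} (ha : a ∈ H) (hl : l ∈ H ⊔ ι.range) : h.cm l a = 1 := by
  haveI := h.normal
  obtain ⟨b, hb, c, hc, rfl⟩ := Subgroup.mem_sup_of_normal_right.mp hl
  obtain ⟨z, rfl⟩ := MonoidHom.mem_range.mp hc
  rw [h.cm_mul_left, h.cm_ι_left, mul_one, h.cm_eq_one_iff]
  exact h.level_comm hL.level hb ha

theorem lagr_exists_left {g : Γ} (hg : g ∉ H ⊔ ι.range) : ∃ a ∈ H, h.cm a g ≠ 1 := by
  by_contra hcon
  push Not at hcon
  apply hg
  apply hL.cent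
  rw [Subgroup.mem_centralizer_iff]
  intro a ha
  exact h.cm_eq_one_iff.mp (hcon a ha)

theorem lagr_exists_right {a : Γ} (ha : a ∈ H) (ha1 : a ≠ 1) : ∃ g, h.cm g a ≠ 1 := by
  by_contra hcon
  push Not at hcon
  apply ha1
  have h1 : a ∈ H ⊓ ι.range := Subgroup.mem_inf.mpr ⟨ha, h.mem_range_of_forall hcon⟩
  rwa [hL.level, Subgroup.mem_bot] at h1

theorem lagr_centralizer_sup :
    Subgroup.centralizer ((H ⊔ ι.range : Subgroup Γ) : Set Γ) = H ⊔ ι.range := by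
  haveI := h.normal
  apply le_antisymm
  · exact (Subgroup.centralizer_le (by exact_mod_cast (le_sup_left : H ≤ H ⊔ ι.range))).trans
      hL.cent
  · intro x hx
    rw [Subgroup.mem_centralizer_iff]
    intro y hy
    rw [← h.cm_eq_one_iff]
    obtain ⟨b, hb, c, hc, rfl⟩ := Subgroup.mem_sup_of_normal_right.mp hx
    obtain ⟨z, rfl⟩ := MonoidHom.mem_range.mp hc
    rw [h.cm_mul_right, h.cm_ι_right, mul_one]
    exact h.lagr_cm_left hL hb hy

theorem lagr_card [IsAlgClosed k] [Finite (Γ ⧸ ι.range)]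
    (hN : (Nat.card (Γ ⧸ ι.range) : k) ≠ 0) :
    (H ⊔ ι.range).index = Nat.card H ∧ Nat.card H * Nat.card H = Nat.card (Γ ⧸ ι.range) := by
  haveI := h.normal
  have h1 := h.index_centralizer hN (H ⊔ ι.range) le_sup_right
  rw [h.lagr_centralizer_sup hL] at h1
  have h2 : ι.range.relIndex (H ⊔ ι.range) = Nat.card H := by
    rw [Subgroup.relIndex_sup_right, ← Subgroup.inf_relIndex_right, inf_comm, hL.level,
      Subgroup.relIndex_bot_left]
  have h3 := Subgroup.relIndex_mul_index (le_sup_right : ι.range ≤ H ⊔ ι.range)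
  rw [h1, h2] at h3
  rw [h1, h2]
  exact ⟨rfl, by rw [h3, Subgroup.index_eq_card]⟩

end Hyp

end Groth.Agent.H86.Theta
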