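import Groth.Agent.H86.ThetaRep

set_option autoImplicit false

namespace Groth.Agent.H86.Theta

open Representation

variable {k : Type*} [Field k] {Γ : Type*} [Group Γ] {ι : kˣ →* Γ}

section Lagr

variable {W : Type*} [AddCommGroup W] [Module k W] (ρ : Representation k Γ W)
  (h : Hyp ι) {H : Subgroup Γ} (hL : Lagr ι H) [Fintype H] [(H ⊔ ι.range).Normal]
  [Fintype (Γ ⧸ (H ⊔ ι.range))]
  (hc : (Fintype.card H : k) ≠ 0)
  (hcard : Fintype.card (Γ ⧸ (H ⊔ ι.range)) = Fintype.card H)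
  (hρ : IsWt1 ι ρ)

include h hL hc hcard hρ in
theorem sum_conj_EH (w : W) :
    ∑ x : Γ ⧸ (H ⊔ ι.range), ρ x.out (EH ρ H (ρ x.out⁻¹ w)) = w := by
  classical
  have key : ∀ t : Γ, ρ t (EH ρ H (ρ t⁻¹ w))
      = (Fintype.card H : k)⁻¹ • ∑ a : H, ((h.cm t (a : Γ) : kˣ) : k) • ρ (a : Γ) w := by
    intro t
    rw [EH_apply, map_smul, map_sum]
    congr 1
    refine Finset.sum_congr rfl (fun a _ => ?_)
    rw [h.rho_comm ρ hρ, rho_inv_cancel]
  have hchar : ∀ a : H, ∑ x : Γ ⧸ (H ⊔ ι.range), ((h.cm x.out (a : Γ) : kˣ) : k)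
      = if a = 1 then (Fintype.card (Γ ⧸ (H ⊔ ι.range)) : k) else 0 := by
    intro a
    let χ : Γ ⧸ (H ⊔ ι.range) →* kˣ :=
      QuotientGroup.lift (H ⊔ ι.range) (h.cmHom (a : Γ)) (fun l hl => h.lagr_cm_left hL a.2 hl)
    have hχ : ∀ x : Γ ⧸ (H ⊔ ι.range), χ x = h.cm x.out (a : Γ) := by
      intro x
      conv_lhs => rw [← QuotientGroup.out_eq' x]
      rfl
    split_ifs with ha
    · subst ha
      simp [h.cm_one_right]
    · obtain ⟨g, hg⟩ := h.lagr_exists_right hL a.2 (fun h1 => ha (Subtype.ext h1))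
      let f : Γ ⧸ (H ⊔ ι.range) →* k := (Units.coeHom k).comp χ
      have hf : f ≠ 1 := by
        intro h1
        apply hg
        have h2 := DFunLike.congr_fun h1 (QuotientGroup.mk g)
        have h3 : ((h.cm g (a : Γ) : kˣ) : k) = 1 := h2
        exact Units.val_eq_one.mp h3
      have h4 := sum_hom_units_eq_zero f hf
      rw [← h4]
      exact Finset.sum_congr rfl (fun x _ => by rw [← hχ]; rfl)
  calc ∑ x : Γ ⧸ (H ⊔ ι.range), ρ x.out (EH ρ H (ρ x.out⁻¹ w))
      = ∑ x : Γ ⧸ (H ⊔ ι.range), (Fintype.card H : k)⁻¹ •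
          ∑ a : H, ((h.cm x.out (a : Γ) : kˣ) : k) • ρ (a : Γ) w :=
        Finset.sum_congr rfl (fun x _ => key x.out)
    _ = (Fintype.card H : k)⁻¹ • ∑ a : H,
          (∑ x : Γ ⧸ (H ⊔ ι.range), ((h.cm x.out (a : Γ) : kˣ) : k)) • ρ (a : Γ) w := by
        rw [← Finset.smul_sum, Finset.sum_comm]
        congr 1
        refine Finset.sum_congr rfl (fun a _ => ?_)
        rw [Finset.sum_smul]
    _ = (Fintype.card H : k)⁻¹ •
          ((Fintype.card (Γ ⧸ (H ⊔ ι.range)) : k) • ρ ((1 : H) : Γ) w) := by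
        congr 1
        rw [Finset.sum_eq_single (1 : H)]
        · rw [hchar, if_pos rfl]
        · intro a _ ha
          rw [hchar, if_neg ha, zero_smul]
        · intro h1; exact absurd (Finset.mem_univ _) h1
    _ = w := by
        rw [hcard, Subgroup.coe_one, map_one, Module.End.one_apply, inv_smul_smul₀ hc]

include h hL hc hcard hρ in
theorem finrank_eq_mul [Module.Finite k W] :
    Module.finrank k W = Fintype.card (Γ ⧸ (H ⊔ ι.range)) *
      Module.finrank k (invariants (ρ.comp H.subtype)) := by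
  classical
  let Φ : ((Γ ⧸ (H ⊔ ι.range)) → invariants (ρ.comp H.subtype)) →ₗ[k] W :=
    ∑ x : Γ ⧸ (H ⊔ ι.range),
      (ρ x.out) ∘ₗ (invariants (ρ.comp H.subtype)).subtype ∘ₗ (LinearMap.proj x)
  have hΦ : ∀ f, Φ f = ∑ x : Γ ⧸ (H ⊔ ι.range), ρ x.out (f x : W) := by
    intro f; simp [Φ, LinearMap.sum_apply]
  have hinj : Function.Injective Φ := by
    rw [injective_iff_map_eq_zero]
    intro f hf
    funext y
    have h1 : EH ρ H (ρ y.out⁻¹ (Φ f)) = 0 := by rw [hf, map_zero, map_zero]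
    rw [hΦ, map_sum, map_sum, Finset.sum_eq_single y] at h1
    · rw [rho_inv_cancel', EH_of_inv ρ H hc ((mem_inv_iff ρ H).mp (f y).2)] at h1
      exact Subtype.ext h1
    · intro x _ hxy
      have hnot : y.out⁻¹ * x.out ∉ H ⊔ ι.range := by
        intro hmem
        apply hxy
        rw [← QuotientGroup.out_eq' x, ← QuotientGroup.out_eq' y]
        exact (QuotientGroup.eq.mpr hmem).symm
      obtain ⟨a₀, ha₀, hne⟩ := h.lagr_exists_left hL hnot
      rw [← rho_mul, ← EH_of_inv ρ H hc ((mem_inv_iff ρ H).mp (f x).2)]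
      exact EH_rho_EH_eq_zero ρ H h hρ ha₀ hne _
    · intro h1; exact absurd (Finset.mem_univ _) h1
  have hsurj : Function.Surjective Φ := by
    intro w
    refine ⟨fun x => ⟨EH ρ H (ρ x.out⁻¹ w), EH_mem_inv ρ H _⟩, ?_⟩
    rw [hΦ]
    exact sum_conj_EH ρ h hL hc hcard hρ w
  have e := LinearEquiv.ofBijective Φ ⟨hinj, hsurj⟩
  rw [← e.finrank_eq, Module.finrank_pi_fintype]
  simp

include h hL hρ in
theorem rho_mem_span {v : W} (hv : ∀ a ∈ H, ρ a v = v) (γ : Γ) :
    ρ γ v ∈ Submodule.span k (Set.range fun x : Γ ⧸ (H ⊔ ι.range) => ρ x.out v) := by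
  haveI := h.normal
  obtain ⟨l, hl⟩ := QuotientGroup.mk_out_eq_mul (H ⊔ ι.range) γ
  have hγ : γ = (QuotientGroup.mk γ : Γ ⧸ (H ⊔ ι.range)).out * (l : Γ)⁻¹ := by
    rw [hl, mul_inv_cancel_right]
  obtain ⟨b, hb, c, hc', hbc⟩ :=
    Subgroup.mem_sup_of_normal_right.mp ((H ⊔ ι.range).inv_mem l.2)
  obtain ⟨z, rfl⟩ := MonoidHom.mem_range.mp hc'
  have h1 : ρ γ v = (z : k) • ρ (QuotientGroup.mk γ : Γ ⧸ (H ⊔ ι.range)).out v := by
    conv_lhs => rw [hγ, ← hbc, rho_mul, rho_mul, hρ, map_smul, hv b hb, map_smul]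
  rw [h1]
  exact Submodule.smul_mem _ _ (Submodule.subset_span ⟨_, rfl⟩)

/-- the cyclic subrepresentation generated by an `H`-invariant vector -/
noncomputable def cyc (v : W) (hv : ∀ a ∈ H, ρ a v = v) : Subrepresentation ρ where
  toSubmodule := Submodule.span k (Set.range fun x : Γ ⧸ (H ⊔ ι.range) => ρ x.out v)
  apply_mem_toSubmodule g w hw := by
    induction hw using Submodule.span_induction with
    | mem w hw =>
      obtain ⟨x, rfl⟩ := hw
      show ρ g (ρ x.out v) ∈ _
      rw [← rho_mul]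
      exact rho_mem_span ρ h hL hρ hv _
    | zero => rw [map_zero]; exact Submodule.zero_mem _
    | add _ _ _ _ h1 h2 => rw [map_add]; exact Submodule.add_mem _ h1 h2
    | smul c _ _ h1 => rw [map_smul]; exact Submodule.smul_mem _ c h1

include h hL hρ in
theorem mem_cyc {v : W} (hv : ∀ a ∈ H, ρ a v = v) : v ∈ (cyc ρ h hL hρ v hv).toSubmodule := by
  have h1 := rho_mem_span ρ h hL hρ hv 1
  rwa [map_one, Module.End.one_apply] at h1

include h hL hρ in
theorem finrank_cyc_le {v : W} (hv : ∀ a ∈ H, ρ a v = v) :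
    Module.finrank k (cyc ρ h hL hρ v hv).toSubmodule ≤ Fintype.card (Γ ⧸ (H ⊔ ι.range)) :=
  finrank_range_le_card _

include h hL hc hcard in
theorem irreducible_of_finrank [Module.Finite k W] (hρ : IsWt1 ι ρ)
    (hn : Module.finrank k W = Fintype.card (Γ ⧸ (H ⊔ ι.range))) : IsIrreducible ρ := by
  have hpos : 0 < Fintype.card (Γ ⧸ (H ⊔ ι.range)) := Fintype.card_pos
  haveI : Nontrivial W := Module.nontrivial_of_finrank_pos (R := k) (by rw [hn]; exact hpos)
  refine { exists_pair_ne := ⟨⊥, ⊤, ?_⟩, eq_bot_or_eq_top := ?_ }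
  · intro h1
    have h2 : (⊥ : Submodule k W) = ⊤ := congrArg Subrepresentation.toSubmodule h1
    exact bot_ne_top h2
  · intro σ
    have h1 := finrank_eq_mul σ.toRepresentation h hL hc hcard (hρ.sub σ)
    have h2 : Module.finrank k σ.toSubmodule ≤ Module.finrank k W := Submodule.finrank_le _
    rw [hn, h1] at h2
    have hm : Module.finrank k (invariants (σ.toRepresentation.comp H.subtype)) ≤ 1 :=
      Nat.le_of_mul_le_mul_left (by rw [mul_one]; exact h2) hpos
    rcases Nat.le_one_iff_eq_zero_or_eq_one.mp hm with hm0 | hm1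
    · left
      apply Subrepresentation.toSubmodule_injective
      show σ.toSubmodule = ⊥
      rw [hm0, mul_zero] at h1
      exact Submodule.finrank_eq_zero.mp h1
    · right
      apply Subrepresentation.toSubmodule_injective
      show σ.toSubmodule = ⊤
      rw [hm1, mul_one, ← hn] at h1
      exact Submodule.eq_top_of_finrank_eq h1

include h hL hc hcard in
theorem cyc_irreducible [Module.Finite k W] (hρ : IsWt1 ι ρ) {v : W} (hv : ∀ a ∈ H, ρ a v = v)
    (hv0 : v ≠ 0) : IsIrreducible (cyc ρ h hL hρ v hv).toRepresentation := by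
  have hUle := finrank_cyc_le ρ h hL hρ hv
  have hU1 := finrank_eq_mul (cyc ρ h hL hρ v hv).toRepresentation h hL hc hcard
    (hρ.sub (cyc ρ h hL hρ v hv))
  have hUpos : 0 < Module.finrank k (cyc ρ h hL hρ v hv).toSubmodule := by
    apply Module.finrank_pos_iff_exists_ne_zero.mpr
    refine ⟨⟨v, mem_cyc ρ h hL hρ hv⟩, fun h0 => hv0 ?_⟩
    exact congrArg Subtype.val h0
  apply irreducible_of_finrank _ h hL hc hcard (hρ.sub (cyc ρ h hL hρ v hv))
  rcases Nat.eq_zero_or_pos (Module.finrank k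
    (invariants ((cyc ρ h hL hρ v hv).toRepresentation.comp H.subtype))) with h0 | h0
  · rw [h0, mul_zero] at hU1; omega
  · have h3 : Fintype.card (Γ ⧸ (H ⊔ ι.range)) * 1 ≤ Fintype.card (Γ ⧸ (H ⊔ ι.range)) *
        Module.finrank k (invariants ((cyc ρ h hL hρ v hv).toRepresentation.comp H.subtype)) :=
      Nat.mul_le_mul_left (Fintype.card (Γ ⧸ (H ⊔ ι.range))) h0
    rw [mul_one, ← hU1] at h3
    exact le_antisymm hUle h3

include h hL hc hcard in
theorem finrank_of_irreducible [Module.Finite k W] (hρ : IsWt1 ι ρ) [IsIrreducible ρ] :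
    Module.finrank k W = Fintype.card (Γ ⧸ (H ⊔ ι.range)) ∧
      Module.finrank k (invariants (ρ.comp H.subtype)) = 1 := by
  have hpos : 0 < Fintype.card (Γ ⧸ (H ⊔ ι.range)) := Fintype.card_pos
  have hnt : Nontrivial W := by
    by_contra hnt
    rw [not_nontrivial_iff_subsingleton] at hnt
    haveI := (Submodule.subsingleton_iff k).mpr hnt
    exact bot_ne_top (α := Subrepresentation ρ)
      (Subrepresentation.toSubmodule_injective (Subsingleton.elim _ _))
  have h1 := finrank_eq_mul ρ h hL hc hcard hρ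
  have hWpos : 0 < Module.finrank k W := Module.finrank_pos
  have hmpos : 0 < Module.finrank k (invariants (ρ.comp H.subtype)) := by
    rcases Nat.eq_zero_or_pos (Module.finrank k (invariants (ρ.comp H.subtype))) with h0 | h0
    · rw [h0, mul_zero] at h1; omega
    · exact h0
  obtain ⟨v, hv0⟩ := Module.finrank_pos_iff_exists_ne_zero.mp hmpos
  have hv := (mem_inv_iff ρ H).mp v.2
  have hcyc : cyc ρ h hL hρ (v : W) hv = ⊤ := by
    rcases eq_bot_or_eq_top (cyc ρ h hL hρ (v : W) hv) with h2 | h2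
    · exfalso
      apply hv0
      have h3 : (v : W) ∈ (cyc ρ h hL hρ (v : W) hv).toSubmodule := mem_cyc ρ h hL hρ hv
      rw [h2] at h3
      exact Subtype.ext ((Submodule.mem_bot k).mp h3)
    · exact h2
  have hle : Module.finrank k W ≤ Fintype.card (Γ ⧸ (H ⊔ ι.range)) := by
    have h3 := finrank_cyc_le ρ h hL hρ hv
    rw [hcyc] at h3
    have h4 : Module.finrank k (⊤ : Submodule k W) = Module.finrank k W := finrank_top k W
    rw [← h4]
    exact h3
  have hm1 : Module.finrank k (invariants (ρ.comp H.subtype)) = 1 := by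
    have h5 : Fintype.card (Γ ⧸ (H ⊔ ι.range)) *
        Module.finrank k (invariants (ρ.comp H.subtype))
        ≤ Fintype.card (Γ ⧸ (H ⊔ ι.range)) * 1 := by rw [mul_one, ← h1]; exact hle
    have h6 := Nat.le_of_mul_le_mul_left h5 hpos
    omega
  exact ⟨by rw [h1, hm1, mul_one], hm1⟩

include h hL hc hcard in
theorem equiv_of_irreducible {V V' : Type*} [AddCommGroup V] [Module k V] [AddCommGroup V']
    [Module k V'] [Module.Finite k V] [Module.Finite k V']
    (ρ : Representation k Γ V) (ρ' : Representation k Γ V') (hρ : IsWt1 ι ρ) (hρ' : IsWt1 ι ρ')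
    [IsIrreducible ρ] [IsIrreducible ρ'] : Nonempty (Representation.Equiv ρ ρ') := by
  obtain ⟨-, hm⟩ := finrank_of_irreducible ρ h hL hc hcard hρ
  obtain ⟨-, hm'⟩ := finrank_of_irreducible ρ' h hL hc hcard hρ'
  obtain ⟨v, hv0⟩ := Module.finrank_pos_iff_exists_ne_zero.mp
    (by rw [hm]; exact one_pos : 0 < Module.finrank k (invariants (ρ.comp H.subtype)))
  obtain ⟨v', hv0'⟩ := Module.finrank_pos_iff_exists_ne_zero.mp
    (by rw [hm']; exact one_pos : 0 < Module.finrank k (invariants (ρ'.comp H.subtype)))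
  have hv := (mem_inv_iff ρ H).mp v.2
  have hv' := (mem_inv_iff ρ' H).mp v'.2
  have hπ : IsWt1 ι (ρ.prod ρ') := by
    intro z w
    show ((ρ (ι z)) w.1, (ρ' (ι z)) w.2) = _
    rw [hρ, hρ']; rfl
  have hw : ∀ a ∈ H, (ρ.prod ρ') a ((v : V), (v' : V')) = ((v : V), (v' : V')) := by
    intro a ha
    show (ρ a v, ρ' a v') = _
    rw [hv a ha, hv' a ha]
  have hw0 : ((v : V), (v' : V')) ≠ 0 := by
    intro h0
    apply hv0
    exact Subtype.ext (congrArg Prod.fst h0)
  haveI := cyc_irreducible (ρ.prod ρ') h hL hc hcard hπ hw hw0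
  have hUmem := mem_cyc (ρ.prod ρ') h hL hπ hw
  let p1 : IntertwiningMap (cyc (ρ.prod ρ') h hL hπ _ hw).toRepresentation ρ :=
    ((LinearMap.fst k V V') ∘ₗ
      (cyc (ρ.prod ρ') h hL hπ _ hw).toSubmodule.subtype).intertwiningMap_of_isIntertwiningMap
      _ _ (fun g u => rfl)
  let p2 : IntertwiningMap (cyc (ρ.prod ρ') h hL hπ _ hw).toRepresentation ρ' :=
    ((LinearMap.snd k V V') ∘ₗ
      (cyc (ρ.prod ρ') h hL hπ _ hw).toSubmodule.subtype).intertwiningMap_of_isIntertwiningMap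
      _ _ (fun g u => rfl)
  have hp1 : Function.Bijective p1 := by
    rcases IsIrreducible.bijective_or_eq_zero p1 with h1 | h1
    · exact h1
    · exfalso; apply hv0
      have h2 := DFunLike.congr_fun h1 ⟨_, hUmem⟩
      exact Subtype.ext h2
  have hp2 : Function.Bijective p2 := by
    rcases IsIrreducible.bijective_or_eq_zero p2 with h1 | h1
    · exact h1
    · exfalso; apply hv0'
      have h2 := DFunLike.congr_fun h1 ⟨_, hUmem⟩
      exact Subtype.ext h2
  exact ⟨(p1.ofBijective hp1).symm.trans (p2.ofBijective hp2)⟩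

end Lagr

end Groth.Agent.H86.Theta
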