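import Groth.Agent.H86.ThetaLagr

set_option autoImplicit false

namespace Groth.Agent.H86.Theta

open Representation

variable {k : Type*} [Field k] {Γ : Type*} [Group Γ] {ι : kˣ →* Γ}

/-- weight one: the centre `ι z` acts by the scalar `z` -/
def IsWt1 (ι : kˣ →* Γ) {W : Type*} [AddCommGroup W] [Module k W] (ρ : Representation k Γ W) :
    Prop :=
  ∀ (z : kˣ) (w : W), ρ (ι z) w = (z : k) • w

section General

variable {W W' : Type*} [AddCommGroup W] [Module k W] [AddCommGroup W'] [Module k W']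
  (ρ : Representation k Γ W) (ρ' : Representation k Γ W')

theorem rho_inv_cancel (g : Γ) (w : W) : ρ g (ρ g⁻¹ w) = w := by
  rw [← Module.End.mul_apply, ← map_mul, mul_inv_cancel, map_one, Module.End.one_apply]

theorem rho_inv_cancel' (g : Γ) (w : W) : ρ g⁻¹ (ρ g w) = w := by
  rw [← Module.End.mul_apply, ← map_mul, inv_mul_cancel, map_one, Module.End.one_apply]

theorem rho_mul (g g' : Γ) (w : W) : ρ (g * g') w = ρ g (ρ g' w) := by
  rw [map_mul, Module.End.mul_apply]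

theorem IsWt1.sub {ρ : Representation k Γ W} (hρ : IsWt1 ι ρ) (σ : Subrepresentation ρ) :
    IsWt1 ι σ.toRepresentation := by
  intro z w
  apply Subtype.ext
  show ρ (ι z) (w : W) = _
  rw [hρ]; rfl

theorem Hyp.rho_comm (h : Hyp ι) (hρ : IsWt1 ι ρ) (g γ : Γ) (w : W) :
    ρ g (ρ γ w) = ((h.cm g γ : kˣ) : k) • ρ γ (ρ g w) := by
  rw [← rho_mul ρ g γ w, h.mul_eq g γ, rho_mul, hρ, rho_mul]

/-- averaging over the cosets of a normal subgroup `L` of finite index turns an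
`L`-equivariant map into a `Γ`-equivariant one. -/
theorem avg_comm (L : Subgroup Γ) [L.Normal] [Fintype (Γ ⧸ L)] (ψ : W →ₗ[k] W')
    (hψ : ∀ l ∈ L, ∀ w, ρ' l (ψ w) = ψ (ρ l w)) (g : Γ) (w : W) :
    ρ' g (∑ x : Γ ⧸ L, ρ' x.out (ψ (ρ x.out⁻¹ w))) =
      ∑ x : Γ ⧸ L, ρ' x.out (ψ (ρ x.out⁻¹ (ρ g w))) := by
  obtain ⟨F, hF⟩ : ∃ F : Γ → W', ∀ γ, F γ = ρ' γ (ψ (ρ γ⁻¹ (ρ g w))) := ⟨_, fun _ => rfl⟩
  have hFL : ∀ γ l, l ∈ L → F (γ * l) = F γ := by
    intro γ l hl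
    rw [hF, hF, mul_inv_rev, rho_mul ρ', rho_mul ρ, hψ l hl, rho_inv_cancel ρ]
  have hFout : ∀ γ : Γ, F ((QuotientGroup.mk γ : Γ ⧸ L).out) = F γ := by
    intro γ
    obtain ⟨l, hl⟩ := QuotientGroup.mk_out_eq_mul L γ
    rw [hl]; exact hFL γ l l.2
  have h1 : ∀ x : Γ ⧸ L, ρ' g (ρ' x.out (ψ (ρ x.out⁻¹ w))) = F (g * x.out) := by
    intro x
    rw [hF, mul_inv_rev, rho_mul ρ', rho_mul ρ, rho_inv_cancel' ρ]
  have h2 : ∀ x : Γ ⧸ L, F (g * x.out) = F ((QuotientGroup.mk g * x : Γ ⧸ L).out) := by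
    intro x
    rw [← hFout (g * x.out), QuotientGroup.mk_mul, QuotientGroup.out_eq']
  rw [map_sum]
  calc ∑ x : Γ ⧸ L, ρ' g (ρ' x.out (ψ (ρ x.out⁻¹ w)))
      = ∑ x : Γ ⧸ L, F ((QuotientGroup.mk g * x : Γ ⧸ L).out) :=
        Finset.sum_congr rfl (fun x _ => (h1 x).trans (h2 x))
    _ = ∑ x : Γ ⧸ L, F x.out :=
        Fintype.sum_equiv (Equiv.mulLeft (QuotientGroup.mk g : Γ ⧸ L)) _ _ (fun x => rfl)
    _ = ∑ x : Γ ⧸ L, ρ' x.out (ψ (ρ x.out⁻¹ (ρ g w))) :=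
        Finset.sum_congr rfl (fun x _ => hF _)

/-- Maschke for weight-one representations of a theta group -/
theorem semisimple (h : Hyp ι) [Finite (Γ ⧸ ι.range)]
    (hN : (Nat.card (Γ ⧸ ι.range) : k) ≠ 0) (hρ : IsWt1 ι ρ) :
    IsSemisimpleRepresentation ρ := by
  classical
  haveI := h.normal
  haveI : Fintype (Γ ⧸ ι.range) := Fintype.ofFinite _
  rw [Nat.card_eq_fintype_card] at hN
  refine ⟨fun σ => ?_⟩
  obtain ⟨p, hp⟩ := LinearMap.exists_leftInverse_of_injective σ.toSubmodule.subtype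
    (Submodule.ker_subtype _)
  let ψ : W →ₗ[k] W := σ.toSubmodule.subtype ∘ₗ p
  have hψmem : ∀ w, ψ w ∈ σ.toSubmodule := fun w => (p w).2
  have hψid : ∀ w ∈ σ.toSubmodule, ψ w = w := by
    intro w hw
    have h2 : p w = ⟨w, hw⟩ := LinearMap.congr_fun hp ⟨w, hw⟩
    show ((p w : σ.toSubmodule) : W) = w
    rw [h2]
  let φ : W →ₗ[k] W := ∑ x : Γ ⧸ ι.range, (ρ x.out) ∘ₗ ψ ∘ₗ (ρ x.out⁻¹)
  have hφ : ∀ w, φ w = ∑ x : Γ ⧸ ι.range, ρ x.out (ψ (ρ x.out⁻¹ w)) := by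
    intro w; simp [φ, LinearMap.sum_apply]
  have hφcomm : ∀ g w, ρ g (φ w) = φ (ρ g w) := by
    intro g w
    rw [hφ, hφ]
    exact avg_comm ρ ρ ι.range ψ (by
      rintro _ ⟨z, rfl⟩ w
      rw [hρ, hρ, map_smul]) g w
  have hφmem : ∀ w, φ w ∈ σ.toSubmodule := by
    intro w
    rw [hφ]
    exact Submodule.sum_mem _ (fun x _ => σ.apply_mem_toSubmodule _ (hψmem _))
  have hφid : ∀ w ∈ σ.toSubmodule, φ w = (Fintype.card (Γ ⧸ ι.range) : k) • w := by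
    intro w hw
    rw [hφ]
    have : ∀ x : Γ ⧸ ι.range, ρ x.out (ψ (ρ x.out⁻¹ w)) = w := by
      intro x
      rw [hψid _ (σ.apply_mem_toSubmodule _ hw), rho_inv_cancel]
    rw [Finset.sum_congr rfl (fun x _ => this x), Finset.sum_const, Finset.card_univ,
      Nat.cast_smul_eq_nsmul]
  let π : W →ₗ[k] W := (Fintype.card (Γ ⧸ ι.range) : k)⁻¹ • φ
  have hπ : ∀ w, π w = (Fintype.card (Γ ⧸ ι.range) : k)⁻¹ • φ w := fun w => rfl
  have hπmem : ∀ w, π w ∈ σ.toSubmodule := fun w => by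
    rw [hπ]; exact Submodule.smul_mem _ _ (hφmem w)
  have hπid : ∀ w ∈ σ.toSubmodule, π w = w := fun w hw => by
    rw [hπ, hφid w hw, inv_smul_smul₀ hN]
  have hπcomm : ∀ g w, ρ g (π w) = π (ρ g w) := fun g w => by
    rw [hπ, hπ, map_smul, hφcomm]
  let τ : Subrepresentation ρ := ⟨LinearMap.ker π, fun g w hw => by
    rw [LinearMap.mem_ker] at hw ⊢
    rw [← hπcomm, hw, map_zero]⟩
  refine ⟨τ, IsCompl.of_eq ?_ ?_⟩
  · apply Subrepresentation.toSubmodule_injective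
    show σ.toSubmodule ⊓ LinearMap.ker π = ⊥
    rw [eq_bot_iff]
    rintro w ⟨hw1, hw2⟩
    rw [Submodule.mem_bot, ← hπid w hw1]
    exact hw2
  · apply Subrepresentation.toSubmodule_injective
    show σ.toSubmodule ⊔ LinearMap.ker π = ⊤
    rw [eq_top_iff]
    intro w _
    have : w = π w + (w - π w) := by abel
    rw [this]
    refine Submodule.add_mem_sup (hπmem w) ?_
    rw [LinearMap.mem_ker, map_sub, hπid _ (hπmem w), sub_self]

section EH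

variable (H : Subgroup Γ) [Fintype H]

/-- averaging operator over a finite subgroup -/
noncomputable def EH : W →ₗ[k] W := (Fintype.card H : k)⁻¹ • ∑ a : H, ρ (a : Γ)

theorem EH_apply (w : W) : EH ρ H w = (Fintype.card H : k)⁻¹ • ∑ a : H, ρ (a : Γ) w := by
  simp [EH, LinearMap.sum_apply]

theorem rho_EH {a : Γ} (ha : a ∈ H) (w : W) : ρ a (EH ρ H w) = EH ρ H w := by
  rw [EH_apply, map_smul, map_sum]
  congr 1
  exact Fintype.sum_equiv (Equiv.mulLeft (⟨a, ha⟩ : H)) _ _ (fun b => by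
    show ρ a (ρ (b : Γ) w) = ρ ((a : Γ) * (b : Γ)) w
    rw [rho_mul])

theorem EH_of_inv (hc : (Fintype.card H : k) ≠ 0) {w : W} (hw : ∀ a ∈ H, ρ a w = w) :
    EH ρ H w = w := by
  have : ∑ a : H, ρ (a : Γ) w = (Fintype.card H : k) • w := by
    rw [Finset.sum_congr rfl (fun (a : H) _ => hw (a : Γ) a.2), Finset.sum_const, Finset.card_univ,
      Nat.cast_smul_eq_nsmul]
  rw [EH_apply, this, inv_smul_smul₀ hc]

omit [Fintype H] in
theorem mem_inv_iff {w : W} : w ∈ invariants (ρ.comp H.subtype) ↔ ∀ a ∈ H, ρ a w = w :=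
  ⟨fun hw a ha => hw ⟨a, ha⟩, fun hw a => hw a a.2⟩

theorem EH_mem_inv (w : W) : EH ρ H w ∈ invariants (ρ.comp H.subtype) :=
  (mem_inv_iff ρ H).mpr (fun _ ha => rho_EH ρ H ha w)

theorem EH_rho_EH_eq_zero (h : Hyp ι) (hρ : IsWt1 ι ρ) {g a₀ : Γ} (ha₀ : a₀ ∈ H)
    (hne : h.cm a₀ g ≠ 1) (w : W) : EH ρ H (ρ g (EH ρ H w)) = 0 := by
  have h1 : ∀ a : H, ρ (a : Γ) (ρ g (EH ρ H w))
      = ((h.cm (a : Γ) g : kˣ) : k) • ρ g (EH ρ H w) := by
    intro a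
    rw [h.rho_comm ρ hρ, rho_EH ρ H a.2]
  have hsum : ∑ a : H, ((h.cm (a : Γ) g : kˣ) : k) = 0 := by
    let f : H →* k := (Units.coeHom k).comp ((h.cmHom g).comp H.subtype)
    have hf : f ≠ 1 := by
      intro h1
      apply hne
      have h2 := DFunLike.congr_fun h1 ⟨a₀, ha₀⟩
      have h3 : ((h.cm a₀ g : kˣ) : k) = 1 := h2
      exact Units.val_eq_one.mp h3
    exact sum_hom_units_eq_zero f hf
  rw [EH_apply, Finset.sum_congr rfl (fun a _ => h1 a), ← Finset.sum_smul, hsum, zero_smul,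
    smul_zero]

end EH

end General

end Groth.Agent.H86.Theta
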