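import Groth.Agent.H86.ThetaMain

set_option autoImplicit false

namespace Groth.Agent.H86.Theta

open Representation

universe uk uG uW

variable {k : Type uk} [Field k] {Γ : Type uG} [Group Γ] {ι : kˣ →* Γ}

section Existence

/-- the induced module: functions on `Γ` of weight one under left translation by the centre -/
def W0 (ι : kˣ →* Γ) : Submodule k (Γ → k) where
  carrier := {f | ∀ (z : kˣ) (γ : Γ), f (ι z * γ) = (z : k) * f γ}
  zero_mem' := fun z γ => by simp
  add_mem' := fun {f f'} hf hf' z γ => by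
    show f (ι z * γ) + f' (ι z * γ) = (z : k) * (f γ + f' γ)
    rw [hf z γ, hf' z γ, mul_add]
  smul_mem' := fun c f hf z γ => by
    show c * f (ι z * γ) = (z : k) * (c * f γ)
    rw [hf z γ, mul_left_comm]

theorem W0_prop (f : W0 ι) (z : kˣ) (γ : Γ) : f.1 (ι z * γ) = (z : k) * f.1 γ := f.2 z γ

/-- right translation -/
def rho0 (ι : kˣ →* Γ) : Representation k Γ (W0 ι) where
  toFun g :=
    { toFun := fun f => ⟨fun γ => f.1 (γ * g), fun z γ => by
        show f.1 (ι z * γ * g) = (z : k) * f.1 (γ * g)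
        rw [mul_assoc]; exact f.2 z (γ * g)⟩
      map_add' := fun _ _ => rfl
      map_smul' := fun _ _ => rfl }
  map_one' := by
    refine LinearMap.ext fun f => Subtype.ext (funext fun γ => ?_)
    show f.1 (γ * 1) = f.1 γ
    rw [mul_one]
  map_mul' := fun g g' => by
    refine LinearMap.ext fun f => Subtype.ext (funext fun γ => ?_)
    show f.1 (γ * (g * g')) = f.1 (γ * g * g')
    rw [mul_assoc]

theorem rho0_wt1 (h : Hyp ι) : IsWt1 ι (rho0 ι) := by
  intro z f
  refine Subtype.ext (funext fun γ => ?_)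
  show f.1 (γ * ι z) = (z : k) * f.1 γ
  rw [← h.central]; exact f.2 z γ

theorem W0_finite (h : Hyp ι) [Finite (Γ ⧸ ι.range)] : Module.Finite k (W0 ι) := by
  let ev : W0 ι →ₗ[k] (Γ ⧸ ι.range → k) :=
    { toFun := fun f x => f.1 x.out, map_add' := fun _ _ => rfl, map_smul' := fun _ _ => rfl }
  have hinj : Function.Injective ev := by
    rw [injective_iff_map_eq_zero]
    intro f hf
    refine Subtype.ext (funext fun γ => ?_)
    obtain ⟨l, hl⟩ := QuotientGroup.mk_out_eq_mul ι.range γ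
    obtain ⟨z, hz⟩ := MonoidHom.mem_range.mp l.2
    have h1 : γ = ι z⁻¹ * (QuotientGroup.mk γ : Γ ⧸ ι.range).out := by
      rw [hl, ← hz, h.central, mul_assoc, ← map_mul, mul_inv_cancel, map_one, mul_one]
    have h2 : f.1 ((QuotientGroup.mk γ : Γ ⧸ ι.range).out) = 0 :=
      congrFun hf (QuotientGroup.mk γ)
    show f.1 γ = 0
    rw [h1, W0_prop, h2, mul_zero]
  exact Module.Finite.of_injective ev hinj

open Classical in
/-- the inverse of `ι` extended by zero -/
noncomputable def sec (ι : kˣ →* Γ) (γ : Γ) : k :=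
  if hγ : γ ∈ ι.range then (((MonoidHom.mem_range.mp hγ).choose : kˣ) : k) else 0

theorem sec_ι (h : Hyp ι) (w : kˣ) : sec ι (ι w) = (w : k) := by
  have hmem : ι w ∈ ι.range := MonoidHom.mem_range.mpr ⟨w, rfl⟩
  unfold sec
  rw [dif_pos hmem]
  congr 1
  exact h.inj (MonoidHom.mem_range.mp hmem).choose_spec

theorem sec_of_not_mem {γ : Γ} (hγ : γ ∉ ι.range) : sec ι γ = 0 := by
  unfold sec; rw [dif_neg hγ]

noncomputable def f0 (h : Hyp ι) : W0 ι := ⟨sec ι, by
  show ∀ (z : kˣ) (γ : Γ), sec ι (ι z * γ) = (z : k) * sec ι γ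
  intro z γ
  by_cases hγ : γ ∈ ι.range
  · obtain ⟨w, rfl⟩ := MonoidHom.mem_range.mp hγ
    rw [← map_mul, sec_ι h, sec_ι h, Units.val_mul]
  · have h1 : ι z * γ ∉ ι.range := by
      intro hmem
      apply hγ
      have h2 : γ = ι z⁻¹ * (ι z * γ) := by
        rw [← mul_assoc, ← map_mul, inv_mul_cancel, map_one, one_mul]
      rw [h2]
      exact ι.range.mul_mem (MonoidHom.mem_range.mpr ⟨_, rfl⟩) hmem
    rw [sec_of_not_mem h1, sec_of_not_mem hγ, mul_zero]⟩

theorem f0_ne_zero (h : Hyp ι) : f0 h ≠ 0 := by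
  intro h0
  have h1 : sec ι (1 : Γ) = 0 := congrFun (congrArg Subtype.val h0) 1
  rw [← map_one ι, sec_ι h] at h1
  exact one_ne_zero h1

end Existence

section Top

variable (h : Hyp ι) [IsAlgClosed k] [Finite (Γ ⧸ ι.range)]
  (hN : (Nat.card (Γ ⧸ ι.range) : k) ≠ 0) {H : Subgroup Γ} (hL : Lagr ι H)

include h hN hL in
theorem setup :
    (H ⊔ ι.range).Normal ∧ ∃ (i1 : Fintype H) (i2 : Fintype (Γ ⧸ (H ⊔ ι.range))),
      ((@Fintype.card H i1 : ℕ) : k) ≠ 0 ∧
        @Fintype.card (Γ ⧸ (H ⊔ ι.range)) i2 = @Fintype.card H i1 := by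
  classical
  haveI := h.normal
  haveI hLn : (H ⊔ ι.range).Normal := h.normal_of_le le_sup_right
  haveI : Finite H := level_finite hL.level
  haveI : Finite (Γ ⧸ (H ⊔ ι.range)) := by
    haveI : (ι.range).FiniteIndex := Subgroup.finiteIndex_of_finite_quotient
    haveI := Subgroup.finiteIndex_of_le (le_sup_right : ι.range ≤ H ⊔ ι.range)
    exact Subgroup.finite_quotient_of_finiteIndex
  obtain ⟨hidx, hsq⟩ := h.lagr_card hL hN
  letI i1 : Fintype H := Fintype.ofFinite H
  letI i2 : Fintype (Γ ⧸ (H ⊔ ι.range)) := Fintype.ofFinite _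
  refine ⟨hLn, i1, i2, ?_, ?_⟩
  · intro h0
    apply hN
    rw [← hsq, Nat.cast_mul, Nat.card_eq_fintype_card, h0, zero_mul]
  · rw [← Nat.card_eq_fintype_card, ← Nat.card_eq_fintype_card, ← Subgroup.index_eq_card, hidx]

variable {W : Type uW} [AddCommGroup W] [Module k W] [Module.Finite k W]
  (ρ : Representation k Γ W) (hρ : IsWt1 ι ρ)

include h hN hL hρ in
theorem thm_finrank :
    Module.finrank k W = Nat.card H * Module.finrank k (invariants (ρ.comp H.subtype)) := by
  obtain ⟨hLn, i1, i2, hc, hcard⟩ := setup h hN hL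
  rw [Nat.card_eq_fintype_card, ← hcard]
  exact finrank_eq_mul ρ h hL hc hcard hρ

include h hN hL hρ in
theorem thm_irr [IsIrreducible ρ] : Module.finrank k W = Nat.card H := by
  obtain ⟨hLn, i1, i2, hc, hcard⟩ := setup h hN hL
  rw [Nat.card_eq_fintype_card, ← hcard]
  exact (finrank_of_irreducible ρ h hL hc hcard hρ).1

include h hN hL in
theorem thm_equiv {V V' : Type*} [AddCommGroup V] [Module k V] [AddCommGroup V']
    [Module k V'] [Module.Finite k V] [Module.Finite k V']
    (ρ : Representation k Γ V) (ρ' : Representation k Γ V') (hρ : IsWt1 ι ρ) (hρ' : IsWt1 ι ρ')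
    [IsIrreducible ρ] [IsIrreducible ρ'] : Nonempty (Representation.Equiv ρ ρ') := by
  obtain ⟨hLn, i1, i2, hc, hcard⟩ := setup h hN hL
  exact equiv_of_irreducible h hL hc hcard ρ ρ' hρ hρ'

include h hN hL hρ in
theorem exists_irr_sub [Nontrivial W] :
    ∃ (U : Type uW) (_ : AddCommGroup U) (_ : Module k U) (_ : Module.Finite k U)
      (ρU : Representation k Γ U), Representation.IsIrreducible ρU ∧ IsWt1 ι ρU := by
  obtain ⟨hLn, i1, i2, hc, hcard⟩ := setup h hN hL
  have h1 := finrank_eq_mul ρ h hL hc hcard hρ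
  have hWpos : 0 < Module.finrank k W := Module.finrank_pos
  have hmpos : 0 < Module.finrank k (invariants (ρ.comp H.subtype)) := by
    rcases Nat.eq_zero_or_pos (Module.finrank k (invariants (ρ.comp H.subtype))) with h0 | h0
    · rw [h0, mul_zero] at h1; omega
    · exact h0
  obtain ⟨v, hv0⟩ := Module.finrank_pos_iff_exists_ne_zero.mp hmpos
  have hv := (mem_inv_iff ρ H).mp v.2
  exact ⟨(cyc ρ h hL hρ (v : W) hv).toSubmodule, inferInstance, inferInstance, inferInstance,
    (cyc ρ h hL hρ (v : W) hv).toRepresentation,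
    cyc_irreducible ρ h hL hc hcard hρ hv (fun h0 => hv0 (Subtype.ext h0)),
    hρ.sub (cyc ρ h hL hρ (v : W) hv)⟩

include h hN in
theorem thm_exists :
    ∃ (U : Type (max uG uk)) (_ : AddCommGroup U) (_ : Module k U) (_ : Module.Finite k U)
      (ρU : Representation k Γ U), Representation.IsIrreducible ρU ∧ IsWt1 ι ρU := by
  obtain ⟨H, hL⟩ := h.exists_lagr
  haveI := W0_finite (k := k) h
  haveI : Nontrivial (W0 (k := k) ι) := ⟨⟨f0 h, 0, f0_ne_zero h⟩⟩
  exact exists_irr_sub h hN hL (rho0 ι) (rho0_wt1 h)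

end Top

end Groth.Agent.H86.Theta
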