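import Groth.Agent.H86.TotRam

set_option autoImplicit false
open Polynomial

namespace Groth.Agent.H86.TotRam

universe u

section Poly
variable {R : Type*} [CommRing R]

/-- `X^q - (a^n X + a)` -/
noncomputable def poly (a : R) (n q : ℕ) : R[X] := X ^ q - (C (a ^ n) * X + C a)

theorem poly_map {S : Type*} [CommRing S] (f : R →+* S) (a : R) (n q : ℕ) :
    (poly a n q).map f = poly (f a) n q := by
  unfold poly
  rw [Polynomial.map_sub, Polynomial.map_pow, map_X, Polynomial.map_add, Polynomial.map_mul,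
    map_C, map_X, map_C, map_pow]

theorem poly_monic [Nontrivial R] (a : R) (n : ℕ) {q : ℕ} (hq : 1 < q) : (poly a n q).Monic := by
  unfold poly
  apply monic_X_pow_sub
  exact lt_of_le_of_lt degree_linear_le (by exact_mod_cast hq)

theorem poly_natDegree [Nontrivial R] (a : R) (n : ℕ) {q : ℕ} (hq : 1 < q) :
    (poly a n q).natDegree = q := by
  unfold poly
  have h1 : (C (a ^ n) * X + C a : R[X]).natDegree < (X ^ q : R[X]).natDegree := by
    rw [natDegree_X_pow]
    exact lt_of_le_of_lt natDegree_linear_le hq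
  rw [natDegree_sub_eq_left_of_natDegree_lt h1, natDegree_X_pow]

theorem poly_coeff_zero (a : R) (n : ℕ) {q : ℕ} (hq : 0 < q) : (poly a n q).coeff 0 = -a := by
  unfold poly
  rw [coeff_sub, coeff_X_pow, if_neg hq.ne, coeff_add, coeff_C_mul, coeff_X_zero, mul_zero,
    zero_add, coeff_C_zero, zero_sub]

theorem poly_coeff_one (a : R) (n : ℕ) {q : ℕ} (hq : 1 < q) :
    (poly a n q).coeff 1 = -a ^ n := by
  unfold poly
  rw [coeff_sub, coeff_X_pow, if_neg hq.ne, coeff_add, coeff_C_mul, coeff_X_one, mul_one,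
    coeff_C, if_neg one_ne_zero, add_zero, zero_sub]

theorem poly_coeff_mem (I : Ideal R) (a : R) (ha : a ∈ I) (n : ℕ) (hn : 0 < n) {q : ℕ} (i : ℕ)
    (hi : i < q) : (poly a n q).coeff i ∈ I := by
  unfold poly
  rw [coeff_sub, coeff_X_pow, if_neg hi.ne, zero_sub, neg_mem_iff, coeff_add, coeff_C_mul,
    coeff_C]
  apply Ideal.add_mem
  · exact Ideal.mul_mem_right _ _ (Ideal.pow_mem_of_mem _ ha n hn)
  · split_ifs
    · exact ha
    · exact zero_mem _

theorem poly_eval₂ {S : Type*} [CommRing S] (f : R →+* S) (a : R) (n q : ℕ) (x : S) :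
    eval₂ f x (poly a n q) = x ^ q - (f a ^ n * x + f a) := by
  unfold poly
  rw [eval₂_sub, eval₂_pow, eval₂_X, eval₂_add, eval₂_mul, eval₂_C, eval₂_X, eval₂_C, map_pow]

end Poly

theorem main_aux (A K : Type u) [CommRing A] [IsDomain A] [IsDiscreteValuationRing A] [Field K]
    [Algebra A K] [IsFractionRing A K] (π : A) (hπ : IsLocalRing.maximalIdeal A = Ideal.span {π})
    (m : ℕ) (q : ℕ) (hq : 1 < q)
    (L : Type u) [Field L] [Algebra K L] [Algebra A L] [IsScalarTower A K L]
    (θ : L) (hθ : θ ^ q = algebraMap A L π + algebraMap A L π ^ (m + 2) * θ)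
    (hsep : IsSeparable K θ)
    (hspanK : ∀ y : L, ∃ c : ℕ → K, y = ∑ i ∈ Finset.range q, algebraMap K L (c i) * θ ^ i) :
    Algebra.IsSeparable K L ∧ EtRam.IsTotallyRamified A (algebraMap A L) ∧
      ∃ πB b b' : L, πB ∈ integralClosure A L ∧ b ∈ integralClosure A L ∧
        b' ∈ integralClosure A L ∧
        πB ^ q = algebraMap A L π + algebraMap A L π ^ (m + 2) * b ∧
        πB ^ q = algebraMap A L π + πB ^ ((m + 2) * q) * b' := by
  classical
  have hπirr : Irreducible π := (IsDiscreteValuationRing.irreducible_iff_uniformizer π).mpr hπ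
  have hπmem : π ∈ IsLocalRing.maximalIdeal A := by
    rw [hπ]; exact Ideal.mem_span_singleton_self π
  have hinj : Function.Injective (algebraMap A L) := by
    rw [IsScalarTower.algebraMap_eq A K L]
    exact (algebraMap K L).injective.comp (IsFractionRing.injective A K)
  have hsepL : Algebra.IsSeparable K L := by
    rw [← separableClosure.eq_top_iff K L]
    apply top_le_iff.mp
    intro y _
    obtain ⟨c, rfl⟩ := hspanK y
    have hθmem : θ ∈ separableClosure K L := mem_separableClosure_iff.mpr hsep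
    exact sum_mem (fun i _ => mul_mem ((separableClosure K L).algebraMap_mem _) (pow_mem hθmem i))
  have hθV : ∀ V : ValuationSubring L, EtRam.Dominates A (algebraMap A L) V → θ ∈ V := by
    intro V hV
    rw [← V.valuation_le_one_iff]
    by_contra hcon
    rw [not_le] at hcon
    have hs1 : V.valuation (algebraMap A L π) < 1 := hV.2 π hπmem
    have hpos : 0 < V.valuation θ := lt_trans zero_lt_one hcon
    have h1 : V.valuation (θ ^ q) < V.valuation θ := by
      rw [hθ]
      apply Valuation.map_add_lt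
      · exact hs1.trans hcon
      · rw [map_mul, map_pow]
        calc V.valuation (algebraMap A L π) ^ (m + 2) * V.valuation θ < 1 * V.valuation θ :=
              mul_lt_mul_of_pos_right (pow_lt_one₀ zero_le hs1 (by omega)) hpos
          _ = V.valuation θ := one_mul _
    rw [map_pow] at h1
    have h2 : V.valuation θ ≤ V.valuation θ ^ q := le_self_pow₀ hcon.le (by omega)
    exact absurd h1 (not_lt.mpr h2)
  have hwV : ∀ V : ValuationSubring L, EtRam.Dominates A (algebraMap A L) V →
      algebraMap A L π ^ m * θ ∈ V :=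
    fun V hV => mul_mem (pow_mem (hV.1 π) m) (hθV V hV)
  have hθq' : θ ^ q =
      algebraMap A L π * (1 + algebraMap A L π * (algebraMap A L π ^ m * θ)) := by
    rw [hθ]; ring
  have hspan : ∀ y : L, ∃ (N : ℕ) (a : ℕ → A),
      y * algebraMap A L π ^ N = ∑ i ∈ Finset.range q, algebraMap A L (a i) * θ ^ i := by
    intro y
    obtain ⟨c, rfl⟩ := hspanK y
    choose Nf af hf using fun i => exists_mul_pow_eq A K π hπirr (c i)
    obtain ⟨S, hS⟩ : ∃ S, S = (Finset.range q).sup Nf := ⟨_, rfl⟩
    refine ⟨S, fun i => af i * π ^ (S - Nf i), ?_⟩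
    rw [Finset.sum_mul]
    apply Finset.sum_congr rfl
    intro i hi
    have hle : Nf i ≤ S := by rw [hS]; exact Finset.le_sup hi
    have h3 : c i * algebraMap A K π ^ S = algebraMap A K (af i * π ^ (S - Nf i)) := by
      rw [map_mul, map_pow, ← hf i, mul_assoc, ← pow_add, Nat.add_sub_cancel' hle]
    have h2 : algebraMap K L (c i) * algebraMap A L π ^ S =
        algebraMap A L (af i * π ^ (S - Nf i)) := by
      rw [IsScalarTower.algebraMap_apply A K L (af i * π ^ (S - Nf i)), ← h3, map_mul, map_pow,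
        ← IsScalarTower.algebraMap_apply A K L π]
    show algebraMap K L (c i) * θ ^ i * algebraMap A L π ^ S =
      algebraMap A L (af i * π ^ (S - Nf i)) * θ ^ i
    rw [← h2]; ring
  have hTR := isTotallyRamified_of_root A π hπ L (algebraMap A L) hinj θ
    (algebraMap A L π ^ m * θ) q (by omega) hθq' hθV hwV hspan
  refine ⟨hsepL, hTR, ?_⟩
  have hθint : IsIntegral A θ := by
    refine ⟨poly π (m + 2) q, poly_monic π (m + 2) hq, ?_⟩
    rw [poly_eval₂, hθ]; ring
  have hθS : θ ∈ integralClosure A L := hθint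
  obtain ⟨ϖ, hϖ⟩ : ∃ ϖ : L, ϖ = algebraMap A L π := ⟨_, rfl⟩
  have hϖS : ϖ ∈ integralClosure A L := by
    rw [hϖ]; exact Subalgebra.algebraMap_mem _ _
  rw [← hϖ] at hθ ⊢
  obtain ⟨yy, hyy⟩ : ∃ yy : L, yy = ϖ ^ (m + 1) * θ := ⟨_, rfl⟩
  obtain ⟨uu, huu⟩ : ∃ uu : L, uu = 1 + yy := ⟨_, rfl⟩
  obtain ⟨cc, hcc⟩ : ∃ cc : L, cc = ϖ ^ ((m + 1) * q + 1) := ⟨_, rfl⟩
  obtain ⟨G, hG⟩ : ∃ G : L, G = ∑ i ∈ Finset.range q, yy ^ i * (-1) ^ (q - 1 - i) := ⟨_, rfl⟩
  obtain ⟨uinv, huinv⟩ : ∃ uinv : L, uinv = (-1) ^ q * (cc - G) := ⟨_, rfl⟩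
  have hyyS : yy ∈ integralClosure A L := by
    rw [hyy]; exact mul_mem (pow_mem hϖS _) hθS
  have hGS : G ∈ integralClosure A L := by
    rw [hG]
    exact sum_mem (fun i _ => mul_mem (pow_mem hyyS i)
      (pow_mem (neg_mem (one_mem (integralClosure A L))) _))
  have huinvS : uinv ∈ integralClosure A L := by
    rw [huinv, hcc]
    exact mul_mem (pow_mem (neg_mem (one_mem (integralClosure A L))) _)
      (sub_mem (pow_mem hϖS _) hGS)
  have hθu : θ ^ q = ϖ * uu := by
    rw [hθ, huu, hyy]; ring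
  have hyyq : yy ^ q = cc * uu := by
    rw [hyy, mul_pow, hθu, hcc]; ring
  have hGu : G * uu = yy ^ q - (-1) ^ q := by
    have h1 := geom_sum₂_mul yy (-1 : L) q
    have h2 : yy - (-1) = uu := by rw [huu]; ring
    rw [h2, ← hG] at h1
    exact h1
  have huu1 : uu * uinv = 1 := by
    have h1 : uu * uinv = (-1) ^ q * (cc * uu - G * uu) := by rw [huinv]; ring
    rw [h1, hGu, hyyq]
    have h2 : ((-1 : L) ^ q) * (cc * uu - (cc * uu - (-1) ^ q)) = (-1) ^ (q + q) := by
      rw [pow_add]; ring
    rw [h2]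
    exact Even.neg_one_pow ⟨q, rfl⟩
  have e2 : θ ^ ((m + 2) * q) * (θ * uinv ^ (m + 2)) = ϖ ^ (m + 2) * θ := by
    rw [pow_mul', hθu]
    calc (ϖ * uu) ^ (m + 2) * (θ * uinv ^ (m + 2))
        = ϖ ^ (m + 2) * θ * (uu * uinv) ^ (m + 2) := by ring
      _ = ϖ ^ (m + 2) * θ := by rw [huu1, one_pow, mul_one]
  refine ⟨θ, θ, θ * uinv ^ (m + 2), hθS, hθS, mul_mem hθS (pow_mem huinvS _), hθ, ?_⟩
  rw [e2]
  exact hθ

theorem main_pos' (A K : Type u) [CommRing A] [IsDomain A] [IsDiscreteValuationRing A] [Field K]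
    [Algebra A K] [IsFractionRing A K] (π : A) (hπ : IsLocalRing.maximalIdeal A = Ideal.span {π})
    (m : ℕ) (q : ℕ) (hq : 1 < q)
    (L : Type u) [Field L] [Algebra K L] (hfin : Module.finrank K L = q)
    (θ : L) (hθ : θ ^ q = algebraMap K L (algebraMap A K π) +
      algebraMap K L (algebraMap A K π) ^ (m + 2) * θ)
    (hsep : IsSeparable K θ)
    (hspanK : ∀ y : L, ∃ c : ℕ → K, y = ∑ i ∈ Finset.range q, algebraMap K L (c i) * θ ^ i) :
    ∃ (L : Type u) (_ : Field L) (_ : Algebra K L) (_ : Algebra A L) (_ : IsScalarTower A K L),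
      Module.finrank K L = q ∧ Algebra.IsSeparable K L ∧
      EtRam.IsTotallyRamified A (algebraMap A L) ∧
      ∃ πB b b' : L, πB ∈ integralClosure A L ∧ b ∈ integralClosure A L ∧
        b' ∈ integralClosure A L ∧
        πB ^ q = algebraMap A L π + algebraMap A L π ^ (m + 2) * b ∧
        πB ^ q = algebraMap A L π + πB ^ ((m + 2) * q) * b' := by
  letI iA : Algebra A L := ((algebraMap K L).comp (algebraMap A K)).toAlgebra
  haveI iT : IsScalarTower A K L := IsScalarTower.of_algebraMap_eq (fun _ => rfl)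
  obtain ⟨h1, h2, h3⟩ := main_aux A K π hπ m q hq L θ hθ hsep hspanK
  exact ⟨L, inferInstance, inferInstance, iA, iT, hfin, h1, h2, h3⟩

theorem main_pos (A K : Type u) [CommRing A] [IsDomain A] [IsDiscreteValuationRing A] [Field K]
    [Algebra A K] [IsFractionRing A K] (π : A) (hπ : IsLocalRing.maximalIdeal A = Ideal.span {π})
    (m : ℕ) (q : ℕ) (hq : 1 < q) :
    ∃ (L : Type u) (_ : Field L) (_ : Algebra K L) (_ : Algebra A L) (_ : IsScalarTower A K L),
      Module.finrank K L = q ∧ Algebra.IsSeparable K L ∧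
      EtRam.IsTotallyRamified A (algebraMap A L) ∧
      ∃ πB b b' : L, πB ∈ integralClosure A L ∧ b ∈ integralClosure A L ∧
        b' ∈ integralClosure A L ∧
        πB ^ q = algebraMap A L π + algebraMap A L π ^ (m + 2) * b ∧
        πB ^ q = algebraMap A L π + πB ^ ((m + 2) * q) * b' := by
  classical
  have hπirr : Irreducible π := (IsDiscreteValuationRing.irreducible_iff_uniformizer π).mpr hπ
  have hπmem : π ∈ IsLocalRing.maximalIdeal A := by
    rw [hπ]; exact Ideal.mem_span_singleton_self π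
  have hπK0 : algebraMap A K π ≠ 0 :=
    fun h => hπirr.ne_zero (IsFractionRing.injective A K (by rw [h, map_zero]))
  have hmon : (poly π (m + 2) q).Monic := poly_monic π (m + 2) hq
  have hE : (poly π (m + 2) q).IsEisensteinAt (IsLocalRing.maximalIdeal A) := by
    refine ⟨?_, ?_, ?_⟩
    · rw [hmon.leadingCoeff]
      exact fun h => (IsLocalRing.maximalIdeal.isMaximal A).ne_top ((Ideal.eq_top_iff_one _).mpr h)
    · intro i hi
      rw [poly_natDegree π (m + 2) hq] at hi
      exact poly_coeff_mem _ π hπmem (m + 2) (by omega) i hi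
    · rw [poly_coeff_zero π (m + 2) (by omega : 0 < q), hπ, Ideal.span_singleton_pow,
        neg_mem_iff, Ideal.mem_span_singleton]
      rintro ⟨c, hc⟩
      apply hπirr.not_isUnit
      have h1 : π * 1 = π * (π * c) := by rw [mul_one, ← mul_assoc, ← sq]; exact hc
      have h2 := mul_left_cancel₀ hπirr.ne_zero h1
      exact IsUnit.of_mul_eq_one c h2.symm
  have hirr : Irreducible (poly π (m + 2) q) :=
    hE.irreducible (IsLocalRing.maximalIdeal.isMaximal A).isPrime hmon.isPrimitive
      (by rw [poly_natDegree π (m + 2) hq]; omega)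
  have hirrK : Irreducible (poly (algebraMap A K π) (m + 2) q) := by
    have h5 := (hmon.irreducible_iff_irreducible_map_fraction_map (K := K)).mp hirr
    rwa [poly_map] at h5
  haveI : Fact (Irreducible (poly (algebraMap A K π) (m + 2) q)) := ⟨hirrK⟩
  have hG0 : poly (algebraMap A K π) (m + 2) q ≠ 0 := hirrK.ne_zero
  have hroot : eval₂ (AdjoinRoot.of (poly (algebraMap A K π) (m + 2) q))
      (AdjoinRoot.root (poly (algebraMap A K π) (m + 2) q))
      (poly (algebraMap A K π) (m + 2) q) = 0 := AdjoinRoot.eval₂_root _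
  refine main_pos' A K π hπ m q hq (AdjoinRoot (poly (algebraMap A K π) (m + 2) q)) ?_
    (AdjoinRoot.root _) ?_ ?_ ?_
  · rw [(AdjoinRoot.powerBasis hG0).finrank, AdjoinRoot.powerBasis_dim, poly_natDegree _ _ hq]
  · rw [poly_eval₂, sub_eq_zero] at hroot
    rw [AdjoinRoot.algebraMap_eq, hroot]
    ring
  · have hsepG : (poly (algebraMap A K π) (m + 2) q).Separable := by
      rw [separable_iff_derivative_ne_zero hirrK]
      intro h
      have h1 : (derivative (poly (algebraMap A K π) (m + 2) q)).coeff 0 = 0 := by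
        rw [h, coeff_zero]
      rw [coeff_derivative, poly_coeff_one _ _ hq, Nat.cast_zero, zero_add, mul_one,
        neg_eq_zero] at h1
      exact pow_ne_zero _ hπK0 h1
    have haev : aeval (AdjoinRoot.root (poly (algebraMap A K π) (m + 2) q))
        (poly (algebraMap A K π) (m + 2) q) = 0 := by
      rw [aeval_def, AdjoinRoot.algebraMap_eq]; exact hroot
    exact hsepG.of_dvd (minpoly.dvd K _ haev)
  · intro y
    obtain ⟨f, hfdeg, hf⟩ := (AdjoinRoot.powerBasis hG0).exists_eq_aeval y
    rw [AdjoinRoot.powerBasis_dim, poly_natDegree _ _ hq] at hfdeg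
    rw [AdjoinRoot.powerBasis_gen] at hf
    refine ⟨fun i => f.coeff i, ?_⟩
    rw [hf, aeval_eq_sum_range' hfdeg]
    apply Finset.sum_congr rfl
    intro i _
    rw [Algebra.smul_def]

theorem main_zero (A K : Type u) [CommRing A] [IsDomain A] [IsDiscreteValuationRing A] [Field K]
    [Algebra A K] [IsFractionRing A K] (π : A) (hπ : IsLocalRing.maximalIdeal A = Ideal.span {π})
    (n : ℕ) (q : ℕ) (hq1 : q = 1) :
    ∃ (L : Type u) (_ : Field L) (_ : Algebra K L) (_ : Algebra A L) (_ : IsScalarTower A K L),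
      Module.finrank K L = q ∧ Algebra.IsSeparable K L ∧
      EtRam.IsTotallyRamified A (algebraMap A L) ∧
      ∃ πB b b' : L, πB ∈ integralClosure A L ∧ b ∈ integralClosure A L ∧
        b' ∈ integralClosure A L ∧
        πB ^ q = algebraMap A L π + algebraMap A L π ^ n * b ∧
        πB ^ q = algebraMap A L π + πB ^ (n * q) * b' := by
  subst hq1
  have hπirr : Irreducible π := (IsDiscreteValuationRing.irreducible_iff_uniformizer π).mpr hπ
  refine ⟨K, inferInstance, inferInstance, inferInstance, inferInstance, Module.finrank_self K,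
    inferInstance, ?_, ?_⟩
  · apply isTotallyRamified_of_root A π hπ K (algebraMap A K) (IsFractionRing.injective A K)
      (algebraMap A K π) 0 1 one_pos
    · rw [pow_one, mul_zero, add_zero, mul_one]
    · intro V hV; exact hV.1 π
    · intro V _; exact zero_mem V
    · intro y
      obtain ⟨N, a, h⟩ := exists_mul_pow_eq A K π hπirr y
      exact ⟨N, fun _ => a, by rw [Finset.sum_range_one, pow_zero, mul_one]; exact h⟩
  · refine ⟨algebraMap A K π, 0, 0, Subalgebra.algebraMap_mem _ _, zero_mem _, zero_mem _, ?_, ?_⟩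
    · rw [pow_one, mul_zero, add_zero]
    · rw [pow_one, mul_zero, add_zero]

end Groth.Agent.H86.TotRam
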