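import Mathlib
import Groth.Agent.H86.FrobSL3

/-!
# Trace of a commuting linear map on the fixed points of a Frobenius-semilinear map (helper86)
-/

set_option autoImplicit false

namespace Groth.Agent.H86.TraceFix

open Groth.Agent.H86.FrobSL

universe u v w

theorem main {p : ℕ} [Fact p.Prime] (K : Type u) [Field K] [IsAlgClosed K] [CharP K p]
    (U : Type v) [AddCommGroup U] [Module K U] [FiniteDimensional K U]
    (F0 : Type w) [Field F0] [Algebra F0 K] [Module F0 U] [IsScalarTower F0 K U]
    (hF0 : ∀ c : K, c ^ p = c → ∃ a : F0, algebraMap F0 K a = c)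
    (φ : U →+ U) (hφ : ∀ (a : K) (u : U), φ (a • u) = a ^ p • φ u)
    (T : U →ₗ[K] U) (hcomm : ∀ u, φ (T u) = T (φ u))
    (hT : ∀ n : ℕ, ∃ j : ℕ, ∀ u : U, ∃ w : U, (T ^ j) u = (⇑φ)^[n] w)
    (W : Submodule F0 U) (hW : ∀ y, y ∈ W ↔ φ y = y) :
    Module.Finite F0 ↥W ∧
    ∀ (G : ↥W →ₗ[F0] ↥W), (∀ y : ↥W, (↑(G y) : U) = T ↑y) →
      algebraMap F0 K (LinearMap.trace F0 ↥W G) = LinearMap.trace K U T := by
  classical
  have hq : 2 ≤ p := (Fact.out : p.Prime).two_le
  have hq0 : 0 < p := by omega
  have hqk : ((p : ℕ) : K) = 0 := CharP.cast_eq_zero K p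
  obtain ⟨M, hk, hr⟩ := exists_stable φ hφ hq0
  have hcompl := isCompl_of_stable φ hφ hq0 hk hr
  have hspanI := span_fixed_eq_rangeIter φ hφ hq hqk hk hr
  obtain ⟨b, hbs, hbspan, hli⟩ := exists_linearIndependent K {v : U | φ v = v}
  have hbfix : ∀ i : b, φ (i : U) = i := fun i => hbs i.2
  let I : Submodule K U := Submodule.span K (Set.range ((↑) : b → U))
  let N : Submodule K U := kerIter φ hφ M
  have hI' : I = Submodule.span K {v : U | φ v = v} := by
    show Submodule.span K (Set.range ((↑) : b → U)) = _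
    rw [Subtype.range_coe, hbspan]
  have hI_eq : I = rangeIter φ hφ hq0 M := by rw [hI', hspanI]
  have hcompl' : IsCompl I N := by rw [hI_eq]; exact hcompl
  let BI : Module.Basis b K I := Module.Basis.span hli
  have hBI : ∀ i : b, ((BI i : I) : U) = i := fun i => by
    show ((Module.Basis.span hli i : I) : U) = i
    rw [Module.Basis.span_apply]
  haveI : Finite b := Module.Finite.finite_basis BI
  haveI : Fintype b := Fintype.ofFinite b
  -- invariance
  have hTI : ∀ x ∈ I, T x ∈ I := by
    intro x hx
    rw [hI'] at hx ⊢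
    refine Submodule.span_induction ?_ ?_ ?_ ?_ hx
    · intro y hy
      apply Submodule.subset_span
      show φ (T y) = T y
      rw [hcomm, (hy : φ y = y)]
    · rw [map_zero]; exact Submodule.zero_mem _
    · intro y z _ _ hy hz; rw [map_add]; exact Submodule.add_mem _ hy hz
    · intro a y _ hy; rw [map_smul]; exact Submodule.smul_mem _ a hy
  have hiter_comm : ∀ (n : ℕ) (u : U), (⇑φ)^[n] (T u) = T ((⇑φ)^[n] u) := by
    intro n
    induction n with
    | zero => intro u; rfl
    | succ n ih =>
      intro u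
      rw [Function.iterate_succ_apply', Function.iterate_succ_apply', ih, hcomm]
  have hTN : ∀ x ∈ N, T x ∈ N := by
    intro x hx
    have hx' : (⇑φ)^[M] x = 0 := hx
    show (⇑φ)^[M] (T x) = 0
    rw [hiter_comm, hx', map_zero]
  obtain ⟨j, hj⟩ := hT M
  have hpow_mem_N : ∀ (n : ℕ) (x : U), x ∈ N → (T ^ n) x ∈ N := by
    intro n
    induction n with
    | zero => intro x hx; simpa using hx
    | succ n ih => intro x hx; rw [pow_succ', Module.End.mul_apply]; exact hTN _ (ih x hx)
  have hnilN : ∀ x ∈ N, (T ^ j) x = 0 := by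
    intro x hx
    have h1 : (T ^ j) x ∈ I := by
      rw [hI_eq]
      obtain ⟨w, hw⟩ := hj x
      exact ⟨w, hw.symm⟩
    have h2 := hpow_mem_N j x hx
    have h3 : (T ^ j) x ∈ I ⊓ N := ⟨h1, h2⟩
    rw [hcompl'.inf_eq_bot] at h3
    exact (Submodule.mem_bot K).mp h3
  -- direct sum decomposition of the trace
  let A : Bool → Submodule K U := fun t => cond t I N
  have hA : DirectSum.IsInternal A := by
    rw [DirectSum.isInternal_submodule_iff_isCompl A (i := true) (j := false) (by decide)
      (by ext x; cases x <;> simp)]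
    exact hcompl'
  have hfA : ∀ t, Set.MapsTo T (A t) (A t) := by
    intro t
    cases t
    · exact fun x hx => hTN x hx
    · exact fun x hx => hTI x hx
  have htr' : LinearMap.trace K U T =
      LinearMap.trace K I (T.restrict hTI) + LinearMap.trace K N (T.restrict hTN) := by
    have h := LinearMap.trace_eq_sum_trace_restrict hA hfA
    rw [Fintype.sum_bool] at h
    exact h
  have hN0 : LinearMap.trace K N (T.restrict hTN) = 0 := by
    apply IsNilpotent.eq_zero
    apply LinearMap.isNilpotent_trace_of_isNilpotent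
    refine ⟨j, ?_⟩
    ext x
    rw [Module.End.pow_restrict]
    simp only [LinearMap.restrict_coe_apply, LinearMap.zero_apply, ZeroMemClass.coe_zero]
    exact hnilN x x.2
  -- the F0-structure
  have hmemW : ∀ i : b, (i : U) ∈ W := fun i => (hW _).2 (hbfix i)
  let wv : b → W := fun i => ⟨i, hmemW i⟩
  have hliU : LinearIndependent F0 ((↑) : b → U) := by
    refine LinearIndependent.restrict_scalars (R := F0) (K := K) ?_ hli
    intro x y hxy
    simp only [Algebra.smul_def, mul_one] at hxy
    exact (algebraMap F0 K).injective hxy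
  have hliW : LinearIndependent F0 wv := by
    apply LinearIndependent.of_comp W.subtype
    exact hliU
  have hcoef : ∀ y : U, φ y = y → ∃ a : b → F0, y = ∑ i, a i • (i : U) := by
    intro y hy
    have hyI : y ∈ I := by rw [hI']; exact Submodule.subset_span hy
    obtain ⟨c, hsum⟩ : ∃ c : b → K, y = ∑ i, c i • (i : U) := by
      refine ⟨fun i => BI.repr ⟨y, hyI⟩ i, ?_⟩
      have h1 := BI.sum_repr ⟨y, hyI⟩
      have h2 := congrArg (Subtype.val) h1
      rw [Submodule.coe_sum] at h2
      simp only [Submodule.coe_smul, hBI] at h2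
      exact h2.symm
    have hφy : φ y = ∑ i, (c i) ^ p • (i : U) := by
      conv_lhs => rw [hsum]
      rw [map_sum]
      refine Finset.sum_congr rfl fun i _ => ?_
      rw [hφ, hbfix]
    have hzero : ∑ i, ((c i) ^ p - c i) • (i : U) = 0 := by
      simp only [sub_smul, Finset.sum_sub_distrib]
      rw [← hφy, ← hsum, hy, sub_self]
    have hci := (Fintype.linearIndependent_iff.mp hli) _ hzero
    choose a ha using fun i => hF0 (c i) (sub_eq_zero.mp (hci i))
    refine ⟨a, ?_⟩
    calc y = ∑ i, c i • (i : U) := hsum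
      _ = ∑ i, a i • (i : U) := Finset.sum_congr rfl fun i _ => by
          rw [← ha i, algebraMap_smul]
  have hspanW : ⊤ ≤ Submodule.span F0 (Set.range wv) := by
    intro y _
    obtain ⟨a, ha⟩ := hcoef (y : U) ((hW _).1 y.2)
    have hy : y = ∑ i, a i • wv i := by
      apply Subtype.ext
      rw [Submodule.coe_sum]
      simp only [Submodule.coe_smul]
      exact ha
    rw [hy]
    exact Submodule.sum_mem _ fun i _ =>
      Submodule.smul_mem _ _ (Submodule.subset_span ⟨i, rfl⟩)
  let BW : Module.Basis b F0 W := Module.Basis.mk hliW hspanW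
  have hBW : ∀ i, BW i = wv i := fun i => Module.Basis.mk_apply hliW hspanW i
  refine ⟨Module.Finite.of_basis BW, fun G hG => ?_⟩
  have hGcoe : ∀ j' : b, T (j' : U) = ∑ i', (BW.repr (G (wv j')) i') • (i' : U) := by
    intro j'
    have h1 := BW.sum_repr (G (wv j'))
    have h2 := congrArg (Subtype.val) h1
    rw [Submodule.coe_sum] at h2
    simp only [Submodule.coe_smul, hBW] at h2
    rw [hG] at h2
    exact h2.symm
  have hTI_repr : ∀ j' : b, (T.restrict hTI) (BI j') =
      ∑ i', (algebraMap F0 K (BW.repr (G (wv j')) i')) • BI i' := by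
    intro j'
    apply Subtype.ext
    rw [LinearMap.restrict_coe_apply, hBI, hGcoe j', Submodule.coe_sum]
    refine Finset.sum_congr rfl fun i' _ => ?_
    rw [Submodule.coe_smul, hBI, algebraMap_smul]
  rw [htr', hN0, add_zero, LinearMap.trace_eq_matrix_trace F0 BW G,
    LinearMap.trace_eq_matrix_trace K BI (T.restrict hTI)]
  simp only [Matrix.trace, Matrix.diag_apply, map_sum]
  refine Finset.sum_congr rfl fun i _ => ?_
  rw [LinearMap.toMatrix_apply, LinearMap.toMatrix_apply, hBW, hTI_repr i]
  exact (congrFun (BI.repr_sum_self fun i' => algebraMap F0 K (BW.repr (G (wv i)) i')) i).symm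

end Groth.Agent.H86.TraceFix
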