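import Mathlib
import Groth.Agent.H86.AltTrace

/-!
# Trace of `B/pB` over `A/p` as a weighted sum of residue traces (Dedekind case)
-/

set_option autoImplicit false

namespace Groth.Agent.H86.TraceRes

open UniqueFactorizationMonoid

section Step1

variable {k : Type*} [Field k] {V : Type*} [CommRing V] [Algebra k V] [FiniteDimensional k V]

theorem trace_quot_eq_add (π : V) (I K L : Ideal V) (hK : ∀ v, v ∈ K ↔ π * v ∈ I)
    (hL : L = I ⊔ Ideal.span {π}) (x : V) :
    Algebra.trace k (V ⧸ I) (Ideal.Quotient.mk I x) =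
      Algebra.trace k (V ⧸ K) (Ideal.Quotient.mk K x) +
        Algebra.trace k (V ⧸ L) (Ideal.Quotient.mk L x) := by
  subst hL
  haveI : Module.Finite k (V ⧸ I) :=
    Module.Finite.of_surjective (Ideal.Quotient.mkₐ k I).toLinearMap Ideal.Quotient.mk_surjective
  haveI : Module.Finite k (V ⧸ K) :=
    Module.Finite.of_surjective (Ideal.Quotient.mkₐ k K).toLinearMap Ideal.Quotient.mk_surjective
  haveI : Module.Finite k (V ⧸ (I ⊔ Ideal.span {π})) :=
    Module.Finite.of_surjective (Ideal.Quotient.mkₐ k (I ⊔ Ideal.span {π})).toLinearMap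
      Ideal.Quotient.mk_surjective
  let i : (V ⧸ K) →ₗ[k] (V ⧸ I) :=
    (K.liftQ ((I.mkQ).comp (LinearMap.mulLeft V π)) (fun v hv => by
      rw [LinearMap.mem_ker, LinearMap.comp_apply, LinearMap.mulLeft_apply, Submodule.mkQ_apply,
        Submodule.Quotient.mk_eq_zero]
      exact (hK v).mp hv)).restrictScalars k
  let q : (V ⧸ I) →ₗ[k] (V ⧸ (I ⊔ Ideal.span {π})) :=
    (Ideal.Quotient.factorₐ k (le_sup_left : I ≤ I ⊔ Ideal.span {π})).toLinearMap
  have hi_mk : ∀ v : V, i (Ideal.Quotient.mk K v) = Ideal.Quotient.mk I (π * v) := fun v => rfl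
  have hq_mk : ∀ v : V, q (Ideal.Quotient.mk I v) = Ideal.Quotient.mk _ v := fun v => rfl
  rw [Algebra.trace_apply, Algebra.trace_apply, Algebra.trace_apply]
  refine Groth.Agent.H86.AltTrace.trace_eq_add_of_exact i q ?_ ?_ ?_ ?_ _ _ _ ?_ ?_
  · rw [← LinearMap.ker_eq_bot, LinearMap.ker_eq_bot']
    intro w hw
    obtain ⟨v, rfl⟩ := Ideal.Quotient.mk_surjective w
    rw [hi_mk] at hw
    exact Ideal.Quotient.eq_zero_iff_mem.mpr
      ((hK v).mpr (Ideal.Quotient.eq_zero_iff_mem.mp hw))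
  · intro w
    obtain ⟨v, rfl⟩ := Ideal.Quotient.mk_surjective w
    exact ⟨Ideal.Quotient.mk I v, rfl⟩
  · intro v hv
    obtain ⟨v, rfl⟩ := Ideal.Quotient.mk_surjective v
    rw [hq_mk, Ideal.Quotient.eq_zero_iff_mem] at hv
    obtain ⟨a, ha, b, hb, hab⟩ := Submodule.mem_sup.mp hv
    obtain ⟨c, rfl⟩ := Ideal.mem_span_singleton'.mp hb
    refine ⟨Ideal.Quotient.mk K c, ?_⟩
    rw [hi_mk, ← hab, Ideal.Quotient.eq]
    have : π * c - (a + c * π) = -a := by ring
    rw [this]
    exact I.neg_mem ha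
  · intro w
    obtain ⟨v, rfl⟩ := Ideal.Quotient.mk_surjective w
    rw [hi_mk, hq_mk, Ideal.Quotient.eq_zero_iff_mem]
    exact Ideal.mem_sup_right (Ideal.mul_mem_right _ _ (Ideal.mem_span_singleton_self π))
  · intro w
    obtain ⟨v, rfl⟩ := Ideal.Quotient.mk_surjective w
    show i (Ideal.Quotient.mk K x * Ideal.Quotient.mk K v) =
      Ideal.Quotient.mk I x * i (Ideal.Quotient.mk K v)
    rw [← map_mul, hi_mk, hi_mk, ← map_mul]
    congr 1; ring
  · intro v
    obtain ⟨v, rfl⟩ := Ideal.Quotient.mk_surjective v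
    show q (Ideal.Quotient.mk I x * Ideal.Quotient.mk I v) =
      Ideal.Quotient.mk _ x * q (Ideal.Quotient.mk I v)
    rw [← map_mul, hq_mk, hq_mk, map_mul]

theorem trace_quot_bot {V' : Type*} [CommRing V'] [Algebra k V'] (I : Ideal V') (hI : I = ⊥)
    (x : V') :
    Algebra.trace k (V' ⧸ I) (Ideal.Quotient.mk I x) = Algebra.trace k V' x := by
  subst hI
  exact (Algebra.trace_eq_of_algEquiv (AlgEquiv.quotientBot k V')
    (Ideal.Quotient.mk ⊥ x)).symm

end Step1

section Step3

variable {B : Type*} [CommRing B] [IsDedekindDomain B] {k : Type*} [Field k]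

theorem sup_span_eq (Q J : Ideal B) (hQ : Q.IsMaximal) (hJ : J ≠ ⊥) (ϖ : B) (h1 : ϖ ∈ J)
    (h2 : ϖ ∉ Q * J) : Q * J ⊔ Ideal.span {ϖ} = J := by
  have hle : Q * J ⊔ Ideal.span {ϖ} ≤ J :=
    sup_le Ideal.mul_le_right (Ideal.span_le.mpr (Set.singleton_subset_iff.mpr h1))
  obtain ⟨C, hC⟩ := Ideal.dvd_iff_le.mpr hle
  have h3 : Q * J ≤ J * C := by rw [← hC]; exact le_sup_left
  have h4 : J * C ∣ J * Q := by rw [mul_comm J Q]; exact Ideal.dvd_iff_le.mpr h3
  have hJ0 : J ≠ 0 := hJ
  have h5 : C ∣ Q := (mul_dvd_mul_iff_left hJ0).mp h4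
  have h6 : Q ≤ C := Ideal.dvd_iff_le.mp h5
  by_cases hC1 : C = ⊤
  · rw [hC, hC1, Ideal.mul_top]
  · exfalso
    have hQC : Q = C := hQ.eq_of_le hC1 h6
    apply h2
    have hmem : ϖ ∈ Q * J ⊔ Ideal.span {ϖ} :=
      Ideal.mem_sup_right (Ideal.mem_span_singleton_self ϖ)
    rw [hC, ← hQC, mul_comm] at hmem
    exact hmem

theorem trace_prod (P : Ideal B) (hP : P ≠ ⊥) [Algebra k (B ⧸ P)] [FiniteDimensional k (B ⧸ P)]
    (x : B ⧸ P) (s : Multiset (Ideal B)) :
    (∀ Q ∈ s, Q.IsMaximal) → P ≤ s.prod →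
      Algebra.trace k ((B ⧸ P) ⧸ (s.prod).map (Ideal.Quotient.mk P))
          (Ideal.Quotient.mk _ x) =
        (s.map fun Q : Ideal B =>
          Algebra.trace k ((B ⧸ P) ⧸ Q.map (Ideal.Quotient.mk P))
            (Ideal.Quotient.mk _ x)).sum := by
  induction s using Multiset.induction_on with
  | empty =>
    intro _ _
    have h0 : (Ideal.Quotient.mk ((Multiset.prod (0 : Multiset (Ideal B))).map
        (Ideal.Quotient.mk P)) x) = 0 := by
      rw [Ideal.Quotient.eq_zero_iff_mem, Multiset.prod_zero, Ideal.one_eq_top, Ideal.map_top]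
      exact Submodule.mem_top
    rw [h0, map_zero, Multiset.map_zero, Multiset.sum_zero]
  | cons Q s ih =>
    intro hmax hle
    have hQmax : Q.IsMaximal := hmax Q (Multiset.mem_cons_self Q s)
    have hsmax : ∀ Q' ∈ s, Q'.IsMaximal := fun Q' h => hmax Q' (Multiset.mem_cons_of_mem h)
    rw [Multiset.prod_cons] at hle
    have hPJ : P ≤ s.prod := hle.trans Ideal.mul_le_right
    have hPQ : P ≤ Q := hle.trans Ideal.mul_le_left
    have hJ : s.prod ≠ ⊥ := by
      intro h
      rw [h] at hPJ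
      exact hP (le_bot_iff.mp hPJ)
    have hJ0 : s.prod ≠ 0 := hJ
    have hlt : Q * s.prod < s.prod := by
      refine lt_of_le_of_ne Ideal.mul_le_right ?_
      intro heq
      have h1 : Q * s.prod = 1 * s.prod := by rw [one_mul]; exact heq
      have h2 : Q = 1 := mul_right_cancel₀ hJ0 h1
      exact hQmax.ne_top (by rw [h2, Ideal.one_eq_top])
    obtain ⟨ϖ, hϖJ, hϖn⟩ := SetLike.exists_of_lt hlt
    have hK : ∀ v : B ⧸ P, v ∈ Q.map (Ideal.Quotient.mk P) ↔
        Ideal.Quotient.mk P ϖ * v ∈ (Q * s.prod).map (Ideal.Quotient.mk P) := by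
      intro v
      obtain ⟨b, rfl⟩ := Ideal.Quotient.mk_surjective v
      rw [← map_mul, Ideal.mem_quotient_iff_mem hPQ, Ideal.mem_quotient_iff_mem hle]
      constructor
      · intro hb
        rw [mul_comm ϖ b]
        exact Ideal.mul_mem_mul hb hϖJ
      · intro hb
        by_contra hbQ
        obtain ⟨c, q, hq, hcq⟩ := hQmax.exists_inv hbQ
        apply hϖn
        have hϖ : ϖ = c * (ϖ * b) + q * ϖ := by
          calc ϖ = ϖ * 1 := (mul_one ϖ).symm
            _ = ϖ * (c * b + q) := by rw [hcq]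
            _ = c * (ϖ * b) + q * ϖ := by ring
        rw [hϖ]
        exact Ideal.add_mem _ (Ideal.mul_mem_left _ c hb) (Ideal.mul_mem_mul hq hϖJ)
    have hL : (s.prod).map (Ideal.Quotient.mk P) =
        (Q * s.prod).map (Ideal.Quotient.mk P) ⊔ Ideal.span {Ideal.Quotient.mk P ϖ} := by
      conv_lhs => rw [← sup_span_eq Q s.prod hQmax hJ ϖ hϖJ hϖn]
      rw [Ideal.map_sup, Ideal.map_span, Set.image_singleton]
    rw [Multiset.prod_cons, Multiset.map_cons, Multiset.sum_cons, ← ih hsmax hPJ]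
    exact trace_quot_eq_add (Ideal.Quotient.mk P ϖ) _ _ _ hK hL x

end Step3

section Main

universe u

theorem trace_quotQuot {A B : Type*} [CommRing A] [CommRing B] [Algebra A B]
    (p : Ideal A) [p.IsMaximal] (Q : Ideal B) [Q.LiesOver p]
    (hPQ : p.map (algebraMap A B) ≤ Q) (y : B) :
    Algebra.trace (A ⧸ p)
        ((B ⧸ p.map (algebraMap A B)) ⧸ Q.map (Ideal.Quotient.mk (p.map (algebraMap A B))))
        (Ideal.Quotient.mk _ (Ideal.Quotient.mk _ y)) =
      Algebra.trace (A ⧸ p) (B ⧸ Q) (Ideal.Quotient.mk Q y) := by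
  have h := Algebra.trace_eq_of_equiv_equiv (RingEquiv.refl (A ⧸ p))
    (DoubleQuot.quotQuotEquivQuotOfLE hPQ)
    (Ideal.Quotient.ringHom_ext (RingHom.ext fun a => rfl))
    (Ideal.Quotient.mk (Q.map (Ideal.Quotient.mk (p.map (algebraMap A B))))
      (Ideal.Quotient.mk (p.map (algebraMap A B)) y))
  exact h

theorem main (A B : Type u) [CommRing A] [CommRing B]
    [IsDedekindDomain A] [IsDedekindDomain B] [Algebra A B] [Module.Finite A B]
    [Module.IsTorsionFree A B]
    (p : Ideal A) [p.IsMaximal] (hp : p ≠ ⊥) (y : B) :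
    Ideal.Quotient.mk p (Algebra.intTrace A B y) =
      ∑ᶠ Q : p.primesOver B,
        Q.1.ramificationIdx A •
          Algebra.trace (A ⧸ p) (B ⧸ Q.1) (Ideal.Quotient.mk Q.1 y) := by
  classical
  letI : Field (A ⧸ p) := Ideal.Quotient.field p
  have hP0 : p.map (algebraMap A B) ≠ ⊥ := Ideal.map_ne_bot_of_ne_bot hp
  haveI : Module.Finite A (B ⧸ p.map (algebraMap A B)) :=
    Module.Finite.of_surjective (Ideal.Quotient.mkₐ A (p.map (algebraMap A B))).toLinearMap
      Ideal.Quotient.mk_surjective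
  haveI : Module.Finite (A ⧸ p) (B ⧸ p.map (algebraMap A B)) :=
    Module.Finite.of_restrictScalars_finite A (A ⧸ p) (B ⧸ p.map (algebraMap A B))
  have hs : ∀ Q ∈ normalizedFactors (p.map (algebraMap A B)), Q.IsMaximal := fun Q hQ => by
    have hprime := prime_of_normalized_factor Q hQ
    exact (Ideal.isPrime_of_prime hprime).isMaximal hprime.ne_zero
  have hprod := Ideal.prod_normalizedFactors_eq_self hP0
  have hmem : ∀ Q : Ideal B,
      Q ∈ (normalizedFactors (p.map (algebraMap A B))).toFinset ↔ Q ∈ p.primesOver B :=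
    fun Q => by
      rw [Multiset.mem_toFinset]
      exact (Ideal.mem_primesOver_iff_mem_normalizedFactors B hp).symm
  have key := trace_prod (k := A ⧸ p) (p.map (algebraMap A B)) hP0
    (Ideal.Quotient.mk (p.map (algebraMap A B)) y)
    (normalizedFactors (p.map (algebraMap A B))) hs (le_of_eq hprod.symm)
  have hbot : ((normalizedFactors (p.map (algebraMap A B))).prod).map
      (Ideal.Quotient.mk (p.map (algebraMap A B))) = ⊥ := by
    rw [hprod, Ideal.map_quotient_self]
  have e0 : Ideal.Quotient.mk p (Algebra.intTrace A B y) =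
      Algebra.trace (A ⧸ p) (B ⧸ p.map (algebraMap A B))
        (Ideal.Quotient.mk (p.map (algebraMap A B)) y) :=
    (Algebra.trace_quotient_eq_of_isDedekindDomain (S := B) (p := p) (x := y)).symm
  have e1 := trace_quot_bot (k := A ⧸ p) _ hbot (Ideal.Quotient.mk (p.map (algebraMap A B)) y)
  have e3 := Finset.sum_multiset_map_count (normalizedFactors (p.map (algebraMap A B)))
    (fun Q : Ideal B =>
          Algebra.trace (A ⧸ p) ((B ⧸ p.map (algebraMap A B)) ⧸
            Q.map (Ideal.Quotient.mk (p.map (algebraMap A B))))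
            (Ideal.Quotient.mk _ (Ideal.Quotient.mk (p.map (algebraMap A B)) y)))
  obtain ⟨g, hg⟩ : ∃ g : Ideal B → A ⧸ p, ∀ (Q : Ideal B) [Q.LiesOver p],
      Q ∈ p.primesOver B → g Q = Q.ramificationIdx A •
        Algebra.trace (A ⧸ p) (B ⧸ Q) (Ideal.Quotient.mk Q y) :=
    ⟨fun Q => if h : Q ∈ p.primesOver B then
        (haveI : Q.LiesOver p := h.2
         Q.ramificationIdx A • Algebra.trace (A ⧸ p) (B ⧸ Q) (Ideal.Quotient.mk Q y))
      else 0, fun Q _ h => dif_pos h⟩
  have e4 : ∑ Q ∈ (normalizedFactors (p.map (algebraMap A B))).toFinset,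
      (normalizedFactors (p.map (algebraMap A B))).count Q •
        Algebra.trace (A ⧸ p) ((B ⧸ p.map (algebraMap A B)) ⧸
            Q.map (Ideal.Quotient.mk (p.map (algebraMap A B))))
            (Ideal.Quotient.mk _ (Ideal.Quotient.mk (p.map (algebraMap A B)) y)) =
      ∑ Q ∈ (normalizedFactors (p.map (algebraMap A B))).toFinset, g Q := by
    refine Finset.sum_congr rfl fun Q hQmem => ?_
    have hQ : Q ∈ p.primesOver B := (hmem Q).mp hQmem
    haveI : Q.LiesOver p := hQ.2
    have hPQ : p.map (algebraMap A B) ≤ Q := Ideal.map_le_of_le_comap (Q.over_def p).le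
    have h1 := trace_quotQuot p Q hPQ y
    have h2 := Ideal.IsDedekindDomain.ramificationIdx_eq_normalizedFactors_count p Q hP0
    rw [hg Q hQ, h2]
    exact congrArg (fun t => (normalizedFactors (p.map (algebraMap A B))).count Q • t) h1
  have e5 : ∑ Q ∈ (normalizedFactors (p.map (algebraMap A B))).toFinset, g Q =
      ∑ Q : p.primesOver B, g Q.1 :=
    Finset.sum_subtype (normalizedFactors (p.map (algebraMap A B))).toFinset hmem g
  have e6 : (∑ᶠ Q : p.primesOver B,
        Q.1.ramificationIdx A •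
          Algebra.trace (A ⧸ p) (B ⧸ Q.1) (Ideal.Quotient.mk Q.1 y)) =
      ∑ Q : p.primesOver B, g Q.1 := by
    rw [finsum_eq_sum_of_fintype]
    exact Finset.sum_congr rfl fun Q _ => (hg Q.1 Q.2).symm
  exact e0.trans (e1.symm.trans (key.trans (e3.trans (e4.trans (e5.trans e6.symm)))))

end Main

end Groth.Agent.H86.TraceRes
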