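import Mathlib
import Groth.Agent.H45.ResTrdegAlg

/-!
# Helper library (helper86): amalgamating two field extensions keeping a transcendence basis free

Pure field theory used for S7287.  Given `k ⊆ K` with transcendence basis `B`, extensions
`k ⊆ k₁`, `k ⊆ k₂` and composita `K₁ ⊇ K, k₁`, `K₂ = K·k₂` in which `B` stays algebraically
independent over `k₁` resp. `k₂`, there is a field `Ω` receiving `K₁` and `K₂` compatibly over `K`
such that `B` stays algebraically independent over every field generated by `k₁` and `k₂` in `Ω`.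
-/

set_option autoImplicit false
set_option linter.style.haveILetI false
universe u
open Algebra

namespace Groth.Agent.H86.TrdegAmalg

/-- Quotients of elements of the subring generated by algebraic elements are algebraic. -/
theorem isAlgebraic_of_frac_closure {P A : Type*} [CommRing P] [IsDomain P] [Field A] [Algebra P A]
    (S : Set A) (hS : ∀ s ∈ S, IsAlgebraic P s) (a : A)
    (ha : ∃ u v : A, u ∈ Subring.closure S ∧ v ∈ Subring.closure S ∧ v ≠ 0 ∧ v * a = u) :
    IsAlgebraic P a := by
  have hle : Subring.closure S ≤ (Subalgebra.algebraicClosure P A).toSubring :=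
    Subring.closure_le.mpr (fun s hs => hS s hs)
  obtain ⟨u, v, hu, hv, hv0, huv⟩ := ha
  have hu' : IsAlgebraic P u := hle hu
  have hv' : IsAlgebraic P v := hle hv
  have h : a = u * v⁻¹ := by
    rw [eq_mul_inv_iff_mul_eq₀ hv0, mul_comm]
    exact huv
  rw [h]
  exact hu'.mul hv'.inv

/-- Transport of algebraicity over `adjoin R (range x)` along a commutative square. -/
theorem isAlgebraic_adjoin_map {R A R' B : Type*} [CommRing R] [CommRing A] [CommRing R']
    [CommRing B] [Algebra R A] [Algebra R' B] (g : A →+* B) (hg : Function.Injective g)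
    (d : R →+* R') (hcomm : g.comp (algebraMap R A) = (algebraMap R' B).comp d)
    {ι : Type*} (x : ι → A) (a : A) (ha : IsAlgebraic (adjoin R (Set.range x)) a) :
    IsAlgebraic (adjoin R' (Set.range (g ∘ x))) (g a) := by
  have hmem : ∀ w ∈ adjoin R (Set.range x), g w ∈ adjoin R' (Set.range (g ∘ x)) := by
    intro w hw
    induction hw using Algebra.adjoin_induction with
    | mem y hy =>
      obtain ⟨j, rfl⟩ := hy
      exact Algebra.subset_adjoin ⟨j, rfl⟩
    | algebraMap r =>
      have h1 : g (algebraMap R A r) = algebraMap R' B (d r) := RingHom.congr_fun hcomm r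
      rw [h1]
      exact Subalgebra.algebraMap_mem _ _
    | add y z _ _ hy hz =>
      rw [map_add]
      exact add_mem hy hz
    | mul y z _ _ hy hz =>
      rw [map_mul]
      exact mul_mem hy hz
  let f : adjoin R (Set.range x) →+* adjoin R' (Set.range (g ∘ x)) :=
    (g.comp (algebraMap (adjoin R (Set.range x)) A)).codRestrict _ (fun w => hmem w w.2)
  have hf : Function.Injective f := by
    intro w1 w2 h
    have h' : g (w1 : A) = g (w2 : A) := congrArg Subtype.val h
    exact Subtype.ext (hg h')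
  exact ha.ringHom_of_comp_eq f g hf (RingHom.ext fun w => rfl)

/-- If `x ⊔ y` is algebraically independent over `R` and a field `M` maps into the algebraic
closure of `R[y]`, then `x` is algebraically independent over `M`. -/
theorem algebraicIndependent_of_sum {R A M : Type*} [Field R] [Field A] [Algebra R A] [Field M]
    [Algebra M A] {ι ι' : Type*} (x : ι → A) (y : ι' → A)
    (hxy : AlgebraicIndependent R (Sum.elim x y))
    (hμ : ∀ m : M, IsAlgebraic (adjoin R (Set.range y)) (algebraMap M A m)) :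
    AlgebraicIndependent M x := by
  have h1 : AlgebraicIndependent (adjoin R (Set.range y)) x :=
    (AlgebraicIndependent.sumElim_iff.mp hxy).2
  have h2 : AlgebraicIndependent (Subalgebra.algebraicClosure (adjoin R (Set.range y)) A) x :=
    h1.subalgebraAlgebraicClosure
  let f : M →+* Subalgebra.algebraicClosure (adjoin R (Set.range y)) A :=
    (algebraMap M A).codRestrict (Subalgebra.algebraicClosure (adjoin R (Set.range y)) A)
      (fun m => hμ m)
  have hf : Function.Injective f := RingHom.injective f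
  refine AlgebraicIndependent.of_ringHom_of_comp_eq f (RingHom.id A) ?_ hf
    (RingHom.ext fun m => rfl)
  exact h2

section TB

variable {k K k2 K2 : Type u} [Field k] [Field K] [Field k2] [Field K2]
  [Algebra k K] [Algebra k k2] [Algebra k2 K2] [Algebra K K2] [Algebra k K2]
  [IsScalarTower k k2 K2] [IsScalarTower k K K2]

/-- A transcendence basis of `k₂/k` becomes a transcendence basis of `K₂ = K·k₂` over `K`, provided
a transcendence basis of `K/k` stays independent over `k₂`. -/
theorem isTranscendenceBasis_comp {β τ : Type u} (xb : β → K) (T2 : τ → k2)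
    (hxb : IsTranscendenceBasis k xb) (hT2 : IsTranscendenceBasis k T2)
    (h2 : AlgebraicIndependent k2 (algebraMap K K2 ∘ xb))
    (hgen : ∀ s : K2, ∃ u v : K2,
      u ∈ Subring.closure (Set.range (algebraMap K K2) ∪ Set.range (algebraMap k2 K2)) ∧
      v ∈ Subring.closure (Set.range (algebraMap K K2) ∪ Set.range (algebraMap k2 K2)) ∧
      v ≠ 0 ∧ v * s = u) :
    IsTranscendenceBasis K (algebraMap k2 K2 ∘ T2) := by
  have hsum : AlgebraicIndependent k
      (Sum.elim (algebraMap K K2 ∘ xb) (algebraMap k2 K2 ∘ T2)) :=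
    AlgebraicIndependent.sumElim_comp hT2.1 h2
  have hfun : Sum.elim (algebraMap k2 K2 ∘ T2) (algebraMap K K2 ∘ xb) =
      (Sum.elim (algebraMap K K2 ∘ xb) (algebraMap k2 K2 ∘ T2)) ∘ Sum.swap := by
    funext j
    cases j <;> rfl
  have hswap : AlgebraicIndependent k
      (Sum.elim (algebraMap k2 K2 ∘ T2) (algebraMap K K2 ∘ xb)) := by
    rw [hfun]
    exact hsum.comp Sum.swap Sum.swap_leftInverse.injective
  have hind : AlgebraicIndependent K (algebraMap k2 K2 ∘ T2) := by
    refine algebraicIndependent_of_sum (R := k) _ (algebraMap K K2 ∘ xb) hswap ?_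
    intro κ
    exact isAlgebraic_adjoin_map (algebraMap K K2) (algebraMap K K2).injective (RingHom.id k)
      (RingHom.ext fun r => (IsScalarTower.algebraMap_apply k K K2 r).symm) xb κ
      (hxb.isAlgebraic.isAlgebraic κ)
  rw [hind.isTranscendenceBasis_iff_isAlgebraic]
  refine ⟨fun s => isAlgebraic_of_frac_closure _ ?_ s (hgen s)⟩
  rintro _ (⟨κ, rfl⟩ | ⟨c, rfl⟩)
  · exact isAlgebraic_algebraMap (R := adjoin K (Set.range (algebraMap k2 K2 ∘ T2)))
      (⟨algebraMap K K2 κ, Subalgebra.algebraMap_mem _ κ⟩ :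
        adjoin K (Set.range (algebraMap k2 K2 ∘ T2)))
  · exact isAlgebraic_adjoin_map (algebraMap k2 K2) (algebraMap k2 K2).injective (algebraMap k K)
      (RingHom.ext fun r => (IsScalarTower.algebraMap_apply k k2 K2 r).symm.trans
        (IsScalarTower.algebraMap_apply k K K2 r)) T2 c
      (hT2.isAlgebraic.isAlgebraic c)

end TB

/-- If `K₁` is generated by `K` and `k₁`, and `trdeg(K₁/k₁) = trdeg(K/k)` is finite, then a
transcendence basis of `K/k` stays algebraically independent over `k₁`. -/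
theorem algebraicIndependent_of_trdeg_eq {k K k1 K1 : Type u} [Field k] [Field K] [Field k1]
    [Field K1] [Algebra k K] [Algebra k1 K1] (c1 : K →+* K1) (a1 : k →+* k1)
    (hcomm : c1.comp (algebraMap k K) = (algebraMap k1 K1).comp a1)
    {β : Type u} [Finite β] (xb : β → K) (hxb : IsTranscendenceBasis k xb)
    (hgen : ∀ s : K1, ∃ u v : K1,
      u ∈ Subring.closure (Set.range c1 ∪ Set.range (algebraMap k1 K1)) ∧
      v ∈ Subring.closure (Set.range c1 ∪ Set.range (algebraMap k1 K1)) ∧ v ≠ 0 ∧ v * s = u)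
    (htr : Algebra.trdeg k1 K1 = Cardinal.mk β) :
    AlgebraicIndependent k1 (c1 ∘ xb) := by
  haveI halg : Algebra.IsAlgebraic (adjoin k1 (Set.range (c1 ∘ xb))) K1 := by
    refine ⟨fun s => isAlgebraic_of_frac_closure _ ?_ s (hgen s)⟩
    rintro _ (⟨κ, rfl⟩ | ⟨c, rfl⟩)
    · exact isAlgebraic_adjoin_map c1 c1.injective a1 hcomm xb κ (hxb.isAlgebraic.isAlgebraic κ)
    · exact isAlgebraic_algebraMap (R := adjoin k1 (Set.range (c1 ∘ xb)))
        (⟨algebraMap k1 K1 c, Subalgebra.algebraMap_mem _ c⟩ : adjoin k1 (Set.range (c1 ∘ xb)))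
  obtain ⟨u, hut, hu⟩ := exists_isTranscendenceBasis_subset (R := k1) (Set.range (c1 ∘ xb))
  have hcard : Cardinal.mk u = Cardinal.mk β := hu.cardinalMk_eq_trdeg.trans htr
  haveI hfin_t : Finite (Set.range (c1 ∘ xb)) := (Set.finite_range (c1 ∘ xb)).to_subtype
  have hncard : Nat.card u = Nat.card β := congrArg Cardinal.toNat hcard
  have he : Function.Surjective (Set.rangeFactorization (c1 ∘ xb)) :=
    Set.rangeFactorization_surjective
  have hc1 : Nat.card u ≤ Nat.card (Set.range (c1 ∘ xb)) :=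
    Nat.card_le_card_of_injective (Set.inclusion hut) (Set.inclusion_injective hut)
  have hc2 : Nat.card (Set.range (c1 ∘ xb)) ≤ Nat.card β :=
    Nat.card_le_card_of_surjective _ he
  have hebij : Function.Bijective (Set.rangeFactorization (c1 ∘ xb)) :=
    he.bijective_of_nat_card_le (by omega)
  have hincl : Function.Bijective (Set.inclusion hut) :=
    (Set.inclusion_injective hut).bijective_of_nat_card_le (by omega)
  have hut' : u = Set.range (c1 ∘ xb) := by
    apply Set.Subset.antisymm hut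
    intro y hy
    obtain ⟨⟨w, hw⟩, hwy⟩ := hincl.2 ⟨y, hy⟩
    have hwy' : w = y := congrArg Subtype.val hwy
    exact hwy' ▸ hw
  subst hut'
  have hinj : Function.Injective (c1 ∘ xb) := by
    intro a b hab
    exact hebij.1 (Subtype.ext hab)
  exact (algebraicIndependent_subtype_range hinj).mp hu.1

/-- The amalgamation lemma. -/
theorem exists_amalgam {k K k1 k2 K1 K2 : Type u} [Field k] [Field K] [Field k1] [Field k2]
    [Field K1] [Field K2]
    (i : k →+* K) (a1 : k →+* k1) (a2 : k →+* k2) (b1 : k1 →+* K1) (c1 : K →+* K1)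
    (b2 : k2 →+* K2) (c2 : K →+* K2)
    (h1 : c1.comp i = b1.comp a1) (h2 : c2.comp i = b2.comp a2)
    {β : Type u} (xb : β → K)
    (hxb : letI := i.toAlgebra; IsTranscendenceBasis k xb)
    (hi1 : letI := b1.toAlgebra; AlgebraicIndependent k1 (c1 ∘ xb))
    (hi2 : letI := b2.toAlgebra; AlgebraicIndependent k2 (c2 ∘ xb))
    (hgen : ∀ s : K2, ∃ u v : K2, u ∈ Subring.closure (Set.range c2 ∪ Set.range b2) ∧
      v ∈ Subring.closure (Set.range c2 ∪ Set.range b2) ∧ v ≠ 0 ∧ v * s = u) :
    ∃ (Ω : Type u) (_ : Field Ω) (σ1 : K1 →+* Ω) (σ2 : K2 →+* Ω),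
      σ1.comp c1 = σ2.comp c2 ∧
      ∀ (M : Type u) [Field M] (μ : M →+* Ω),
        (∀ m : M, ∃ u v : Ω,
          u ∈ Subring.closure (Set.range (σ1.comp b1) ∪ Set.range (σ2.comp b2)) ∧
          v ∈ Subring.closure (Set.range (σ1.comp b1) ∪ Set.range (σ2.comp b2)) ∧
          v ≠ 0 ∧ v * μ m = u) →
        (letI := μ.toAlgebra; AlgebraicIndependent M (σ1 ∘ c1 ∘ xb)) := by
  letI algkK : Algebra k K := i.toAlgebra
  letI algkk2 : Algebra k k2 := a2.toAlgebra
  letI algk2K2 : Algebra k2 K2 := b2.toAlgebra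
  letI algKK2 : Algebra K K2 := c2.toAlgebra
  letI algkK2 : Algebra k K2 := (c2.comp i).toAlgebra
  haveI tw1 : IsScalarTower k K K2 := IsScalarTower.of_algebraMap_eq (fun x => rfl)
  haveI tw2 : IsScalarTower k k2 K2 :=
    IsScalarTower.of_algebraMap_eq (fun x => RingHom.congr_fun h2 x)
  obtain ⟨τ, T2, hT2⟩ := exists_isTranscendenceBasis' k (A := k2)
  have hTB : IsTranscendenceBasis K (algebraMap k2 K2 ∘ T2) :=
    isTranscendenceBasis_comp xb T2 hxb hT2 hi2 hgen
  obtain ⟨Ω, hΩ, α, βΩ, hαβ, hind⟩ :=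
    Groth.Agent.H45.ResTrdegAlg.exists_field_compositum c1 (algebraMap k2 K2 ∘ T2) hTB
  refine ⟨Ω, hΩ, βΩ, α, hαβ.symm, ?_⟩
  intro M _ μ hμ
  letI algk1K1 : Algebra k1 K1 := b1.toAlgebra
  letI algK1Ω : Algebra K1 Ω := βΩ.toAlgebra
  letI algk1Ω : Algebra k1 Ω := (βΩ.comp b1).toAlgebra
  haveI tw3 : IsScalarTower k1 K1 Ω := IsScalarTower.of_algebraMap_eq (fun x => rfl)
  letI algMΩ : Algebra M Ω := μ.toAlgebra
  have hsum : AlgebraicIndependent k1
      (Sum.elim (α ∘ (algebraMap k2 K2 ∘ T2)) (algebraMap K1 Ω ∘ (c1 ∘ xb))) :=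
    AlgebraicIndependent.sumElim_comp hi1 hind
  have hfun : Sum.elim (βΩ ∘ c1 ∘ xb) (α ∘ (algebraMap k2 K2 ∘ T2)) =
      (Sum.elim (α ∘ (algebraMap k2 K2 ∘ T2)) (algebraMap K1 Ω ∘ (c1 ∘ xb))) ∘ Sum.swap := by
    funext j
    cases j <;> rfl
  have hswap : AlgebraicIndependent k1
      (Sum.elim (βΩ ∘ c1 ∘ xb) (α ∘ (algebraMap k2 K2 ∘ T2))) := by
    rw [hfun]
    exact hsum.comp Sum.swap Sum.swap_leftInverse.injective
  show AlgebraicIndependent M (βΩ ∘ c1 ∘ xb)
  refine algebraicIndependent_of_sum (R := k1) _ (α ∘ (algebraMap k2 K2 ∘ T2)) hswap ?_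
  intro m
  refine isAlgebraic_of_frac_closure _ ?_ _ (hμ m)
  rintro _ (⟨c, rfl⟩ | ⟨c, rfl⟩)
  · exact isAlgebraic_algebraMap (R := adjoin k1 (Set.range (α ∘ (algebraMap k2 K2 ∘ T2))))
      (⟨algebraMap k1 Ω c, Subalgebra.algebraMap_mem _ c⟩ :
        adjoin k1 (Set.range (α ∘ (algebraMap k2 K2 ∘ T2))))
  · have hc : (α.comp b2).comp (algebraMap k k2) = (algebraMap k1 Ω).comp a1 := by
      ext r
      show α (b2 (a2 r)) = βΩ (b1 (a1 r))
      have e1 : b2 (a2 r) = c2 (i r) := (RingHom.congr_fun h2 r).symm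
      have e2 : α (c2 (i r)) = βΩ (c1 (i r)) := RingHom.congr_fun hαβ (i r)
      have e3 : c1 (i r) = b1 (a1 r) := RingHom.congr_fun h1 r
      rw [e1, e2, e3]
    exact isAlgebraic_adjoin_map (α.comp b2) (α.comp b2).injective a1 hc T2 c
      (hT2.isAlgebraic.isAlgebraic c)

end Groth.Agent.H86.TrdegAmalg
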