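import Mathlib
import Groth.Prelude.Def_Dual3
import Groth.Agent.H45.ResTrdeg
import Groth.Agent.H86.TrdegAmalg

/-!
# Helper library (helper86): points of maximal residue transcendence degree in `X ×_S S''`
(used for S7287)
-/

set_option autoImplicit false
set_option linter.style.haveILetI false
universe u
open AlgebraicGeometry CategoryTheory Limits Opposite

namespace Groth.Agent.H86.TrdegPoint

/-- Transport of elements of residue fields along an equality of composites. -/
theorem resMap_eq_of_comp_eq {A B C D : Scheme.{u}} (φ : A ⟶ B) (ψ : B ⟶ D) (φ' : A ⟶ C)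
    (ψ' : C ⟶ D) (e : φ ≫ ψ = φ' ≫ ψ') (a : A) (t : D.residueField (ψ.base (φ.base a))) :
    ∃ t' : D.residueField (ψ'.base (φ'.base a)),
      (φ.residueFieldMap a).hom ((ψ.residueFieldMap (φ.base a)).hom t) =
      (φ'.residueFieldMap a).hom ((ψ'.residueFieldMap (φ'.base a)).hom t') := by
  have key : ∀ (χ χ' : A ⟶ D) (_ : χ = χ') (t : D.residueField (χ.base a)),
      ∃ t' : D.residueField (χ'.base a),
        (χ.residueFieldMap a).hom t = (χ'.residueFieldMap a).hom t' := by
    rintro χ _ rfl t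
    exact ⟨t, rfl⟩
  obtain ⟨t', ht'⟩ := key (φ ≫ ψ) (φ' ≫ ψ') e t
  refine ⟨t', ?_⟩
  have h1 : ((φ ≫ ψ).residueFieldMap a).hom t =
      (φ.residueFieldMap a).hom ((ψ.residueFieldMap (φ.base a)).hom t) :=
    congrArg (fun m => m.hom t) (Scheme.residueFieldMap_comp φ ψ a)
  have h2 : ((φ' ≫ ψ').residueFieldMap a).hom t' =
      (φ'.residueFieldMap a).hom ((ψ'.residueFieldMap (φ'.base a)).hom t') :=
    congrArg (fun m => m.hom t') (Scheme.residueFieldMap_comp φ' ψ' a)
  exact h1.symm.trans (ht'.trans h2)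

section Maps

variable {X S S' X' : Scheme.{u}}

/-- `κ(x) → κ(x')` for `x'` over `x`. -/
noncomputable def cMap (g' : X' ⟶ X) (x : X) (x' : X') (h : g'.base x' = x) :
    X.residueField x →+* X'.residueField x' :=
  ((X.residueFieldCongr h.symm).hom ≫ g'.residueFieldMap x').hom

/-- `κ(s) → κ(s')` for `s'` over `s`. -/
noncomputable def aMap (g : S' ⟶ S) (s : S) (s' : S') (hw : s = g.base s') :
    S.residueField s →+* S'.residueField s' :=
  ((S.residueFieldCongr hw).hom ≫ g.residueFieldMap s').hom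

theorem cMap_rfl (g' : X' ⟶ X) (x' : X') (t : X.residueField (g'.base x')) :
    cMap g' (g'.base x') x' rfl t = (g'.residueFieldMap x').hom t := by
  simp [cMap]

variable {f : X ⟶ S} {g : S' ⟶ S} {f' : X' ⟶ S'} {g' : X' ⟶ X}

theorem comm_sq (hX : IsPullback g' f' f g) (x : X) (x' : X') (h : g'.base x' = x)
    (hw : f.base x = g.base (f'.base x')) :
    (cMap g' x x' h).comp (f.residueFieldMap x).hom =
      (f'.residueFieldMap x').hom.comp (aMap g (f.base x) (f'.base x') hw) := by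
  subst h
  have e1 : f.residueFieldMap (g'.base x') ≫ g'.residueFieldMap x' =
      ((S.residueFieldCongr hw).hom ≫ g.residueFieldMap (f'.base x')) ≫
        f'.residueFieldMap x' := by
    rw [← Scheme.residueFieldMap_comp, Scheme.Hom.residueFieldMap_congr hX.w,
      Scheme.residueFieldMap_comp, Category.assoc]
    rfl
  ext t
  have h3 := congrArg (fun m => m.hom t) e1
  show cMap g' (g'.base x') x' rfl ((f.residueFieldMap (g'.base x')).hom t) = _
  rw [cMap_rfl]
  exact h3

theorem gen_cMap (hX : IsPullback g' f' f g) (x : X) (x' : X') (h : g'.base x' = x)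
    (s : X'.residueField x') :
    ∃ u v : X'.residueField x',
      u ∈ Subring.closure (Set.range (cMap g' x x' h) ∪ Set.range (f'.residueFieldMap x').hom) ∧
      v ∈ Subring.closure (Set.range (cMap g' x x' h) ∪ Set.range (f'.residueFieldMap x').hom) ∧
      v ≠ 0 ∧ v * s = u := by
  subst h
  obtain ⟨u, v, hu, hv, hv0, hvs⟩ :=
    Groth.Agent.H45.ResTrdeg.residueField_generated_of_isPullback hX x' s
  have hmono : Subring.closure (Set.range (g'.residueFieldMap x').hom ∪
      Set.range (f'.residueFieldMap x').hom) ≤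
      Subring.closure (Set.range (cMap g' (g'.base x') x' rfl) ∪
        Set.range (f'.residueFieldMap x').hom) :=
    Subring.closure_mono (Set.union_subset_union_left _
      (by rintro _ ⟨t, rfl⟩; exact ⟨t, cMap_rfl g' x' t⟩))
  exact ⟨u, v, hmono hu, hmono hv, hv0, hvs⟩

theorem indep_of_trdeg (hX : IsPullback g' f' f g) (x : X) (x' : X') (h : g'.base x' = x)
    (hw : f.base x = g.base (f'.base x'))
    {β : Type u} [Finite β] (xb : β → X.residueField x)
    (hxb : letI := (f.residueFieldMap x).hom.toAlgebra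
      IsTranscendenceBasis (S.residueField (f.base x)) xb)
    (htr : Dual3.resTrdeg f' x' = Cardinal.mk β) :
    letI := (f'.residueFieldMap x').hom.toAlgebra
    AlgebraicIndependent (S'.residueField (f'.base x')) (cMap g' x x' h ∘ xb) := by
  letI alg0 : Algebra (S.residueField (f.base x)) (X.residueField x) :=
    (f.residueFieldMap x).hom.toAlgebra
  letI alg1 : Algebra (S'.residueField (f'.base x')) (X'.residueField x') :=
    (f'.residueFieldMap x').hom.toAlgebra
  show AlgebraicIndependent (S'.residueField (f'.base x')) (cMap g' x x' h ∘ xb)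
  refine Groth.Agent.H86.TrdegAmalg.algebraicIndependent_of_trdeg_eq (cMap g' x x' h)
    (aMap g (f.base x) (f'.base x') hw) (comm_sq hX x x' h hw) xb hxb ?_ htr
  intro s
  exact gen_cMap hX x x' h s

/-- `Spec Ω → X' → X` factors through `Spec κ(x)`. -/
theorem spec_comp_eq (g' : X' ⟶ X) (x : X) (x' : X') (h : g'.base x' = x) {R : CommRingCat.{u}}
    (γ : X'.residueField x' ⟶ R) :
    (Spec.map γ ≫ X'.fromSpecResidueField x') ≫ g' =
      Spec.map (((X.residueFieldCongr h.symm).hom ≫ g'.residueFieldMap x') ≫ γ) ≫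
        X.fromSpecResidueField x := by
  subst h
  have e0 : ((X.residueFieldCongr (Eq.symm (rfl : g'.base x' = g'.base x'))).hom ≫
      g'.residueFieldMap x') = g'.residueFieldMap x' := by
    simp
  rw [e0, Spec.map_comp, Category.assoc, Category.assoc,
    Scheme.Hom.SpecMap_residueFieldMap_fromSpecResidueField]

end Maps

/-- From an amalgam field to a point of `X''`. -/
theorem exists_point_of_field {X S S' S'' X' X'' : Scheme.{u}} (f : X ⟶ S) (g : S' ⟶ S)
    (p q : S'' ⟶ S') (hS : IsPullback p q g g)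
    (f' : X' ⟶ S') (g' : X' ⟶ X) (hX : IsPullback g' f' f g)
    (f'' : X'' ⟶ S'') (p' q' : X'' ⟶ X') (hp : IsPullback p' f'' f' p)
    (hq : IsPullback q' f'' f' q) (hpq : p' ≫ g' = q' ≫ g')
    (x : X) (x₁ x₂ : X') (h₁ : g'.base x₁ = x) (h₂ : g'.base x₂ = x)
    (Ω : Type u) [Field Ω] (σ1 : X'.residueField x₁ →+* Ω) (σ2 : X'.residueField x₂ →+* Ω)
    (hσ : σ1.comp (cMap g' x x₁ h₁) = σ2.comp (cMap g' x x₂ h₂)) :
    ∃ (z : X'') (ρ : X''.residueField z ⟶ CommRingCat.of Ω) (e₁ : p'.base z = x₁)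
      (e₂ : q'.base z = x₂),
      p'.residueFieldMap z ≫ ρ = (X'.residueFieldCongr e₁).hom ≫ CommRingCat.ofHom σ1 ∧
      q'.residueFieldMap z ≫ ρ = (X'.residueFieldCongr e₂).hom ≫ CommRingCat.ofHom σ2 := by
  let αC : X'.residueField x₁ ⟶ CommRingCat.of Ω := CommRingCat.ofHom σ1
  let βC : X'.residueField x₂ ⟶ CommRingCat.of Ω := CommRingCat.ofHom σ2
  let a₁ : Spec (CommRingCat.of Ω) ⟶ X' := Spec.map αC ≫ X'.fromSpecResidueField x₁
  let a₂ : Spec (CommRingCat.of Ω) ⟶ X' := Spec.map βC ≫ X'.fromSpecResidueField x₂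
  have hcC : ((X.residueFieldCongr h₁.symm).hom ≫ g'.residueFieldMap x₁) ≫ αC =
      ((X.residueFieldCongr h₂.symm).hom ≫ g'.residueFieldMap x₂) ≫ βC := by
    ext t
    exact RingHom.congr_fun hσ t
  have hcompat : a₁ ≫ g' = a₂ ≫ g' := by
    show (Spec.map αC ≫ X'.fromSpecResidueField x₁) ≫ g' =
      (Spec.map βC ≫ X'.fromSpecResidueField x₂) ≫ g'
    rw [spec_comp_eq g' x x₁ h₁ αC, spec_comp_eq g' x x₂ h₂ βC, hcC]
  have hv : (a₁ ≫ f') ≫ g = (a₂ ≫ f') ≫ g := by
    calc (a₁ ≫ f') ≫ g = a₁ ≫ (f' ≫ g) := Category.assoc _ _ _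
      _ = a₁ ≫ (g' ≫ f) := by rw [hX.w]
      _ = (a₁ ≫ g') ≫ f := (Category.assoc _ _ _).symm
      _ = (a₂ ≫ g') ≫ f := by rw [hcompat]
      _ = a₂ ≫ (g' ≫ f) := Category.assoc _ _ _
      _ = a₂ ≫ (f' ≫ g) := by rw [hX.w]
      _ = (a₂ ≫ f') ≫ g := (Category.assoc _ _ _).symm
  let v : Spec (CommRingCat.of Ω) ⟶ S'' := hS.lift (a₁ ≫ f') (a₂ ≫ f') hv
  have hv1 : v ≫ p = a₁ ≫ f' := hS.lift_fst _ _ _
  have hv2 : v ≫ q = a₂ ≫ f' := hS.lift_snd _ _ _
  let u : Spec (CommRingCat.of Ω) ⟶ X'' := hq.lift a₂ v hv2.symm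
  have hu2 : u ≫ q' = a₂ := hq.lift_fst _ _ _
  have hu3 : u ≫ f'' = v := hq.lift_snd _ _ _
  have hu1 : u ≫ p' = a₁ := by
    apply hX.hom_ext
    · calc (u ≫ p') ≫ g' = u ≫ (p' ≫ g') := Category.assoc _ _ _
        _ = u ≫ (q' ≫ g') := by rw [hpq]
        _ = (u ≫ q') ≫ g' := (Category.assoc _ _ _).symm
        _ = a₂ ≫ g' := by rw [hu2]
        _ = a₁ ≫ g' := hcompat.symm
    · calc (u ≫ p') ≫ f' = u ≫ (p' ≫ f') := Category.assoc _ _ _
        _ = u ≫ (f'' ≫ p) := by rw [hp.w]
        _ = (u ≫ f'') ≫ p := (Category.assoc _ _ _).symm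
        _ = v ≫ p := by rw [hu3]
        _ = a₁ ≫ f' := hv1
  obtain ⟨e₁, he₁⟩ := Groth.Agent.H45.ResTrdeg.specPt (u ≫ p') x₁ αC hu1
  obtain ⟨e₂, he₂⟩ := Groth.Agent.H45.ResTrdeg.specPt (u ≫ q') x₂ βC hu2
  refine ⟨u.base (IsLocalRing.closedPoint Ω),
    X''.descResidueField (Scheme.stalkClosedPointTo u), e₁, e₂, ?_, ?_⟩
  · exact (Scheme.descResidueField_stalkClosedPointTo_comp p' u).symm.trans he₁
  · exact (Scheme.descResidueField_stalkClosedPointTo_comp q' u).symm.trans he₂

/-- Main theorem (S7287). -/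
theorem main {X S S' S'' X' X'' : Scheme.{u}}
    (f : X ⟶ S) (r : ℕ) (g : S' ⟶ S)
    (p q : S'' ⟶ S') (hS : IsPullback p q g g)
    (f' : X' ⟶ S') (g' : X' ⟶ X) (hX : IsPullback g' f' f g)
    (f'' : X'' ⟶ S'') (p' q' : X'' ⟶ X') (hp : IsPullback p' f'' f' p)
    (hq : IsPullback q' f'' f' q) (hpq : p' ≫ g' = q' ≫ g')
    (x : ↥X) (hx : Dual3.resTrdeg f x = r)
    (x₁ x₂ : ↥X') (h₁ : g'.base x₁ = x) (h₂ : g'.base x₂ = x)
    (hx₁ : Dual3.resTrdeg f' x₁ = r) (hx₂ : Dual3.resTrdeg f' x₂ = r) :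
    ∃ x'' : ↥X'', Dual3.resTrdeg f'' x'' = r ∧ p'.base x'' = x₁ ∧ q'.base x'' = x₂ := by
  letI algx : Algebra (S.residueField (f.base x)) (X.residueField x) :=
    (f.residueFieldMap x).hom.toAlgebra
  obtain ⟨β, xb, hxb⟩ := exists_isTranscendenceBasis' (S.residueField (f.base x))
    (A := X.residueField x)
  have hcardβ : Cardinal.mk β = (r : Cardinal) := hxb.cardinalMk_eq_trdeg.trans hx
  haveI hfinβ : Finite β := Cardinal.lt_aleph0_iff_finite.mp (by
    rw [hcardβ]
    exact Cardinal.nat_lt_aleph0 r)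
  have hw₁ : f.base x = g.base (f'.base x₁) := by
    rw [← h₁]
    exact congrArg (fun m : X' ⟶ S => m.base x₁) hX.w
  have hw₂ : f.base x = g.base (f'.base x₂) := by
    rw [← h₂]
    exact congrArg (fun m : X' ⟶ S => m.base x₂) hX.w
  have hi1 := indep_of_trdeg hX x x₁ h₁ hw₁ xb hxb (hx₁.trans hcardβ.symm)
  have hi2 := indep_of_trdeg hX x x₂ h₂ hw₂ xb hxb (hx₂.trans hcardβ.symm)
  obtain ⟨Ω, hΩ, σ1, σ2, hσ, hM⟩ := Groth.Agent.H86.TrdegAmalg.exists_amalgam
    (f.residueFieldMap x).hom (aMap g (f.base x) (f'.base x₁) hw₁)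
    (aMap g (f.base x) (f'.base x₂) hw₂) (f'.residueFieldMap x₁).hom (cMap g' x x₁ h₁)
    (f'.residueFieldMap x₂).hom (cMap g' x x₂ h₂) (comm_sq hX x x₁ h₁ hw₁)
    (comm_sq hX x x₂ h₂ hw₂) xb hxb hi1 hi2 (gen_cMap hX x x₂ h₂)
  obtain ⟨z, ρ, e₁, e₂, hA, hB⟩ := exists_point_of_field f g p q hS f' g' hX f'' p' q' hp hq hpq
    x x₁ x₂ h₁ h₂ Ω σ1 σ2 hσ
  subst e₁
  subst e₂
  have hA0 : p'.residueFieldMap z ≫ ρ = CommRingCat.ofHom σ1 :=
    hA.trans (Category.id_comp (CommRingCat.ofHom σ1))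
  have hB0 : q'.residueFieldMap z ≫ ρ = CommRingCat.ofHom σ2 :=
    hB.trans (Category.id_comp (CommRingCat.ofHom σ2))
  have hA' : ∀ t, ρ.hom ((p'.residueFieldMap z).hom t) = σ1 t := fun t =>
    congrArg (fun m => m.hom t) hA0
  have hB' : ∀ t, ρ.hom ((q'.residueFieldMap z).hom t) = σ2 t := fun t =>
    congrArg (fun m => m.hom t) hB0
  letI algz : Algebra (S''.residueField (f''.base z)) (X''.residueField z) :=
    (f''.residueFieldMap z).hom.toAlgebra
  let μ : S''.residueField (f''.base z) →+* Ω := ρ.hom.comp (f''.residueFieldMap z).hom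
  have hind0 : (letI := μ.toAlgebra
      AlgebraicIndependent (S''.residueField (f''.base z))
        (σ1 ∘ cMap g' x (p'.base z) h₁ ∘ xb)) := by
    refine hM _ μ (fun m => ?_)
    obtain ⟨u', v', hu', hv', hv0, hvm⟩ :=
      Groth.Agent.H45.ResTrdeg.residueField_generated_of_isPullback hS (f''.base z) m
    have hle : Subring.closure (Set.range (p.residueFieldMap (f''.base z)).hom ∪
        Set.range (q.residueFieldMap (f''.base z)).hom) ≤
        (Subring.closure (Set.range (σ1.comp (f'.residueFieldMap (p'.base z)).hom) ∪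
          Set.range (σ2.comp (f'.residueFieldMap (q'.base z)).hom))).comap μ := by
      rw [Subring.closure_le]
      rintro _ (⟨t, rfl⟩ | ⟨t, rfl⟩)
      · obtain ⟨t', ht'⟩ := resMap_eq_of_comp_eq f'' p p' f' hp.w.symm z t
        show μ ((p.residueFieldMap (f''.base z)).hom t) ∈ Subring.closure _
        apply Subring.subset_closure
        left
        refine ⟨t', ?_⟩
        show σ1 ((f'.residueFieldMap (p'.base z)).hom t') =
          ρ.hom ((f''.residueFieldMap z).hom ((p.residueFieldMap (f''.base z)).hom t))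
        rw [ht', hA']
      · obtain ⟨t', ht'⟩ := resMap_eq_of_comp_eq f'' q q' f' hq.w.symm z t
        show μ ((q.residueFieldMap (f''.base z)).hom t) ∈ Subring.closure _
        apply Subring.subset_closure
        right
        refine ⟨t', ?_⟩
        show σ2 ((f'.residueFieldMap (q'.base z)).hom t') =
          ρ.hom ((f''.residueFieldMap z).hom ((q.residueFieldMap (f''.base z)).hom t))
        rw [ht', hB']
    refine ⟨μ u', μ v', hle hu', hle hv', ?_, ?_⟩
    · intro h0
      exact hv0 (μ.injective (h0.trans (map_zero μ).symm))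
    · rw [← map_mul, hvm]
  let yb : β → X''.residueField z := fun j =>
    (p'.residueFieldMap z).hom (cMap g' x (p'.base z) h₁ (xb j))
  have hyb : ρ.hom ∘ yb = σ1 ∘ cMap g' x (p'.base z) h₁ ∘ xb := by
    funext j
    exact hA' _
  have hyind : AlgebraicIndependent (S''.residueField (f''.base z)) yb := by
    letI algΩ : Algebra (S''.residueField (f''.base z)) Ω := μ.toAlgebra
    refine AlgebraicIndependent.of_ringHom_of_comp_eq (RingHom.id _) ρ.hom ?_
      (fun a b hab => hab) (RingHom.ext fun _ => rfl)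
    rw [hyb]
    exact hind0
  have hge : (r : Cardinal) ≤
      Algebra.trdeg (S''.residueField (f''.base z)) (X''.residueField z) := by
    rw [← hcardβ]
    exact hyind.cardinalMk_le_trdeg
  have hle' : Algebra.trdeg (S''.residueField (f''.base z)) (X''.residueField z) ≤
      Dual3.resTrdeg f' (p'.base z) :=
    Groth.Agent.H45.ResTrdeg.trdeg_le_of_isPullback hp z
  refine ⟨z, ?_, rfl, rfl⟩
  show Algebra.trdeg (S''.residueField (f''.base z)) (X''.residueField z) = (r : Cardinal)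
  exact le_antisymm (hle'.trans (le_of_eq hx₁)) hge

end Groth.Agent.H86.TrdegPoint
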