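import Mathlib
import Groth.Agent.H86.ExtPres

/-!
# `Ext¹` of a two-generated submodule of a ring extension, abstractly
-/

namespace Groth.Agent.H86.TwoGenAbs

open CategoryTheory

universe u

variable {R C : Type u} [CommRing R] [CommRing C] [Module R C] (ι : R →+* C)
  (hι : ∀ (r : R) (f : C), r • f = ι r * f)
variable {M' N' : Type u} [AddCommGroup M'] [Module R M'] [AddCommGroup N'] [Module R N']

include hι in
theorem length_ext_twoGen_abs (hinj : Function.Injective ι)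
    (jM : M' →ₗ[R] C) (hjM : Function.Injective jM) (m₀ m₁ : M') (μ₀ μ₁ : C)
    (hm₀ : jM m₀ = μ₀) (hm₁ : jM m₁ = μ₁)
    (hgen : ∀ m : M', ∃ a b : R, m = a • m₀ + b • m₁)
    (hμ₀ : ∀ c : C, μ₀ * c = 0 → c = 0)
    (jN : N' →ₗ[R] C) (hjN : Function.Injective jN)
    (a₀ b₀ : R) (hκ₀ : ι a₀ * μ₀ + ι b₀ * μ₁ = 0) (hx₀ : ∀ c : C, ι b₀ * c = 0 → c = 0)
    (H W : Submodule R C)
    (hH : ∀ h, h ∈ H ↔ ∀ a b : R, ι a * μ₀ + ι b * μ₁ = 0 → ∃ ν : N', ι b * h = ι b₀ * jN ν)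
    (hW : ∀ w, w ∈ W ↔ ∃ n₀ n₁ : N', w = ι a₀ * jN n₀ + ι b₀ * jN n₁) :
    Module.length R (Abelian.Ext (ModuleCat.of R M') (ModuleCat.of R N') 1) =
      Module.length R (↥H ⧸ W.submoduleOf H) := by
  classical
  have cancel : ∀ c d : C, ι b₀ * c = ι b₀ * d → c = d := by
    intro c d h
    have : ι b₀ * (c - d) = 0 := by rw [mul_sub, h, sub_self]
    exact sub_eq_zero.mp (hx₀ _ this)
  let g : R × R →ₗ[R] M' :=
    (LinearMap.toSpanSingleton R M' m₀).coprod (LinearMap.toSpanSingleton R M' m₁)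
  have hg_apply : ∀ x : R × R, jM (g x) = ι x.1 * μ₀ + ι x.2 * μ₁ := by
    intro x
    simp only [g, LinearMap.coprod_apply, LinearMap.toSpanSingleton_apply, map_add, map_smul, hι,
      hm₀, hm₁]
  have hg_surj : Function.Surjective g := by
    intro m
    obtain ⟨a, b, rfl⟩ := hgen m
    refine ⟨(a, b), ?_⟩
    simp only [g, LinearMap.coprod_apply, LinearMap.toSpanSingleton_apply]
  let K : Submodule R (R × R) := LinearMap.ker g
  have K_spec : ∀ κ : ↥K, ι (κ : R × R).1 * μ₀ + ι (κ : R × R).2 * μ₁ = 0 := by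
    intro κ
    rw [← hg_apply, LinearMap.mem_ker.mp κ.2, map_zero]
  have K_mem : ∀ x : R × R, ι x.1 * μ₀ + ι x.2 * μ₁ = 0 → x ∈ K := by
    intro x hx
    show g x = 0
    apply hjM
    rw [hg_apply, hx, map_zero]
  let κ₀ : ↥K := ⟨(a₀, b₀), K_mem _ hκ₀⟩
  have hκ₀2 : ((κ₀ : ↥K) : R × R).2 = b₀ := rfl
  have hκ₀c : ((κ₀ : ↥K) : R × R) = (a₀, b₀) := rfl
  have cross : ∀ (φ : ↥K →ₗ[R] N') (κ κ' : ↥K),
      ι (κ : R × R).2 * jN (φ κ') = ι (κ' : R × R).2 * jN (φ κ) := by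
    intro φ κ κ'
    have h : (κ : R × R).2 • κ' = (κ' : R × R).2 • κ := by
      apply Subtype.ext
      apply Prod.ext
      · show (κ : R × R).2 * (κ' : R × R).1 = (κ' : R × R).2 * (κ : R × R).1
        apply hinj
        rw [map_mul, map_mul]
        have e1 := K_spec κ
        have e2 := K_spec κ'
        have e3 : μ₀ * (ι (κ : R × R).2 * ι (κ' : R × R).1 - ι (κ' : R × R).2 * ι (κ : R × R).1)
            = 0 := by
          have e1' : ι (κ : R × R).1 * μ₀ = -(ι (κ : R × R).2 * μ₁) :=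
            eq_neg_of_add_eq_zero_left e1
          have e2' : ι (κ' : R × R).1 * μ₀ = -(ι (κ' : R × R).2 * μ₁) :=
            eq_neg_of_add_eq_zero_left e2
          calc μ₀ * (ι (κ : R × R).2 * ι (κ' : R × R).1 - ι (κ' : R × R).2 * ι (κ : R × R).1)
              = ι (κ : R × R).2 * (ι (κ' : R × R).1 * μ₀) -
                ι (κ' : R × R).2 * (ι (κ : R × R).1 * μ₀) := by ring
            _ = 0 := by rw [e1', e2']; ring
        exact sub_eq_zero.mp (hμ₀ _ e3)
      · show (κ : R × R).2 * (κ' : R × R).2 = (κ' : R × R).2 * (κ : R × R).2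
        exact mul_comm _ _
    have h3 := congrArg (fun x => jN (φ x)) h
    simp only [map_smul, hι] at h3
    exact h3
  let Φ : (↥K →ₗ[R] N') →ₗ[R] C :=
    { toFun := fun φ => jN (φ κ₀)
      map_add' := fun φ ψ => by rw [LinearMap.add_apply, map_add]
      map_smul' := fun r φ => by rw [LinearMap.smul_apply, map_smul, RingHom.id_apply] }
  have hΦ : ∀ φ, Φ φ = jN (φ κ₀) := fun φ => rfl
  have hΦinj : Function.Injective Φ := by
    intro φ ψ h
    apply LinearMap.ext; intro κ; apply hjN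
    have e1 := cross φ κ₀ κ
    have e2 := cross ψ κ₀ κ
    rw [hκ₀2] at e1 e2
    apply cancel
    rw [e1, e2, ← hΦ, ← hΦ, h]
  have hΦH : ∀ φ, Φ φ ∈ H := by
    intro φ
    rw [hH]
    intro a b hab
    refine ⟨φ ⟨(a, b), K_mem _ hab⟩, ?_⟩
    have := cross φ ⟨(a, b), K_mem _ hab⟩ κ₀
    rw [hκ₀2] at this
    exact this
  have hHsurj : ∀ h ∈ H, ∃ φ, Φ φ = h := by
    intro h hh
    rw [hH] at hh
    have hex : ∀ κ : ↥K, ∃ ν : N', ι (κ : R × R).2 * h = ι b₀ * jN ν :=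
      fun κ => hh _ _ (K_spec κ)
    choose νf hνf using hex
    let φf : ↥K →ₗ[R] N' :=
      { toFun := νf
        map_add' := fun κ κ' => by
          apply hjN
          apply cancel
          rw [← hνf, map_add, mul_add, ← hνf, ← hνf]
          show ι ((κ : R × R).2 + (κ' : R × R).2) * h = _
          rw [map_add, add_mul]
        map_smul' := fun r κ => by
          apply hjN
          apply cancel
          rw [← hνf, RingHom.id_apply, map_smul, hι, mul_left_comm, ← hνf]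
          show ι (r * (κ : R × R).2) * h = _
          rw [map_mul, mul_assoc] }
    refine ⟨φf, ?_⟩
    apply cancel
    show ι b₀ * jN (νf κ₀) = ι b₀ * h
    rw [← hνf κ₀, hκ₀2]
  have hΦW : ∀ φ : ↥K →ₗ[R] N', Φ φ ∈ W ↔ ∃ ψ : R × R →ₗ[R] N', ψ.comp K.subtype = φ := by
    intro φ
    rw [hW]
    constructor
    · rintro ⟨n₀, n₁, hn⟩
      let ψ : R × R →ₗ[R] N' :=
        (LinearMap.toSpanSingleton R N' n₀).coprod (LinearMap.toSpanSingleton R N' n₁)
      refine ⟨ψ, hΦinj ?_⟩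
      rw [hn]
      show jN (ψ ((κ₀ : ↥K) : R × R)) = _
      rw [hκ₀c]
      simp only [ψ, LinearMap.coprod_apply, LinearMap.toSpanSingleton_apply, map_add, map_smul, hι]
    · rintro ⟨ψ, rfl⟩
      refine ⟨ψ (1, 0), ψ (0, 1), ?_⟩
      show jN (ψ ((κ₀ : ↥K) : R × R)) = _
      have hdec : ((κ₀ : ↥K) : R × R) = a₀ • ((1, 0) : R × R) + b₀ • ((0, 1) : R × R) := by
        rw [hκ₀c]; ext <;> simp
      rw [hdec, map_add, map_smul, map_smul, map_add, map_smul, map_smul, hι, hι]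
  let Θ' : (↥K →ₗ[R] N') →ₗ[R] (↥H ⧸ W.submoduleOf H) :=
    (W.submoduleOf H).mkQ.comp (LinearMap.codRestrict H Φ hΦH)
  have hΘsurj : Function.Surjective Θ' := by
    intro q
    obtain ⟨⟨h, hh⟩, rfl⟩ := Submodule.mkQ_surjective _ q
    obtain ⟨φ, rfl⟩ := hHsurj h hh
    exact ⟨φ, rfl⟩
  have hΘker : ∀ φ : ↥K →ₗ[R] N', Θ' φ = 0 ↔ ∃ ψ : R × R →ₗ[R] N', ψ.comp K.subtype = φ := by
    intro φ
    rw [← hΦW]
    show (W.submoduleOf H).mkQ (LinearMap.codRestrict H Φ hΦH φ) = 0 ↔ _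
    rw [Submodule.mkQ_apply, Submodule.Quotient.mk_eq_zero]
    rfl
  exact ExtPres.length_ext_one' K.subtype g (Submodule.injective_subtype _) hg_surj
    (LinearMap.exact_subtype_ker_map _) Θ' hΘsurj hΘker

end Groth.Agent.H86.TwoGenAbs
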