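import Mathlib
import Groth.Agent.H86.TwoGenAbs
import Groth.Agent.H86.LenDim

/-!
# Modules over the two-branch singularity `A_{2δ-1}` inside `k⟦X⟧ × k⟦X⟧`
-/

namespace Groth.Agent.H86.TwoBranch

open PowerSeries CategoryTheory

universe u

variable {k : Type u} [Field k]

/-- the set `x^a O_e` of pairs divisible by `X^a` with difference divisible by `X^(a+e)` -/
def Iset (a e : ℕ) : Set (PowerSeries k × PowerSeries k) :=
  {f | X ^ a ∣ f.1 ∧ X ^ a ∣ f.2 ∧ X ^ (a + e) ∣ f.1 - f.2}

lemma zero_mem_Iset (a e : ℕ) : (0 : PowerSeries k × PowerSeries k) ∈ Iset a e :=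
  ⟨dvd_zero _, dvd_zero _, by simp⟩

lemma add_mem_Iset {a e : ℕ} {f g : PowerSeries k × PowerSeries k} (hf : f ∈ Iset a e)
    (hg : g ∈ Iset a e) : f + g ∈ Iset a e := by
  refine ⟨dvd_add hf.1 hg.1, dvd_add hf.2.1 hg.2.1, ?_⟩
  have h : (f + g).1 - (f + g).2 = (f.1 - f.2) + (g.1 - g.2) := by
    simp only [Prod.fst_add, Prod.snd_add]; ring
  rw [h]
  exact dvd_add hf.2.2 hg.2.2

/-- multiplying `x^a O_e` by an element of `x^b O_d` -/
lemma mul_mem_Iset {a e b d c e' : ℕ} {r f : PowerSeries k × PowerSeries k}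
    (hr : r ∈ Iset b d) (hf : f ∈ Iset a e) (hc : c ≤ a + b)
    (h1 : c + e' ≤ a + b + e) (h2 : c + e' ≤ a + b + d) : r * f ∈ Iset c e' := by
  obtain ⟨r1, r2, r3⟩ := hr
  obtain ⟨f1, f2, f3⟩ := hf
  refine ⟨?_, ?_, ?_⟩
  · exact (pow_dvd_pow _ hc).trans (by rw [pow_add, mul_comm]; exact mul_dvd_mul r1 f1)
  · exact (pow_dvd_pow _ hc).trans (by rw [pow_add, mul_comm]; exact mul_dvd_mul r2 f2)
  · have h : (r * f).1 - (r * f).2 = r.1 * (f.1 - f.2) + (r.1 - r.2) * f.2 := by
      simp only [Prod.fst_mul, Prod.snd_mul]; ring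
    rw [h]
    refine dvd_add ?_ ?_
    · exact (pow_dvd_pow _ h1).trans (by
        rw [show a + b + e = b + (a + e) by ring, pow_add]; exact mul_dvd_mul r1 f3)
    · exact (pow_dvd_pow _ h2).trans (by
        rw [show a + b + d = (b + d) + a by ring, pow_add]; exact mul_dvd_mul r3 f2)

variable {R : Type u} [CommRing R] [Algebra k R] [Module R (PowerSeries k × PowerSeries k)]
  [IsScalarTower k R (PowerSeries k × PowerSeries k)]
  (ι : R →ₐ[k] PowerSeries k × PowerSeries k)
  (hι : ∀ (r : R) (f : PowerSeries k × PowerSeries k), r • f = ι r * f)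
  (δ : ℕ) (hR : ∀ f : PowerSeries k × PowerSeries k, f ∈ Set.range ι ↔ X ^ δ ∣ f.1 - f.2)

include hR in
lemma range_mem_Iset (r : R) : ι r ∈ Iset (k := k) 0 δ :=
  ⟨by rw [pow_zero]; exact one_dvd _, by rw [pow_zero]; exact one_dvd _,
    by rw [zero_add]; exact (hR _).mp ⟨r, rfl⟩⟩

include hι hR in
/-- `x^a O_e` as an `R`-submodule (for `e ≤ δ`) -/
def Isub (a e : ℕ) (he : e ≤ δ) : Submodule R (PowerSeries k × PowerSeries k) where
  carrier := Iset a e
  zero_mem' := zero_mem_Iset a e
  add_mem' := add_mem_Iset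
  smul_mem' := fun r f hf => by
    show r • f ∈ Iset a e
    rw [hι]
    exact mul_mem_Iset (range_mem_Iset ι δ hR r) hf (by omega) (by omega) (by omega)

include hι hR in
lemma mem_span_iff (j : ℕ) (hj : j ≤ δ) (f : PowerSeries k × PowerSeries k) :
    f ∈ Submodule.span R ({((X : PowerSeries k) ^ j, (X : PowerSeries k) ^ j),
      ((X : PowerSeries k) ^ δ, 0)} : Set (PowerSeries k × PowerSeries k)) ↔
      f ∈ Iset j (δ - j) := by
  constructor
  · intro hf
    have hle : Submodule.span R ({((X : PowerSeries k) ^ j, (X : PowerSeries k) ^ j),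
        ((X : PowerSeries k) ^ δ, 0)} : Set (PowerSeries k × PowerSeries k)) ≤
        Isub ι hι δ hR j (δ - j) (Nat.sub_le _ _) := by
      rw [Submodule.span_le]
      intro x hx
      rcases hx with rfl | hx
      · exact ⟨dvd_rfl, dvd_rfl, by simp⟩
      · rw [Set.mem_singleton_iff] at hx
        subst hx
        refine ⟨pow_dvd_pow _ hj, dvd_zero _, ?_⟩
        rw [Nat.add_sub_of_le hj]
        simp
    exact hle hf
  · rintro ⟨h1, ⟨g₂, hg₂⟩, h3⟩
    rw [Nat.add_sub_of_le hj] at h3
    obtain ⟨w, hw⟩ := h3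
    obtain ⟨r, hr⟩ := (hR (g₂, g₂)).mpr (by simp)
    obtain ⟨s, hs⟩ := (hR (w, w)).mpr (by simp)
    rw [Submodule.mem_span_pair]
    refine ⟨r, s, ?_⟩
    rw [hι, hι, hr, hs]
    apply Prod.ext
    · simp only [Prod.fst_add, Prod.fst_mul]
      have : f.1 = f.2 + (f.1 - f.2) := by ring
      rw [this, hw, hg₂]; ring
    · simp only [Prod.snd_add, Prod.snd_mul]
      rw [hg₂]; ring

/-- the augmentation ideal -/
noncomputable def aug : Ideal R :=
  RingHom.ker ((constantCoeff (R := k)).comp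
    ((RingHom.fst (PowerSeries k) (PowerSeries k)).comp ι.toRingHom))

lemma mem_aug {a : R} : a ∈ aug ι ↔ constantCoeff (ι a).1 = 0 := by
  rw [aug, RingHom.mem_ker]; rfl

lemma aug_spec (a : R) : ∃ c : k, a - algebraMap k R c ∈ aug ι := by
  refine ⟨constantCoeff (ι a).1, ?_⟩
  rw [mem_aug, map_sub, AlgHom.commutes, Prod.algebraMap_apply]
  simp

include hR in
lemma aug_mul (hδ : 1 ≤ δ) {e : ℕ} (he : e + 1 ≤ δ) {b : R} (hb : b ∈ aug ι) {a : ℕ}
    {g : PowerSeries k × PowerSeries k} (hg : g ∈ Iset a e) : ι b * g ∈ Iset (a + 1) e := by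
  have hb1 : (X : PowerSeries k) ∣ (ι b).1 := X_dvd_iff.mpr ((mem_aug ι).mp hb)
  have hb3 : (X : PowerSeries k) ^ δ ∣ (ι b).1 - (ι b).2 := (hR _).mp ⟨b, rfl⟩
  have hb2 : (X : PowerSeries k) ∣ (ι b).2 := by
    have h : (ι b).2 = (ι b).1 - ((ι b).1 - (ι b).2) := by ring
    rw [h]
    exact dvd_sub hb1 ((dvd_pow_self X (by omega)).trans hb3)
  have hmem : ι b ∈ Iset (k := k) 1 (δ - 1) := by
    refine ⟨by rwa [pow_one], by rwa [pow_one], ?_⟩
    rw [Nat.add_sub_of_le hδ]; exact hb3
  exact mul_mem_Iset hmem hg (by omega) (by omega) (by omega)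

include hι hR in
lemma aug_pow_mul (hδ : 1 ≤ δ) {e : ℕ} (he : e + 1 ≤ δ) (s : ℕ) :
    ∀ b ∈ (aug ι) ^ s, ∀ (a : ℕ) (g : PowerSeries k × PowerSeries k), g ∈ Iset a e →
      ι b * g ∈ Iset (a + s) e := by
  induction s with
  | zero =>
    intro b _ a g hg
    exact mul_mem_Iset (range_mem_Iset ι δ hR b) hg (by omega) (by omega) (by omega)
  | succ s ih =>
    intro b hb a g hg
    rw [pow_succ] at hb
    refine Submodule.mul_induction_on hb ?_ ?_
    · intro r hr t ht
      have h1 := ih r hr a g hg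
      have h2 := aug_mul ι δ hR hδ he ht h1
      have : ι (r * t) * g = ι t * (ι r * g) := by rw [map_mul]; ring
      rw [this]
      exact h2
    · intro x y hx hy
      rw [map_add, add_mul]
      exact add_mem_Iset hx hy

include hι hR in
theorem length_Iquot (hδ : 1 ≤ δ) (a m e : ℕ) (he : e ≤ δ) (hpos : m = 0 ∨ e + 1 ≤ δ) :
    Module.length R (↥(Isub ι hι δ hR a e he) ⧸
      (Isub ι hι δ hR (a + m) e he).submoduleOf (Isub ι hι δ hR a e he)) = ((2 * m : ℕ) : ℕ∞) := by
  classical
  set H := Isub ι hι δ hR a e he with hHdef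
  set W := Isub ι hι δ hR (a + m) e he with hWdef
  have hHmem : ∀ f, f ∈ H ↔ f ∈ Iset a e := fun f => Iff.rfl
  have hWmem : ∀ f, f ∈ W ↔ f ∈ Iset (a + m) e := fun f => Iff.rfl
  let cD : ↥H →ₗ[k] (Fin m → k) × (Fin m → k) :=
    { toFun := fun f => (fun s => coeff (a + s) (f : PowerSeries k × PowerSeries k).2,
        fun s => coeff (a + e + s) ((f : PowerSeries k × PowerSeries k).1 -
          (f : PowerSeries k × PowerSeries k).2))
      map_add' := fun f g => by
        apply Prod.ext <;> funext s <;> simp <;> ring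
      map_smul' := fun c f => by
        apply Prod.ext <;> funext s <;> simp [mul_sub] }
  have hcD1 : ∀ (f : ↥H) (s : Fin m), (cD f).1 s =
      coeff (a + s) (f : PowerSeries k × PowerSeries k).2 := fun f s => rfl
  have hcD2 : ∀ (f : ↥H) (s : Fin m), (cD f).2 s =
      coeff (a + e + s) ((f : PowerSeries k × PowerSeries k).1 -
        (f : PowerSeries k × PowerSeries k).2) := fun f s => rfl
  let π' : ↥H →ₗ[k] (↥H ⧸ W.submoduleOf H) := (W.submoduleOf H).mkQ.restrictScalars k
  have hπ'surj : Function.Surjective π' := by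
    intro q
    obtain ⟨f, hf⟩ := Submodule.mkQ_surjective (W.submoduleOf H) q
    exact ⟨f, hf⟩
  have hcDsurj : Function.Surjective cD := by
    rintro ⟨u, v⟩
    let g : PowerSeries k := ∑ s : Fin m, u s • (X : PowerSeries k) ^ (a + (s : ℕ))
    let d : PowerSeries k := ∑ s : Fin m, v s • (X : PowerSeries k) ^ (a + e + (s : ℕ))
    have hg : (X : PowerSeries k) ^ a ∣ g :=
      Finset.dvd_sum (fun s _ => dvd_smul_of_dvd _ (pow_dvd_pow _ (Nat.le_add_right _ _)))
    have hd : (X : PowerSeries k) ^ (a + e) ∣ d :=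
      Finset.dvd_sum (fun s _ => dvd_smul_of_dvd _ (pow_dvd_pow _ (Nat.le_add_right _ _)))
    have hf : ((g + d, g) : PowerSeries k × PowerSeries k) ∈ H := by
      rw [hHmem]
      refine ⟨dvd_add hg ((pow_dvd_pow _ (Nat.le_add_right _ _)).trans hd), hg, ?_⟩
      show X ^ (a + e) ∣ g + d - g
      rw [add_sub_cancel_left]; exact hd
    have hcg : ∀ s : Fin m, coeff (a + (s : ℕ)) g = u s := by
      intro s
      show coeff (a + (s : ℕ)) (∑ t : Fin m, u t • (X : PowerSeries k) ^ (a + (t : ℕ))) = u s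
      rw [map_sum, Finset.sum_eq_single s]
      · rw [map_smul, coeff_X_pow_self, smul_eq_mul, mul_one]
      · intro t _ hts
        rw [map_smul, coeff_X_pow, if_neg, smul_zero]
        intro h; exact hts (Fin.ext (by omega))
      · intro h; exact absurd (Finset.mem_univ _) h
    have hcd : ∀ s : Fin m, coeff (a + e + (s : ℕ)) d = v s := by
      intro s
      show coeff (a + e + (s : ℕ))
        (∑ t : Fin m, v t • (X : PowerSeries k) ^ (a + e + (t : ℕ))) = v s
      rw [map_sum, Finset.sum_eq_single s]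
      · rw [map_smul, coeff_X_pow_self, smul_eq_mul, mul_one]
      · intro t _ hts
        rw [map_smul, coeff_X_pow, if_neg, smul_zero]
        intro h; exact hts (Fin.ext (by omega))
      · intro h; exact absurd (Finset.mem_univ _) h
    refine ⟨⟨_, hf⟩, ?_⟩
    apply Prod.ext
    · funext s
      rw [hcD1]
      exact hcg s
    · funext s
      rw [hcD2]
      show coeff (a + e + (s : ℕ)) (g + d - g) = v s
      rw [add_sub_cancel_left]
      exact hcd s
  have hker : LinearMap.ker π' = LinearMap.ker cD := by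
    ext f
    rw [LinearMap.mem_ker, LinearMap.mem_ker]
    have h1 : π' f = 0 ↔ (f : PowerSeries k × PowerSeries k) ∈ W := by
      show (W.submoduleOf H).mkQ f = 0 ↔ _
      rw [Submodule.mkQ_apply, Submodule.Quotient.mk_eq_zero]
      rfl
    rw [h1, hWmem]
    obtain ⟨f1, f2, f3⟩ := (hHmem _).mp f.2
    constructor
    · rintro ⟨w1, w2, w3⟩
      apply Prod.ext
      · funext s
        rw [hcD1]
        exact (X_pow_dvd_iff.mp w2) _ (by have := s.isLt; omega)
      · funext s
        rw [hcD2]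
        exact (X_pow_dvd_iff.mp w3) _ (by have := s.isLt; omega)
    · intro hf
      have e1 : ∀ s : Fin m, coeff (a + (s : ℕ)) (f : PowerSeries k × PowerSeries k).2 = 0 :=
        fun s => by rw [← hcD1, hf]; rfl
      have e2 : ∀ s : Fin m, coeff (a + e + (s : ℕ)) ((f : PowerSeries k × PowerSeries k).1 -
          (f : PowerSeries k × PowerSeries k).2) = 0 := fun s => by rw [← hcD2, hf]; rfl
      have w2 : (X : PowerSeries k) ^ (a + m) ∣ (f : PowerSeries k × PowerSeries k).2 := by
        rw [X_pow_dvd_iff]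
        intro n hn
        by_cases hna : n < a
        · exact (X_pow_dvd_iff.mp f2) n hna
        · have := e1 ⟨n - a, by omega⟩
          simp only [] at this
          rwa [Nat.add_sub_of_le (not_lt.mp hna)] at this
      have w3 : (X : PowerSeries k) ^ (a + m + e) ∣ (f : PowerSeries k × PowerSeries k).1 -
          (f : PowerSeries k × PowerSeries k).2 := by
        rw [X_pow_dvd_iff]
        intro n hn
        by_cases hna : n < a + e
        · exact (X_pow_dvd_iff.mp f3) n hna
        · have := e2 ⟨n - (a + e), by omega⟩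
          simp only [] at this
          rwa [Nat.add_sub_of_le (not_lt.mp hna)] at this
      refine ⟨?_, w2, w3⟩
      have h : (f : PowerSeries k × PowerSeries k).1 = (f : PowerSeries k × PowerSeries k).2 +
          ((f : PowerSeries k × PowerSeries k).1 - (f : PowerSeries k × PowerSeries k).2) := by ring
      rw [h]
      exact dvd_add w2 ((pow_dvd_pow _ (Nat.le_add_right _ _)).trans w3)
  let eQ : (↥H ⧸ W.submoduleOf H) ≃ₗ[k] (Fin m → k) × (Fin m → k) :=
    ((LinearMap.quotKerEquivOfSurjective π' hπ'surj).symm.trans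
      (Submodule.quotEquivOfEq _ _ hker)).trans (LinearMap.quotKerEquivOfSurjective cD hcDsurj)
  haveI : Module.Finite k (↥H ⧸ W.submoduleOf H) := Module.Finite.equiv eQ.symm
  have hfr : Module.finrank k (↥H ⧸ W.submoduleOf H) = 2 * m := by
    rw [eQ.finrank_eq, Module.finrank_prod, Module.finrank_fintype_fun_eq_card, Fintype.card_fin]
    ring
  have hnil : ∃ n : ℕ, ∀ b ∈ (aug ι) ^ n, ∀ q : ↥H ⧸ W.submoduleOf H, b • q = 0 := by
    rcases hpos with rfl | hpos
    · refine ⟨0, fun b _ q => ?_⟩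
      obtain ⟨f, rfl⟩ := Submodule.mkQ_surjective _ q
      rw [← map_smul, Submodule.mkQ_apply, Submodule.Quotient.mk_eq_zero]
      show ((b • f : ↥H) : PowerSeries k × PowerSeries k) ∈ W
      exact (b • f).2
    · refine ⟨m, fun b hb q => ?_⟩
      obtain ⟨f, rfl⟩ := Submodule.mkQ_surjective _ q
      rw [← map_smul, Submodule.mkQ_apply, Submodule.Quotient.mk_eq_zero]
      show ((b • f : ↥H) : PowerSeries k × PowerSeries k) ∈ W
      rw [Submodule.coe_smul, hι, hWmem]
      exact aug_pow_mul ι hι δ hR hδ hpos m b hb a _ ((hHmem _).mp f.2)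
  rw [LenDim.length_eq_finrank (k := k) (aug ι) (aug_spec ι) _ hnil, hfr]

end Groth.Agent.H86.TwoBranch
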