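import Mathlib
import Groth.Agent.H86.TwoBranch

/-!
# `Ext¹` between rank one modules over the two-branch singularity `A_{2δ-1}`
-/

namespace Groth.Agent.H86.TwoBranch

open PowerSeries CategoryTheory

universe u

variable {k : Type u} [Field k]

/-- dividing by `(X^i, X^i)` -/
lemma div_mem_Iset {i a e : ℕ} {w : PowerSeries k × PowerSeries k} (hw : w ∈ Iset (i + a) e) :
    ∃ ν ∈ Iset (k := k) a e, w = ((X : PowerSeries k) ^ i, (X : PowerSeries k) ^ i) * ν := by
  obtain ⟨⟨p₁, hp₁⟩, ⟨p₂, hp₂⟩, ⟨p₃, hp₃⟩⟩ := hw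
  have hXi : (X : PowerSeries k) ^ i ≠ 0 := pow_ne_zero _ X_ne_zero
  refine ⟨(X ^ a * p₁, X ^ a * p₂), ⟨Dvd.intro _ rfl, Dvd.intro _ rfl, ⟨p₃, ?_⟩⟩, ?_⟩
  · show X ^ a * p₁ - X ^ a * p₂ = X ^ (a + e) * p₃
    apply mul_left_cancel₀ hXi
    have : (X : PowerSeries k) ^ i * (X ^ a * p₁ - X ^ a * p₂) = w.1 - w.2 := by
      rw [hp₁, hp₂, pow_add]; ring
    rw [this, hp₃, pow_add, pow_add, pow_add]; ring
  · apply Prod.ext
    · show w.1 = X ^ i * (X ^ a * p₁)
      rw [hp₁, pow_add]; ring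
    · show w.2 = X ^ i * (X ^ a * p₂)
      rw [hp₂, pow_add]; ring

variable {R : Type u} [CommRing R] [Algebra k R] [Module R (PowerSeries k × PowerSeries k)]
  [IsScalarTower k R (PowerSeries k × PowerSeries k)]
  (ι : R →ₐ[k] PowerSeries k × PowerSeries k)
  (hι : ∀ (r : R) (f : PowerSeries k × PowerSeries k), r • f = ι r * f)
  (δ : ℕ) (hR : ∀ f : PowerSeries k × PowerSeries k, f ∈ Set.range ι ↔ X ^ δ ∣ f.1 - f.2)

include hι hR in
theorem main_gen (hinj : Function.Injective ι) (hδ : 1 ≤ δ) (i j : ℕ) (hi : i ≤ δ) (hj : j ≤ δ) :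
    Module.length R (Abelian.Ext
      (ModuleCat.of R ↥(Submodule.span R ({((X : PowerSeries k) ^ i, (X : PowerSeries k) ^ i),
        ((X : PowerSeries k) ^ δ, 0)} : Set (PowerSeries k × PowerSeries k))))
      (ModuleCat.of R ↥(Submodule.span R ({((X : PowerSeries k) ^ j, (X : PowerSeries k) ^ j),
        ((X : PowerSeries k) ^ δ, 0)} : Set (PowerSeries k × PowerSeries k)))) 1) =
      ((2 * min i j : ℕ) : ℕ∞) := by
  classical
  obtain ⟨M, hMdef⟩ : ∃ M, M = max i j := ⟨_, rfl⟩
  obtain ⟨m', hm'def⟩ : ∃ m', m' = min i j := ⟨_, rfl⟩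
  have hM1 : i ≤ M := hMdef ▸ le_max_left _ _
  have hM2 : j ≤ M := hMdef ▸ le_max_right _ _
  have hM3 : M = i ∨ M = j := hMdef ▸ max_choice i j
  have hMδ : M ≤ δ := by rcases hM3 with h | h <;> omega
  have hsum : M + m' = i + j := by rw [hMdef, hm'def]; exact max_add_min i j
  have hX : ∀ n : ℕ, (X : PowerSeries k) ^ n ≠ 0 := fun n => pow_ne_zero _ X_ne_zero
  -- elements of R
  obtain ⟨a₀, ha₀⟩ := (hR (-(X : PowerSeries k) ^ δ, 0)).mpr (by
    show X ^ δ ∣ -(X : PowerSeries k) ^ δ - 0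
    rw [sub_zero, dvd_neg])
  obtain ⟨b₀, hb₀⟩ := (hR ((X : PowerSeries k) ^ i, (X : PowerSeries k) ^ i)).mpr (by
    show X ^ δ ∣ (X : PowerSeries k) ^ i - X ^ i
    rw [sub_self]; exact dvd_zero _)
  obtain ⟨r₁, hr₁⟩ := (hR ((X : PowerSeries k) ^ δ, 0)).mpr (by
    show X ^ δ ∣ (X : PowerSeries k) ^ δ - 0
    rw [sub_zero])
  obtain ⟨r₂, hr₂⟩ := (hR (-(X : PowerSeries k) ^ (2 * δ - i), 0)).mpr (by
    show X ^ δ ∣ -(X : PowerSeries k) ^ (2 * δ - i) - 0
    rw [sub_zero, dvd_neg]; exact pow_dvd_pow _ (by omega))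
  obtain ⟨r₃, hr₃⟩ := (hR (0, (X : PowerSeries k) ^ δ)).mpr (by
    show X ^ δ ∣ 0 - (X : PowerSeries k) ^ δ
    rw [zero_sub, dvd_neg])
  have hnzd : ∀ c : PowerSeries k × PowerSeries k,
      ((X : PowerSeries k) ^ i, (X : PowerSeries k) ^ i) * c = 0 → c = 0 := by
    intro c hc
    have h1 := congrArg Prod.fst hc
    have h2 := congrArg Prod.snd hc
    simp only [Prod.fst_mul, Prod.snd_mul, Prod.fst_zero, Prod.snd_zero] at h1 h2
    exact Prod.ext ((mul_eq_zero.mp h1).resolve_left (hX i)) ((mul_eq_zero.mp h2).resolve_left (hX i))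
  have hNmem : ∀ ν : ↥(Submodule.span R ({((X : PowerSeries k) ^ j, (X : PowerSeries k) ^ j),
      ((X : PowerSeries k) ^ δ, 0)} : Set (PowerSeries k × PowerSeries k))),
      (ν : PowerSeries k × PowerSeries k) ∈ Iset j (δ - j) :=
    fun ν => (mem_span_iff ι hι δ hR j hj _).mp ν.2
  have hNlift : ∀ q ∈ Iset (k := k) j (δ - j),
      ∃ ν : ↥(Submodule.span R ({((X : PowerSeries k) ^ j, (X : PowerSeries k) ^ j),
      ((X : PowerSeries k) ^ δ, 0)} : Set (PowerSeries k × PowerSeries k))),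
      (ν : PowerSeries k × PowerSeries k) = q :=
    fun q hq => ⟨⟨q, (mem_span_iff ι hι δ hR j hj _).mpr hq⟩, rfl⟩
  have hrel : ∀ a b : R, ι a * ((X : PowerSeries k) ^ i, (X : PowerSeries k) ^ i) +
      ι b * ((X : PowerSeries k) ^ δ, 0) = 0 → ι b ∈ Iset i (δ - i) := by
    intro a b hab
    have h1 := congrArg Prod.fst hab
    have h2 := congrArg Prod.snd hab
    simp only [Prod.fst_add, Prod.fst_mul, Prod.snd_add, Prod.snd_mul, Prod.fst_zero,
      Prod.snd_zero, mul_zero, add_zero] at h1 h2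
    have ha2 : (ι a).2 = 0 := (mul_eq_zero.mp h2).resolve_right (hX i)
    obtain ⟨u, hu⟩ := (hR _).mp ⟨a, rfl⟩
    rw [ha2, sub_zero] at hu
    obtain ⟨v, hv⟩ := (hR _).mp ⟨b, rfl⟩
    have hb1 : (ι b).1 = -(u * X ^ i) := by
      have h3 : (X : PowerSeries k) ^ δ * ((ι b).1 + u * X ^ i) = 0 := by
        rw [hu] at h1; linear_combination h1
      exact eq_neg_of_add_eq_zero_left ((mul_eq_zero.mp h3).resolve_left (hX δ))
    have hb2 : (ι b).2 = (ι b).1 - X ^ δ * v := by rw [← hv]; ring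
    refine ⟨?_, ?_, ?_⟩
    · rw [hb1]; exact dvd_neg.mpr (Dvd.intro_left u rfl)
    · rw [hb2, hb1]
      exact dvd_sub (dvd_neg.mpr (Dvd.intro_left u rfl)) ((pow_dvd_pow _ hi).mul_right _)
    · rw [Nat.add_sub_of_le hi]; exact ⟨v, hv⟩
  have key := TwoGenAbs.length_ext_twoGen_abs (ι : R →+* PowerSeries k × PowerSeries k) hι hinj
    (Submodule.span R ({((X : PowerSeries k) ^ i, (X : PowerSeries k) ^ i),
        ((X : PowerSeries k) ^ δ, 0)} : Set (PowerSeries k × PowerSeries k))).subtype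
    (Submodule.injective_subtype _)
    ⟨_, Submodule.subset_span (Set.mem_insert _ _)⟩
    ⟨_, Submodule.subset_span (Set.mem_insert_of_mem _ (Set.mem_singleton _))⟩
    ((X : PowerSeries k) ^ i, (X : PowerSeries k) ^ i) ((X : PowerSeries k) ^ δ, 0) rfl rfl
    (fun m => by
      obtain ⟨a, b, h⟩ := Submodule.mem_span_pair.mp m.2
      exact ⟨a, b, Subtype.ext h.symm⟩)
    hnzd
    (Submodule.span R ({((X : PowerSeries k) ^ j, (X : PowerSeries k) ^ j),
        ((X : PowerSeries k) ^ δ, 0)} : Set (PowerSeries k × PowerSeries k))).subtype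
    (Submodule.injective_subtype _) a₀ b₀
    (by
      show ι a₀ * _ + ι b₀ * _ = 0
      rw [ha₀, hb₀]
      apply Prod.ext
      · simp only [Prod.fst_add, Prod.fst_mul, Prod.fst_zero]; ring
      · simp only [Prod.snd_add, Prod.snd_mul, Prod.snd_zero]; ring)
    (by
      intro c hc
      apply hnzd
      have : ι b₀ * c = 0 := hc
      rwa [hb₀] at this)
    (Isub ι hι δ hR M (δ - M) (Nat.sub_le _ _))
    (Isub ι hι δ hR (M + m') (δ - M) (Nat.sub_le _ _))
    (by
      intro h
      show h ∈ Iset M (δ - M) ↔ _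
      constructor
      · intro hh a b hab
        have hb := hrel a b hab
        have hp : ι b * h ∈ Iset (i + j) (δ - j) :=
          mul_mem_Iset hb hh (by omega) (by omega) (by omega)
        obtain ⟨q, hq, hqe⟩ := div_mem_Iset hp
        obtain ⟨ν, hν⟩ := hNlift q hq
        refine ⟨ν, ?_⟩
        show ι b * h = ι b₀ * (ν : PowerSeries k × PowerSeries k)
        rw [hν, hb₀, hqe]
      · intro hcond
        -- first test syzygy
        obtain ⟨ν₀, hν₀⟩ := hcond a₀ b₀ (by
          show ι a₀ * _ + ι b₀ * _ = 0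
          rw [ha₀, hb₀]
          apply Prod.ext
          · simp only [Prod.fst_add, Prod.fst_mul, Prod.fst_zero]; ring
          · simp only [Prod.snd_add, Prod.snd_mul, Prod.snd_zero]; ring)
        have hν₀' : ι b₀ * h = ι b₀ * (ν₀ : PowerSeries k × PowerSeries k) := hν₀
        have hh0 : h = (ν₀ : PowerSeries k × PowerSeries k) := by
          have h4 : ((X : PowerSeries k) ^ i, (X : PowerSeries k) ^ i) *
              (h - (ν₀ : PowerSeries k × PowerSeries k)) = 0 := by
            rw [mul_sub, ← hb₀, hν₀', sub_self]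
          exact sub_eq_zero.mp (hnzd _ h4)
        obtain ⟨hj1, hj2, hj3⟩ := hNmem ν₀
        rw [← hh0, Nat.add_sub_of_le hj] at hj3
        rw [← hh0] at hj1 hj2
        -- second test syzygy
        obtain ⟨ν₁, hν₁⟩ := hcond r₂ r₁ (by
          show ι r₂ * _ + ι r₁ * _ = 0
          rw [hr₂, hr₁]
          apply Prod.ext
          · simp only [Prod.fst_add, Prod.fst_mul, Prod.fst_zero]
            have : (X : PowerSeries k) ^ (2 * δ - i) * X ^ i = X ^ δ * X ^ δ := by
              rw [← pow_add, ← pow_add]; congr 1; omega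
            rw [neg_mul, this]; ring
          · simp only [Prod.snd_add, Prod.snd_mul, Prod.snd_zero]; ring)
        have hν₁' : ι r₁ * h = ι b₀ * (ν₁ : PowerSeries k × PowerSeries k) := hν₁
        rw [hr₁, hb₀] at hν₁'
        have g1 := congrArg Prod.fst hν₁'
        have g2 := congrArg Prod.snd hν₁'
        simp only [Prod.fst_mul, Prod.snd_mul, zero_mul] at g1 g2
        have hν₁2 : (ν₁ : PowerSeries k × PowerSeries k).2 = 0 :=
          (mul_eq_zero.mp g2.symm).resolve_left (hX i)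
        obtain ⟨_, _, ⟨w, hw⟩⟩ := hNmem ν₁
        rw [hν₁2, sub_zero, Nat.add_sub_of_le hj] at hw
        have hi1 : (X : PowerSeries k) ^ i ∣ h.1 := by
          refine ⟨w, ?_⟩
          apply mul_left_cancel₀ (hX δ)
          rw [g1, hw]; ring
        -- third test syzygy
        obtain ⟨ν₂, hν₂⟩ := hcond 0 r₃ (by
          show ι 0 * _ + ι r₃ * _ = 0
          rw [hr₃, map_zero, zero_mul, zero_add]
          apply Prod.ext
          · simp only [Prod.fst_mul, Prod.fst_zero]; ring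
          · simp only [Prod.snd_mul, Prod.snd_zero]; ring)
        have hν₂' : ι r₃ * h = ι b₀ * (ν₂ : PowerSeries k × PowerSeries k) := hν₂
        rw [hr₃, hb₀] at hν₂'
        have g3 := congrArg Prod.fst hν₂'
        have g4 := congrArg Prod.snd hν₂'
        simp only [Prod.fst_mul, Prod.snd_mul, zero_mul] at g3 g4
        have hν₂1 : (ν₂ : PowerSeries k × PowerSeries k).1 = 0 :=
          (mul_eq_zero.mp g3.symm).resolve_left (hX i)
        obtain ⟨_, _, ⟨w', hw'⟩⟩ := hNmem ν₂
        rw [hν₂1, zero_sub, Nat.add_sub_of_le hj] at hw'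
        have hi2 : (X : PowerSeries k) ^ i ∣ h.2 := by
          refine ⟨-w', ?_⟩
          apply mul_left_cancel₀ (hX δ)
          have : (ν₂ : PowerSeries k × PowerSeries k).2 = -(X ^ δ * w') := by
            rw [← hw', neg_neg]
          rw [g4, this]; ring
        refine ⟨?_, ?_, ?_⟩
        · rcases hM3 with h | h
          · rw [h]; exact hi1
          · rw [h]; exact hj1
        · rcases hM3 with h | h
          · rw [h]; exact hi2
          · rw [h]; exact hj2
        · rw [Nat.add_sub_of_le hMδ]; exact hj3)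
    (by
      intro w
      show w ∈ Iset (M + m') (δ - M) ↔ _
      have hb₀mem : ι b₀ ∈ Iset (k := k) i (δ - i) := by
        rw [hb₀]
        exact ⟨dvd_rfl, dvd_rfl, by show X ^ (i + (δ - i)) ∣ (X : PowerSeries k) ^ i - X ^ i
                                    rw [sub_self]; exact dvd_zero _⟩
      have ha₀mem : ι a₀ ∈ Iset (k := k) δ 0 := by
        rw [ha₀]
        exact ⟨dvd_neg.mpr dvd_rfl, dvd_zero _, by
          show X ^ (δ + 0) ∣ -(X : PowerSeries k) ^ δ - 0
          rw [sub_zero, add_zero, dvd_neg]⟩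
      constructor
      · intro hw
        rcases hM3 with hMi | hMj
        · -- M = i, m' = j
          have hm'j : m' = j := by omega
          obtain ⟨w1, w2, ⟨p₃, hp₃⟩⟩ := hw
          have hdiag : ((w.2, w.2) : PowerSeries k × PowerSeries k) ∈ Iset (i + j) (δ - j) := by
            refine ⟨?_, ?_, ?_⟩
            · rw [← hsum]; exact w2
            · rw [← hsum]; exact w2
            · show X ^ (i + j + (δ - j)) ∣ w.2 - w.2
              rw [sub_self]; exact dvd_zero _
          obtain ⟨q₁, hq₁, hq₁e⟩ := div_mem_Iset hdiag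
          obtain ⟨n₁, hn₁⟩ := hNlift q₁ hq₁
          have hq₀ : ((-(X ^ j * p₃), -(X ^ j * p₃)) : PowerSeries k × PowerSeries k) ∈
              Iset j (δ - j) := by
            refine ⟨dvd_neg.mpr (Dvd.intro _ rfl), dvd_neg.mpr (Dvd.intro _ rfl), ?_⟩
            show X ^ (j + (δ - j)) ∣ -(X ^ j * p₃) - -(X ^ j * p₃)
            rw [sub_self]; exact dvd_zero _
          obtain ⟨n₀, hn₀⟩ := hNlift _ hq₀
          refine ⟨n₀, n₁, ?_⟩
          show w = ι a₀ * (n₀ : PowerSeries k × PowerSeries k) +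
            ι b₀ * (n₁ : PowerSeries k × PowerSeries k)
          rw [hn₀, hn₁, ha₀, hb₀, ← hq₁e]
          have hexp : M + m' + (δ - M) = δ + j := by omega
          rw [hexp] at hp₃
          apply Prod.ext
          · simp only [Prod.fst_add, Prod.fst_mul]
            have : w.1 = w.2 + (w.1 - w.2) := by ring
            rw [this, hp₃, pow_add]; ring
          · simp only [Prod.snd_add, Prod.snd_mul]; ring
        · -- M = j, m' = i
          have hm'i : m' = i := by omega
          have hw' : w ∈ Iset (i + j) (δ - j) := by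
            rw [← hsum, ← hMj]; exact hw
          obtain ⟨q₁, hq₁, hq₁e⟩ := div_mem_Iset hw'
          obtain ⟨n₁, hn₁⟩ := hNlift q₁ hq₁
          refine ⟨0, n₁, ?_⟩
          rw [map_zero, mul_zero, zero_add]
          show w = ι b₀ * (n₁ : PowerSeries k × PowerSeries k)
          rw [hn₁, hb₀, ← hq₁e]
      · rintro ⟨n₀, n₁, rfl⟩
        have h0 : ι a₀ * (n₀ : PowerSeries k × PowerSeries k) ∈ Iset (M + m') (δ - M) :=
          mul_mem_Iset ha₀mem (hNmem n₀) (by omega) (by omega) (by omega)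
        have h1 : ι b₀ * (n₁ : PowerSeries k × PowerSeries k) ∈ Iset (M + m') (δ - M) :=
          mul_mem_Iset hb₀mem (hNmem n₁) (by omega) (by omega) (by omega)
        exact add_mem_Iset h0 h1)
  rw [key, length_Iquot ι hι δ hR hδ M m' (δ - M) (Nat.sub_le _ _) (by omega), hm'def]

end Groth.Agent.H86.TwoBranch

namespace Groth.Agent.H86.TwoBranch

open PowerSeries CategoryTheory

universe u

theorem main (k : Type u) [Field k] (δ : ℕ) (hδ : 1 ≤ δ)
    (O : Subalgebra k (PowerSeries k × PowerSeries k))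
    (hO : ∀ f : (PowerSeries k × PowerSeries k), f ∈ O ↔ (δ : ℕ∞) ≤ PowerSeries.order (f.1 - f.2))
    (i j : ℕ) (hi : i ≤ δ) (hj : j ≤ δ) :
    Module.length ↥O (Abelian.Ext (ModuleCat.of ↥O ↥(Submodule.span ↥O ({((PowerSeries.X : PowerSeries k) ^ i, (PowerSeries.X : PowerSeries k) ^ i), ((PowerSeries.X : PowerSeries k) ^ δ, 0)} : Set (PowerSeries k × PowerSeries k)))) (ModuleCat.of ↥O ↥(Submodule.span ↥O ({((PowerSeries.X : PowerSeries k) ^ j, (PowerSeries.X : PowerSeries k) ^ j), ((PowerSeries.X : PowerSeries k) ^ δ, 0)} : Set (PowerSeries k × PowerSeries k)))) 1) = ((2 * min i j : ℕ) : ℕ∞) := by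
  have hR : ∀ f : PowerSeries k × PowerSeries k, f ∈ Set.range O.val ↔ X ^ δ ∣ f.1 - f.2 := by
    intro f
    have h1 : f ∈ Set.range O.val ↔ f ∈ O :=
      ⟨fun ⟨x, hx⟩ => hx ▸ x.2, fun h => ⟨⟨f, h⟩, rfl⟩⟩
    rw [h1, hO]
    constructor
    · intro h
      exact X_pow_dvd_iff.mpr (fun m hm =>
        coeff_of_lt_order m (lt_of_lt_of_le (by exact_mod_cast hm) h))
    · intro h; exact nat_le_order _ _ (X_pow_dvd_iff.mp h)
  exact main_gen (R := ↥O) O.val (fun _ _ => rfl) δ hR Subtype.val_injective hδ i j hi hj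

end Groth.Agent.H86.TwoBranch
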