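import Mathlib
import Groth.Agent.S14891

/-!
# H86.ValDim — Krull dimension of a valuation subring ≤ trdeg over the prime field + 1 (S14892)

Uses the Abhyankar inequality `Groth.Agent.S14891.result` for the extension `K / prime field`.
-/

set_option autoImplicit false

universe u

namespace Groth.Agent.H86.ValDim

open Cardinal

/-! ### abstract independence lemma for a descending chain of pure subgroups -/

lemma chain_indep {M : Type*} [AddCommGroup M] {n : ℕ} (H : Fin (n + 1) → AddSubgroup M)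
    (hanti : ∀ i j : Fin (n + 1), i ≤ j → H j ≤ H i)
    (hpure : ∀ (j : Fin (n + 1)) (e : ℤ) (m : M), e ≠ 0 → e • m ∈ H j → m ∈ H j)
    (y : Fin n → M) (hy1 : ∀ i : Fin n, y i ∈ H i.castSucc) (hy2 : ∀ i : Fin n, y i ∉ H i.succ)
    (e : Fin n → ℤ) (he : ∑ i, e i • y i ∈ H (Fin.last n)) : ∀ i, e i = 0 := by
  have key : ∀ k : ℕ, ∀ i : Fin n, (i : ℕ) = k → e i = 0 := by
    intro k
    induction k using Nat.strong_induction_on with
    | _ k ih =>
      intro i hik
      have ih' : ∀ j : Fin n, j < i → e j = 0 := by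
        intro j hj
        have hjk : (j : ℕ) < k := by rw [← hik]; exact hj
        exact ih j hjk j rfl
      by_contra hne
      apply hy2 i
      apply hpure i.succ (e i) (y i) hne
      have h0 : e i • y i + ∑ j ∈ Finset.univ.erase i, e j • y j = ∑ j, e j • y j :=
        Finset.add_sum_erase Finset.univ (fun j => e j • y j) (Finset.mem_univ i)
      have hsplit : e i • y i = (∑ j, e j • y j) - ∑ j ∈ Finset.univ.erase i, e j • y j := by
        rw [← h0, add_sub_cancel_right]
      rw [hsplit]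
      refine (H i.succ).sub_mem (hanti _ _ (Fin.le_last _) he) ((H i.succ).sum_mem fun j hj => ?_)
      rcases lt_trichotomy j i with hlt | heq | hgt
      · rw [ih' j hlt, zero_smul]
        exact (H i.succ).zero_mem
      · exact absurd heq (Finset.ne_of_mem_erase hj)
      · have hle : i.succ ≤ j.castSucc := Fin.succ_le_castSucc_iff.2 hgt
        exact (H i.succ).zsmul_mem (hanti _ _ hle (hy1 j)) _
  exact fun i => key i i rfl

lemma eq_one_of_pow_eq_one {Γ : Type*} [LinearOrderedCommGroupWithZero Γ] {γ : Γ} {n : ℕ}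
    (hn : n ≠ 0) (h : γ ^ n = 1) : γ = 1 := by
  first
    | exact (pow_eq_one_iff_of_nonneg zero_le' hn).1 h
    | (rcases lt_trichotomy γ 1 with hlt | heq | hgt
       · exact absurd h (ne_of_lt (pow_lt_one₀ zero_le' hlt hn))
       · exact heq
       · exact absurd h (ne_of_gt (one_lt_pow₀ hgt hn)))

variable {K : Type u} [Field K]

/-- unit groups of valuation subrings are pure subgroups of `Kˣ`. -/
lemma unitGroup_pure (R : ValuationSubring K) (e : ℤ) (u : Kˣ) (he : e ≠ 0)
    (h : u ^ e ∈ R.unitGroup) : u ∈ R.unitGroup := by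
  rw [ValuationSubring.mem_unitGroup_iff] at h ⊢
  have h1 : (R.valuation (u : K)) ^ e = 1 := by
    rw [← map_zpow₀, ← Units.val_zpow_eq_zpow_val]
    exact h
  obtain ⟨n, rfl | rfl⟩ := Int.eq_nat_or_neg e
  · have hn : n ≠ 0 := by
      rintro rfl
      exact he (by simp)
    rw [zpow_natCast] at h1
    exact eq_one_of_pow_eq_one hn h1
  · have hn : n ≠ 0 := by
      rintro rfl
      exact he (by simp)
    rw [zpow_neg, zpow_natCast, inv_eq_one] at h1
    exact eq_one_of_pow_eq_one hn h1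

/-- the (additive) unit group of the localisation of `B` at a prime. -/
noncomputable def Hgrp (B : ValuationSubring K) (P : PrimeSpectrum B) : AddSubgroup (Additive Kˣ) :=
  Subgroup.toAddSubgroup (B.ofPrime P.asIdeal).unitGroup

lemma mem_Hgrp (B : ValuationSubring K) (P : PrimeSpectrum B) (m : Additive Kˣ) :
    m ∈ Hgrp B P ↔ Additive.toMul m ∈ (B.ofPrime P.asIdeal).unitGroup := Iff.rfl

lemma Hgrp_anti (B : ValuationSubring K) {P Q : PrimeSpectrum B} (h : P ≤ Q) :
    Hgrp B Q ≤ Hgrp B P := by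
  intro m hm
  rw [mem_Hgrp] at hm ⊢
  have hle : B.ofPrime Q.asIdeal ≤ B.ofPrime P.asIdeal :=
    ValuationSubring.ofPrime_le_of_le B P.asIdeal Q.asIdeal h
  exact (ValuationSubring.unitGroup_le_unitGroup.2 hle) hm

lemma Hgrp_pure (B : ValuationSubring K) (P : PrimeSpectrum B) (e : ℤ) (m : Additive Kˣ)
    (he : e ≠ 0) (h : e • m ∈ Hgrp B P) : m ∈ Hgrp B P := by
  rw [mem_Hgrp] at h ⊢
  rw [toMul_zsmul] at h
  exact unitGroup_pure _ e _ he h

lemma ofMul_mem_Hgrp_iff (B : ValuationSubring K) (P : PrimeSpectrum B) (x : B)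
    (hx : (x : K) ≠ 0) :
    Additive.ofMul (Units.mk0 (x : K) hx) ∈ Hgrp B P ↔ x ∉ P.asIdeal := by
  rw [mem_Hgrp, toMul_ofMul, ValuationSubring.mem_unitGroup_iff, Units.val_mk0,
    ValuationSubring.ofPrime_valuation_eq_one_iff_mem_primeCompl]
  exact Iff.rfl

lemma unitGroup_le_Hgrp (B : ValuationSubring K) (P : PrimeSpectrum B) :
    Subgroup.toAddSubgroup B.unitGroup ≤ Hgrp B P := by
  intro m hm
  rw [mem_Hgrp]
  exact (ValuationSubring.unitGroup_le_unitGroup.2 (ValuationSubring.le_ofPrime B P.asIdeal)) hm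

/-! ### the prime field -/

lemma mem_bot_exists (c : K) (hc : c ∈ (⊥ : Subfield K)) :
    ∃ a b : ℤ, (b : K) ≠ 0 ∧ c * b = a := by
  rw [← Subfield.closure_empty] at hc
  induction hc using Subfield.closure_induction with
  | mem x hx => exact ((Set.mem_empty_iff_false x).1 hx).elim
  | one => exact ⟨1, 1, by simp, by simp⟩
  | add x y _ _ hx hy =>
    obtain ⟨a, b, hb, h⟩ := hx
    obtain ⟨a', b', hb', h'⟩ := hy
    refine ⟨a * b' + a' * b, b * b', ?_, ?_⟩
    · push_cast
      exact mul_ne_zero hb hb'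
    · push_cast
      rw [← h, ← h']
      ring
  | neg x _ hx =>
    obtain ⟨a, b, hb, h⟩ := hx
    refine ⟨-a, b, hb, ?_⟩
    push_cast
    rw [← h]
    ring
  | inv x _ hx =>
    obtain ⟨a, b, hb, h⟩ := hx
    by_cases ha : (a : K) = 0
    · have hx0 : x = 0 := by
        rw [ha] at h
        rcases mul_eq_zero.1 h with h1 | h1
        · exact h1
        · exact absurd h1 hb
      exact ⟨0, 1, by simp, by simp [hx0]⟩
    · have hx0 : x ≠ 0 := by
        intro hx0
        apply ha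
        rw [← h, hx0, zero_mul]
      refine ⟨b, a, ha, ?_⟩
      rw [← h, ← mul_assoc, inv_mul_cancel₀ hx0, one_mul]
  | mul x y _ _ hx hy =>
    obtain ⟨a, b, hb, h⟩ := hx
    obtain ⟨a', b', hb', h'⟩ := hy
    refine ⟨a * a', b * b', ?_, ?_⟩
    · push_cast
      exact mul_ne_zero hb hb'
    · push_cast
      rw [← h, ← h']
      ring

lemma exists_gamma (B : ValuationSubring K) :
    ∃ γ : B.ValueGroup, γ ≠ 0 ∧
      ∀ a : ℕ, (a : K) ≠ 0 → ∃ m : ℕ, B.valuation (a : K) = γ ^ m := by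
  classical
  have hle : ∀ a : ℕ, B.valuation (a : K) ≤ 1 := fun a =>
    (B.valuation_le_one_iff _).2 (natCast_mem B a)
  by_cases hA : ∀ a : ℕ, (a : K) ≠ 0 → B.valuation (a : K) = 1
  · exact ⟨1, one_ne_zero, fun a ha => ⟨0, by rw [hA a ha, pow_zero]⟩⟩
  · push_neg at hA
    obtain ⟨p, hp, hpmin⟩ : ∃ p : ℕ, ((p : K) ≠ 0 ∧ B.valuation (p : K) ≠ 1) ∧
        ∀ a < p, ¬ ((a : K) ≠ 0 ∧ B.valuation (a : K) ≠ 1) :=
      ⟨Nat.find hA, Nat.find_spec hA, fun a ha => Nat.find_min hA ha⟩
    have hpmin' : ∀ a : ℕ, a < p → (a : K) ≠ 0 → B.valuation (a : K) = 1 := by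
      intro a hap ha0
      by_contra hne
      exact hpmin a hap ⟨ha0, hne⟩
    have hplt : B.valuation (p : K) < 1 := lt_of_le_of_ne (hle p) hp.2
    have hp2 : 2 ≤ p := by
      by_contra hlt
      have h01 : p = 0 ∨ p = 1 := by omega
      rcases h01 with h0 | h1
      · exact hp.1 (by rw [h0]; simp)
      · exact hp.2 (by rw [h1]; simp)
    refine ⟨B.valuation (p : K), (Valuation.ne_zero_iff _).2 hp.1, ?_⟩
    intro a
    induction a using Nat.strong_induction_on with
    | _ a ih =>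
      intro ha0
      by_cases h1 : B.valuation (a : K) = 1
      · exact ⟨0, by rw [h1, pow_zero]⟩
      · have hlt : B.valuation (a : K) < 1 := lt_of_le_of_ne (hle a) h1
        obtain ⟨q, r, hdiv, hrp⟩ : ∃ q r : ℕ, a = p * q + r ∧ r < p :=
          ⟨a / p, a % p, (Nat.div_add_mod a p).symm, Nat.mod_lt _ (by omega)⟩
        have hacast : (a : K) = (p : K) * (q : K) + (r : K) := by
          have h5 : (a : K) = ((p * q + r : ℕ) : K) := by rw [← hdiv]
          rw [h5]
          push_cast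
          rfl
        have hr0 : (r : K) = 0 := by
          by_contra hr0
          have hvr : B.valuation (r : K) = 1 := hpmin' r hrp hr0
          have hreq : (r : K) = (a : K) - (p : K) * (q : K) := by
            rw [hacast]
            ring
          have hpq : B.valuation ((p : K) * (q : K)) < 1 := by
            rw [map_mul]
            refine lt_of_le_of_lt ?_ hplt
            first
              | exact mul_le_of_le_one_right' (hle q)
              | exact mul_le_of_le_one_right zero_le' (hle q)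
              | exact mul_le_of_le_one_right₀ zero_le' (hle q)
          have hlt2 : B.valuation ((a : K) - (p : K) * (q : K)) < 1 :=
            lt_of_le_of_lt (Valuation.map_sub _ _ _) (max_lt hlt hpq)
          rw [← hreq, hvr] at hlt2
          exact lt_irrefl _ hlt2
        have haq : (a : K) = (p : K) * (q : K) := by
          rw [hacast, hr0, add_zero]
        have hq0 : (q : K) ≠ 0 := by
          intro h
          apply ha0
          rw [haq, h, mul_zero]
        have hqa : q < a := by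
          have ha' : a ≠ 0 := by
            intro ha'
            apply ha0
            rw [ha']
            simp
          have hmul : 2 * q ≤ p * q := Nat.mul_le_mul_right q hp2
          omega
        obtain ⟨m, hm⟩ := ih q hqa hq0
        exact ⟨m + 1, by rw [haq, map_mul, hm, pow_succ']⟩

lemma val_int (B : ValuationSubring K) (γ : B.ValueGroup)
    (hγ : ∀ a : ℕ, (a : K) ≠ 0 → ∃ m : ℕ, B.valuation (a : K) = γ ^ m)
    (z : ℤ) (hz : (z : K) ≠ 0) : ∃ m : ℕ, B.valuation (z : K) = γ ^ m := by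
  obtain ⟨n, rfl | rfl⟩ := Int.eq_nat_or_neg z
  · rw [Int.cast_natCast] at hz ⊢
    exact hγ n hz
  · rw [Int.cast_neg, Int.cast_natCast] at hz ⊢
    rw [Valuation.map_neg]
    exact hγ n (neg_ne_zero.1 hz)

lemma val_bot (B : ValuationSubring K) (γ : B.ValueGroup) (hγ0 : γ ≠ 0)
    (hγ : ∀ a : ℕ, (a : K) ≠ 0 → ∃ m : ℕ, B.valuation (a : K) = γ ^ m)
    (c : K) (hc : c ∈ (⊥ : Subfield K)) (hc0 : c ≠ 0) : ∃ m : ℤ, B.valuation c = γ ^ m := by
  obtain ⟨a, b, hb, h⟩ := mem_bot_exists c hc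
  have ha : (a : K) ≠ 0 := by
    rw [← h]
    exact mul_ne_zero hc0 hb
  obtain ⟨ma, hma⟩ := val_int B γ hγ a ha
  obtain ⟨mb, hmb⟩ := val_int B γ hγ b hb
  have h3 : B.valuation c * γ ^ mb = γ ^ ma := by
    rw [← hmb, ← hma, ← map_mul, h]
  refine ⟨(ma : ℤ) - mb, ?_⟩
  rw [zpow_sub₀ hγ0, zpow_natCast, zpow_natCast]
  exact eq_div_of_mul_eq (pow_ne_zero _ hγ0) h3

/-- two units of the prime field are `ℤ`-dependent modulo the units of `B`. -/
lemma prime_dep (B : ValuationSubring K) (r₁ r₂ : Kˣ)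
    (h₁ : r₁ ∈ (Units.map (algebraMap (⊥ : Subfield K) K).toMonoidHom).range)
    (h₂ : r₂ ∈ (Units.map (algebraMap (⊥ : Subfield K) K).toMonoidHom).range) :
    ∃ α β : ℤ, (α ≠ 0 ∨ β ≠ 0) ∧ r₁ ^ α * r₂ ^ β ∈ B.unitGroup := by
  obtain ⟨γ, hγ0, hγ⟩ := exists_gamma B
  have hval : ∀ r : Kˣ, r ∈ (Units.map (algebraMap (⊥ : Subfield K) K).toMonoidHom).range →
      ∃ m : ℤ, B.valuation (r : K) = γ ^ m := by
    intro r hr
    obtain ⟨w, rfl⟩ := MonoidHom.mem_range.1 hr
    have hmem : ((w : (⊥ : Subfield K)) : K) ∈ (⊥ : Subfield K) := (w : (⊥ : Subfield K)).2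
    have hne : ((w : (⊥ : Subfield K)) : K) ≠ 0 := by
      intro h0
      exact w.ne_zero (Subtype.ext h0)
    have hcoe : ((Units.map (algebraMap (⊥ : Subfield K) K).toMonoidHom w : Kˣ) : K) =
        ((w : (⊥ : Subfield K)) : K) := by
      first
        | rfl
        | simp
    rw [hcoe]
    exact val_bot B γ hγ0 hγ _ hmem hne
  obtain ⟨m₁, hm₁⟩ := hval r₁ h₁
  obtain ⟨m₂, hm₂⟩ := hval r₂ h₂
  by_cases hz : m₁ = 0 ∧ m₂ = 0
  · refine ⟨1, 0, Or.inl one_ne_zero, ?_⟩
    rw [zpow_one, zpow_zero, mul_one, ValuationSubring.mem_unitGroup_iff, hm₁, hz.1, zpow_zero]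
  · refine ⟨m₂, -m₁, ?_, ?_⟩
    · by_contra hcon
      push_neg at hcon
      exact hz ⟨neg_eq_zero.1 hcon.2, hcon.1⟩
    · rw [ValuationSubring.mem_unitGroup_iff, Units.val_mul, Units.val_zpow_eq_zpow_val,
        Units.val_zpow_eq_zpow_val, map_mul, map_zpow₀, map_zpow₀, hm₁, hm₂, ← zpow_mul,
        ← zpow_mul, ← zpow_add₀ hγ0]
      have h0 : m₁ * m₂ + m₂ * -m₁ = 0 := by ring
      rw [h0, zpow_zero]

lemma dep_of_mem_T (B : ValuationSubring K) (m₁ m₂ : Additive Kˣ)
    (h₁ : m₁ ∈ Subgroup.toAddSubgroup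
        (B.unitGroup ⊔ (Units.map (algebraMap (⊥ : Subfield K) K).toMonoidHom).range))
    (h₂ : m₂ ∈ Subgroup.toAddSubgroup
        (B.unitGroup ⊔ (Units.map (algebraMap (⊥ : Subfield K) K).toMonoidHom).range)) :
    ∃ α β : ℤ, (α ≠ 0 ∨ β ≠ 0) ∧ α • m₁ + β • m₂ ∈ Subgroup.toAddSubgroup B.unitGroup := by
  obtain ⟨u₁, hu₁, r₁, hr₁, e₁⟩ := Subgroup.mem_sup.1
    (show Additive.toMul m₁ ∈ B.unitGroup ⊔
      (Units.map (algebraMap (⊥ : Subfield K) K).toMonoidHom).range from h₁)
  obtain ⟨u₂, hu₂, r₂, hr₂, e₂⟩ := Subgroup.mem_sup.1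
    (show Additive.toMul m₂ ∈ B.unitGroup ⊔
      (Units.map (algebraMap (⊥ : Subfield K) K).toMonoidHom).range from h₂)
  obtain ⟨α, β, hαβ, hmem⟩ := prime_dep B r₁ r₂ hr₁ hr₂
  refine ⟨α, β, hαβ, ?_⟩
  show Additive.toMul (α • m₁ + β • m₂) ∈ B.unitGroup
  have h5 : Additive.toMul (α • m₁ + β • m₂) = (u₁ ^ α * u₂ ^ β) * (r₁ ^ α * r₂ ^ β) := by
    rw [toMul_add, toMul_zsmul, toMul_zsmul, ← e₁, ← e₂, mul_zpow, mul_zpow]
    exact mul_mul_mul_comm _ _ _ _
  rw [h5]
  exact B.unitGroup.mul_mem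
    (B.unitGroup.mul_mem (B.unitGroup.zpow_mem hu₁ _) (B.unitGroup.zpow_mem hu₂ _)) hmem

/-! ### the main estimate -/

theorem krullDim_le_of_rank_le (B : ValuationSubring K) (d : ℕ)
    (hB : Module.rank ℤ (Additive Kˣ ⧸ Subgroup.toAddSubgroup
        (B.unitGroup ⊔ (Units.map (algebraMap (⊥ : Subfield K) K).toMonoidHom).range)) ≤ d) :
    ringKrullDim B ≤ ((d + 1 : ℕ) : WithBot ℕ∞) := by
  classical
  show Order.krullDim (PrimeSpectrum B) ≤ _
  refine iSup_le (fun s => ?_)
  suffices hlen : s.length ≤ d + 1 by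
    first
      | exact_mod_cast hlen
      | exact Nat.cast_le.2 hlen
  have hex : ∀ i : Fin s.length, ∃ x : B, x ∈ (s i.succ).asIdeal ∧ x ∉ (s i.castSucc).asIdeal :=
    fun i => SetLike.exists_of_lt (show (s i.castSucc).asIdeal < (s i.succ).asIdeal from s.step i)
  choose x hx1 hx2 using hex
  have hx0 : ∀ i, (x i : K) ≠ 0 := by
    intro i h0
    apply hx2 i
    have h1 : x i = 0 := Subtype.ext h0
    rw [h1]
    exact Ideal.zero_mem _
  obtain ⟨y, hy⟩ : ∃ y : Fin s.length → Additive Kˣ,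
      ∀ i, y i = Additive.ofMul (Units.mk0 (x i : K) (hx0 i)) :=
    ⟨fun i => Additive.ofMul (Units.mk0 (x i : K) (hx0 i)), fun i => rfl⟩
  have hI : ∀ e : Fin s.length → ℤ,
      ∑ i, e i • y i ∈ Subgroup.toAddSubgroup B.unitGroup → ∀ i, e i = 0 := by
    intro e he
    refine chain_indep (fun j => Hgrp B (s j)) ?_ ?_ y ?_ ?_ e (unitGroup_le_Hgrp B _ he)
    · intro i j hij
      exact Hgrp_anti B (s.strictMono.monotone hij)
    · intro j e m he hm
      exact Hgrp_pure B (s j) e m he hm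
    · intro i
      rw [hy i]
      exact (ofMul_mem_Hgrp_iff B (s i.castSucc) (x i) (hx0 i)).2 (hx2 i)
    · intro i h
      rw [hy i] at h
      exact (ofMul_mem_Hgrp_iff B (s i.succ) (x i) (hx0 i)).1 h (hx1 i)
  have hli : LinearIndependent ℤ y := by
    rw [Fintype.linearIndependent_iff]
    intro e he i
    exact hI e (by rw [he]; exact zero_mem _) i
  have hcard : #(Set.range y) = (s.length : Cardinal.{u}) := by
    have h := Cardinal.mk_range_eq_of_injective hli.injective
    simpa using h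
  let X : Submodule ℤ (Additive Kˣ) := Submodule.span ℤ (Set.range y)
  have hrankX : Module.rank ℤ X = (s.length : Cardinal.{u}) := by
    show Module.rank ℤ (Submodule.span ℤ (Set.range y)) = _
    rw [rank_span hli, hcard]
  have hX0 : ∀ m : Additive Kˣ, m ∈ X → m ∈ Subgroup.toAddSubgroup B.unitGroup → m = 0 := by
    intro m hmX hmU
    obtain ⟨c, rfl⟩ := (Submodule.mem_span_range_iff_exists_fun ℤ).1 hmX
    have hc := hI c hmU
    exact Finset.sum_eq_zero (fun i _ => by rw [hc i, zero_smul])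
  set T : AddSubgroup (Additive Kˣ) := Subgroup.toAddSubgroup
        (B.unitGroup ⊔ (Units.map (algebraMap (⊥ : Subfield K) K).toMonoidHom).range) with hT
  let π : Additive Kˣ →ₗ[ℤ] (Additive Kˣ ⧸ T) := (QuotientAddGroup.mk' T).toIntLinearMap
  let f : X →ₗ[ℤ] (Additive Kˣ ⧸ T) := π ∘ₗ X.subtype
  have hrn := LinearMap.rank_range_add_rank_ker f
  have h1 : Module.rank ℤ (LinearMap.range f) ≤ (d : Cardinal.{u}) :=
    (Submodule.rank_le _).trans hB
  have hmemT : ∀ z : ↥(LinearMap.ker f), ((z : X) : Additive Kˣ) ∈ T := by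
    intro z
    have hz : f (z : X) = 0 := LinearMap.mem_ker.1 z.2
    have hz' : ((((z : X) : Additive Kˣ)) : Additive Kˣ ⧸ T) = 0 := hz
    exact (QuotientAddGroup.eq_zero_iff _).1 hz'
  let g : ↥(LinearMap.ker f) →ₗ[ℤ] Additive Kˣ := X.subtype ∘ₗ (LinearMap.ker f).subtype
  have hginj : Function.Injective g := fun z₁ z₂ h => Subtype.ext (Subtype.ext h)
  have h2 : Module.rank ℤ (LinearMap.ker f) ≤ ((1 : ℕ) : Cardinal.{u}) := by
    refine rank_le (fun t hlit => ?_)
    by_contra hcard1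
    have hcard' : 1 < t.card := by omega
    obtain ⟨a, hat, b, hbt, hab⟩ := Finset.one_lt_card.1 hcard'
    obtain ⟨α, β, hαβ, hmem⟩ := dep_of_mem_T B (g a) (g b) (hmemT a) (hmemT b)
    have hzero : α • a + β • b = 0 := by
      apply hginj
      rw [map_add, map_zero]
      have e1 : g (α • a) = α • g a := map_zsmul g α a
      have e2 : g (β • b) = β • g b := map_zsmul g β b
      rw [e1, e2]
      exact hX0 _ (X.add_mem (X.smul_mem _ (a : X).2) (X.smul_mem _ (b : X).2)) hmem
    have hne' : (⟨a, hat⟩ : ↥t) ≠ ⟨b, hbt⟩ := fun h => hab (congrArg Subtype.val h)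
    have hsum : ∑ i ∈ ({⟨a, hat⟩, ⟨b, hbt⟩} : Finset ↥t),
        (if i = ⟨a, hat⟩ then α else β) • (i : ↥(LinearMap.ker f)) = 0 := by
      rw [Finset.sum_pair hne', if_pos rfl, if_neg hne'.symm]
      exact hzero
    have h0 := linearIndependent_iff'.1 hlit {⟨a, hat⟩, ⟨b, hbt⟩}
      (fun i => if i = ⟨a, hat⟩ then α else β) hsum
    have hα : (if (⟨a, hat⟩ : ↥t) = ⟨a, hat⟩ then α else β) = 0 :=
      h0 ⟨a, hat⟩ (Finset.mem_insert_self _ _)
    have hβ : (if (⟨b, hbt⟩ : ↥t) = ⟨a, hat⟩ then α else β) = 0 :=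
      h0 ⟨b, hbt⟩ (Finset.mem_insert_of_mem (Finset.mem_singleton_self _))
    rw [if_pos rfl] at hα
    rw [if_neg hne'.symm] at hβ
    rcases hαβ with h | h
    · exact h hα
    · exact h hβ
  have h3 : (s.length : Cardinal.{u}) ≤ (d : Cardinal.{u}) + ((1 : ℕ) : Cardinal.{u}) := by
    rw [← hrankX, ← hrn]
    exact add_le_add h1 h2
  exact_mod_cast h3

theorem main (K : Type u) [Field K] (A : ValuationSubring K) (d : ℕ)
    (hd : Algebra.trdeg (⊥ : Subfield K) K = d) :
    ringKrullDim A ≤ ((d + 1 : ℕ) : WithBot ℕ∞) := by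
  let vL : Valuation K A.ValueGroup := A.valuation
  let vK : Valuation (⊥ : Subfield K) A.ValueGroup :=
    vL.comap (algebraMap (⊥ : Subfield K) K)
  haveI : vK.HasExtension vL := ⟨Valuation.IsEquiv.refl⟩
  have key := Groth.Agent.S14891.result vK vL
  have h1 : Module.rank ℤ (Additive Kˣ ⧸ Subgroup.toAddSubgroup
        (vL.valuationSubring.unitGroup ⊔
          (Units.map (algebraMap (⊥ : Subfield K) K).toMonoidHom).range)) ≤
      (d : Cardinal.{u}) := by
    rw [← hd]
    exact le_trans (self_le_add_right _ _) key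
  have h2 := krullDim_le_of_rank_le vL.valuationSubring d h1
  have h3 : vL.valuationSubring = A := A.valuationSubring_valuation
  rw [h3] at h2
  exact h2

end Groth.Agent.H86.ValDim
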