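import Mathlib
import Groth.Agent.S14892

/-!
# H86.ValUnion — a valuation ring is a directed union of valuation subrings with finite spectrum
(S14893).  Uses `Groth.Agent.S14892.result` (Krull dimension ≤ trdeg + 1).
-/

set_option autoImplicit false

universe u

namespace Groth.Agent.H86.ValUnion

open Cardinal Polynomial

/-- a valuation ring of finite Krull dimension has finite spectrum. -/
lemma finite_primeSpectrum_of_krullDim_le (V : Type*) [CommRing V] [IsDomain V] [ValuationRing V]
    (N : ℕ) (hN : ringKrullDim V ≤ (N : WithBot ℕ∞)) : Finite (PrimeSpectrum V) := by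
  classical
  have htot : ∀ p q : PrimeSpectrum V, p ≤ q ∨ q ≤ p := by
    intro p q
    have h := (ValuationRing.iff_ideal_total.1 (inferInstance : ValuationRing V))
    exact h.total p.asIdeal q.asIdeal
  have hht : ∀ p : PrimeSpectrum V, Order.height p ≤ (N : ℕ∞) := by
    intro p
    have h1 : (Order.height p : WithBot ℕ∞) ≤ Order.krullDim (PrimeSpectrum V) :=
      Order.height_le_krullDim p
    have h2 : (Order.height p : WithBot ℕ∞) ≤ (N : WithBot ℕ∞) := le_trans h1 hN
    first
      | exact_mod_cast h2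
      | exact WithBot.coe_le_coe.1 h2
  have hfin : ∀ p : PrimeSpectrum V, Order.height p < ⊤ := fun p =>
    lt_of_le_of_lt (hht p) (ENat.coe_lt_top N)
  have hbound : ∀ p : PrimeSpectrum V, (Order.height p).toNat < N + 1 := by
    intro p
    have h3 : (Order.height p).toNat ≤ (N : ℕ∞).toNat :=
      ENat.toNat_le_toNat (hht p) (ENat.coe_ne_top N)
    rw [ENat.toNat_coe] at h3
    omega
  refine Finite.of_injective
    (fun p : PrimeSpectrum V => (⟨(Order.height p).toNat, hbound p⟩ : Fin (N + 1))) ?_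
  intro p q hpq
  have h4 : (Order.height p).toNat = (Order.height q).toNat := congrArg Fin.val hpq
  have h5 : Order.height p = Order.height q := by
    rw [← ENat.coe_toNat (hfin p).ne, ← ENat.coe_toNat (hfin q).ne, h4]
  by_contra hne
  rcases htot p q with h | h
  · have hlt : p < q := lt_of_le_of_ne h hne
    exact absurd h5 (ne_of_lt (Order.height_strictMono hlt (hfin p)))
  · have hlt : q < p := lt_of_le_of_ne h (Ne.symm hne)
    exact absurd h5.symm (ne_of_lt (Order.height_strictMono hlt (hfin q)))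

section main

variable (R : Type u) [CommRing R] [IsDomain R] [ValuationRing R]

/-- the subfield of `Frac R` generated by a finite subset of `R`. -/
noncomputable def Ks (s : Finset R) : Subfield (FractionRing R) :=
  Subfield.closure ((algebraMap R (FractionRing R)) '' (s : Set R))

/-- the subring of `R` of elements lying in `Ks s`. -/
noncomputable def F (s : Finset R) : Subring R :=
  (Ks R s).toSubring.comap (algebraMap R (FractionRing R))

lemma mem_F (s : Finset R) (x : R) :
    x ∈ F R s ↔ algebraMap R (FractionRing R) x ∈ Ks R s := Iff.rfl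

lemma F_mono : Monotone (F R) := by
  intro s t hst x hx
  rw [mem_F] at hx ⊢
  exact Subfield.closure_mono (Set.image_mono (Finset.coe_subset.2 hst)) hx

lemma iSup_F : (⨆ s, F R s) = ⊤ := by
  rw [eq_top_iff]
  intro x _
  have hx : x ∈ F R {x} := by
    rw [mem_F]
    exact Subfield.subset_closure ⟨x, by simp, rfl⟩
  exact (le_iSup (F R) {x}) hx

lemma F_cond (s : Finset R) (a b : ↥(F R s)) : ∃ c : ↥(F R s), a * c = b ∨ b * c = a := by
  have key : ∀ a b : ↥(F R s), (∃ c : R, (a : R) * c = b) → ∃ c : ↥(F R s), a * c = b := by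
    intro a b hc
    obtain ⟨c, hc⟩ := hc
    by_cases ha : (a : R) = 0
    · refine ⟨1, ?_⟩
      apply Subtype.ext
      have h1 : ((a * 1 : ↥(F R s)) : R) = (a : R) := by simp
      rw [h1, ← hc, ha, zero_mul]
    · have hφa : algebraMap R (FractionRing R) (a : R) ≠ 0 := by
        intro h0
        exact ha ((IsFractionRing.injective R (FractionRing R)) (by rw [h0, map_zero]))
      have hcmem : c ∈ F R s := by
        rw [mem_F]
        have h2 : algebraMap R (FractionRing R) c =
            algebraMap R (FractionRing R) (b : R) / algebraMap R (FractionRing R) (a : R) := by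
          rw [eq_div_iff hφa, ← map_mul, mul_comm, hc]
        rw [h2]
        exact (Ks R s).div_mem ((mem_F R s _).1 b.2) ((mem_F R s _).1 a.2)
      exact ⟨⟨c, hcmem⟩, Subtype.ext hc⟩
  rcases ValuationRing.cond (a : R) (b : R) with ⟨c, hc | hc⟩
  · obtain ⟨c', hc'⟩ := key a b ⟨c, hc⟩
    exact ⟨c', Or.inl hc'⟩
  · obtain ⟨c', hc'⟩ := key b a ⟨c, hc⟩
    exact ⟨c', Or.inr hc'⟩

lemma valuationRing_F (s : Finset R) : ValuationRing ↥(F R s) := by
  have hPV : ∀ a b : ↥(F R s), ∃ c : ↥(F R s), a * c = b ∨ b * c = a := F_cond R s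
  first
    | exact { cond' := hPV }
    | exact ⟨⟨hPV⟩⟩
    | (haveI : PreValuationRing ↥(F R s) := ⟨hPV⟩
       exact ValuationRing.mk)

/-- the ring hom `F s → Ks s`. -/
noncomputable def psi (s : Finset R) : ↥(F R s) →+* ↥(Ks R s) :=
  ((algebraMap R (FractionRing R)).comp (F R s).subtype).codRestrict (Ks R s) (fun v => v.2)

lemma mem_psi_range (s : Finset R) (z : ↥(Ks R s)) (r : R)
    (hr : algebraMap R (FractionRing R) r = (z : FractionRing R)) :
    z ∈ (psi R s).range := by
  have hrF : r ∈ F R s := by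
    rw [mem_F, hr]
    exact z.2
  exact RingHom.mem_range.2 ⟨⟨r, hrF⟩, Subtype.ext hr⟩

/-- the valuation subring of `Ks s` corresponding to `F s`. -/
noncomputable def Vsub (s : Finset R) : ValuationSubring ↥(Ks R s) :=
  { (psi R s).range with
    mem_or_inv_mem' := fun z => by
      rcases (ValuationRing.iff_isInteger_or_isInteger R (FractionRing R)).mp inferInstance
        (z : FractionRing R) with h | h
      · obtain ⟨r, hr⟩ : ∃ r, algebraMap R (FractionRing R) r = (z : FractionRing R) := h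
        exact Or.inl (mem_psi_range R s z r hr)
      · obtain ⟨r, hr⟩ : ∃ r, algebraMap R (FractionRing R) r = (z : FractionRing R)⁻¹ := h
        exact Or.inr (mem_psi_range R s z⁻¹ r hr) }

lemma mem_Vsub (s : Finset R) (z : ↥(Ks R s)) : z ∈ Vsub R s ↔ z ∈ (psi R s).range := Iff.rfl

noncomputable def psi' (s : Finset R) : ↥(F R s) →+* ↥(Vsub R s) :=
  (psi R s).codRestrict (Vsub R s) (fun v => (mem_Vsub R s _).2 (RingHom.mem_range.2 ⟨v, rfl⟩))

lemma psi'_bijective (s : Finset R) : Function.Bijective (psi' R s) := by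
  constructor
  · intro v w h
    have h1 : algebraMap R (FractionRing R) (v : R) = algebraMap R (FractionRing R) (w : R) :=
      congrArg (fun z : ↥(Vsub R s) => ((z : ↥(Ks R s)) : FractionRing R)) h
    exact Subtype.ext (IsFractionRing.injective R (FractionRing R) h1)
  · intro z
    obtain ⟨v, hv⟩ := RingHom.mem_range.1 ((mem_Vsub R s _).1 z.2)
    exact ⟨v, Subtype.ext hv⟩

/-- generators of `Ks s`. -/
noncomputable def gen (s : Finset R) : ↥s → ↥(Ks R s) := fun r =>
  ⟨algebraMap R (FractionRing R) r, Subfield.subset_closure ⟨r, r.2, rfl⟩⟩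

noncomputable abbrev Badj (s : Finset R) : Subalgebra (⊥ : Subfield ↥(Ks R s)) ↥(Ks R s) :=
  Algebra.adjoin (⊥ : Subfield ↥(Ks R s)) (Set.range (gen R s))

lemma closure_mem_adjoin (s : Finset R) (y : FractionRing R)
    (hy : y ∈ Subring.closure ((algebraMap R (FractionRing R)) '' (s : Set R))) :
    ∃ hy' : y ∈ Ks R s, (⟨y, hy'⟩ : ↥(Ks R s)) ∈ Badj R s := by
  induction hy using Subring.closure_induction with
  | mem x hx =>
    obtain ⟨r, hr, rfl⟩ := hx
    exact ⟨Subfield.subset_closure ⟨r, hr, rfl⟩, Algebra.subset_adjoin ⟨⟨r, hr⟩, rfl⟩⟩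
  | zero => exact ⟨zero_mem _, zero_mem _⟩
  | one => exact ⟨one_mem _, one_mem _⟩
  | add x y _ _ hx hy =>
    obtain ⟨hx', hxa⟩ := hx
    obtain ⟨hy', hya⟩ := hy
    exact ⟨add_mem hx' hy', add_mem hxa hya⟩
  | neg x _ hx =>
    obtain ⟨hx', hxa⟩ := hx
    exact ⟨neg_mem hx', neg_mem hxa⟩
  | mul x y _ _ hx hy =>
    obtain ⟨hx', hxa⟩ := hx
    obtain ⟨hy', hya⟩ := hy
    exact ⟨mul_mem hx' hy', mul_mem hxa hya⟩

set_option synthInstance.maxHeartbeats 400000 in
set_option maxHeartbeats 1600000 in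
lemma isAlgebraic_adjoin (s : Finset R) : Algebra.IsAlgebraic (Badj R s) ↥(Ks R s) := by
  refine ⟨fun z => ?_⟩
  obtain ⟨y, hy, w, hw, hyw⟩ := Subfield.mem_closure_iff.1
    (show (z : FractionRing R) ∈
      Subfield.closure ((algebraMap R (FractionRing R)) '' (s : Set R)) from z.2)
  obtain ⟨hy', hyB⟩ := closure_mem_adjoin R s y hy
  obtain ⟨hw', hwB⟩ := closure_mem_adjoin R s w hw
  by_cases hw0 : w = 0
  · have hz0 : z = 0 := by
      apply Subtype.ext
      rw [← hyw, hw0, div_zero]
      rfl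
    rw [hz0]
    exact isAlgebraic_zero
  · have hmul : (⟨w, hw'⟩ : ↥(Ks R s)) * z = ⟨y, hy'⟩ := by
      apply Subtype.ext
      show w * (z : FractionRing R) = y
      rw [← hyw]
      field_simp
    refine ⟨C (⟨⟨w, hw'⟩, hwB⟩ : ↥(Badj R s)) * X - C (⟨⟨y, hy'⟩, hyB⟩ : ↥(Badj R s)), ?_, ?_⟩
    · intro hp
      have hc1 : (C (⟨⟨w, hw'⟩, hwB⟩ : ↥(Badj R s)) * X -
          C (⟨⟨y, hy'⟩, hyB⟩ : ↥(Badj R s))).coeff 1 = (⟨⟨w, hw'⟩, hwB⟩ : ↥(Badj R s)) := by
        simp [coeff_C]
      rw [hp, coeff_zero] at hc1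
      have h2 := congrArg (fun b : ↥(Badj R s) => ((b : ↥(Ks R s)) : FractionRing R)) hc1
      exact hw0 h2.symm
    · rw [map_sub, map_mul, aeval_C, aeval_X, aeval_C]
      show (⟨w, hw'⟩ : ↥(Ks R s)) * z - ⟨y, hy'⟩ = 0
      rw [hmul, sub_self]

lemma exists_trdeg_nat (s : Finset R) :
    ∃ d : ℕ, Algebra.trdeg (⊥ : Subfield ↥(Ks R s)) ↥(Ks R s) = d := by
  haveI := isAlgebraic_adjoin R s
  have hle := Algebra.IsAlgebraic.trdeg_le_cardinalMk (⊥ : Subfield ↥(Ks R s))
    (Set.range (gen R s))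
  have hlt : #(Set.range (gen R s)) < ℵ₀ := Cardinal.lt_aleph0_of_finite _
  exact Cardinal.lt_aleph0.1 (lt_of_le_of_lt hle hlt)

lemma finite_spec_F (s : Finset R) [ValuationRing ↥(F R s)] :
    Finite (PrimeSpectrum ↥(F R s)) := by
  obtain ⟨d, hd⟩ := exists_trdeg_nat R s
  have h1 := Groth.Agent.S14892.result ↥(Ks R s) (Vsub R s) d hd
  have e : ↥(F R s) ≃+* ↥(Vsub R s) := RingEquiv.ofBijective (psi' R s) (psi'_bijective R s)
  have h2 : ringKrullDim ↥(F R s) ≤ ((d + 1 : ℕ) : WithBot ℕ∞) := by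
    rw [ringKrullDim_eq_of_ringEquiv e]
    exact h1
  exact finite_primeSpectrum_of_krullDim_le ↥(F R s) (d + 1) h2

theorem main :
    ∃ (ι : Type u) (_ : Preorder ι) (_ : IsDirected ι (fun a b ↦ a ≤ b)) (_ : Nonempty ι)
      (F' : ι → Subring R), Monotone F' ∧ (⨆ i, F' i) = ⊤ ∧
        ∀ i, ValuationRing (F' i) ∧ Finite (PrimeSpectrum (F' i)) := by
  classical
  refine ⟨Finset R, inferInstance,
    ⟨fun a b => ⟨a ∪ b, Finset.subset_union_left, Finset.subset_union_right⟩⟩,
    ⟨∅⟩, F R, F_mono R, iSup_F R, fun s => ?_⟩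
  haveI := valuationRing_F R s
  exact ⟨inferInstance, finite_spec_F R s⟩

end main

end Groth.Agent.H86.ValUnion
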