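import Mathlib
import Groth.Prelude

/-!
# (GEN) for helper85's S17377: residue degree one at the generic point ⇒ the stalk map there is an iso
-/

set_option autoImplicit false
universe u
open CategoryTheory CategoryTheory.Limits AlgebraicGeometry

namespace Groth.Agent.H86.WeilSplit_GEN

theorem isField_stalk_of_eq_genericPoint {D : Scheme.{u}} [IsIntegral D] (y : D)
    (hy : y = genericPoint D) : IsField (D.presheaf.stalk y) := by
  subst hy
  exact isField_stalk_of_closure_mem_irreducibleComponents D _
    (by simp [irreducibleComponents_eq_singleton])

theorem residue_bijective_of_isField {X : Scheme.{u}} (x : X)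
    (h : IsField (X.presheaf.stalk x)) : Function.Bijective (X.residue x).hom := by
  constructor
  · have hm : IsLocalRing.maximalIdeal (X.presheaf.stalk x) = ⊥ :=
      IsLocalRing.isField_iff_maximalIdeal_eq.mp h
    rw [injective_iff_map_eq_zero]
    intro a ha
    have hmem : a ∈ IsLocalRing.maximalIdeal (X.presheaf.stalk x) := by
      rw [← IsLocalRing.ker_residue]
      exact ha
    rw [hm] at hmem
    exact (Ideal.mem_bot).mp hmem
  · exact IsLocalRing.residue_surjective

theorem isIso_stalkMap_genericPoint_of_residueDegree_eq_one {E D : Scheme.{u}} [IsIntegral E]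
    [IsIntegral D] (g : E ⟶ D) (hgen : g (genericPoint E) = genericPoint D)
    (hdeg : g.residueDegree (genericPoint E) = 1) : IsIso (g.stalkMap (genericPoint E)) := by
  have hB : IsField (E.presheaf.stalk (genericPoint E)) :=
    isField_stalk_of_eq_genericPoint _ rfl
  have hA : IsField (D.presheaf.stalk (g (genericPoint E))) :=
    isField_stalk_of_eq_genericPoint _ hgen
  have h1 := residue_bijective_of_isField (genericPoint E) hB
  have h2 := residue_bijective_of_isField (g (genericPoint E)) hA
  have h3 : Function.Bijective (g.residueFieldMap (genericPoint E)).hom := by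
    letI := (g.residueFieldMap (genericPoint E)).hom.toAlgebra
    have hdeg' : Module.finrank (D.residueField (g (genericPoint E)))
        (E.residueField (genericPoint E)) = 1 := hdeg
    refine ⟨(g.residueFieldMap (genericPoint E)).hom.injective, ?_⟩
    intro z
    have hbt := Subalgebra.bot_eq_top_of_finrank_eq_one hdeg'
    have hz : z ∈ (⊥ : Subalgebra (D.residueField (g (genericPoint E)))
        (E.residueField (genericPoint E))) := by
      rw [hbt]; exact Algebra.mem_top
    obtain ⟨y, hy⟩ := Algebra.mem_bot.mp hz
    exact ⟨y, hy⟩
  have hsq := Scheme.residue_residueFieldMap g (genericPoint E)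
  have hcomp : (E.residue (genericPoint E)).hom ∘ (g.stalkMap (genericPoint E)).hom =
      (g.residueFieldMap (genericPoint E)).hom ∘ (D.residue (g (genericPoint E))).hom := by
    funext a
    have := congrArg (fun φ => φ.hom a) hsq
    simp only [CommRingCat.hom_comp, RingHom.comp_apply] at this
    exact this.symm
  have h4 : Function.Bijective
      ((E.residue (genericPoint E)).hom ∘ (g.stalkMap (genericPoint E)).hom) := by
    rw [hcomp]; exact h3.comp h2
  have h5 : Function.Bijective (g.stalkMap (genericPoint E)).hom :=
    (Function.Bijective.of_comp_iff' h1 _).mp h4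
  exact (ConcreteCategory.isIso_iff_bijective _).mpr h5

end Groth.Agent.H86.WeilSplit_GEN
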