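import Groth.Agent.H86.FrobSL3
import Mathlib.RingTheory.WittVector.Complete
import Mathlib.RingTheory.WittVector.DiscreteValuationRing
import Mathlib.RingTheory.LocalRing.Module
import Mathlib.LinearAlgebra.Dimension.OrzechProperty
import Mathlib.RingTheory.AdicCompletion.Basic
import Mathlib.Algebra.Module.Torsion.Basic
import Mathlib.FieldTheory.Perfect
import Mathlib.Tactic.Module
import Mathlib.Tactic.LinearCombination
import Mathlib.Tactic.Abel

/-!
# Fixed bases for Frobenius-semilinear bijections of finite free `W(k)`-modules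
-/

namespace Groth.Agent.H86.WittFix

open Finset

universe u v

section Abstract

variable {R : Type*} [CommRing R] {M : Type*} [AddCommGroup M] [Module R M]

lemma map_pow_smul (π : R) (F : M →+ M) (hFπ : ∀ m, F (π • m) = π • F m) (n : ℕ) (m : M) :
    F (π ^ n • m) = π ^ n • F m := by
  induction n generalizing m with
  | zero => simp
  | succ n ih => rw [pow_succ, mul_smul, ih, hFπ, ← mul_smul]

/-- successive approximation: `F - 1` is onto if it is onto mod `π` and `M` is `π`-adically
complete (in the elementary form `hlim`, `hsep`). -/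
theorem sub_id_surjective_of_complete (π : R) (F : M →+ M) (hFπ : ∀ m, F (π • m) = π • F m)
    (hsolve : ∀ y : M, ∃ x z : M, F x - x = y + π • z)
    (hlim : ∀ x : ℕ → M, ∃ S : M, ∀ n, ∃ y, S - ∑ i ∈ range n, π ^ i • x i = π ^ n • y)
    (hsep : ∀ m : M, (∀ n : ℕ, ∃ y, m = π ^ n • y) → m = 0) (y : M) : ∃ x, F x - x = y := by
  choose xs zs hxz using hsolve
  obtain ⟨ys, ys0, yss⟩ : ∃ ys : ℕ → M, ys 0 = y ∧ ∀ n, ys (n + 1) = -(zs (ys n)) :=
    ⟨fun n => Nat.rec y (fun _ yn => -(zs yn)) n, rfl, fun n => rfl⟩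
  obtain ⟨x, hx⟩ : ∃ x : ℕ → M, ∀ n, F (x n) - x n = ys n - π • ys (n + 1) :=
    ⟨fun n => xs (ys n), fun n => by rw [yss, smul_neg, sub_neg_eq_add]; exact hxz (ys n)⟩
  have hpart : ∀ n, F (∑ i ∈ range n, π ^ i • x i) - ∑ i ∈ range n, π ^ i • x i
      = y - π ^ n • ys n := by
    intro n
    induction n with
    | zero => rw [range_zero, sum_empty, map_zero, sub_zero, pow_zero, one_smul, ys0, sub_self]
    | succ n ih =>
      rw [sum_range_succ, map_add, map_pow_smul π F hFπ]
      have e : F (∑ i ∈ range n, π ^ i • x i) + π ^ n • F (x n) -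
          (∑ i ∈ range n, π ^ i • x i + π ^ n • x n) =
          (F (∑ i ∈ range n, π ^ i • x i) - ∑ i ∈ range n, π ^ i • x i) +
            π ^ n • (F (x n) - x n) := by
        rw [smul_sub]; abel
      rw [e, ih, hx, smul_sub, pow_succ, mul_smul]; abel
  obtain ⟨S, hS⟩ := hlim x
  refine ⟨S, ?_⟩
  rw [← sub_eq_zero]
  apply hsep
  intro n
  obtain ⟨w, hw⟩ := hS n
  refine ⟨F w - w - ys n, ?_⟩
  have hS' : S = ∑ i ∈ range n, π ^ i • x i + π ^ n • w := by rw [← hw]; abel
  have e1 : F S - S - y = (F (∑ i ∈ range n, π ^ i • x i) - ∑ i ∈ range n, π ^ i • x i) - y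
      + π ^ n • (F w - w) := by
    have : F S = F (∑ i ∈ range n, π ^ i • x i) + π ^ n • F w := by
      rw [hS', map_add, map_pow_smul π F hFπ]
    rw [this, smul_sub]
    nth_rewrite 1 [hS']
    abel
  rw [e1, hpart]
  simp only [smul_sub]
  abel

end Abstract

section Basis

variable {R : Type*} [CommRing R] (π : R)

lemma mem_pow_iff (n : ℕ) (r : R) :
    r ∈ ((Ideal.span {π}) ^ n • ⊤ : Submodule R R) ↔ ∃ c, r = π ^ n * c := by
  simp only [smul_eq_mul, Ideal.mul_top, Ideal.span_singleton_pow, Ideal.mem_span_singleton']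
  constructor
  · rintro ⟨a, rfl⟩; exact ⟨a, mul_comm _ _⟩
  · rintro ⟨c, rfl⟩; exact ⟨c, mul_comm _ _⟩

variable [IsAdicComplete (Ideal.span {π}) R]
  {M : Type*} [AddCommGroup M] [Module R M] {ι : Type*} [Fintype ι] (b : Module.Basis ι R M)

include b in
theorem exists_limit (x : ℕ → M) :
    ∃ S : M, ∀ n, ∃ y, S - ∑ i ∈ range n, π ^ i • x i = π ^ n • y := by
  classical
  obtain ⟨a, ha0, has⟩ : ∃ a : ι → ℕ → R, (∀ j, a j 0 = 0) ∧
      ∀ j n, a j (n + 1) = a j n + π ^ n * b.equivFun (x n) j :=
    ⟨fun j n => ∑ i ∈ range n, π ^ i * b.equivFun (x i) j, fun j => by simp,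
      fun j n => sum_range_succ _ _⟩
  have hasum : ∀ j n, a j n = ∑ i ∈ range n, π ^ i * b.equivFun (x i) j := by
    intro j n
    induction n with
    | zero => rw [ha0, range_zero, sum_empty]
    | succ n ih => rw [has, ih, sum_range_succ]
  have hcau : ∀ j, ∀ {m n : ℕ}, m ≤ n →
      a j m ≡ a j n [SMOD ((Ideal.span {π}) ^ m • ⊤ : Submodule R R)] := by
    intro j m n hmn
    rw [SModEq.sub_mem, mem_pow_iff]
    induction n, hmn using Nat.le_induction with
    | base => exact ⟨0, by simp⟩
    | succ n hmn ih =>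
      obtain ⟨c, hc⟩ := ih
      refine ⟨c - π ^ (n - m) * b.equivFun (x n) j, ?_⟩
      have h1 := has j n
      have h2 : π ^ n = π ^ m * π ^ (n - m) := by rw [← pow_add, Nat.add_sub_cancel' hmn]
      linear_combination hc - h1 - (b.equivFun (x n) j) * h2
  have hL : ∀ j, ∃ L : R, ∀ n, a j n ≡ L [SMOD ((Ideal.span {π}) ^ n • ⊤ : Submodule R R)] :=
    fun j => IsPrecomplete.prec inferInstance (fun {m n} hmn => hcau j hmn)
  choose L hL using hL
  refine ⟨b.equivFun.symm L, fun n => ?_⟩
  have hd : ∀ j, ∃ d : R, L j - a j n = π ^ n * d := by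
    intro j
    have := (hL j n).symm
    rwa [SModEq.sub_mem, mem_pow_iff] at this
  choose d hd using hd
  refine ⟨b.equivFun.symm d, ?_⟩
  apply b.equivFun.injective
  funext j
  simp only [map_sub, map_sum, map_smul, LinearEquiv.apply_symm_apply, Pi.sub_apply,
    Finset.sum_apply, Pi.smul_apply, smul_eq_mul]
  rw [← hasum]
  exact hd j

include b in
theorem eq_zero_of_forall_pow_dvd (m : M) (h : ∀ n : ℕ, ∃ y, m = π ^ n • y) : m = 0 := by
  apply b.equivFun.injective
  funext j
  rw [map_zero, Pi.zero_apply]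
  apply IsHausdorff.haus (inferInstance : IsHausdorff (Ideal.span {π}) R)
  intro n
  obtain ⟨y, hy⟩ := h n
  rw [SModEq.zero, mem_pow_iff]
  exact ⟨b.equivFun y j, by rw [hy, map_smul, Pi.smul_apply, smul_eq_mul]⟩

end Basis

section Witt

variable (p : ℕ) [Fact p.Prime] (k : Type u) [Field k] [CharP k p] [PerfectRing k p]

lemma frobenius_sub_pow_mem (a : WittVector p k) :
    WittVector.frobenius a - a ^ p ∈ Ideal.span {(p : WittVector p k)} := by
  rw [WittVector.mem_span_p_iff_coeff_zero_eq_zero]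
  have h1 : (WittVector.frobenius a).coeff 0 = a.coeff 0 ^ p :=
    WittVector.coeff_frobenius_charP p a 0
  have h2 : (a ^ p).coeff 0 = a.coeff 0 ^ p := map_pow (WittVector.constantCoeff) a p
  have h3 : (WittVector.frobenius a - a ^ p).coeff 0 =
      (WittVector.frobenius a).coeff 0 - (a ^ p).coeff 0 :=
    map_sub (WittVector.constantCoeff (p := p) (R := k)) (WittVector.frobenius a) (a ^ p)
  rw [h3, h1, h2, sub_self]

end Witt

section Main

variable (k : Type u) [Field k] [IsAlgClosed k] (p : ℕ) [Fact p.Prime] [CharP k p]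
  [PerfectRing k p]
  (M : Type v) [AddCommGroup M] [Module (WittVector p k) M]

local notation "W" => WittVector p k
local notation "𝔪" => IsLocalRing.maximalIdeal (WittVector p k)
local notation "P" =>
  ((IsLocalRing.maximalIdeal (WittVector p k)) • (⊤ : Submodule (WittVector p k) M))
local notation "K" => (WittVector p k ⧸ IsLocalRing.maximalIdeal (WittVector p k))
local notation "V" =>
  (M ⧸ ((IsLocalRing.maximalIdeal (WittVector p k)) • (⊤ : Submodule (WittVector p k) M)))

theorem exists_basis_fixed_witt (ν : ℕ) (hν : 1 ≤ ν)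
    [Module.Finite (WittVector p k) M] [Module.Free (WittVector p k) M]
    (F : M →+ M)
    (hF : ∀ (a : WittVector p k) (m : M), F (a • m) =
      ((⇑(WittVector.frobenius : WittVector p k →+* WittVector p k))^[ν] a) • F m)
    (hbij : Function.Bijective F) :
    ∃ (ι : Type v) (b : Module.Basis ι (WittVector p k) M), ∀ i, F (b i) = b i := by
  classical
  have hp : p.Prime := Fact.out
  have hpirr : Irreducible (p : W) := WittVector.irreducible p
  have hmax : 𝔪 = Ideal.span {(p : W)} := hpirr.maximalIdeal_eq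
  have hσp : ∀ n : ℕ, (⇑(WittVector.frobenius : W →+* W))^[n] (p : W) = (p : W) := by
    intro n
    induction n with
    | zero => rfl
    | succ n ih => rw [Function.iterate_succ_apply', ih, map_natCast]
  have hFp : ∀ m, F ((p : W) • m) = (p : W) • F m := by
    intro m; rw [hF, hσp]
  have hP : ∀ m : M, m ∈ P ↔ ∃ y, m = (p : W) • y := by
    intro m
    rw [hmax, Submodule.ideal_span_singleton_smul, Submodule.mem_smul_pointwise_iff_exists]
    constructor
    · rintro ⟨y, -, rfl⟩; exact ⟨y, rfl⟩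
    · rintro ⟨y, rfl⟩; exact ⟨y, trivial, rfl⟩
  -- the semilinear map on the quotient
  let σν : W →+* W := (WittVector.frobenius : W →+* W) ^ ν
  have hσν : ∀ a, σν a = (⇑(WittVector.frobenius : W →+* W))^[ν] a := fun a => by
    show ((WittVector.frobenius : W →+* W) ^ ν) a = _
    rw [RingHom.coe_pow]
  let Fs : M →ₛₗ[σν] M :=
    { toFun := F
      map_add' := map_add F
      map_smul' := fun a m => by rw [hσν]; exact hF a m }
  have hPF : P ≤ Submodule.comap Fs P := by
    intro m hm
    rw [Submodule.mem_comap]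
    obtain ⟨y, rfl⟩ := (hP m).mp hm
    show F ((p : W) • y) ∈ P
    rw [hFp]
    exact (hP _).mpr ⟨F y, rfl⟩
  let Fbar : V →+ V := (Submodule.mapQ P P Fs hPF).toAddMonoidHom
  have hFbar : ∀ m : M, Fbar (Submodule.Quotient.mk m) = Submodule.Quotient.mk (F m) :=
    fun m => rfl
  letI : Field K := Ideal.Quotient.field 𝔪
  let e : K ≃+* k := (Ideal.quotEquivOfEq hmax).trans WittVector.quotientPEquiv
  haveI : IsAlgClosed K := IsAlgClosed.of_ringEquiv (k := k) K e.symm
  haveI : Module.Finite K V := Module.Finite.of_restrictScalars_finite W K V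
  have hq2 : 2 ≤ p ^ ν := hp.two_le.trans (Nat.le_self_pow (by omega) p)
  have hqK : ((p ^ ν : ℕ) : K) = 0 := by
    have h0 : ((p : ℕ) : K) = 0 := by
      rw [← map_natCast (Ideal.Quotient.mk 𝔪) p, Ideal.Quotient.eq_zero_iff_mem, hmax]
      exact Ideal.mem_span_singleton_self _
    rw [Nat.cast_pow, h0, zero_pow (by omega)]
  have hmkfrob : ∀ (n : ℕ) (a : W),
      Ideal.Quotient.mk 𝔪 ((⇑(WittVector.frobenius : W →+* W))^[n] a) =
        (Ideal.Quotient.mk 𝔪 a) ^ (p ^ n) := by
    intro n
    induction n with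
    | zero => intro a; simp
    | succ n ih =>
      intro a
      rw [Function.iterate_succ_apply']
      have h1 : ∀ x : W, Ideal.Quotient.mk 𝔪 (WittVector.frobenius x) =
          (Ideal.Quotient.mk 𝔪 x) ^ p := by
        intro x
        rw [← map_pow, Ideal.Quotient.eq, hmax]
        exact frobenius_sub_pow_mem p k x
      rw [h1, ih, ← pow_mul, pow_succ]
  have hFbar_semi : ∀ (c : K) (v : V), Fbar (c • v) = c ^ (p ^ ν) • Fbar v := by
    intro c v
    obtain ⟨a, rfl⟩ := Ideal.Quotient.mk_surjective c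
    obtain ⟨m, rfl⟩ := Submodule.Quotient.mk_surjective P v
    rw [Module.Quotient.mk_smul_mk, hFbar, hFbar, hF, ← hmkfrob, Module.Quotient.mk_smul_mk]
  have hFbar_inj : Function.Injective Fbar := by
    rw [injective_iff_map_eq_zero]
    intro v hv
    obtain ⟨m, rfl⟩ := Submodule.Quotient.mk_surjective P v
    rw [hFbar, Submodule.Quotient.mk_eq_zero] at hv
    obtain ⟨y, hy⟩ := (hP _).mp hv
    obtain ⟨y', rfl⟩ := hbij.2 y
    rw [← hFp] at hy
    rw [Submodule.Quotient.mk_eq_zero]
    exact (hP _).mpr ⟨y', hbij.1 hy⟩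
  obtain ⟨bs, B, hBi, hBfix⟩ :=
    FrobSL.exists_basis_fixed Fbar hFbar_semi hq2 hqK hFbar_inj
  haveI : Fintype bs := FiniteDimensional.fintypeBasisIndex B
  -- solvability mod p
  have hsolve : ∀ y : M, ∃ x z : M, F x - x = y + (p : W) • z := by
    intro y
    obtain ⟨u, hu⟩ := FrobSL.sub_id_surjective Fbar hFbar_semi hq2 hqK
      (Submodule.Quotient.mk y : V)
    obtain ⟨x, rfl⟩ := Submodule.Quotient.mk_surjective P u
    rw [hFbar, ← Submodule.Quotient.mk_sub, Submodule.Quotient.eq] at hu
    obtain ⟨z, hz⟩ := (hP _).mp hu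
    exact ⟨x, z, sub_eq_iff_eq_add'.mp hz⟩
  let b₀ := Module.Free.chooseBasis W M
  have hsurj : ∀ y : M, ∃ x, F x - x = y :=
    sub_id_surjective_of_complete (p : W) F hFp hsolve (exists_limit (p : W) b₀)
      (eq_zero_of_forall_pow_dvd (p : W) b₀)
  -- fixed lifts
  have hlift : ∀ i : bs, ∃ e : M, (Submodule.Quotient.mk e : V) = (i : V) ∧ F e = e := by
    intro i
    obtain ⟨e0, he0⟩ := Submodule.Quotient.mk_surjective P (i : V)
    have h1 := hBfix i
    rw [← he0, hFbar, ← sub_eq_zero, ← Submodule.Quotient.mk_sub,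
      Submodule.Quotient.mk_eq_zero] at h1
    obtain ⟨y, hy⟩ := (hP _).mp h1
    obtain ⟨x, hx⟩ := hsurj (-y)
    refine ⟨e0 + (p : W) • x, ?_, ?_⟩
    · rw [Submodule.Quotient.mk_add, he0]
      have : (Submodule.Quotient.mk ((p : W) • x) : V) = 0 := by
        rw [Submodule.Quotient.mk_eq_zero]; exact (hP _).mpr ⟨x, rfl⟩
      rw [this, add_zero]
    · rw [← sub_eq_zero, map_add, hFp]
      have : F e0 + (p : W) • F x - (e0 + (p : W) • x) = (F e0 - e0) + (p : W) • (F x - x) := by
        rw [smul_sub]; abel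
      rw [this, hy, hx, smul_neg, add_neg_cancel]
  choose e he_mk he_fix using hlift
  have hKspan : Submodule.span K (Set.range fun i : bs => (i : V)) = ⊤ := by
    have : (fun i : bs => (i : V)) = ⇑B := funext fun i => (hBi i).symm
    rw [this]; exact B.span_eq
  have hspan : Submodule.span W (Set.range e) = ⊤ := by
    rw [← IsLocalRing.map_mkQ_eq_top, Submodule.map_span, ← Set.range_comp]
    have h1 : (⇑(Submodule.mkQ P) ∘ e) = fun i : bs => (i : V) := funext fun i => he_mk i
    rw [h1, ← Submodule.restrictScalars_span W K Ideal.Quotient.mk_surjective, hKspan,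
      Submodule.restrictScalars_top]
  have hcard : Fintype.card bs ≤ Module.finrank W M := by
    rw [← Module.finrank_eq_card_basis B, Module.finrank_eq_card_basis b₀]
    have h3 : Submodule.span W (Set.range (fun j => (Submodule.Quotient.mk (b₀ j) : V))) = ⊤ := by
      have : (fun j => (Submodule.Quotient.mk (b₀ j) : V)) = ⇑(Submodule.mkQ P) ∘ ⇑b₀ := rfl
      rw [this, Set.range_comp, ← Submodule.map_span, b₀.span_eq, Submodule.map_top,
        Submodule.range_mkQ]
    rw [← Submodule.restrictScalars_span W K Ideal.Quotient.mk_surjective,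
      Submodule.restrictScalars_eq_top_iff] at h3
    calc Module.finrank K V = Module.finrank K (⊤ : Submodule K V) := (finrank_top K V).symm
      _ = (Set.range fun j => (Submodule.Quotient.mk (b₀ j) : V)).finrank K := by
          rw [Set.finrank, h3]
      _ ≤ Fintype.card (Module.Free.ChooseBasisIndex W M) := finrank_range_le_card _
  have hli : LinearIndependent W e :=
    linearIndependent_of_top_le_span_of_card_le_finrank hspan.ge hcard
  exact ⟨bs, Module.Basis.mk hli hspan.ge, fun i => by rw [Module.Basis.mk_apply]; exact he_fix i⟩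

end Main

end Groth.Agent.H86.WittFix
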